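import Cfsg.Agent.Lib.Char.OrderSix.Setup

/-!
# The three shapes of the involution centraliser
-/

set_option autoImplicit false
set_option linter.unusedSectionVars false
set_option linter.style.haveILetI false

open Cfsg Subgroup
open scoped commutatorElement

namespace Cfsg.Agent.Char.OrderSix

universe u
variable {G : Type u} [Group G] [Finite G]

namespace Ctx

variable (D : Ctx G)

/-- the involution inside its centraliser -/
def inC : D.C := ⟨D.inv2, D.u_C⟩

theorem inC_ord : orderOf D.inC = 2 := by rw [← orderOf_coe]; exact D.u_ord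

theorem inC_center : D.inC ∈ center D.C :=
  mem_center_iff.2 fun g => Subtype.ext (D.mem_C.1 g.2)

instance inC_normal : (zpowers D.inC).Normal :=
  ⟨fun x hx g => by
    have : g * x = x * g := mem_center_iff.1 (zpowers_le.2 D.inC_center hx) g
    rwa [this, mul_inv_cancel_right]⟩

theorem mem_zInC {x : D.C} : x ∈ zpowers D.inC ↔ (x : G) = 1 ∨ (x : G) = D.inv2 := by
  rw [← D.mem_zu, mem_zpowers_iff, mem_zpowers_iff]
  exact ⟨fun ⟨k, hk⟩ => ⟨k, by rw [← hk]; rfl⟩, fun ⟨k, hk⟩ => ⟨k, Subtype.ext hk⟩⟩

/-- shape with a nilpotent normal subgroup of index three or six -/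
def ShapeNil : Prop :=
  ∃ N : Subgroup G, N ≤ D.C ∧ D.C ≤ normalizer (N : Set G) ∧ D.inv2 ∈ N ∧ Group.IsNilpotent N ∧
    ¬ 3 ∣ Nat.card N ∧ (Nat.card D.C = 3 * Nat.card N ∨
      (Nat.card D.C = 6 * Nat.card N ∧ ∃ a ∈ D.C, (∃ k : ℕ, a ^ 2 ^ k = 1) ∧ a * D.el3 * a⁻¹ = D.el3⁻¹))

/-- shape with quotient the alternating group of degree five -/
def ShapeFive : Prop :=
  ∃ φ : D.C →* alternatingGroup (Fin 5), Function.Surjective φ ∧ D.inC ∈ φ.ker ∧
    ∀ x ∈ φ.ker, ∀ y ∈ φ.ker, x * x ∈ zpowers D.inC ∧ ⁅x, y⁆ ∈ zpowers D.inC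

/-- shape with quotient the simple group of order 168 -/
def ShapeSeven : Prop :=
  ∃ φ : D.C →* Matrix.ProjectiveSpecialLinearGroup (Fin 2) (ZMod 7), Function.Surjective φ ∧
    φ.ker = zpowers D.inC

theorem trichotomy : D.ShapeNil ∨ D.ShapeFive ∨ D.ShapeSeven := by
  haveI : Fact (Nat.Prime 3) := ⟨Nat.prime_three⟩
  haveI : Fact (Nat.Prime 2) := ⟨Nat.prime_two⟩
  set U := zpowers D.inC
  set π := QuotientGroup.mk' U with hπ
  set w' : D.C := ⟨D.el3, D.w_C⟩ with hw'
  have hcU : Nat.card U = 2 := by rw [Nat.card_zpowers, D.inC_ord]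
  have hπw : orderOf (π w') = 3 := orderOf_eq_prime
    (by rw [← map_pow, show w' ^ 3 = 1 from Subtype.ext (D.w_ord ▸ pow_orderOf_eq_one D.el3), map_one])
    (fun h => by
      have := (QuotientGroup.eq_one_iff w').1 h
      rcases D.mem_zInC.1 this with e | e
      · exact D.w_ne e
      · have := D.w_ord; rw [show D.el3 = D.inv2 from e, D.u_ord] at this; omega)
  have hX : Nat.card (zpowers (π w')) = 3 := by rw [Nat.card_zpowers, hπw]
  have hfix : ∀ y : D.C, Commute (π y) (π w') → (y : G) ∈ zpowers D.t := by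
    intro y hy
    have h1 : (y * w' * y⁻¹ * w'⁻¹ : D.C) ∈ U := by
      rw [← QuotientGroup.eq_one_iff]
      show π (y * w' * y⁻¹ * w'⁻¹) = 1
      rw [map_mul, map_mul, map_mul, map_inv, map_inv]
      rw [hy.eq, mul_inv_cancel_right, mul_inv_cancel]
    refine D.cent_uw (D.mem_C.1 y.2) ?_
    rcases D.mem_zInC.1 h1 with e | e
    · simp only [hw', coe_mul, coe_inv] at e
      rw [mul_inv_eq_one, mul_inv_eq_iff_eq_mul] at e
      exact e
    · simp only [hw', coe_mul, coe_inv] at e
      have h3 := pow_orderOf_eq_one ((y : G) * D.el3 * (y : G)⁻¹)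
      rw [show orderOf ((y : G) * D.el3 * (y : G)⁻¹) = 3 from
        ((orderOf_injective (MulAut.conj (y : G)).toMonoidHom (MulAut.conj (y : G)).injective D.el3).trans D.w_ord),
        mul_inv_eq_iff_eq_mul.1 e, (show Commute D.inv2 D.el3 from D.comm_uw).mul_pow, ← D.w_ord,
        pow_orderOf_eq_one, mul_one, D.w_ord, pow_succ, pow_two, D.uu, one_mul] at h3
      exact absurd h3 D.u_ne
  have hCX : centralizer ((zpowers (π w') : Subgroup (D.C ⧸ U)) : Set (D.C ⧸ U)) = zpowers (π w') := by
    refine le_antisymm (fun q hq => ?_) (fun q hq => mem_centralizer_iff.2 fun r hr => ?_)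
    · obtain ⟨y, rfl⟩ := QuotientGroup.mk'_surjective U q
      have hc : Commute (π y) (π w') := (mem_centralizer_iff.1 hq _ (mem_zpowers _)).symm
      obtain ⟨i, hi⟩ := mem_zpowers_iff.1 (hfix y hc)
      have hy : y = (⟨D.t, D.mem_C.2 (by rw [inv2, ← pow_succ, ← pow_succ'])⟩ : D.C) ^ i := Subtype.ext hi.symm
      rw [hy, map_zpow]
      refine zpow_mem ?_ _
      have ht : (⟨D.t, D.mem_C.2 (by rw [inv2, ← pow_succ, ← pow_succ'])⟩ : D.C) = D.inC * w' :=
        Subtype.ext D.uw.symm
      rw [ht, map_mul, show π D.inC = 1 from (QuotientGroup.eq_one_iff D.inC).2 (mem_zpowers _), one_mul]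
      exact mem_zpowers _
    · obtain ⟨i, rfl⟩ := mem_zpowers_iff.1 hr
      obtain ⟨j, rfl⟩ := mem_zpowers_iff.1 hq
      exact (Commute.zpow_zpow_self _ i j).eq
  rcases S3331.result (zpowers (π w')) hX hCX with ⟨N, hN, hnil, hcop, hq⟩ | ⟨E, hE, hEab, hE2, ⟨e⟩⟩ | ⟨⟨e⟩⟩
  · left
    haveI := hN; haveI := hnil
    set N' : Subgroup D.C := N.comap π with hN'
    haveI : N'.Normal := hN.comap π
    have hcN : Nat.card N' = 2 * Nat.card N := by
      have h := N'.card_mul_index
      rw [hN', index_comap_of_surjective _ (QuotientGroup.mk'_surjective U)] at h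
      have h' := N.card_mul_index
      have hC := U.card_mul_index
      rw [hcU] at hC
      have : U.index = Nat.card (D.C ⧸ U) := rfl
      refine Nat.eq_of_mul_eq_mul_right (Nat.pos_of_ne_zero N.index_ne_zero_of_finite) (h.trans ?_)
      rw [mul_assoc, h', ← this, hC]
    have hidx : N'.index = N.index := index_comap_of_surjective _ (QuotientGroup.mk'_surjective U)
    have h3N : ¬ 3 ∣ Nat.card N' := by
      rw [hcN, Nat.prime_three.dvd_mul]
      rintro (h | h)
      · norm_num at h
      · exact Nat.not_coprime_of_dvd_of_dvd (by norm_num) h dvd_rfl hcop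
    have hcard : Nat.card (N'.map D.C.subtype) = Nat.card N' :=
      Nat.card_congr (N'.equivMapOfInjective _ D.C.subtype_injective).toEquiv.symm
    refine ⟨N'.map D.C.subtype, map_subtype_le _, fun c hc => ?_, ⟨D.inC, ?_, rfl⟩, ?_, hcard ▸ h3N, ?_⟩
    · rw [mem_normalizer_iff]
      intro x
      constructor
      · rintro ⟨y, hy, rfl⟩
        exact ⟨_, Normal.conj_mem inferInstance y hy ⟨c, hc⟩, rfl⟩
      · rintro ⟨y, hy, hyx⟩
        refine ⟨_, Normal.conj_mem inferInstance y hy ⟨c, hc⟩⁻¹, ?_⟩
        show c⁻¹ * D.C.subtype y * c⁻¹⁻¹ = x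
        rw [hyx]; group
    · show π D.inC ∈ N
      rw [hπ, QuotientGroup.mk'_apply, (QuotientGroup.eq_one_iff D.inC).2 (mem_zpowers _)]
      exact one_mem _
    · haveI : Group.IsNilpotent N' := by
        refine Subgroup.isNilpotent_of_ker_le_center ((π.comp N'.subtype).codRestrict N fun x => x.2) fun x hx => ?_
        have hxU : (x : D.C) ∈ U := (QuotientGroup.eq_one_iff _).1 (congrArg Subtype.val hx)
        exact mem_center_iff.2 fun g =>
          Subtype.ext (mem_center_iff.1 (zpowers_le.2 D.inC_center hxU) g)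
      exact Group.nilpotent_of_surjective (N'.equivMapOfInjective _ D.C.subtype_injective).toMonoidHom
        (N'.equivMapOfInjective _ D.C.subtype_injective).surjective
    · rw [hcard]
      rcases hq with hq | ⟨⟨e⟩⟩
      · exact Or.inl (by rw [← N'.card_mul_index, hidx, show N.index = 3 from hq, mul_comm])
      · right
        have h6 : N'.index = 6 := by
          rw [hidx, index, Nat.card_congr e.toEquiv, Nat.card_perm, Nat.card_fin]; rfl
        refine ⟨by rw [← N'.card_mul_index, h6, mul_comm], ?_⟩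
        -- the normal subgroup of index two and its Sylow three-subgroup
        set σ : D.C →* ℤˣ := Equiv.Perm.sign.comp (e.toMonoidHom.comp ((QuotientGroup.mk' N).comp π)) with hσ
        have hsurj : Function.Surjective σ := by
          intro x
          obtain ⟨s, hs⟩ := Equiv.Perm.sign_surjective (Fin 3) x
          obtain ⟨y, hy⟩ := QuotientGroup.mk'_surjective N (e.symm s)
          obtain ⟨z, rfl⟩ := QuotientGroup.mk'_surjective U y
          refine ⟨z, ?_⟩
          show Equiv.Perm.sign (e (QuotientGroup.mk' N (π z))) = x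
          rw [hy, e.apply_symm_apply, hs]
        set K := σ.ker
        have hK2 : K.index = 2 := by
          rw [index_ker, MonoidHom.range_eq_top.2 hsurj, card_top, Nat.card_eq_fintype_card, Fintype.card_units_int]
        have hwK : w' ∈ K := by
          have h3 : σ w' ^ 3 = 1 := by
            rw [← map_pow, show w' ^ 3 = 1 from Subtype.ext (D.w_ord ▸ pow_orderOf_eq_one D.el3), map_one]
          rcases Int.units_eq_one_or (σ w') with h | h
          · exact h
          · rw [h] at h3; exact absurd h3 (by decide)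
        have hKcard : Nat.card K = 3 * Nat.card N' := by
          have h1 := K.card_mul_index
          have h2 := N'.card_mul_index
          rw [hK2] at h1; rw [h6] at h2; omega
        have hwS : Nat.card (zpowers (⟨w', hwK⟩ : K)) = 3 ^ (Nat.card K).factorization 3 := by
          rw [Nat.card_zpowers, ← orderOf_coe, ← orderOf_coe, show orderOf ((w' : D.C) : G) = 3 from D.w_ord, hKcard,
            Nat.factorization_mul (by norm_num) Nat.card_pos.ne', Finsupp.add_apply,
            Nat.Prime.factorization_self Nat.prime_three, Nat.factorization_eq_zero_of_not_dvd h3N]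
          rfl
        have hfr := Sylow.normalizer_sup_eq_top (Sylow.ofCard _ hwS)
        rw [Sylow.coe_ofCard, MonoidHom.map_zpowers] at hfr
        -- an element of the normaliser outside
        obtain ⟨n, hn, hnK⟩ : ∃ n ∈ normalizer ((zpowers w' : Subgroup D.C) : Set D.C), n ∉ K := by
          by_contra! h
          have : (⊤ : Subgroup D.C) ≤ K := hfr ▸ sup_le h le_rfl
          rw [top_le_iff.1 this, index_top] at hK2
          omega
        obtain ⟨k, m, hm, hkm⟩ := Nat.exists_eq_two_pow_mul_odd (orderOf_pos n).ne'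
        have hconj : ∀ v ∈ normalizer ((zpowers w' : Subgroup D.C) : Set D.C),
            v * w' * v⁻¹ = w' ∨ v * w' * v⁻¹ = w'⁻¹ := by
          intro v hv
          obtain ⟨i, hi⟩ := mem_zpowers_iff.1 ((mem_normalizer_iff.1 hv w').1 (mem_zpowers _))
          have ho : orderOf w' = 3 := by rw [← orderOf_coe]; exact D.w_ord
          rw [← zpow_mod_orderOf, ho] at hi
          have h0 := Int.emod_nonneg i (show ((3 : ℕ) : ℤ) ≠ 0 by norm_num)
          have h1 := Int.emod_lt_of_pos i (show (0 : ℤ) < ((3 : ℕ) : ℤ) by norm_num)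
          generalize i % ((3 : ℕ) : ℤ) = j at hi h0 h1
          interval_cases j
          · rw [zpow_zero] at hi
            exact absurd (conj_eq_one_iff.1 hi.symm) fun h => D.w_ne (congrArg Subtype.val h)
          · exact Or.inl (by rw [← hi, zpow_one])
          · refine Or.inr (hi.symm.trans (eq_inv_of_mul_eq_one_left ?_))
            rw [← zpow_add_one, show (2 : ℤ) + 1 = (orderOf w' : ℤ) by rw [ho]; rfl, zpow_natCast,
              pow_orderOf_eq_one]
        refine ⟨((n ^ m : D.C) : G), (n ^ m).2, ⟨k, ?_⟩, ?_⟩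
        · rw [← coe_pow, ← pow_mul, mul_comm, ← hkm, pow_orderOf_eq_one, coe_one]
        · rcases hconj (n ^ m) (pow_mem hn m) with h | h
          swap
          · exact congrArg Subtype.val h
          exfalso
          have hc : (((n ^ m : D.C) : G)) ∈ zpowers D.t := D.cent_uw (D.mem_C.1 (n ^ m).2)
            (congrArg Subtype.val (mul_inv_eq_iff_eq_mul.1 h))
          have hnm : n ^ m ∉ K := by
            rw [MonoidHom.mem_ker, map_pow]
            rcases Int.units_eq_one_or (σ n) with e' | e'
            · exact absurd e' hnK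
            · rw [e', hm.neg_one_pow]; decide
          rcases D.zp_two hc ⟨k, by rw [← coe_pow, ← pow_mul, mul_comm, ← hkm, pow_orderOf_eq_one, coe_one]⟩
            with h' | h'
          · exact hnm (by rw [show n ^ m = 1 from Subtype.ext h']; exact one_mem _)
          · refine hnm ?_
            rw [show n ^ m = D.inC from Subtype.ext h', MonoidHom.mem_ker, hσ]
            show Equiv.Perm.sign (e (QuotientGroup.mk' N (π D.inC))) = 1
            rw [hπ, QuotientGroup.mk'_apply U, (QuotientGroup.eq_one_iff D.inC).2 (mem_zpowers _), map_one,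
              map_one, map_one]
  · refine Or.inr (Or.inl ⟨e.toMonoidHom.comp ((QuotientGroup.mk' E).comp π),
      e.surjective.comp ((QuotientGroup.mk'_surjective E).comp (QuotientGroup.mk'_surjective U)), ?_, ?_⟩)
    · rw [MonoidHom.mem_ker]
      show e (QuotientGroup.mk' E (π D.inC)) = 1
      rw [hπ, QuotientGroup.mk'_apply U, (QuotientGroup.eq_one_iff D.inC).2 (mem_zpowers _), map_one, map_one]
    · intro x hx y hy
      have hmem : ∀ z, z ∈ (e.toMonoidHom.comp ((QuotientGroup.mk' E).comp π)).ker → π z ∈ E := fun z hz =>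
        (QuotientGroup.eq_one_iff _).1 (e.map_eq_one_iff.1 hz)
      refine ⟨(QuotientGroup.eq_one_iff _).1 ?_, (QuotientGroup.eq_one_iff _).1 ?_⟩
      · show π (x * x) = 1
        rw [map_mul, ← pow_two, hE2 _ (hmem x hx)]
      · show π ⁅x, y⁆ = 1
        rw [map_commutatorElement, commutatorElement_eq_one_iff_mul_comm]
        exact congrArg Subtype.val (hEab.is_comm.comm ⟨_, hmem x hx⟩ ⟨_, hmem y hy⟩)
  · refine Or.inr (Or.inr ⟨e.toMonoidHom.comp π, e.surjective.comp (QuotientGroup.mk'_surjective U), ?_⟩)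
    ext x
    rw [MonoidHom.mem_ker, ← QuotientGroup.eq_one_iff (N := zpowers D.inC) x]
    exact e.map_eq_one_iff

end Ctx

end Cfsg.Agent.Char.OrderSix
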