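import Cfsg.Agent.Lib.Lead.GLTwoThree.Decomp

/-!
# The arithmetic of the order formula with a multiplier, and two degrees

The computation of `Lead.GLTwoThree.Decomp`, carried out with an extra factor in the two equations and
recording two of the degrees.
-/

set_option autoImplicit false

namespace Cfsg.Agent.Char.OrderSix.Cover

open Cfsg.Agent.Lead.GLTwoThree (ind sum_ind sum_ind_mul strip norm_zero sq_le_norm unit_of_sq_le exists_support norm_one norm_two strip_list sign_sq)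

variable {ι : Type*} [Fintype ι] [DecidableEq ι]

/-- The data of five virtual characters. -/
structure Data (z : Fin 5 → ι → ℤ) (o : ι) (d : ι → ℕ) (n m : ℕ) : Prop where
  g00 : ∑ χ, z 0 χ ^ 2 = 2
  g11 : ∑ χ, z 1 χ ^ 2 = 2
  g22 : ∑ χ, z 2 χ ^ 2 = 3
  g33 : ∑ χ, z 3 χ ^ 2 = 3
  g44 : ∑ χ, z 4 χ ^ 2 = 4
  g01 : ∑ χ, z 0 χ * z 1 χ = -1
  g02 : ∑ χ, z 0 χ * z 2 χ = 1
  g03 : ∑ χ, z 0 χ * z 3 χ = 1
  g04 : ∑ χ, z 0 χ * z 4 χ = 1
  g12 : ∑ χ, z 1 χ * z 2 χ = -1
  g13 : ∑ χ, z 1 χ * z 3 χ = -1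
  g14 : ∑ χ, z 1 χ * z 4 χ = -1
  g23 : ∑ χ, z 2 χ * z 3 χ = 1
  g24 : ∑ χ, z 2 χ * z 4 χ = 2
  g34 : ∑ χ, z 3 χ * z 4 χ = 2
  z0o : z 0 o = 0
  z1o : z 1 o = 0
  z2o : z 2 o = 1
  z3o : z 3 o = 0
  z4o : z 4 o = 0
  deg : ∀ i, ∑ χ, z i χ * (d χ : ℤ) = 0
  dpos : ∀ χ, 0 < d χ
  do1 : d o = 1
  lin : ∀ χ, d χ = 1 → z 3 χ = 0
  eq2 : ∑ χ, (z 2 χ : ℚ) *
    (((2 * z 0 χ + 2 * z 1 χ + z 2 χ + z 3 χ - 4 * z 4 χ : ℤ) : ℚ) ^ 2 / (d χ : ℚ)) = 4608 * (m : ℚ) / (n : ℚ)
  eq3 : ∑ χ, (z 3 χ : ℚ) *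
    (((2 * z 0 χ + 2 * z 1 χ + z 2 χ + z 3 χ - 4 * z 4 χ : ℤ) : ℚ) ^ 2 / (d χ : ℚ)) = 4608 * (m : ℚ) / (n : ℚ)

theorem Data.first_two {z : Fin 5 → ι → ℤ} {o : ι} {d : ι → ℕ} {n m : ℕ} (D : Data z o d n m) :
    ∃ (X X' A : ι) (δ : ℤ), (δ = 1 ∨ δ = -1) ∧ X ≠ X' ∧ X ≠ A ∧ X' ≠ A ∧
      o ≠ X ∧ o ≠ X' ∧ o ≠ A ∧ d X' = d X ∧ d A = d X ∧
      (z 0 = fun χ => δ * ind X χ + (-δ) * ind X' χ) ∧ (z 1 = fun χ => δ * ind A χ + (-δ) * ind X χ) := by
  have hne : ∀ {a b : ι}, a ≠ b → ind a b = 0 := fun h => by simp [ind, Ne.symm h]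
  obtain ⟨a, b, s, r, hab, hs, hr, h0⟩ := norm_two D.g00
  have hd := D.deg 0
  simp only [h0, add_mul, mul_assoc, Finset.sum_add_distrib, ← Finset.mul_sum, sum_ind_mul] at hd
  have hpa := D.dpos a; have hpb := D.dpos b
  have hrs : r = -s ∧ d b = d a := by
    rcases hs with rfl | rfl <;> rcases hr with rfl | rfl <;> omega
  obtain ⟨rfl, hdab⟩ := hrs
  obtain ⟨p, q, u, v, hpq, hu, hv, h1⟩ := norm_two D.g11
  have hd1 := D.deg 1
  simp only [h1, add_mul, mul_assoc, Finset.sum_add_distrib, ← Finset.mul_sum, sum_ind_mul] at hd1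
  have hpp := D.dpos p; have hpq' := D.dpos q
  have hvu : v = -u ∧ d q = d p := by
    rcases hu with rfl | rfl <;> rcases hv with rfl | rfl <;> omega
  obtain ⟨rfl, hdpq⟩ := hvu
  have ho := D.z0o; have ho1 := D.z1o
  have g := D.g01
  simp only [h0, add_mul, mul_assoc, Finset.sum_add_distrib, ← Finset.mul_sum, sum_ind_mul] at g
  rw [h1] at g ho1
  rw [h0] at ho
  simp only [ind] at g ho ho1
  have hoa : o ≠ a := fun e => by subst e; simp [hab] at ho; omega
  have hob : o ≠ b := fun e => by subst e; simp [Ne.symm hab] at ho; omega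
  have hop : o ≠ p := fun e => by subst e; simp [hpq] at ho1; omega
  have hoq : o ≠ q := fun e => by subst e; simp [Ne.symm hpq] at ho1; omega
  have h1' : z 1 = fun χ => (-u) * ind q χ + (- -u) * ind p χ := by
    rw [h1]; funext χ; ring
  have h0' : z 0 = fun χ => (-s) * ind b χ + (- -s) * ind a χ := by
    rw [h0]; funext χ; ring
  have hab' := hab.symm
  by_cases ea : a = p
  · subst ea
    have hbq : b ≠ q := fun e => by
      subst e; simp [hab, hab'] at g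
      rcases hs with rfl | rfl <;> rcases hu with rfl | rfl <;> omega
    have hus : u = -s := by
      simp [hab', hbq, hpq] at g; rcases hs with rfl | rfl <;> rcases hu with rfl | rfl <;> omega
    subst hus
    refine ⟨a, b, q, s, hs, hab, hpq, hbq, hoa, hob, hoq, hdab, hdpq, h0, ?_⟩
    rw [h1']; funext χ; ring
  · by_cases eb : b = q
    · subst eb
      have hus : u = -s := by
        simp [ea, hab, hab', Ne.symm hpq] at g; rcases hs with rfl | rfl <;> rcases hu with rfl | rfl <;> omega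
      subst hus
      refine ⟨b, a, p, -s, by omega, hab', fun e => hpq e.symm, ea, hob, hoa, hop, hdab.symm, hdpq.symm, h0', ?_⟩
      rw [h1]
    · by_cases ec : a = q
      · subst ec
        have hbp : b ≠ p := fun e => by
          subst e; simp [hab, hab'] at g
          rcases hs with rfl | rfl <;> rcases hu with rfl | rfl <;> omega
        have hus : u = s := by
          simp [ea, hab', hbp] at g; rcases hs with rfl | rfl <;> rcases hu with rfl | rfl <;> omega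
        subst hus
        exact ⟨a, b, p, u, hs, hab, ea, hbp, hoa, hob, hop, hdab, hdpq.symm, h0, h1⟩
      · by_cases ed : b = p
        · subst ed
          have hus : u = s := by
            simp [ea, ec, eb, hpq] at g; rcases hs with rfl | rfl <;> rcases hu with rfl | rfl <;> omega
          subst hus
          refine ⟨b, a, q, -u, by omega, hab', hpq, ec, hob, hoa, hoq, hdab.symm, hdpq, h0', ?_⟩
          rw [h1']
        · simp [ea, eb, ec, ed] at g

set_option maxHeartbeats 4000000 in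
theorem Data.arith {z : Fin 5 → ι → ℤ} {o : ι} {d : ι → ℕ} {n m : ℕ} (D : Data z o d n m) (hn : 0 < n) :
    ∃ (F V : ℤ) (X U : ι), (F - 8) ∣ 72 ∧ F ≠ 8 ∧ (n : ℤ) * (F - 2) ^ 2 = 4608 * (m : ℤ) * F * (F + 1) ∧
      V * (F - 8) = 9 * F ∧ (d X : ℤ) = |F| ∧ (d U : ℤ) = |V| ∧ z 0 X ≠ 0 ∧ z 3 U ≠ 0 ∧ o ≠ X ∧ o ≠ U := by
  obtain ⟨X, X', A, δ, hδ, hXX', hXA, hX'A, hoX, hoX', hoA, hdX', hdA, h0, h1⟩ := D.first_two
  have hδ2 : δ * δ = 1 := sign_sq hδ
  have hX := D.dpos X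
  -- the shared part of the three remaining vectors
  have shared : ∀ c : ι → ℤ, ∑ χ, z 0 χ * c χ = 1 → ∑ χ, z 1 χ * c χ = -1 →
      c X' = c X - δ ∧ c A = c X - δ := by
    intro c e0 e1
    simp only [h0, h1, add_mul, mul_assoc, Finset.sum_add_distrib, ← Finset.mul_sum, sum_ind_mul] at e0 e1
    rcases hδ with rfl | rfl <;> omega
  have small : ∀ (x k : ℤ), x ^ 2 + 2 * (x - δ) ^ 2 ≤ k → k ≤ 4 → x = 0 ∨ x = δ := by
    intro x k h h'
    rcases hδ with rfl | rfl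
    · have : -1 < x ∧ x < 2 := ⟨by nlinarith, by nlinarith⟩
      omega
    · have : -2 < x ∧ x < 1 := ⟨by nlinarith, by nlinarith⟩
      omega
  have hnd : [o, X, X', A].Nodup := by simp [hoX, hoX', hoA, hXX', hXA, hX'A]
  -- the third vector
  obtain ⟨e2X', e2A⟩ := shared (z 2) D.g02 D.g12
  have r2 := strip_list (z 2) [o, X, X', A] hnd
  rw [D.g22] at r2
  simp only [List.map_cons, List.map_nil, List.sum_cons, List.sum_nil, D.z2o, e2X', e2A, add_zero] at r2
  have h2X : z 2 X = δ := by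
    rcases small (z 2 X) 2 (by
      have := Finset.sum_nonneg (s := Finset.univ) (f := fun χ => (z 2 χ - (1 * ind o χ + (z 2 X * ind X χ +
        ((z 2 X - δ) * ind X' χ + (z 2 X - δ) * ind A χ)))) ^ 2) fun _ _ => sq_nonneg _
      nlinarith [r2, this]) (by norm_num) with h | h
    · exfalso
      rw [h] at r2
      have hz := norm_zero (c := fun χ => z 2 χ - (1 * ind o χ + (0 * ind X χ +
        ((0 - δ) * ind X' χ + (0 - δ) * ind A χ)))) (by nlinarith [r2])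
      have hd := D.deg 2
      have e : ∀ χ, z 2 χ * (d χ : ℤ) =
          ind o χ * d χ + (ind X' χ * (-δ * d χ) + ind A χ * (-δ * d χ)) := fun χ => by
        have := congrFun hz χ
        simp only [Pi.zero_apply] at this
        linear_combination (d χ : ℤ) * this
      rw [Finset.sum_congr rfl fun χ _ => e χ, Finset.sum_add_distrib, Finset.sum_add_distrib,
        sum_ind_mul o (fun χ => (d χ : ℤ)), sum_ind_mul X' (fun χ => -δ * (d χ : ℤ)),
        sum_ind_mul A (fun χ => -δ * (d χ : ℤ)), D.do1, hdX', hdA] at hd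
      rcases hδ with rfl | rfl <;> omega
    · exact h
  rw [h2X] at r2
  obtain ⟨Z, ε, hε, hc2⟩ := norm_one (c := fun χ => z 2 χ - (1 * ind o χ + (δ * ind X χ +
        ((δ - δ) * ind X' χ + (δ - δ) * ind A χ)))) (by nlinarith [r2, hδ2])
  have h2 : z 2 = fun χ => ind o χ + δ * ind X χ + ε * ind Z χ := funext fun χ => by
    have := congrFun hc2 χ; linear_combination this
  have hZ : Z ≠ o ∧ Z ≠ X ∧ Z ≠ X' ∧ Z ≠ A := by
    have hε0 : ε ≠ 0 := by omega
    refine ⟨?_, ?_, ?_, ?_⟩ <;> rintro rfl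
    · have := D.z2o; simp [h2, ind, hoX] at this; omega
    · have := h2X; simp [h2, ind, Ne.symm hoX] at this; omega
    · rw [h2X, sub_self] at e2X'; simp [h2, ind, Ne.symm hoX', Ne.symm hXX'] at e2X'; omega
    · rw [h2X, sub_self] at e2A; simp [h2, ind, Ne.symm hoA, Ne.symm hXA] at e2A; omega
  obtain ⟨hZo, hZX, hZX', hZA⟩ := hZ
  have hd2 := D.deg 2
  simp only [h2, add_mul, mul_assoc, Finset.sum_add_distrib, ← Finset.mul_sum, sum_ind_mul, D.do1] at hd2
  have g2 : ∀ c : ι → ℤ, ∑ χ, z 2 χ * c χ = c o + δ * c X + ε * c Z := fun c => by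
    simp only [h2, add_mul, mul_assoc, Finset.sum_add_distrib, ← Finset.mul_sum, sum_ind_mul]
  -- the fourth vector
  obtain ⟨e3X', e3A⟩ := shared (z 3) D.g03 D.g13
  have r3 := strip_list (z 3) [o, X, X', A] hnd
  rw [D.g33] at r3
  simp only [List.map_cons, List.map_nil, List.sum_cons, List.sum_nil, D.z3o, e3X', e3A, add_zero] at r3
  have q3 := D.g23
  rw [g2, D.z3o] at q3
  have h3X : z 3 X = δ := by
    rcases small (z 3 X) 3 (by
      have := Finset.sum_nonneg (s := Finset.univ) (f := fun χ => (z 3 χ - (0 * ind o χ + (z 3 X * ind X χ +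
        ((z 3 X - δ) * ind X' χ + (z 3 X - δ) * ind A χ)))) ^ 2) fun _ _ => sq_nonneg _
      nlinarith [r3, this]) (by norm_num) with h | h
    · exfalso
      rw [h] at r3 q3
      obtain ⟨W, η, hη, hc⟩ := norm_one (c := fun χ => z 3 χ - (0 * ind o χ + (0 * ind X χ +
        ((0 - δ) * ind X' χ + (0 - δ) * ind A χ)))) (by nlinarith [r3, hδ2])
      have h3 : z 3 = fun χ => -δ * ind X' χ + -δ * ind A χ + η * ind W χ := funext fun χ => by
        have := congrFun hc χ; linear_combination this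
      have hWZ : W = Z := by
        by_contra hne
        simp [h3, ind, hZX', hZA, Ne.symm hne] at q3
      subst hWZ
      have hd3 := D.deg 3
      simp only [h3, add_mul, mul_assoc, Finset.sum_add_distrib, ← Finset.mul_sum, sum_ind_mul, hdX', hdA] at hd3
      simp [h3, ind, hZX', hZA] at q3
      have := D.dpos W
      rcases hδ with rfl | rfl <;> rcases hε with rfl | rfl <;> rcases hη with rfl | rfl <;> omega
    · exact h
  rw [h3X] at r3 q3
  have h3Z : z 3 Z = 0 := by rcases hε with rfl | rfl <;> rcases hδ with rfl | rfl <;> omega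
  obtain ⟨U₀, W₀, η, η', hUW₀, hη, hη', hc3⟩ := norm_two (c := fun χ => z 3 χ - (0 * ind o χ + (δ * ind X χ +
        ((δ - δ) * ind X' χ + (δ - δ) * ind A χ)))) (by nlinarith [r3, hδ2])
  have h3₀ : z 3 = fun χ => δ * ind X χ + η * ind U₀ χ + η' * ind W₀ χ := funext fun χ => by
    have := congrFun hc3 χ; linear_combination this
  -- which of the two occurs in the fifth
  obtain ⟨e4X', e4A⟩ := shared (z 4) D.g04 D.g14
  have q24 := D.g24
  rw [g2, D.z4o] at q24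
  have r4 := strip_list (z 4) [o, X, X', A] hnd
  rw [D.g44] at r4
  simp only [List.map_cons, List.map_nil, List.sum_cons, List.sum_nil, D.z4o, e4X', e4A, add_zero] at r4
  have h4X : z 4 X = δ := by
    rcases small (z 4 X) 4 (by
      have := Finset.sum_nonneg (s := Finset.univ) (f := fun χ => (z 4 χ - (0 * ind o χ + (z 4 X * ind X χ +
        ((z 4 X - δ) * ind X' χ + (z 4 X - δ) * ind A χ)))) ^ 2) fun _ _ => sq_nonneg _
      nlinarith [r4, this]) le_rfl with h | h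
    · exfalso
      rw [h] at q24
      have := sq_le_norm (z 4) Z
      rw [D.g44] at this
      have h5 := strip_list (z 4) [X', A, Z] (by simp [hX'A, Ne.symm hZX', Ne.symm hZA])
      rw [D.g44] at h5
      have := Finset.sum_nonneg (s := Finset.univ)
        (f := fun χ => (z 4 χ - ([X', A, Z].map fun a => z 4 a * ind a χ).sum) ^ 2) fun _ _ => sq_nonneg _
      simp only [List.map_cons, List.map_nil, List.sum_cons, List.sum_nil, e4X', e4A, h, add_zero] at h5 this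
      have h2sq : z 4 Z ^ 2 = 4 := by
        have : ε * z 4 Z = 2 := by linarith [mul_zero δ]
        calc z 4 Z ^ 2 = (ε * z 4 Z) ^ 2 := by rw [mul_pow, pow_two ε, sign_sq hε, one_mul]
          _ = 4 := by rw [this]; norm_num
      nlinarith [hδ2]
    · exact h
  rw [h4X] at q24
  have h4Z : z 4 Z = ε := by rcases hε with rfl | rfl <;> rcases hδ with rfl | rfl <;> omega
  rw [h4X, sub_self] at e4X' e4A
  have hη0 : η ≠ 0 := by omega
  have hη'0 : η' ≠ 0 := by omega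
  have off : ∀ a, (a = U₀ ∨ a = W₀) → a ≠ o ∧ a ≠ X ∧ a ≠ X' ∧ a ≠ A ∧ a ≠ Z := by
    intro a ha
    have e : z 3 a = δ * ind X a + η * ind U₀ a + η' * ind W₀ a := by rw [h3₀]
    have key : η * ind U₀ a + η' * ind W₀ a ≠ 0 := by
      rcases ha with rfl | rfl <;> simp [ind, hUW₀, Ne.symm hUW₀, hη0, hη'0]
    refine ⟨?_, ?_, ?_, ?_, ?_⟩ <;> intro ha' <;> subst ha' <;> apply key
    · rw [D.z3o] at e; simp [ind, hoX] at e ⊢; omega
    · rw [h3X] at e; simp [ind] at e ⊢; omega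
    · rw [e3X', h3X, sub_self] at e; simp [ind, Ne.symm hXX'] at e ⊢; omega
    · rw [e3A, h3X, sub_self] at e; simp [ind, Ne.symm hXA] at e ⊢; omega
    · rw [h3Z] at e; simp [ind, hZX] at e ⊢; omega
  obtain ⟨U, W, η₁, η₂, hUW, hη₁, hη₂, h3, h4W⟩ : ∃ (U W : ι) (η₁ η₂ : ℤ), U ≠ W ∧ (η₁ = 1 ∨ η₁ = -1) ∧
      (η₂ = 1 ∨ η₂ = -1) ∧ (z 3 = fun χ => δ * ind X χ + η₁ * ind U χ + η₂ * ind W χ) ∧ z 4 W = 0 := by
    by_cases hW : z 4 W₀ = 0
    · exact ⟨U₀, W₀, η, η', hUW₀, hη, hη', h3₀, hW⟩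
    · refine ⟨W₀, U₀, η', η, hUW₀.symm, hη', hη, by rw [h3₀]; funext χ; ring, ?_⟩
      by_contra hU
      obtain ⟨u1, u2, u3, u4, u5⟩ := off U₀ (Or.inl rfl)
      obtain ⟨w1, w2, w3, w4, w5⟩ := off W₀ (Or.inr rfl)
      have h5 := strip_list (z 4) [X, Z, U₀, W₀] (by simp [Ne.symm hZX, Ne.symm u2, Ne.symm u5, Ne.symm w2, Ne.symm w5, hUW₀])
      rw [D.g44] at h5
      have hnn := Finset.sum_nonneg (s := Finset.univ)
        (f := fun χ => (z 4 χ - ([X, Z, U₀, W₀].map fun a => z 4 a * ind a χ).sum) ^ 2) fun _ _ => sq_nonneg _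
      simp only [List.map_cons, List.map_nil, List.sum_cons, List.sum_nil, h4X, h4Z, add_zero] at h5 hnn
      have hU2 : 1 ≤ z 4 U₀ ^ 2 := by rcases Int.lt_or_gt_of_ne hU with h | h <;> nlinarith
      have hW2 : 1 ≤ z 4 W₀ ^ 2 := by rcases Int.lt_or_gt_of_ne hW with h | h <;> nlinarith
      have eU : z 4 U₀ ^ 2 = 1 := by nlinarith [sign_sq hε, hδ2]
      have eW : z 4 W₀ ^ 2 = 1 := by nlinarith [sign_sq hε, hδ2]
      have q := D.g34
      simp only [h3₀, add_mul, mul_assoc, Finset.sum_add_distrib, ← Finset.mul_sum, sum_ind_mul, h4X] at q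
      rcases sq_eq_one_iff.1 eU with hu' | hu' <;> rcases sq_eq_one_iff.1 eW with hw' | hw' <;>
        rw [hu', hw', hδ2] at q <;> rcases hη with rfl | rfl <;> rcases hη' with rfl | rfl <;> omega
  have off' : ∀ a, (a = U ∨ a = W) → a ≠ o ∧ a ≠ X ∧ a ≠ X' ∧ a ≠ A ∧ a ≠ Z := by
    intro a ha
    refine off a ?_
    have hne : z 3 a - δ * ind X a ≠ 0 := by
      have e : z 3 a = δ * ind X a + η₁ * ind U a + η₂ * ind W a := by rw [h3]
      rw [e]; rcases ha with rfl | rfl <;> simp [ind, hUW, Ne.symm hUW] <;> omega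
    by_contra hn
    push Not at hn
    apply hne
    rw [h3₀]; simp [ind, hn.1, hn.2]
  obtain ⟨hUo, hUX, hUX', hUA, hUZ⟩ := off' U (Or.inl rfl)
  obtain ⟨hWo, hWX, hWX', hWA, hWZ⟩ := off' W (Or.inr rfl)
  have h3U : z 3 U = η₁ := by simp [h3, ind, hUX, hUW]
  have h3W : z 3 W = η₂ := by simp [h3, ind, hWX, Ne.symm hUW]
  have g3 : ∀ c : ι → ℤ, ∑ χ, z 3 χ * c χ = δ * c X + η₁ * c U + η₂ * c W := fun c => by
    simp only [h3, add_mul, mul_assoc, Finset.sum_add_distrib, ← Finset.mul_sum, sum_ind_mul]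
  have h4U : z 4 U = η₁ := by
    have q := D.g34
    rw [g3, h4X, h4W, hδ2] at q
    rcases hη₁ with rfl | rfl <;> omega
  -- values on the involution
  have z0e : ∀ a, a ≠ X → a ≠ X' → z 0 a = 0 := fun a p q => by simp [h0, ind, p, q]
  have z1e : ∀ a, a ≠ X → a ≠ A → z 1 a = 0 := fun a p q => by simp [h1, ind, p, q]
  have z2e : ∀ a, a ≠ o → a ≠ X → a ≠ Z → z 2 a = 0 := fun a p q r => by simp [h2, ind, p, q, r]
  have h0X : z 0 X = δ := by simp [h0, ind, hXX']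
  have h1X : z 1 X = -δ := by simp [h1, ind, hXA]
  have h2Z : z 2 Z = ε := by simp [h2, ind, hZo, hZX]
  have LX : 2 * z 0 X + 2 * z 1 X + z 2 X + z 3 X - 4 * z 4 X = -2 * δ := by
    rw [h0X, h1X, h2X, h3X, h4X]; ring
  have Lo : 2 * z 0 o + 2 * z 1 o + z 2 o + z 3 o - 4 * z 4 o = 1 := by
    rw [D.z0o, D.z1o, D.z2o, D.z3o, D.z4o]; ring
  have LZ : 2 * z 0 Z + 2 * z 1 Z + z 2 Z + z 3 Z - 4 * z 4 Z = -3 * ε := by
    rw [z0e Z hZX hZX', z1e Z hZX hZA, h2Z, h3Z, h4Z]; ring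
  have LU : 2 * z 0 U + 2 * z 1 U + z 2 U + z 3 U - 4 * z 4 U = -3 * η₁ := by
    rw [z0e U hUX hUX', z1e U hUX hUA, z2e U hUo hUX hUZ, h3U, h4U]; ring
  have LW : 2 * z 0 W + 2 * z 1 W + z 2 W + z 3 W - 4 * z 4 W = η₂ := by
    rw [z0e W hWX hWX', z1e W hWX hWA, z2e W hWo hWX hWZ, h3W, h4W]; ring
  -- the two equations
  have q2 := D.eq2
  have q3' := D.eq3
  have sum2 : ∀ f : ι → ℚ, ∑ χ, (z 2 χ : ℚ) * f χ = f o + (δ : ℚ) * f X + (ε : ℚ) * f Z := fun f => by
    simp only [h2, ind]; push_cast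
    simp [add_mul, Finset.sum_add_distrib]
  have sum3 : ∀ f : ι → ℚ, ∑ χ, (z 3 χ : ℚ) * f χ = (δ : ℚ) * f X + (η₁ : ℚ) * f U + (η₂ : ℚ) * f W := fun f => by
    simp only [h3, ind]; push_cast
    simp [add_mul, Finset.sum_add_distrib]
  rw [sum2, Lo, LX, LZ, D.do1] at q2
  rw [sum3, LX, LU, LW] at q3'
  have hd3 := D.deg 3
  rw [g3] at hd3
  set F : ℤ := δ * d X with hF
  set V : ℤ := η₁ * d U with hV
  have eZ : ε * (d Z : ℤ) = -(1 + F) := by push_cast at hd2; linarith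
  have eW : η₂ * (d W : ℤ) = -(F + V) := by linarith
  have inv_sign : ∀ (s : ℤ) (m : ℕ) (k : ℚ), (s = 1 ∨ s = -1) → (s : ℚ) * (k / (m : ℚ)) = k / ((s * m : ℤ) : ℚ) := by
    intro s m k hs; rcases hs with rfl | rfl <;> push_cast <;> ring
  push_cast at q2 q3'
  have ss : ∀ {s : ℤ}, (s = 1 ∨ s = -1) → (s : ℚ) ^ 2 = 1 := fun hs => by rcases hs with rfl | rfl <;> norm_num
  rw [mul_pow, mul_pow, ss hδ, ss hε, inv_sign δ _ _ hδ, inv_sign ε _ _ hε, ← hF, eZ] at q2
  rw [mul_pow, mul_pow, ss hδ, ss hη₁, ss hη₂, inv_sign δ _ _ hδ, inv_sign η₁ _ _ hη₁,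
    inv_sign η₂ _ _ hη₂, ← hF, ← hV, eW] at q3'
  push_cast at q2 q3'
  norm_num at q2 q3'
  have F0 : F ≠ 0 := by rcases hδ with rfl | rfl <;> simp [hF] <;> omega
  have V0 : V ≠ 0 := by have := D.dpos U; rcases hη₁ with rfl | rfl <;> simp [hV] <;> omega
  have F1 : 1 + F ≠ 0 := by have := D.dpos Z; rcases hε with rfl | rfl <;> omega
  have FV : F + V ≠ 0 := by have := D.dpos W; rcases hη₂ with rfl | rfl <;> omega
  have FV1 : F + V + 1 ≠ 0 := by
    intro e
    have := D.dpos W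
    have h1W : d W = 1 := by rcases hη₂ with rfl | rfl <;> omega
    have := D.lin W h1W
    rw [h3W] at this
    omega
  have F0' : (F : ℚ) ≠ 0 := Int.cast_ne_zero.2 F0
  have V0' : (V : ℚ) ≠ 0 := Int.cast_ne_zero.2 V0
  have F1' : (1 : ℚ) + F ≠ 0 := by exact_mod_cast F1
  have F1'' : (-1 : ℚ) + -(F : ℚ) ≠ 0 := fun e => F1' (by linarith)
  have FV' : (F : ℚ) + V ≠ 0 := by exact_mod_cast FV
  have FV'' : -(V : ℚ) + -(F : ℚ) ≠ 0 := fun e => FV' (by linarith)
  have hn' : (n : ℚ) ≠ 0 := Nat.cast_ne_zero.2 hn.ne'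
  have hdiff : (1 : ℚ) - 9 / (1 + F) - 9 / V + 1 / (F + V) = 0 := by
    have a1 : (9 : ℚ) / (-(1 + F)) = -(9 / (1 + F)) := div_neg _
    have a2 : (1 : ℚ) / (-(F + V)) = -(1 / (F + V)) := div_neg _
    ring_nf at q2 q3' a1 a2 ⊢
    linarith
  field_simp at hdiff
  have hfac : (F + V + 1) * (V * (1 + F) - 9 * (F + V)) = 0 := by
    have : (((F + V + 1) * (V * (1 + F) - 9 * (F + V)) : ℤ) : ℚ) = 0 := by push_cast; linarith
    exact_mod_cast this
  have hkey : V * (F - 8) = 9 * F := by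
    rcases mul_eq_zero.1 hfac with h | h
    · exact absurd h FV1
    · linear_combination h
  have F8 : F ≠ 8 := fun e => by rw [e] at hkey; norm_num at hkey
  refine ⟨F, V, X, U, ⟨V - 9, by linear_combination -hkey⟩, F8, ?_, hkey,
    by rcases hδ with rfl | rfl <;> simp [hF], by rcases hη₁ with rfl | rfl <;> simp [hV],
    by rw [h0X]; omega, by rw [h3U]; omega, hoX, Ne.symm hUo⟩
  have : (((n : ℤ) * (F - 2) ^ 2 : ℤ) : ℚ) = ((4608 * (m : ℤ) * F * (F + 1) : ℤ) : ℚ) := by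
    push_cast
    have F1a : -(F : ℚ) + -1 ≠ 0 := fun e => F1' (by linarith)
    have F1b : -(F : ℚ) - 1 ≠ 0 := fun e => F1' (by linarith)
    field_simp at q2
    linear_combination (-1 : ℚ) * q2
  exact_mod_cast this

end Cfsg.Agent.Char.OrderSix.Cover
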