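import Cfsg.Agent.Lib.Lead.GLTwoThree.Order
import Cfsg.Agent.Lib.Char.OneBlock
import Cfsg.Agent.Lib.Char.PrincipalInflate
import Cfsg.Agent.Lib.Char.SectionPart
import Cfsg.Agent.Lib.Char.IsolatedBase

/-!
# An involution centraliser covering GL(2,3) with kernel of odd order: five virtual characters
-/

set_option autoImplicit false
set_option maxRecDepth 20000
set_option maxHeartbeats 1000000
set_option linter.unusedSectionVars false
set_option linter.style.haveILetI false

namespace Cfsg.Agent.Char.OrderSix.Cover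

open Cfsg Cfsg.Agent.Char Cfsg.Agent.Lead.GLTwoThree
open scoped ComplexConjugate

universe u

variable {G : Type u} [Group G] {t : G}

/-- The hypotheses. -/
structure Hyp (φ : ↥(Subgroup.centralizer ({t} : Set G)) →* GLT) : Prop where
  ht : orderOf t = 2
  surj : Function.Surjective φ
  odd : Odd (Nat.card φ.ker)

variable [Finite G] {φ : ↥(Subgroup.centralizer ({t} : Set G)) →* GLT} (h : Hyp φ)

include h

theorem eq_one_of_sq {y : ↥(Subgroup.centralizer ({t} : Set G))} (hy : y ∈ φ.ker) (h2 : y * y = 1) : y = 1 := by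
  have h1 : orderOf y ∣ 2 := orderOf_dvd_of_pow_eq_one (by rw [pow_two]; exact h2)
  have h3 : orderOf y ∣ Nat.card φ.ker := by
    rw [← Subgroup.orderOf_mk y hy]; exact orderOf_dvd_natCard _
  exact orderOf_eq_one_iff.1 (Nat.eq_one_of_dvd_coprimes (Nat.coprime_two_left.2 h.odd) h1 h3)

theorem t_comm (n : ↥(Subgroup.centralizer ({t} : Set G))) : ⟨t, t_mem⟩ * n = n * ⟨t, t_mem⟩ :=
  Subtype.ext (mem_cent_iff.1 n.2).symm

theorem cod_t : cod (φ ⟨t, t_mem⟩) = 56 := by
  obtain ⟨h2, h1⟩ := orderOf_two_iff.1 h.ht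
  have hmul : (⟨t, t_mem⟩ : ↥(Subgroup.centralizer ({t} : Set G))) * ⟨t, t_mem⟩ = 1 := Subtype.ext h2
  obtain ⟨a, b⟩ := invol_cod.1 (show φ ⟨t, t_mem⟩ * φ ⟨t, t_mem⟩ = 1 ∧ φ ⟨t, t_mem⟩ ≠ 1 from
    ⟨by rw [← map_mul, hmul, map_one],
      fun e => h1 (congrArg Subtype.val (eq_one_of_sq h (MonoidHom.mem_ker.2 e) hmul))⟩)
  refine centre_check _ (cod_mem _) (fun y hy => ?_) a b
  obtain ⟨n, hn⟩ := h.surj (ofCode y hy)
  rw [← cod_ofCode y hy, ← cod_mul, ← cod_mul, ← hn, ← map_mul, ← map_mul, t_comm h]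

/-- what maps to the image of the involution -/
theorem eq_t {n : ↥(Subgroup.centralizer ({t} : Set G))} (hn : cod (φ n) = 56) (h2 : n * n = 1) :
    n = ⟨t, t_mem⟩ := by
  have hmul : (⟨t, t_mem⟩ : ↥(Subgroup.centralizer ({t} : Set G))) * ⟨t, t_mem⟩ = 1 :=
    Subtype.ext (orderOf_two_iff.1 h.ht).1
  have hker : (⟨t, t_mem⟩ : ↥(Subgroup.centralizer ({t} : Set G)))⁻¹ * n ∈ φ.ker := by
    rw [MonoidHom.mem_ker, map_mul, map_inv, cod_injective (hn.trans (cod_t h).symm), inv_mul_cancel]
  have hinv := inv_eq_of_mul_eq_one_left hmul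
  rw [hinv] at hker
  have := eq_one_of_sq h hker (by
    rw [show ∀ a b : ↥(Subgroup.centralizer ({t} : Set G)), a * b * (a * b) = a * (b * a) * b from
      fun a b => by group, ← t_comm h, show ∀ a b : ↥(Subgroup.centralizer ({t} : Set G)),
      a * (a * b) * b = a * a * (b * b) from fun a b => by group, hmul, h2, one_mul])
  rw [eq_inv_of_mul_eq_one_right this, hinv]

theorem root_power {n : ↥(Subgroup.centralizer ({t} : Set G))} (hr : isRoot (cod (φ n)) = true) :
    (∃ k, (n : G) ^ k = t) ∧ ∀ k, orderOf ((n : G) ^ k) = 2 → (n : G) ^ k = t := by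
  obtain ⟨h24, ⟨k, hk, hk'⟩, hall⟩ := root_check _ (cod_mem (φ n)) hr
  refine ⟨?_, fun j hj => ?_⟩
  · set T : ↥(Subgroup.centralizer ({t} : Set G)) := ⟨t, t_mem⟩ with hT
    have hker : T⁻¹ * n ^ k ∈ φ.ker := by
      rw [MonoidHom.mem_ker, map_mul, map_inv, map_pow,
        cod_injective (show cod (φ n ^ k) = cod (φ T) by rw [cod_pow, hk', hT, cod_t h]), inv_mul_cancel]
    set m := Nat.card φ.ker with hm
    have hy : (T⁻¹ * n ^ k) ^ m = 1 := congrArg Subtype.val (pow_card_eq_one' (x := (⟨_, hker⟩ : φ.ker)))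
    have hc : Commute T (T⁻¹ * n ^ k) := t_comm h _
    have e : (n ^ k) ^ m = T ^ m := by
      conv_lhs => rw [show n ^ k = T * (T⁻¹ * n ^ k) by rw [mul_inv_cancel_left]]
      rw [hc.mul_pow, hy, mul_one]
    obtain ⟨q, hq⟩ := h.odd
    refine ⟨k * m, ?_⟩
    rw [pow_mul, ← Subgroup.coe_pow, ← Subgroup.coe_pow, e, hm, hq, pow_succ, pow_mul,
      show T ^ 2 = 1 from Subtype.ext (by rw [Subgroup.coe_pow, pow_two]; exact (orderOf_two_iff.1 h.ht).1),
      one_pow, one_mul]
  · obtain ⟨h2, hne⟩ := orderOf_two_iff.1 hj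
    have h2' : n ^ j * n ^ j = 1 := Subtype.ext (by simpa using h2)
    have hne' : n ^ j ≠ 1 := fun e => hne (by simpa using congrArg Subtype.val e)
    refine congrArg Subtype.val (eq_t h (n := n ^ j) ?_ h2')
    obtain ⟨a, b⟩ := invol_cod.1 (show φ (n ^ j) * φ (n ^ j) = 1 ∧ φ (n ^ j) ≠ 1 from
      ⟨by rw [← map_mul, h2', map_one], fun e => hne' (eq_one_of_sq h (MonoidHom.mem_ker.2 e) h2')⟩)
    have h1 : φ n ^ 24 = 1 := cod_injective (by rw [cod_pow, h24, cod_one])
    rw [map_pow, pow_eq_pow_mod j h1, cod_pow] at a b ⊢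
    exact hall _ (List.mem_range.2 (Nat.mod_lt _ (by norm_num))) a b

omit h

/-- sums over fibres -/
theorem sum_fibre [Fintype ↥(Subgroup.centralizer ({t} : Set G))] [Fintype GLT] (hs : Function.Surjective φ)
    (f : GLT → ℂ) : ∑ n, f (φ n) = (Nat.card φ.ker : ℂ) * ∑ g, f g := by
  classical
  rw [← Finset.sum_fiberwise Finset.univ (fun n => φ n) (fun n => f (φ n)), Finset.mul_sum]
  refine Finset.sum_congr rfl fun g _ => ?_
  rw [Finset.sum_congr rfl fun n hn => show f (φ n) = f g by rw [(Finset.mem_filter.1 hn).2], Finset.sum_const,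
    nsmul_eq_mul, ← Fintype.card_subtype, ← Nat.card_eq_fintype_card]
  congr 2
  obtain ⟨n0, rfl⟩ := hs g
  refine Nat.card_congr
    { toFun := fun n => ⟨n0⁻¹ * n.1, by rw [MonoidHom.mem_ker, map_mul, map_inv, n.2, inv_mul_cancel]⟩
      invFun := fun y => ⟨n0 * y.1, by rw [map_mul, MonoidHom.mem_ker.1 y.2, mul_one]⟩
      left_inv := fun n => by simp
      right_inv := fun y => by simp }

theorem card_cent (hs : Function.Surjective φ) :
    Nat.card ↥(Subgroup.centralizer ({t} : Set G)) = 48 * Nat.card φ.ker := by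
  rw [← φ.ker.card_mul_index, Subgroup.index_ker, MonoidHom.range_eq_top.2 hs, Subgroup.card_top, card_glt, mul_comm]

theorem classInner_surj [Fintype ↥(Subgroup.centralizer ({t} : Set G))] [Fintype GLT] (hs : Function.Surjective φ)
    (a b : GLT → ℂ) : classInner (fun n => a (φ n)) (fun n => b (φ n)) = classInner a b := by
  rw [classInner, classInner, sum_fibre hs (fun g => a g * conj (b g)), card_cent hs, card_glt]
  have : (Nat.card φ.ker : ℂ) ≠ 0 := Nat.cast_ne_zero.2 Nat.card_pos.ne'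
  push_cast
  field_simp

variable (φ) in
/-- The local virtual characters. -/
noncomputable def psi (i : Fin 5) (n : ↥(Subgroup.centralizer ({t} : Set G))) : ℂ := fi i (φ n)

theorem psi_class (i : Fin 5) : IsClassFunction _ (psi φ i) := fun g k => by
  simp only [psi, map_mul, map_inv]; exact classFun_fi i _ _

variable [Fintype G]

variable (φ) in
/-- The induced virtual characters. -/
noncomputable def theta (i : Fin 5) : G → ℂ := indFun (Subgroup.centralizer ({t} : Set G)) (psi φ i)

theorem gen_theta (i : Fin 5) : IsGeneralizedCharacter G (theta φ i) := by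
  obtain ⟨a, b, ha, hb, hab⟩ := gen_fi i
  refine ⟨_, _, isCharacter_indFun _ (isCharacter_comp φ ha), isCharacter_indFun _ (isCharacter_comp φ hb), ?_⟩
  rw [← indFun_sub]
  unfold theta
  congr 1
  funext n
  exact congrFun hab (φ n)

theorem theta_one (i : Fin 5) : theta φ i 1 = 0 := by
  rw [theta, indFun_one, psi, map_one, fi, cod_one, show cls 28 = 0 from rfl]
  fin_cases i <;> simp [V]

include h

theorem theta_root (i : Fin 5) {n : ↥(Subgroup.centralizer ({t} : Set G))} (hr : isRoot (cod (φ n)) = true) :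
    theta φ i n = psi φ i n := by
  classical
  have hterm : ∀ x : G, extendByZero (Subgroup.centralizer ({t} : Set G)) (psi φ i) (x⁻¹ * (n : G) * x) =
      if x ∈ (Subgroup.centralizer ({t} : Set G)) then psi φ i n else 0 := by
    intro x
    split_ifs with hx
    · have hm : x⁻¹ * (n : G) * x ∈ (Subgroup.centralizer ({t} : Set G)) :=
        mul_mem (mul_mem (inv_mem hx) n.2) hx
      rw [extendByZero_mem (Subgroup.centralizer ({t} : Set G)) _ hm]
      have := psi_class (φ := φ) i n ⟨x⁻¹, inv_mem hx⟩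
      rw [← this]
      congr 1
      ext
      simp
    · by_cases hm : x⁻¹ * (n : G) * x ∈ (Subgroup.centralizer ({t} : Set G))
      · rw [extendByZero_mem (Subgroup.centralizer ({t} : Set G)) _ hm]
        refine fi_eq_zero i ?_
        by_contra hne
        rw [Bool.not_eq_false] at hne
        obtain ⟨⟨k, hk⟩, -⟩ := root_power h hr
        obtain ⟨-, huniq⟩ := root_power h hne
        have hc : (x⁻¹ * (n : G) * x) ^ k = x⁻¹ * t * x := by
          have := conj_pow (a := x⁻¹) (b := (n : G)) (i := k)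
          rw [inv_inv] at this
          rw [this, hk]
        have := huniq k (by
          show orderOf ((x⁻¹ * (n : G) * x) ^ k) = 2
          rw [hc, ← h.ht]
          rw [show x⁻¹ * t * x = MulAut.conj x⁻¹ t by rw [MulAut.conj_apply, inv_inv]]
          exact MulEquiv.orderOf_eq _ t)
        apply hx
        rw [mem_cent_iff]
        have e' : x⁻¹ * t * x = t := by rw [← hc]; exact this
        calc x * t = x * (x⁻¹ * t * x) := by rw [e']
          _ = t * x := by group
      · exact extendByZero_not_mem (Subgroup.centralizer ({t} : Set G)) _ hm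
  simp only [theta, indFun, hterm, Finset.sum_ite, Finset.sum_const_zero, add_zero, Finset.sum_const, nsmul_eq_mul]
  rw [← Fintype.card_subtype, ← Nat.card_eq_fintype_card, ← mul_assoc, inv_mul_cancel₀, one_mul]
  exact Nat.cast_ne_zero.mpr Nat.card_pos.ne'

theorem inner_theta (i j : Fin 5) : classInner (theta φ i) (theta φ j) = (gram i j : ℂ) := by
  classical
  haveI := Fintype.ofFinite ↥(Subgroup.centralizer ({t} : Set G))
  haveI := Fintype.ofFinite GLT
  rw [← inner_fi, ← classInner_surj (φ := φ) h.surj]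
  simp only [theta]
  rw [Cfsg.Agent.Char.frobenius _ _ (isClassFunction_indFun _ _), classInner, classInner]
  congr 1
  refine Finset.sum_congr rfl fun n _ => ?_
  show psi φ i n * _ = fi i (φ n) * conj (fi j (φ n))
  by_cases hr : isRoot (cod (φ n)) = true
  · rw [show indFun _ (psi φ j) (n : G) = psi φ j n from theta_root h j hr]; rfl
  · rw [Bool.not_eq_true] at hr
    simp [psi, fi_eq_zero i hr]

theorem inner_theta_one (i : Fin 5) :
    classInner (theta φ i) (fun _ => 1) = ((![0, 0, 1, 0, 0] : Fin 5 → ℤ) i : ℂ) := by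
  classical
  haveI := Fintype.ofFinite ↥(Subgroup.centralizer ({t} : Set G))
  haveI := Fintype.ofFinite GLT
  rw [← inner_fi_one, ← classInner_surj (φ := φ) h.surj, theta,
    Cfsg.Agent.Char.frobenius _ _ (show IsClassFunction G (fun _ => (1 : ℂ)) from fun _ _ => rfl)]
  rfl

variable {M : Ideal AlgInt}

theorem const_ker (hM : IsPModular 2 M) {χ : IrrCharacter G} (hχ : χ ∈ principalBlock M G)
    {y : ↥(Subgroup.centralizer ({t} : Set G))} (hy : y ∈ φ.ker) :
    (χ : G → ℂ) (t * (y : G)) = (χ : G → ℂ) t := by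
  have h2 : ¬ 2 ∣ orderOf y := fun h2 => Nat.not_even_iff_odd.2 h.odd (even_iff_two_dvd.2 (h2.trans (by
    rw [← Subgroup.orderOf_mk y hy]; exact orderOf_dvd_natCard _)))
  have := principal_section_const hM (x := t) ⟨1, by rw [h.ht, pow_one]⟩ φ.ker
    (fun h2 => Nat.not_even_iff_odd.2 h.odd (even_iff_two_dvd.2 h2)) χ hχ 1 y hy (by simp) (by rwa [mul_one])
  simpa using this

/-- The values at the involution are read off the coordinates. -/
theorem value_t (hM : IsPModular 2 M) {χ : IrrCharacter G} (hχ : χ ∈ principalBlock M G) :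
    2 * classInner (theta φ 0) χ + 2 * classInner (theta φ 1) χ + classInner (theta φ 2) χ +
      classInner (theta φ 3) χ - 4 * classInner (theta φ 4) χ = conj ((χ : G → ℂ) t) := by
  classical
  haveI := Fintype.ofFinite ↥(Subgroup.centralizer ({t} : Set G))
  simp only [theta, Cfsg.Agent.Char.frobenius _ _ (isClassFunction_character (irr_isCharacter χ.2))]
  simp only [classInner, psi]
  rw [card_cent h.surj]
  have hterm : ∀ n : ↥(Subgroup.centralizer ({t} : Set G)),
      2 * (fi 0 (φ n) * conj ((χ : G → ℂ) n)) + 2 * (fi 1 (φ n) * conj ((χ : G → ℂ) n)) +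
        fi 2 (φ n) * conj ((χ : G → ℂ) n) + fi 3 (φ n) * conj ((χ : G → ℂ) n) -
          4 * (fi 4 (φ n) * conj ((χ : G → ℂ) n)) =
      if φ n = φ ⟨t, t_mem⟩ then 48 * conj ((χ : G → ℂ) t) else 0 := by
    intro n
    have hi := indicator_z (φ n)
    have hiff : cod (φ n) = 56 ↔ φ n = φ ⟨t, t_mem⟩ := by
      rw [← cod_t h, cod_injective.eq_iff]
    simp only [hiff] at hi
    split_ifs with hn
    · rw [if_pos hn] at hi
      have hy : (⟨t, t_mem⟩ : ↥(Subgroup.centralizer ({t} : Set G)))⁻¹ * n ∈ φ.ker := by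
        rw [MonoidHom.mem_ker, map_mul, map_inv, hn, inv_mul_cancel]
      have hv := const_ker h hM hχ hy
      simp only [Subgroup.coe_mul, InvMemClass.coe_inv, mul_inv_cancel_left] at hv
      rw [hv]
      linear_combination conj ((χ : G → ℂ) t) * hi
    · rw [if_neg hn] at hi; linear_combination conj ((χ : G → ℂ) (n : G)) * hi
  have hcount : (Finset.univ.filter fun n => φ n = φ ⟨t, t_mem⟩).card = Nat.card φ.ker := by
    rw [← Fintype.card_subtype, ← Nat.card_eq_fintype_card]
    exact Nat.card_congr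
      { toFun := fun n => ⟨(⟨t, t_mem⟩ : ↥(Subgroup.centralizer ({t} : Set G)))⁻¹ * n.1,
          by rw [MonoidHom.mem_ker, map_mul, map_inv, n.2, inv_mul_cancel]⟩
        invFun := fun y => ⟨⟨t, t_mem⟩ * y.1, by rw [map_mul, MonoidHom.mem_ker.1 y.2, mul_one]⟩
        left_inv := fun n => by simp
        right_inv := fun y => by simp }
  calc _ = ((48 * Nat.card φ.ker : ℕ) : ℂ)⁻¹ * ∑ n : ↥(Subgroup.centralizer ({t} : Set G)),
        (2 * (fi 0 (φ n) * conj ((χ : G → ℂ) n)) + 2 * (fi 1 (φ n) * conj ((χ : G → ℂ) n)) +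
          fi 2 (φ n) * conj ((χ : G → ℂ) n) + fi 3 (φ n) * conj ((χ : G → ℂ) n) -
            4 * (fi 4 (φ n) * conj ((χ : G → ℂ) n))) := by
        simp only [Finset.sum_sub_distrib, Finset.sum_add_distrib, ← Finset.mul_sum]; ring
    _ = _ := by
        rw [Finset.sum_congr rfl fun n _ => hterm n, Finset.sum_ite, Finset.sum_const_zero, add_zero,
          Finset.sum_const, nsmul_eq_mul, hcount]
        have : (Nat.card φ.ker : ℂ) ≠ 0 := Nat.cast_ne_zero.2 Nat.card_pos.ne'
        push_cast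
        field_simp

/-- The normal quaternion subgroup of `GL(2,3)`. -/
def quatGLT : Subgroup GLT where
  carrier := {g | cls (cod g) ∈ ([0, 1, 2] : List (Fin 8))}
  one_mem' := by rw [Set.mem_setOf_eq, cod_one]; decide
  mul_mem' := fun {a b} ha hb => by
    have key : ∀ x ∈ codes, ∀ y ∈ codes, cls x ∈ ([0, 1, 2] : List (Fin 8)) → cls y ∈ ([0, 1, 2] : List (Fin 8)) →
        cls (mc x y) ∈ ([0, 1, 2] : List (Fin 8)) := by decide +kernel
    rw [Set.mem_setOf_eq, cod_mul]
    exact key _ (cod_mem a) _ (cod_mem b) ha hb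
  inv_mem' := fun {a} ha => by
    have key : ∀ x ∈ codes, cls x ∈ ([0, 1, 2] : List (Fin 8)) → cls (iv x) ∈ ([0, 1, 2] : List (Fin 8)) := by
      decide +kernel
    rw [Set.mem_setOf_eq, cod_inv]
    exact key _ (cod_mem a) ha

omit h in
theorem quatGLT_facts : (quatGLT).Normal ∧ IsPGroup 2 quatGLT ∧
    Subgroup.centralizer (quatGLT : Set GLT) ≤ quatGLT := by
  have mem : ∀ g : GLT, g ∈ quatGLT ↔ cls (cod g) ∈ ([0, 1, 2] : List (Fin 8)) := fun g => Iff.rfl
  refine ⟨⟨fun n hn g => ?_⟩, fun g => ⟨3, Subtype.ext ?_⟩, fun g hg => ?_⟩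
  · rw [mem, cod_mul, cod_mul, cod_inv, cls_conj _ (cod_mem g) _ (cod_mem n)]
    exact hn
  · have key : ∀ x ∈ codes, cls x ∈ ([0, 1, 2] : List (Fin 8)) → pw x 8 = 28 := by decide +kernel
    refine cod_injective ?_
    rw [Subgroup.coe_pow, Subgroup.coe_one, cod_pow, cod_one]
    exact key _ (cod_mem _) g.2
  · have key : ∀ x ∈ codes, (∀ y ∈ codes, cls y ∈ ([0, 1, 2] : List (Fin 8)) → mc y x = mc x y) →
        cls x ∈ ([0, 1, 2] : List (Fin 8)) := by decide +kernel
    refine (mem g).2 (key _ (cod_mem g) fun y hy hy' => ?_)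
    rw [← cod_ofCode y hy, ← cod_mul, ← cod_mul]
    exact congrArg cod (Subgroup.mem_centralizer_iff.1 hg (ofCode y hy) (by rw [SetLike.mem_coe, mem, cod_ofCode]; exact hy'))

theorem mem_principal_cent (hM : IsPModular 2 M) [Fintype ↥(Subgroup.centralizer ({t} : Set G))]
    (ξ : IrrCharacter ↥(Subgroup.centralizer ({t} : Set G))) :
    ξ ∈ principalBlock M ↥(Subgroup.centralizer ({t} : Set G)) ↔
      ∀ n ∈ φ.ker, (ξ : ↥(Subgroup.centralizer ({t} : Set G)) → ℂ) n =
        (ξ : ↥(Subgroup.centralizer ({t} : Set G)) → ℂ) 1 := by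
  classical
  haveI : Fact (Nat.Prime 2) := ⟨Nat.prime_two⟩
  have h2 : ¬ 2 ∣ Nat.card φ.ker := fun h2 => Nat.not_even_iff_odd.2 h.odd (even_iff_two_dvd.2 h2)
  refine ⟨fun hξ => principal_trivial_on hM φ.ker h2 hξ, fun htr => ?_⟩
  letI : Fintype (↥(Subgroup.centralizer ({t} : Set G)) ⧸ φ.ker) := Fintype.ofFinite _
  obtain ⟨ψ, hψ⟩ := (inflateEquiv φ.ker).surjective ⟨ξ, htr⟩
  have : (inflateEquiv φ.ker ψ).1 = ξ := congrArg Subtype.val hψ
  rw [← this, inflate_mem_principal_iff hM φ.ker h2 ψ]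
  obtain ⟨hn, hp, hc⟩ := quatGLT_facts
  set e := QuotientGroup.quotientKerEquivOfSurjective φ h.surj
  set Q := (quatGLT).comap e.toMonoidHom
  haveI : Q.Normal := hn.comap _
  have hQ : IsPGroup 2 Q := fun q => by
    obtain ⟨k, hk⟩ := hp ⟨e q, q.2⟩
    refine ⟨k, Subtype.ext (e.injective ?_)⟩
    rw [Subgroup.coe_pow, map_pow, Subgroup.coe_one, map_one]
    exact congrArg Subtype.val hk
  have hC : Subgroup.centralizer (pCore 2 (↥(Subgroup.centralizer ({t} : Set G)) ⧸ φ.ker) : Set _) ≤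
      pCore 2 (↥(Subgroup.centralizer ({t} : Set G)) ⧸ φ.ker) := fun q hq => Fusion.le_pCore hQ (by
    show e q ∈ quatGLT
    refine hc (Subgroup.mem_centralizer_iff.2 fun g hg => ?_)
    obtain ⟨r, rfl⟩ := e.surjective g
    rw [← map_mul, ← map_mul]
    exact congrArg e (Subgroup.mem_centralizer_iff.1 hq r (Fusion.le_pCore hQ hg)))
  exact sameBlock_of_constrained hM hC ⟨fun _ => 1, isIrrCharacter_one⟩ ψ

/-- Only the principal block meets the induced virtual characters. -/
theorem inner_theta_off (hM : IsPModular 2 M) (i : Fin 5) {χ : IrrCharacter G} (hχ : χ ∉ principalBlock M G) :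
    classInner (theta φ i) χ = 0 := by
  classical
  haveI : Fact (Nat.Prime 2) := ⟨Nat.prime_two⟩
  letI := Fintype.ofFinite ↥(Subgroup.centralizer ({t} : Set G))
  have hP := pmod_prime hM
  have hcoeff : ∀ k : ↥(Subgroup.centralizer ({t} : Set G)), blockCoeff (principalBlock M ↥(Subgroup.centralizer ({t} : Set G))) k = (Nat.card φ.ker : ℂ)⁻¹ * subInd φ.ker k := by
    intro k
    have hk0 : (Nat.card φ.ker : ℂ) ≠ 0 := Nat.cast_ne_zero.2 Nat.card_pos.ne'
    have hsum := congrFun (classFun_eq_sum_idem (intClassFun_subInd hP φ.ker).1) k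
    rw [Finset.sum_apply] at hsum
    rw [hsum, Finset.mul_sum, blockCoeff_eq, Finset.sum_apply, Finset.sum_filter]
    refine Finset.sum_congr rfl fun ξ _ => ?_
    rw [Pi.smul_apply, smul_eq_mul]
    split_ifs with hξ
    · rw [(trivial_on_iff_lam φ.ker ξ).1 ((mem_principal_cent h hM ξ).1 hξ), ← mul_assoc, inv_mul_cancel₀ hk0,
        one_mul]
    · rw [(lam_subInd_cases hP φ.ker ξ).resolve_right fun e =>
        hξ ((mem_principal_cent h hM ξ).2 ((trivial_on_iff_lam φ.ker ξ).2 e)), zero_mul, mul_zero]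
  have hfib : ∀ n : ↥(Subgroup.centralizer ({t} : Set G)), isRoot (cod (φ n)) = true →
      ∑ k : ↥(Subgroup.centralizer ({t} : Set G)), subInd φ.ker k * (χ : G → ℂ) ((k : G) * (n : G)) = 0 := by
    intro n hr
    obtain ⟨⟨j, hj⟩, -⟩ := root_power h hr
    obtain ⟨z, hz⟩ := exists_isPPart (p := 2) Nat.prime_two ((n : G))
    obtain ⟨y, hzy, hcy, ⟨k, hk⟩, hy⟩ := hz
    have hz' : IsPPart 2 (n : G) z := ⟨y, hzy, hcy, ⟨k, hk⟩, hy⟩
    have htz : t = z ^ j := by
      have e : t = z ^ j * y ^ j := by rw [← hj, ← hzy, hcy.mul_pow]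
      have h2 : t * t = 1 := (orderOf_two_iff.1 h.ht).1
      have hzt : Commute (z ^ j)⁻¹ t := by
        rw [e]; exact (((Commute.refl (z ^ j)).mul_right (hcy.pow_pow j j))).inv_left
      have hord : orderOf (y ^ j) ∣ 2 ^ (k + 1) := by
        refine orderOf_dvd_of_pow_eq_one ?_
        rw [show y ^ j = (z ^ j)⁻¹ * t by rw [e, inv_mul_cancel_left], hzt.mul_pow, inv_pow, ← pow_mul,
          mul_comm j, pow_mul, pow_succ, pow_mul, ← hk, pow_orderOf_eq_one, one_pow, one_pow, inv_one, one_mul,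
          hk, mul_comm, pow_mul, pow_two, h2, one_pow]
      have hodd : (orderOf (y ^ j)).Coprime (2 ^ (k + 1)) :=
        Nat.Coprime.pow_right _ (Nat.Coprime.coprime_dvd_left (orderOf_pow_dvd j)
          ((Nat.prime_two.coprime_iff_not_dvd).2 hy).symm)
      have h1 : y ^ j = 1 := orderOf_eq_one_iff.1 (Nat.eq_one_of_dvd_coprimes hodd dvd_rfl hord)
      rw [e, h1, mul_one]
    have hle : Subgroup.centralizer ({z} : Set G) ≤ Subgroup.centralizer ({t} : Set G) := fun x hx => by
      rw [Subgroup.mem_centralizer_singleton_iff, htz]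
      exact ((show Commute x z from Subgroup.mem_centralizer_singleton_iff.1 hx).pow_right j).eq
    obtain ⟨B, hB⟩ := exists_induced_centralizer (x := t) hM ⟨1, by rw [h.ht, pow_one]⟩
      (isPBlock_principalBlock (G := ↥(Subgroup.centralizer ({t} : Set G))) M)
    have hB' : B = principalBlock M G := (third_main hM hB).mpr rfl
    have h0 := second_main_induced hM hB n hz' hle χ (hB' ▸ hχ)
    simp only [hcoeff, mul_assoc, ← Finset.mul_sum] at h0
    exact (mul_eq_zero.1 h0).resolve_left (inv_ne_zero (Nat.cast_ne_zero.2 Nat.card_pos.ne'))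
  rw [theta, Cfsg.Agent.Char.frobenius _ _ (isClassFunction_character (irr_isCharacter χ.2)), classInner]
  have hshift : ∀ k : ↥(Subgroup.centralizer ({t} : Set G)), subInd φ.ker k * ∑ n : ↥(Subgroup.centralizer ({t} : Set G)), psi φ i n * conj ((χ : G → ℂ) (n : G)) =
      ∑ n : ↥(Subgroup.centralizer ({t} : Set G)), psi φ i n * (subInd φ.ker k * conj ((χ : G → ℂ) ((k : G) * n))) := by
    intro k
    rw [Finset.mul_sum]
    unfold subInd
    split_ifs with hk
    · simp only [one_mul]
      refine (Fintype.sum_equiv (Equiv.mulLeft k) _ _ fun n => ?_).symm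
      simp only [Equiv.coe_mulLeft, Subgroup.coe_mul, psi, map_mul, MonoidHom.mem_ker.1 hk, one_mul]
    · simp
  have hzero : (Nat.card φ.ker : ℂ) * ∑ n : ↥(Subgroup.centralizer ({t} : Set G)), psi φ i n * conj ((χ : G → ℂ) (n : G)) = 0 := by
    rw [← sum_subInd, Finset.sum_mul, Finset.sum_congr rfl fun k _ => hshift k, Finset.sum_comm]
    refine Finset.sum_eq_zero fun n _ => ?_
    rw [← Finset.mul_sum]
    by_cases hr : isRoot (cod (φ n)) = true
    · have := congrArg conj (hfib n hr)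
      rw [map_sum, map_zero] at this
      rw [Finset.sum_congr rfl (g := fun k : ↥(Subgroup.centralizer ({t} : Set G)) => conj (subInd φ.ker k * (χ : G → ℂ) ((k : G) * n))) fun k _ => ?_,
        this, mul_zero]
      rw [map_mul]
      congr 1
      unfold subInd
      split_ifs <;> simp
    · rw [Bool.not_eq_true] at hr
      rw [psi, fi_eq_zero i hr, zero_mul]
  rw [(mul_eq_zero.1 hzero).resolve_left (Nat.cast_ne_zero.2 Nat.card_pos.ne'), mul_zero]

end Cfsg.Agent.Char.OrderSix.Cover
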