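import Cfsg.Agent.Lib.Char.OrderSix.CoverPairs
import Cfsg.Agent.Lib.Char.OrderSix.CoverArith
import Cfsg.Agent.Lib.Small.Order459648

/-!
# An involution centraliser covering GL(2,3): a small character in the principal block
-/

set_option autoImplicit false
set_option maxRecDepth 20000
set_option maxHeartbeats 1000000
set_option linter.unusedSectionVars false
set_option linter.style.haveILetI false

namespace Cfsg.Agent.Char.OrderSix.Cover

open Cfsg Cfsg.Agent.Char Cfsg.Agent.Lead.GLTwoThree
open scoped ComplexConjugate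

/-- The 2-part leaves two values. -/
theorem two_values {F : ℤ} {n m : ℕ} (hn : Odd n) (hm : Odd m) (hd : (F - 8) ∣ 72) (h8 : F ≠ 8)
    (h : (16 * (n : ℤ)) * (F - 2) ^ 2 = 4608 * (m : ℤ) * F * (F + 1)) : F = 10 ∨ F = 26 := by
  obtain ⟨i, rfl⟩ := hn
  obtain ⟨j, rfl⟩ := hm
  have h1 : F - 8 ≤ 72 := Int.le_of_dvd (by norm_num) hd
  have h2 : -(F - 8) ≤ 72 := Int.le_of_dvd (by norm_num) (Int.neg_dvd.2 hd)
  have l1 : -64 ≤ F := by omega
  have l2 : F ≤ 80 := by omega
  push_cast at h
  interval_cases F <;> first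
    | (norm_num; done)
    | (norm_num at hd; done)
    | (norm_num at h; done)
    | (clear hd h1 h2; norm_num at h; omega)

universe u

variable {G : Type u} [Group G] [Fintype G] {t : G} {φ : ↥(Subgroup.centralizer ({t} : Set G)) →* GLT}

/-- A nontrivial principal character of degree less than thirty-two. -/
theorem small_principal [IsSimpleGroup G] (hna : ¬ IsMulCommutative G) (h : Hyp φ) {M : Ideal AlgInt}
    (hM : IsPModular 2 M) (hconj : ∀ u : G, orderOf u = 2 → IsConj t u) {n : ℕ} (hn : Odd n)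
    (hcard : Nat.card G = 16 * n) :
    ∃ χ : IrrCharacter G, χ ∈ principalBlock M G ∧ (χ : G → ℂ) ≠ (fun _ => 1) ∧
      charDegree (χ : G → ℂ) < 32 := by
  classical
  choose z hz hzc using fun i => exists_int_coords (gen_theta (φ := φ) i)
  let d : IrrCharacter G → ℕ := fun χ => deg (χ : G → ℂ)
  have hd : ∀ χ : IrrCharacter G, (χ : G → ℂ) 1 = (d χ : ℂ) := fun χ => char_one_eq_deg (irr_isCharacter χ.2)
  let o : IrrCharacter G := ⟨fun _ => 1, isIrrCharacter_one⟩
  have hoff : ∀ i χ, χ ∉ principalBlock M G → z i χ = 0 := fun i χ hχ => by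
    have := inner_theta_off h hM i hχ
    rw [hzc] at this
    exact_mod_cast this
  have hgram : ∀ i j, ∑ χ, z i χ * z j χ = gram i j := by
    intro i j
    have hij := inner_theta h i j
    rw [hz i, classInner_sum_left] at hij
    have : ∀ χ : IrrCharacter G, classInner ((z i χ : ℂ) • (χ : G → ℂ)) (theta φ j) = ((z i χ * z j χ : ℤ) : ℂ) := by
      intro χ
      rw [classInner_smul_left, ← classInner_symm, hzc, map_intCast]; push_cast; rfl
    rw [Finset.sum_congr rfl fun χ _ => this χ] at hij
    exact_mod_cast hij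
  have hval : ∀ χ : IrrCharacter G, χ ∈ principalBlock M G → (χ : G → ℂ) t =
      ((2 * z 0 χ + 2 * z 1 χ + z 2 χ + z 3 χ - 4 * z 4 χ : ℤ) : ℂ) := by
    intro χ hχ
    have hv := congrArg conj (value_t h hM hχ)
    simp only [hzc, Complex.conj_conj, map_sub, map_add, map_mul, map_intCast, map_ofNat] at hv
    rw [← hv]; push_cast; ring
  have hone : ∀ i, z i o = (![0, 0, 1, 0, 0] : Fin 5 → ℤ) i := fun i => by
    have := inner_theta_one h i
    rw [show (fun _ => (1 : ℂ)) = ((o : IrrCharacter G) : G → ℂ) from rfl, hzc] at this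
    exact_mod_cast this
  have hdeg : ∀ i, ∑ χ, z i χ * (d χ : ℤ) = 0 := by
    intro i
    have hi := theta_one (φ := φ) i
    rw [hz i, Finset.sum_apply] at hi
    simp only [Pi.smul_apply, smul_eq_mul, hd] at hi
    exact_mod_cast hi
  set m := Nat.card φ.ker * lifts φ refInv ^ 2 with hm
  have heq : ∀ i, ∑ χ, (z i χ : ℚ) *
      (((2 * z 0 χ + 2 * z 1 χ + z 2 χ + z 3 χ - 4 * z 4 χ : ℤ) : ℚ) ^ 2 / (d χ : ℚ)) =
      48 * (m : ℚ) * ((![0, 0, 96, 96, -96] : Fin 5 → ℤ) i : ℚ) / (Nat.card G : ℚ) := by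
    intro i
    have hp := pair_equation h hconj i
    have hsum : ∑ a : G, ∑ b : G, theta φ i (a * t * a⁻¹ * (b * t * b⁻¹)) =
        (Nat.card G : ℂ) ^ 2 * ∑ χ : IrrCharacter G, (z i χ : ℂ) *
          (((2 * z 0 χ + 2 * z 1 χ + z 2 χ + z 3 χ - 4 * z 4 χ : ℤ) : ℂ) ^ 2 / (d χ : ℂ)) := by
      rw [hz i]
      simp only [Finset.sum_apply, Pi.smul_apply, smul_eq_mul]
      rw [Finset.sum_congr rfl fun a _ => Finset.sum_comm, Finset.sum_comm, Finset.mul_sum]
      refine Finset.sum_congr rfl fun χ _ => ?_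
      simp only [← Finset.mul_sum, sum_pair_irr, hd]
      by_cases hχ : χ ∈ principalBlock M G
      · rw [hval χ hχ]; ring
      · rw [hoff i χ hχ, Int.cast_zero, zero_mul, zero_mul, mul_zero]
    rw [hsum] at hp
    have hG0 : (Nat.card G : ℂ) ≠ 0 := Nat.cast_ne_zero.2 Nat.card_pos.ne'
    apply (Rat.cast_injective (α := ℂ))
    rw [hm]
    push_cast
    push_cast at hp
    rw [eq_div_iff hG0]
    refine mul_left_cancel₀ hG0 ?_
    linear_combination hp
  have hlin : ∀ χ, d χ = 1 → z 3 χ = 0 := fun χ h1 => by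
    have hχ : χ = Small.Order459648.oneChar := by
      by_contra hne
      have := Small.Order459648.one_lt_degree hna hne
      rw [charDegree_eq_deg] at this
      change 1 < d χ at this
      omega
    rw [hχ, show (Small.Order459648.oneChar : IrrCharacter G) = o from rfl, hone 3]
    rfl
  have D : Data z o d (Nat.card G) m :=
    { g00 := by simp only [pow_two]; exact hgram 0 0
      g11 := by simp only [pow_two]; exact hgram 1 1
      g22 := by simp only [pow_two]; exact hgram 2 2
      g33 := by simp only [pow_two]; exact hgram 3 3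
      g44 := by simp only [pow_two]; exact hgram 4 4
      g01 := hgram 0 1
      g02 := hgram 0 2
      g03 := hgram 0 3
      g04 := hgram 0 4
      g12 := hgram 1 2
      g13 := hgram 1 3
      g14 := hgram 1 4
      g23 := hgram 2 3
      g24 := hgram 2 4
      g34 := hgram 3 4
      z0o := hone 0
      z1o := hone 1
      z2o := hone 2
      z3o := hone 3
      z4o := hone 4
      deg := hdeg
      dpos := fun χ => deg_pos χ.2
      do1 := by
        have := hd o
        have h1 : ((o : IrrCharacter G) : G → ℂ) 1 = 1 := rfl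
        rw [h1] at this
        exact_mod_cast this.symm
      lin := hlin
      eq2 := by
        rw [heq 2, show (![0, 0, 96, 96, -96] : Fin 5 → ℤ) 2 = 96 from rfl]; push_cast; ring
      eq3 := by
        rw [heq 3, show (![0, 0, 96, 96, -96] : Fin 5 → ℤ) 3 = 96 from rfl]; push_cast; ring }
  obtain ⟨F, V, X, U, h72, h8, hF, hV, hdX, hdU, hzX, hzU, hoX, hoU⟩ := D.arith Nat.card_pos
  have hmo : Odd m := h.odd.mul (lifts_odd h).pow
  rw [hcard] at hF
  push_cast at hF
  have hne : ∀ χ : IrrCharacter G, o ≠ χ → (χ : G → ℂ) ≠ fun _ => 1 := fun χ hoχ e => hoχ (Subtype.ext e.symm)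
  rcases two_values hn hmo h72 h8 hF with rfl | rfl
  · refine ⟨X, by_contra fun hX => hzX (hoff 0 X hX), hne X hoX, ?_⟩
    rw [charDegree_eq_deg]
    change d X < 32
    rw [show |(10 : ℤ)| = 10 from rfl] at hdX
    omega
  · refine ⟨U, by_contra fun hU => hzU (hoff 3 U hU), hne U hoU, ?_⟩
    rw [charDegree_eq_deg]
    change d U < 32
    have hV' : V = 13 := by linarith
    rw [hV', show |(13 : ℤ)| = 13 from rfl] at hdU
    omega

end Cfsg.Agent.Char.OrderSix.Cover
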