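import Cfsg.Agent.Lib.Char.OrderSix.CoverBase

/-!
# An involution centraliser covering GL(2,3) with kernel of odd order: pairs of involutions
-/

set_option autoImplicit false
set_option maxRecDepth 20000
set_option maxHeartbeats 1000000
set_option linter.unusedSectionVars false
set_option linter.style.haveILetI false

namespace Cfsg.Agent.Char.OrderSix.Cover

open Cfsg Cfsg.Agent.Char Cfsg.Agent.Lead.GLTwoThree
open scoped ComplexConjugate

universe u

theorem invol_conj_check : ∀ x ∈ codes, mc x x = 28 → x ≠ 28 → x ≠ 56 →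
    ∃ c ∈ codes, mc (mc c 29) (iv c) = x := by decide +kernel

theorem central_product_check : ∀ x ∈ codes, ∀ y ∈ codes, mc x x = 28 → x ≠ 28 → mc y y = 28 → y ≠ 28 →
    (x = 56 ∨ y = 56) → isRoot (mc x y) = false := by decide +kernel

variable {G : Type u} [Group G] {t : G}

variable [Finite G] {φ : ↥(Subgroup.centralizer ({t} : Set G)) →* GLT} (h : Hyp φ)

variable (φ) in
/-- involutions over an element -/
noncomputable def lifts (x : GLT) : ℕ :=
  Nat.card {v : ↥(Subgroup.centralizer ({t} : Set G)) // orderOf v = 2 ∧ φ v = x}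

theorem lifts_conj (hs : Function.Surjective φ) (x c : GLT) : lifts φ (c * x * c⁻¹) = lifts φ x := by
  obtain ⟨w, rfl⟩ := hs c
  refine (Nat.card_congr ((MulAut.conj w).toEquiv.subtypeEquiv fun v => ?_)).symm
  show _ ↔ orderOf (MulAut.conj w v) = 2 ∧ φ (MulAut.conj w v) = _
  rw [MulEquiv.orderOf_eq, MulAut.conj_apply, map_mul, map_mul, map_inv]
  refine and_congr_right fun _ => ⟨fun e => by rw [e], fun e => ?_⟩
  exact mul_left_cancel (mul_right_cancel e)

/-- the reference involution -/
def refInv : GLT := ofCode 29 (by decide +kernel)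

theorem refInv_spec : refInv * refInv = 1 ∧ refInv ≠ 1 ∧ cod refInv = 29 := by
  refine ⟨cod_injective ?_, fun e => ?_, cod_ofCode _ _⟩
  · rw [cod_mul, refInv, cod_ofCode, cod_one]; decide +kernel
  · have := congrArg cod e
    rw [refInv, cod_ofCode, cod_one] at this
    omega

include h in
/-- an odd number of involutions over a non-central involution -/
theorem lifts_odd : Odd (lifts φ refInv) := by
  classical
  haveI : Fact (Nat.Prime 2) := ⟨Nat.prime_two⟩
  obtain ⟨hr2, hr1, -⟩ := refInv_spec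
  -- one lift
  obtain ⟨e0, he0, he0φ⟩ : ∃ e0, orderOf e0 = 2 ∧ φ e0 = refInv := by
    set K := (Subgroup.zpowers refInv).comap φ with hK
    have hcard : 2 ∣ Nat.card K := by
      obtain ⟨n0, hn0⟩ := h.surj refInv
      have hm : n0 ∈ K := by rw [hK, Subgroup.mem_comap, hn0]; exact Subgroup.mem_zpowers _
      have hro : orderOf refInv = 2 := orderOf_eq_prime (by rw [pow_two, hr2]) hr1
      refine dvd_trans ?_ (orderOf_dvd_natCard (⟨n0, hm⟩ : K))
      rw [Subgroup.orderOf_mk, ← hro, ← hn0]
      exact orderOf_map_dvd φ n0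
    obtain ⟨v, hv⟩ := exists_prime_orderOf_dvd_card' (G := K) 2 hcard
    have hvo : orderOf (v : ↥(Subgroup.centralizer ({t} : Set G))) = 2 := by rw [Subgroup.orderOf_coe, hv]
    obtain ⟨i, hi⟩ := Subgroup.mem_zpowers_iff.1 (show φ v ∈ Subgroup.zpowers refInv from v.2)
    refine ⟨v, hvo, ?_⟩
    obtain ⟨h2, h1⟩ := orderOf_two_iff.1 hvo
    rw [← zpow_mod_orderOf, orderOf_eq_prime (by rw [pow_two, hr2]) hr1] at hi
    rcases Int.emod_two_eq i with e | e <;> rw [show ((2 : ℕ) : ℤ) = 2 from rfl, e] at hi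
    · rw [zpow_zero] at hi
      exact absurd (eq_one_of_sq h (MonoidHom.mem_ker.2 hi.symm) h2) h1
    · rw [← hi, zpow_one]
  obtain ⟨he2, -⟩ := orderOf_two_iff.1 he0
  have hinv : e0⁻¹ = e0 := inv_eq_of_mul_eq_one_left he2
  letI := Fintype.ofFinite {v : ↥(Subgroup.centralizer ({t} : Set G)) // orderOf v = 2 ∧ φ v = refInv}
  let f : {v : ↥(Subgroup.centralizer ({t} : Set G)) // orderOf v = 2 ∧ φ v = refInv} →
      {v : ↥(Subgroup.centralizer ({t} : Set G)) // orderOf v = 2 ∧ φ v = refInv} := fun v =>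
    ⟨e0 * v.1 * e0, by
      have e : e0 * v.1 * e0 = MulAut.conj e0 v.1 := by rw [MulAut.conj_apply, hinv]
      refine ⟨by rw [e, MulEquiv.orderOf_eq]; exact v.2.1, ?_⟩
      rw [map_mul, map_mul, v.2.2, he0φ, hr2, one_mul]⟩
  have hff : Function.Involutive f := fun v => Subtype.ext (by
    show e0 * (e0 * v.1 * e0) * e0 = v.1
    rw [show e0 * (e0 * v.1 * e0) * e0 = e0 * e0 * v.1 * (e0 * e0) by group, he2, one_mul, mul_one])
  have hfix := Equiv.Perm.card_compl_support_modEq (p := 2) (n := 1) (σ := hff.toPerm f)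
    (Equiv.ext fun v => by
      show f (f v) = v
      exact hff v)
  rw [← Nat.card_eq_fintype_card] at hfix
  have h1 : (hff.toPerm f).supportᶜ = {⟨e0, he0, he0φ⟩} := by
    ext v
    rw [Finset.mem_compl, Equiv.Perm.notMem_support, Finset.mem_singleton]
    refine ⟨fun hv => Subtype.ext ?_, fun hv => ?_⟩
    · have hv' : e0 * v.1 * e0 = v.1 := congrArg Subtype.val hv
      obtain ⟨hv2, -⟩ := orderOf_two_iff.1 v.2.1
      have hker : e0 * v.1 ∈ φ.ker := by rw [MonoidHom.mem_ker, map_mul, he0φ, v.2.2, hr2]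
      have := eq_one_of_sq h hker (by rw [← mul_assoc, hv', hv2])
      exact (inv_eq_of_mul_eq_one_right this).symm.trans hinv
    · subst hv
      exact Subtype.ext (show e0 * e0 * e0 = e0 by rw [he2, one_mul])
  rw [h1, Finset.card_singleton] at hfix
  rw [lifts, Nat.odd_iff]
  exact hfix.symm

include h in
theorem lifts_eq {x : GLT} (hx : x * x = 1) (hx1 : x ≠ 1) (hxz : cod x ≠ 56) : lifts φ x = lifts φ refInv := by
  obtain ⟨a, b⟩ := invol_cod.1 ⟨hx, hx1⟩
  obtain ⟨c, hc, hcx⟩ := invol_conj_check _ (cod_mem x) a b hxz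
  have : ofCode c hc * refInv * (ofCode c hc)⁻¹ = x := cod_injective (by
    rw [cod_mul, cod_mul, cod_inv, cod_ofCode, refInv, cod_ofCode]; exact hcx)
  rw [← this, lifts_conj h.surj]

variable [Fintype G]

include h in
/-- weighted pairs inside the centraliser -/
theorem local_pairs [Fintype ↥(Subgroup.centralizer ({t} : Set G))] [Fintype GLT] (i : Fin 5) :
    ∑ n : ↥(Subgroup.centralizer ({t} : Set G)), psi φ i n * conj ((pairCount (n : G) : ℕ) : ℂ) =
      (lifts φ refInv : ℂ) ^ 2 * ((![0, 0, 96, 96, -96] : Fin 5 → ℤ) i : ℂ) := by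
  classical
  -- pairs inside
  have hpc : ∀ n : ↥(Subgroup.centralizer ({t} : Set G)), psi φ i n * conj ((pairCount (n : G) : ℕ) : ℂ) =
      ∑ v : ↥(Subgroup.centralizer ({t} : Set G)),
        if orderOf v = 2 ∧ orderOf (v * n) = 2 then psi φ i n else 0 := by
    intro n
    rw [map_natCast]
    by_cases hr : isRoot (cod (φ n)) = true
    · rw [Finset.sum_ite, Finset.sum_const_zero, add_zero, Finset.sum_const, nsmul_eq_mul, mul_comm]
      congr 1
      norm_cast
      obtain ⟨⟨k, hk⟩, -⟩ := root_power h hr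
      have hu : ∀ u : G, orderOf u = 2 ∧ orderOf (u * (n : G)) = 2 → u ∈ Subgroup.centralizer ({t} : Set G) := by
        rintro u ⟨h1, h2⟩
        obtain ⟨a, -⟩ := orderOf_two_iff.1 h1
        obtain ⟨b, -⟩ := orderOf_two_iff.1 h2
        obtain ⟨c, -⟩ := orderOf_two_iff.1 h.ht
        have hi : u⁻¹ = u := inv_eq_of_mul_eq_one_left a
        have hinv : u * (n : G) * u⁻¹ = (n : G)⁻¹ := by
          rw [hi]; exact eq_inv_of_mul_eq_one_left (by rw [mul_assoc]; exact b)
        have := congrArg (fun z => z ^ k) hinv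
        simp only [conj_pow, inv_pow, hk, inv_eq_of_mul_eq_one_left c] at this
        rw [mem_cent_iff]
        calc u * t = (u * t * u⁻¹) * u := by group
          _ = t * u := by rw [this]
      rw [← Fintype.card_subtype, pairCount, ← Nat.card_eq_fintype_card]
      exact Nat.card_congr
        { toFun := fun u => ⟨⟨u.1, hu _ u.2⟩, by
            rw [← Subgroup.orderOf_coe, ← Subgroup.orderOf_coe, Subgroup.coe_mul]; exact u.2⟩
          invFun := fun v => ⟨(v.1 : G), by
            rw [← Subgroup.coe_mul, Subgroup.orderOf_coe, Subgroup.orderOf_coe]; exact v.2⟩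
          left_inv := fun u => rfl
          right_inv := fun v => rfl }
    · rw [Bool.not_eq_true] at hr
      rw [psi, fi_eq_zero i hr, zero_mul]
      simp
  rw [Finset.sum_congr rfl fun n _ => hpc n, Finset.sum_comm]
  have hre : ∀ v : ↥(Subgroup.centralizer ({t} : Set G)),
      (∑ n, if orderOf v = 2 ∧ orderOf (v * n) = 2 then psi φ i n else 0) =
      ∑ n, if orderOf v = 2 ∧ orderOf n = 2 then fi i (φ v * φ n) else 0 := by
    intro v
    by_cases hv : orderOf v = 2
    · obtain ⟨a, -⟩ := orderOf_two_iff.1 hv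
      refine Fintype.sum_equiv (Equiv.mulLeft v) _ _ fun n => ?_
      simp only [Equiv.coe_mulLeft, psi, ← map_mul, ← mul_assoc, a, one_mul]
    · simp [hv]
  rw [Finset.sum_congr rfl fun v _ => hre v]
  -- by images
  let P : GLT → GLT → ℂ := fun x y => if x * x = 1 ∧ x ≠ 1 ∧ y * y = 1 ∧ y ≠ 1 then fi i (x * y) else 0
  have himg : ∀ v : ↥(Subgroup.centralizer ({t} : Set G)), orderOf v = 2 → φ v * φ v = 1 ∧ φ v ≠ 1 := fun v hv => by
    obtain ⟨a, b⟩ := orderOf_two_iff.1 hv
    exact ⟨by rw [← map_mul, a, map_one], fun e => b (eq_one_of_sq h (MonoidHom.mem_ker.2 e) a)⟩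
  have hL : ∀ x : GLT, (∑ v, if orderOf v = 2 ∧ φ v = x then (1 : ℂ) else 0) = (lifts φ x : ℂ) := fun x => by
    rw [Finset.sum_boole, lifts, Nat.card_eq_fintype_card, Fintype.card_subtype]
  have hsplit : ∀ v n : ↥(Subgroup.centralizer ({t} : Set G)),
      (if orderOf v = 2 ∧ orderOf n = 2 then fi i (φ v * φ n) else 0) =
      ∑ x : GLT, ∑ y : GLT, (if orderOf v = 2 ∧ φ v = x then (1 : ℂ) else 0) *
        ((if orderOf n = 2 ∧ φ n = y then (1 : ℂ) else 0) * P x y) := by
    intro v n
    rw [Finset.sum_eq_single (φ v) (fun x _ hx => by simp [Ne.symm hx]) (by simp),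
      Finset.sum_eq_single (φ n) (fun y _ hy => by simp [Ne.symm hy]) (by simp)]
    by_cases hv : orderOf v = 2 <;> by_cases hn : orderOf n = 2 <;> simp [hv, hn, P, himg]
  have hweight : ∀ x y : GLT, (lifts φ x : ℂ) * ((lifts φ y : ℂ) * P x y) = (lifts φ refInv : ℂ) ^ 2 * P x y := by
    intro x y
    simp only [P]
    split_ifs with hxy
    · obtain ⟨hx, hx1, hy, hy1⟩ := hxy
      by_cases hz : cod x = 56 ∨ cod y = 56
      · obtain ⟨a, b⟩ := invol_cod.1 ⟨hx, hx1⟩
        obtain ⟨a', b'⟩ := invol_cod.1 ⟨hy, hy1⟩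
        rw [fi_eq_zero i (by rw [cod_mul]; exact central_product_check _ (cod_mem x) _ (cod_mem y) a b a' b' hz)]
        ring
      · rw [not_or] at hz
        rw [lifts_eq h hx hx1 hz.1, lifts_eq h hy hy1 hz.2]
        ring
    · ring
  calc (∑ v, ∑ n, if orderOf v = 2 ∧ orderOf n = 2 then fi i (φ v * φ n) else 0)
      = ∑ x : GLT, ∑ y : GLT, (lifts φ x : ℂ) * ((lifts φ y : ℂ) * P x y) := by
        rw [Finset.sum_congr rfl fun v _ => Finset.sum_congr rfl fun n _ => hsplit v n]
        rw [Finset.sum_congr rfl fun v _ => Finset.sum_comm, Finset.sum_comm]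
        refine Finset.sum_congr rfl fun x _ => ?_
        rw [Finset.sum_congr rfl fun v _ => Finset.sum_comm, Finset.sum_comm]
        refine Finset.sum_congr rfl fun y _ => ?_
        simp only [← Finset.mul_sum, ← Finset.sum_mul, hL]
    _ = (lifts φ refInv : ℂ) ^ 2 * ∑ x : GLT, ∑ y : GLT, P x y := by
        rw [Finset.mul_sum]
        exact Finset.sum_congr rfl fun x _ => by rw [Finset.mul_sum]; exact Finset.sum_congr rfl fun y _ => hweight x y
    _ = _ := by
        congr 1
        rw [← weighted_sum]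
        let Q : ℕ → ℕ → Bool := fun u x => u != 28 && mc u u == 28 && mc u x != 28 && mc (mc u x) (mc u x) == 28
        have hcnt : ∀ g : GLT, fi i g * (invPairs (cod g) : ℂ) = ∑ x : GLT, P x (x * g) := by
          intro g
          have e : (invPairs (cod g) : ℂ) = ∑ x : GLT, if Q (cod x) (cod g) = true then (1 : ℂ) else 0 := by
            rw [sum_cod (fun c => if Q c (cod g) = true then (1 : ℂ) else 0), invPairs,
              ← List.countP_eq_length_filter, ← sum_map_boole, Nat.cast_list_sum, List.map_map]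
            refine congrArg List.sum (List.map_congr_left fun c _ => ?_)
            simp only [Function.comp_apply, Nat.cast_ite, Nat.cast_one, Nat.cast_zero, Q]
          rw [e, Finset.mul_sum]
          refine Finset.sum_congr rfl fun x _ => ?_
          have hQ : Q (cod x) (cod g) = true ↔ x * x = 1 ∧ x ≠ 1 ∧ x * g * (x * g) = 1 ∧ x * g ≠ 1 := by
            simp only [Q, Bool.and_eq_true, bne_iff_ne, beq_iff_eq, ne_eq, ← cod_mul]
            rw [← cod_one]
            simp only [cod_injective.eq_iff]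
            tauto
          simp only [P, hQ]
          split_ifs with hq
          · rw [mul_one, ← mul_assoc, hq.1, one_mul]
          · rw [mul_zero]
        rw [Finset.sum_congr rfl fun g _ => hcnt g]
        conv_rhs => rw [Finset.sum_comm]
        exact Finset.sum_congr rfl fun x _ => (Fintype.sum_equiv (Equiv.mulLeft x) _ _ fun g => rfl).symm

include h in
theorem pair_equation (hconj : ∀ u : G, orderOf u = 2 → IsConj t u) (i : Fin 5) :
    ∑ a : G, ∑ b : G, theta φ i (a * t * a⁻¹ * (b * t * b⁻¹)) =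
      (Nat.card G : ℂ) * ((48 : ℂ) * (Nat.card φ.ker : ℂ) * (lifts φ refInv : ℂ) ^ 2) *
        ((![0, 0, 96, 96, -96] : Fin 5 → ℤ) i : ℂ) := by
  classical
  haveI := Fintype.ofFinite ↥(Subgroup.centralizer ({t} : Set G))
  haveI := Fintype.ofFinite GLT
  have hN : (Nat.card (Subgroup.centralizer ({t} : Set G)) : ℂ) = 48 * (Nat.card φ.ker : ℂ) := by
    rw [card_cent h.surj]; push_cast; ring
  set N : ℂ := (Nat.card (Subgroup.centralizer ({t} : Set G)) : ℂ) with hNdef
  have hswap : ∀ f : G → ℂ, ∑ a : G, f (a * t * a⁻¹) = N * ∑ y : G with orderOf y = 2, f y := by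
    intro f
    rw [hNdef, show Finset.univ.filter (fun y : G => orderOf y = 2) = Finset.univ.filter (fun y : G => IsConj t y) from
      Finset.filter_congr fun y _ => ⟨hconj y, fun hc => by
        obtain ⟨c, hc⟩ := isConj_iff.1 hc
        rw [← hc, show c * t * c⁻¹ = MulAut.conj c t from rfl, MulEquiv.orderOf_eq, h.ht]⟩, ← sum_conj_eq t f]
    exact Fintype.sum_equiv (Equiv.inv G) _ _ fun a => by simp
  rw [hswap (fun u => ∑ b : G, theta φ i (u * (b * t * b⁻¹)))]
  rw [Finset.sum_congr rfl fun u _ => hswap (fun v => theta φ i (u * v)), ← Finset.mul_sum]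
  have hre : ∀ u : G, orderOf u = 2 → (∑ v : G with orderOf v = 2, theta φ i (u * v)) =
      ∑ g : G, if orderOf (u * g) = 2 then theta φ i g else 0 := by
    intro u hu
    obtain ⟨a, -⟩ := orderOf_two_iff.1 hu
    rw [Finset.sum_filter]
    exact Fintype.sum_equiv (Equiv.mulLeft u) _ _ fun v => by
      simp [← mul_assoc, a]
  rw [Finset.sum_congr rfl fun u hu => hre u (Finset.mem_filter.1 hu).2, Finset.sum_comm]
  have hcnt : ∀ g : G, (∑ u : G with orderOf u = 2, if orderOf (u * g) = 2 then theta φ i g else 0) =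
      theta φ i g * conj ((pairCount g : ℕ) : ℂ) := by
    intro g
    rw [map_natCast, ← Finset.sum_filter, Finset.sum_const, nsmul_eq_mul, mul_comm, pairCount,
      Nat.card_eq_fintype_card, Fintype.card_subtype, Finset.filter_filter]
  rw [Finset.sum_congr rfl fun g _ => hcnt g]
  have hG0 : (Nat.card G : ℂ) ≠ 0 := Nat.cast_ne_zero.2 Nat.card_pos.ne'
  have hN0 : N ≠ 0 := Nat.cast_ne_zero.2 Nat.card_pos.ne'
  have hfr := Cfsg.Agent.Char.frobenius (Subgroup.centralizer ({t} : Set G)) (psi φ i) (χ := fun g => ((pairCount g : ℕ) : ℂ))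
    (fun g k => by simp only [pairCount_class])
  simp only [classInner, local_pairs h i, ← hNdef] at hfr
  change (Nat.card G : ℂ)⁻¹ * ∑ g : G, theta φ i g * conj ((pairCount g : ℕ) : ℂ) = _ at hfr
  rw [inv_mul_eq_iff_eq_mul₀ hG0] at hfr
  rw [hfr, ← hN]
  field_simp

end Cfsg.Agent.Char.OrderSix.Cover
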