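import Mathlib

/-!
# The Diophantine equations behind the regularity of an involution centraliser
-/

set_option autoImplicit false

namespace Cfsg.Agent.Char.OrderSix

/-- the finite check for the pattern `+ + -` -/
theorem check_plus : ∀ a ∈ List.range 324, ∀ j ∈ List.range 33, a % 4 = 1 ∧ 9 ≤ a ∧ 216 < j * (a + 1) ∧ j * (a + 1) < 324 ∧
    216 * a ^ 2 % (j * (a + 1) - 216) = 0 →
    Nat.sqrt ((a - 1) ^ 2 + 4 * (216 * a ^ 2 / (j * (a + 1) - 216))) ^ 2 ≠
      (a - 1) ^ 2 + 4 * (216 * a ^ 2 / (j * (a + 1) - 216)) := by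
  decide +kernel

/-- the finite check for the pattern `+ - -` -/
theorem check_minus : ∀ b ∈ List.range 345, ∀ j ∈ List.range 43, b % 4 = 3 ∧ 9 ≤ b ∧ 216 < j * (b - 1) ∧ j * (b - 1) < 340 ∧
    216 * b ^ 2 % (j * (b - 1) - 216) = 0 →
    Nat.sqrt ((b + 1) ^ 2 + 4 * (216 * b ^ 2 / (j * (b - 1) - 216))) ^ 2 ≠
      (b + 1) ^ 2 + 4 * (216 * b ^ 2 / (j * (b - 1) - 216)) := by
  decide +kernel

private theorem plus_le {a b D : ℕ} (ha4 : a % 4 = 1) (ha : 9 ≤ a) (hab : a ≤ b)
    (h : D * ((a + 1) * (b + 1) * (a + b)) = 216 * a * b * (a + b + 1)) : False := by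
  have hk0 : ((216 * a : ℤ) - D * (a + 1)) * ((b + 1) * (a + b)) = 216 * (a : ℤ) ^ 2 := by
    have : (D : ℤ) * ((a + 1) * (b + 1) * (a + b)) = 216 * a * b * (a + b + 1) := by exact_mod_cast h
    linear_combination -this
  have hlt : D * (a + 1) < 216 * a := by
    by_contra hge
    push Not at hge
    have h1 : (216 * a : ℤ) ≤ D * (a + 1) := by exact_mod_cast hge
    have h2 : (0 : ℤ) ≤ ((b : ℤ) + 1) * (a + b) := by positivity
    nlinarith [mul_nonneg (sub_nonneg.2 h1) h2, mul_pos (show (0 : ℤ) < a by omega) (show (0 : ℤ) < a by omega)]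
  obtain ⟨k, hk⟩ : ∃ k, 216 * a = D * (a + 1) + k := ⟨216 * a - D * (a + 1), by omega⟩
  have hkb : k * ((b + 1) * (a + b)) = 216 * a ^ 2 := by
    have e : (k : ℤ) = 216 * a - D * (a + 1) := by
      have : (216 * a : ℤ) = D * (a + 1) + k := by exact_mod_cast hk
      linarith
    rw [← e] at hk0
    exact_mod_cast hk0
  have hk108 : k < 108 := by
    by_contra hge
    push Not at hge
    have : 108 * ((a + 1) * (a + a)) ≤ k * ((b + 1) * (a + b)) := by gcongr
    nlinarith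
  have hD : D < 216 := by nlinarith
  obtain ⟨j, hjD⟩ : ∃ j, 216 = D + j := ⟨216 - D, by omega⟩
  have hj : k + 216 = j * (a + 1) := by nlinarith
  have hj1 : 1 ≤ j := by omega
  have hb : j * (a + 1) < 324 := by omega
  have ha' : a < 324 := by nlinarith
  have hj' : j < 33 := by nlinarith
  have hkeq : j * (a + 1) - 216 = k := by omega
  have hkpos : 0 < k := Nat.pos_of_ne_zero fun e => by subst e; nlinarith
  have hdiv : k ∣ 216 * a ^ 2 := ⟨(b + 1) * (a + b), by linarith⟩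
  refine check_plus a (List.mem_range.2 ha') j (List.mem_range.2 hj')
    ⟨ha4, ha, by omega, hb, Nat.mod_eq_zero_of_dvd (hkeq ▸ hdiv)⟩ ?_
  rw [hkeq]
  have hq : 216 * a ^ 2 / k = (b + 1) * (a + b) := by
    rw [show 216 * a ^ 2 = k * ((b + 1) * (a + b)) by linarith, Nat.mul_div_cancel_left _ hkpos]
  rw [hq]
  have e : (a - 1) ^ 2 + 4 * ((b + 1) * (a + b)) = (2 * b + a + 1) ^ 2 := by
    obtain ⟨a', rfl⟩ : ∃ a', a = a' + 1 := ⟨a - 1, by omega⟩
    rw [Nat.add_sub_cancel]; ring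
  rw [e, Nat.sqrt_eq']

/-- No solutions for the pattern `+ + -` with both small degrees at least nine. -/
theorem no_plus {a b D : ℕ} (ha4 : a % 4 = 1) (hb4 : b % 4 = 1) (ha : 9 ≤ a) (hb : 9 ≤ b)
    (h : D * ((a + 1) * (b + 1) * (a + b)) = 216 * a * b * (a + b + 1)) : False := by
  rcases le_total a b with hab | hab
  · exact plus_le ha4 ha hab h
  · exact plus_le hb4 hb hab (D := D) (by
      rw [show (b + 1) * (a + 1) * (b + a) = (a + 1) * (b + 1) * (a + b) by ring, h]; ring)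

private theorem minus_le {b c D : ℕ} (hb4 : b % 4 = 3) (hb : 9 ≤ b) (hbc : b ≤ c)
    (h : D * ((b - 1) * (c - 1) * (b + c)) = 216 * b * c * (b + c - 1)) : False := by
  obtain ⟨p, rfl⟩ : ∃ p, b = p + 1 := ⟨b - 1, by omega⟩
  obtain ⟨q, rfl⟩ : ∃ q, c = q + 1 := ⟨c - 1, by omega⟩
  simp only [Nat.add_sub_cancel, show p + 1 + (q + 1) - 1 = p + q + 1 by omega] at h
  have hk0 : ((D : ℤ) * p - 216 * (p + 1)) * (q * (p + q + 2)) = 216 * ((p : ℤ) + 1) ^ 2 := by
    have : (D : ℤ) * (p * q * (p + 1 + (q + 1))) = 216 * (p + 1) * (q + 1) * (p + q + 1) := by exact_mod_cast h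
    linear_combination this
  have hlt : 216 * (p + 1) < D * p := by
    by_contra hge
    push Not at hge
    have h1 : (D : ℤ) * p ≤ 216 * (p + 1) := by exact_mod_cast hge
    have h2 : (0 : ℤ) ≤ (q : ℤ) * (p + q + 2) := by positivity
    nlinarith [mul_nonneg (sub_nonneg.2 h1) h2]
  obtain ⟨k, hk⟩ : ∃ k, D * p = 216 * (p + 1) + k := ⟨D * p - 216 * (p + 1), by omega⟩
  have hkb : k * (q * (p + q + 2)) = 216 * (p + 1) ^ 2 := by
    have e : (k : ℤ) = D * p - 216 * (p + 1) := by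
      have : (D * p : ℤ) = 216 * (p + 1) + k := by exact_mod_cast hk
      linarith
    rw [← e] at hk0
    exact_mod_cast hk0
  have hk122 : k < 124 := by
    by_contra hge
    push Not at hge
    have : 124 * (p * (p + p + 2)) ≤ k * (q * (p + q + 2)) := by gcongr <;> omega
    nlinarith
  have hD : 216 < D := by nlinarith
  obtain ⟨j, rfl⟩ : ∃ j, D = 216 + j := ⟨D - 216, by omega⟩
  have hj : k + 216 = j * p := by nlinarith
  have hb' : j * (p + 1 - 1) < 340 := by rw [Nat.add_sub_cancel]; omega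
  have hp' : p + 1 < 345 := by nlinarith
  have hj' : j < 43 := by
    rw [Nat.add_sub_cancel] at hb'; nlinarith
  have hkeq : j * (p + 1 - 1) - 216 = k := by rw [Nat.add_sub_cancel]; omega
  have hkpos : 0 < k := Nat.pos_of_ne_zero fun e => by subst e; nlinarith
  have hdiv : k ∣ 216 * (p + 1) ^ 2 := ⟨q * (p + q + 2), by linarith⟩
  refine check_minus (p + 1) (List.mem_range.2 hp') j (List.mem_range.2 hj')
    ⟨hb4, hb, by rw [Nat.add_sub_cancel]; omega, hb', Nat.mod_eq_zero_of_dvd (hkeq ▸ hdiv)⟩ ?_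
  rw [hkeq]
  have hq : 216 * (p + 1) ^ 2 / k = q * (p + q + 2) := by
    rw [show 216 * (p + 1) ^ 2 = k * (q * (p + q + 2)) by linarith, Nat.mul_div_cancel_left _ hkpos]
  rw [hq, show (p + 1 + 1) ^ 2 + 4 * (q * (p + q + 2)) = (2 * q + p + 2) ^ 2 by ring, Nat.sqrt_eq']

/-- No solutions for the pattern `+ - -` with both small degrees at least nine. -/
theorem no_minus {b c D : ℕ} (hb4 : b % 4 = 3) (hc4 : c % 4 = 3) (hb : 9 ≤ b) (hc : 9 ≤ c)
    (h : D * ((b - 1) * (c - 1) * (b + c)) = 216 * b * c * (b + c - 1)) : False := by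
  rcases le_total b c with hbc | hbc
  · exact minus_le hb4 hb hbc h
  · exact minus_le hc4 hc hbc (D := D) (by
      rw [show (c - 1) * (b - 1) * (c + b) = (b - 1) * (c - 1) * (b + c) by ring, h, add_comm c b]; ring)

end Cfsg.Agent.Char.OrderSix

namespace Cfsg.Agent.Char.OrderSix

/-- The signed form: no degree equation of absolute values at least nine. -/
theorem no_signed {a b c : ℤ} {D : ℕ} (ha : a % 4 = 1) (hb : b % 4 = 1) (hc : c % 4 = 1)
    (ha9 : 9 ≤ |a|) (hb9 : 9 ≤ |b|) (hc9 : 9 ≤ |c|) (hsum : 1 + a + b + c = 0)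
    (h : (D : ℤ) * ((1 + a) * (1 + b) * (1 + c)) = 216 * (a * b * c)) : False := by
  have plus : ∀ a b c : ℤ, a % 4 = 1 → b % 4 = 1 → 9 ≤ a → 9 ≤ b → 1 + a + b + c = 0 →
      (D : ℤ) * ((1 + a) * (1 + b) * (1 + c)) = 216 * (a * b * c) → False := by
    intro a b c ha hb ha9 hb9 hsum h
    obtain ⟨a', rfl⟩ := Int.eq_ofNat_of_zero_le (by omega : 0 ≤ a)
    obtain ⟨b', rfl⟩ := Int.eq_ofNat_of_zero_le (by omega : 0 ≤ b)
    refine no_plus (a := a') (b := b') (D := D) (by omega) (by omega) (by omega) (by omega) ?_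
    obtain rfl : c = -(1 + (a' : ℤ) + b') := by linarith
    apply Int.ofNat_inj.1
    push_cast
    linear_combination -h
  have minus : ∀ a b c : ℤ, b % 4 = 1 → c % 4 = 1 → b ≤ -9 → c ≤ -9 → 1 + a + b + c = 0 →
      (D : ℤ) * ((1 + a) * (1 + b) * (1 + c)) = 216 * (a * b * c) → False := by
    intro a b c hb hc hb9 hc9 hsum h
    obtain ⟨b', hb'⟩ := Int.eq_ofNat_of_zero_le (by omega : 0 ≤ -b - 1)
    obtain ⟨c', hc'⟩ := Int.eq_ofNat_of_zero_le (by omega : 0 ≤ -c - 1)
    obtain rfl : b = -(b' : ℤ) - 1 := by linarith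
    obtain rfl : c = -(c' : ℤ) - 1 := by linarith
    obtain rfl : a = b' + c' + 1 := by linarith
    refine no_minus (b := b' + 1) (c := c' + 1) (D := D) (by omega) (by omega) (by omega) (by omega) ?_
    rw [Nat.add_sub_cancel, Nat.add_sub_cancel, show b' + 1 + (c' + 1) - 1 = b' + c' + 1 by omega]
    apply Int.ofNat_inj.1
    push_cast
    linear_combination h
  rcases le_or_gt 0 a with sa | sa <;> rcases le_or_gt 0 b with sb | sb <;>
    rcases le_or_gt 0 c with sc | sc <;>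
    first
    | (rw [abs_of_nonneg sa] at ha9) | (rw [abs_of_neg sa] at ha9)
  all_goals
    first
    | (rw [abs_of_nonneg sb] at hb9) | (rw [abs_of_neg sb] at hb9)
  all_goals
    first
    | (rw [abs_of_nonneg sc] at hc9) | (rw [abs_of_neg sc] at hc9)
  · omega
  · exact plus a b c ha hb ha9 hb9 hsum h
  · exact plus a c b ha hc ha9 hc9 (by linarith) (by linear_combination h)
  · exact minus a b c hb hc (by linarith) (by linarith) hsum h
  · exact plus b c a hb hc hb9 hc9 (by linarith) (by linear_combination h)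
  · exact minus b a c ha hc (by linarith) (by linarith) (by linarith) (by linear_combination h)
  · exact minus c a b ha hb (by linarith) (by linarith) (by linarith) (by linear_combination h)
  · omega

theorem ne_zero_of_mod {t : ℤ} (ht : t % 4 = 1) : t ≠ 0 ∧ 1 + t ≠ 0 := by omega

/-- Without a one, the three factors `t / (1 + t)` multiply to at least `25/36`. -/
theorem ratio_lower {a b c : ℤ} (ha : a % 4 = 1) (hb : b % 4 = 1) (hc : c % 4 = 1)
    (ha1 : a ≠ 1) (hb1 : b ≠ 1) (hc1 : c ≠ 1) (hsum : 1 + a + b + c = 0) :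
    25 * |(1 + a) * (1 + b) * (1 + c)| ≤ 36 * |a * b * c| := by
  have pos : ∀ t : ℤ, t % 4 = 1 → t ≠ 1 → 5 * |1 + t| ≤ 6 * |t| := fun t h h1 => by
    rcases abs_cases t with ⟨e, he⟩ | ⟨e, he⟩ <;> rcases abs_cases (1 + t) with ⟨e', he'⟩ | ⟨e', he'⟩ <;> omega
  have neg : ∀ t : ℤ, t % 4 = 1 → t < 0 → |1 + t| ≤ |t| := fun t h h1 => by
    rcases abs_cases t with ⟨e, he⟩ | ⟨e, he⟩ <;> rcases abs_cases (1 + t) with ⟨e', he'⟩ | ⟨e', he'⟩ <;> omega
  have key : ∀ a b c : ℤ, a % 4 = 1 → b % 4 = 1 → c % 4 = 1 → a ≠ 1 → b ≠ 1 → c < 0 →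
      25 * |(1 + a) * (1 + b) * (1 + c)| ≤ 36 * |a * b * c| := by
    intro a b c ha hb hc ha1 hb1 hc0
    have := mul_le_mul (mul_le_mul (pos a ha ha1) (pos b hb hb1) (by positivity) (by positivity))
      (neg c hc hc0) (by positivity) (by positivity)
    simp only [abs_mul] at this ⊢
    linarith
  rcases lt_or_ge c 0 with h | h
  · exact key a b c ha hb hc ha1 hb1 h
  rcases lt_or_ge b 0 with h' | h'
  · have := key a c b ha hc hb ha1 hc1 h'
    rwa [show (1 + a) * (1 + c) * (1 + b) = (1 + a) * (1 + b) * (1 + c) by ring,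
      show a * c * b = a * b * c by ring] at this
  · have := key b c a hb hc ha hb1 hc1 (by omega)
    rwa [show (1 + b) * (1 + c) * (1 + a) = (1 + a) * (1 + b) * (1 + c) by ring,
      show b * c * a = a * b * c by ring] at this

/-- With absolute values at least nine they multiply to at most `81/64`. -/
theorem ratio_upper {a b c : ℤ} (ha9 : 9 ≤ |a|) (hb9 : 9 ≤ |b|) (hc9 : 9 ≤ |c|) (hsum : 1 + a + b + c = 0) :
    64 * |a * b * c| ≤ 81 * |(1 + a) * (1 + b) * (1 + c)| := by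
  have any : ∀ t : ℤ, 9 ≤ |t| → 8 * |t| ≤ 9 * |1 + t| := fun t h => by
    rcases abs_cases t with ⟨e, he⟩ | ⟨e, he⟩ <;> rcases abs_cases (1 + t) with ⟨e', he'⟩ | ⟨e', he'⟩ <;> omega
  have pos : ∀ t : ℤ, 0 ≤ t → |t| ≤ |1 + t| := fun t h => by
    rcases abs_cases t with ⟨e, he⟩ | ⟨e, he⟩ <;> rcases abs_cases (1 + t) with ⟨e', he'⟩ | ⟨e', he'⟩ <;> omega
  have key : ∀ a b c : ℤ, 9 ≤ |a| → 9 ≤ |b| → 0 ≤ c → 64 * |a * b * c| ≤ 81 * |(1 + a) * (1 + b) * (1 + c)| := by
    intro a b c ha hb hc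
    have := mul_le_mul (mul_le_mul (any a ha) (any b hb) (by positivity) (by positivity))
      (pos c hc) (by positivity) (by positivity)
    simp only [abs_mul] at this ⊢
    linarith
  rcases le_or_gt 0 c with h | h
  · exact key a b c ha9 hb9 h
  rcases le_or_gt 0 b with h' | h'
  · have := key a c b ha9 hc9 h'
    rwa [show (1 + a) * (1 + c) * (1 + b) = (1 + a) * (1 + b) * (1 + c) by ring,
      show a * c * b = a * b * c by ring] at this
  · have := key b c a hb9 hc9 (by omega)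
    rwa [show (1 + b) * (1 + c) * (1 + a) = (1 + a) * (1 + b) * (1 + c) by ring,
      show b * c * a = a * b * c by ring] at this

end Cfsg.Agent.Char.OrderSix
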