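import Cfsg.Agent.Lib.Char.OrderSix.FiveBase
import Cfsg.Agent.Lib.Solv.UniqueSub

/-!
# A centraliser with quotient the alternating group of degree five: the conclusion
-/

set_option autoImplicit false
set_option linter.unusedSectionVars false
set_option linter.style.haveILetI false

open Cfsg Subgroup
open scoped commutatorElement

namespace Cfsg.Agent.Char.OrderSix

universe u
variable {G : Type u} [Group G] [Finite G] [IsSimpleGroup G]

namespace FiveCtx

variable {D : Ctx G} (F : FiveCtx D)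

/-- three more elements generate -/
theorem gen_three {A P : Subgroup G} (hAP : A ≤ P) (h : Nat.card P ≤ 8 * Nat.card A) :
    ∃ x ∈ P, ∃ y ∈ P, ∃ z ∈ P, P ≤ A ⊔ zpowers x ⊔ zpowers y ⊔ zpowers z := by
  have step : ∀ B : Subgroup G, B ≤ P → ∃ x ∈ P, P ≤ B ∨ 2 * Nat.card B ≤ Nat.card ↥(B ⊔ zpowers x) := by
    intro B hB
    by_cases hPB : P ≤ B
    · exact ⟨1, one_mem _, Or.inl hPB⟩
    obtain ⟨x, hxP, hxB⟩ := SetLike.not_le_iff_exists.1 hPB
    refine ⟨x, hxP, Or.inr ?_⟩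
    obtain ⟨m, hm⟩ := card_dvd_of_le (le_sup_left : B ≤ B ⊔ zpowers x)
    rw [hm, mul_comm]
    refine Nat.mul_le_mul_left _ ?_
    by_contra hlt
    have h1 : m = 1 := by
      rcases Nat.eq_zero_or_pos m with h0 | h0
      · rw [h0, mul_zero] at hm; exact absurd hm Nat.card_pos.ne'
      · omega
    rw [h1, mul_one] at hm
    exact hxB ((eq_of_le_of_card_ge le_sup_left hm.le).symm ▸ mem_sup_right (mem_zpowers x))
  obtain ⟨x, hx, hx'⟩ := step A hAP
  have hB1 : A ⊔ zpowers x ≤ P := sup_le hAP (zpowers_le.2 hx)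
  obtain ⟨y, hy, hy'⟩ := step _ hB1
  have hB2 : A ⊔ zpowers x ⊔ zpowers y ≤ P := sup_le hB1 (zpowers_le.2 hy)
  obtain ⟨z, hz, hz'⟩ := step _ hB2
  refine ⟨x, hx, y, hy, z, hz, ?_⟩
  rcases hx' with h1 | h1
  · exact h1.trans (le_sup_left.trans (le_sup_left.trans le_sup_left))
  rcases hy' with h2 | h2
  · exact h2.trans (le_sup_left.trans le_sup_left)
  rcases hz' with h3 | h3
  · exact h3.trans le_sup_left
  refine (eq_of_le_of_card_ge (sup_le hB2 (zpowers_le.2 hz)) ?_).ge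
  omega

theorem sylow_le {H : Subgroup G} (hH : IsPGroup 2 H) : Nat.card H ≤ 4 * Nat.card F.P := by
  haveI : Fact (Nat.Prime 2) := ⟨Nat.prime_two⟩
  obtain ⟨S, -, hSC⟩ := D.exists_sylow
  have h1 : Nat.card (S : Subgroup G) ∣ 15 * (4 * Nat.card F.P) := by
    rw [← mul_assoc, show 15 * 4 = 60 from rfl, ← F.card_C]; exact card_dvd_of_le hSC
  obtain ⟨k, hk⟩ := IsPGroup.iff_card.1 S.2
  have h2 : Nat.card (S : Subgroup G) ∣ 4 * Nat.card F.P := by
    refine Nat.Coprime.dvd_of_dvd_mul_left ?_ h1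
    rw [hk]
    exact (by norm_num : Nat.Coprime 2 15).pow_left k
  exact Nat.le_of_dvd (Nat.mul_pos (by norm_num) Nat.card_pos) ((Ctx.card_sylow_dvd hH S).trans h2)

theorem le_sylow : ∃ S : Subgroup G, IsPGroup 2 S ∧ Nat.card S = 4 * Nat.card F.P ∧ S ≤ D.C := by
  haveI : Fact (Nat.Prime 2) := ⟨Nat.prime_two⟩
  obtain ⟨k, hk⟩ := IsPGroup.iff_card.1 F.isPGroup
  have h : 2 ^ (k + 2) ∣ Nat.card D.C := by
    rw [F.card_C, hk, pow_add]
    exact ⟨15, by ring⟩
  obtain ⟨K, hK⟩ := Sylow.exists_subgroup_card_pow_prime 2 h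
  have hc : Nat.card (K.map D.C.subtype) = 4 * Nat.card F.P := by
    rw [Nat.card_congr (K.equivMapOfInjective _ D.C.subtype_injective).toEquiv.symm, hK, hk, pow_add]
    ring
  exact ⟨K.map D.C.subtype, IsPGroup.of_card (n := k + 2) (by rw [hc, hk, pow_add]; ring), hc, map_subtype_le _⟩

theorem card_range_le {H : Subgroup G} (hH : IsPGroup 2 H) (f : H →* alternatingGroup (Fin 5)) :
    Nat.card f.range ≤ 4 := by
  haveI : Fact (Nat.Prime 2) := ⟨Nat.prime_two⟩
  obtain ⟨k, hk⟩ := IsPGroup.iff_card.1 (hH.of_surjective f.rangeRestrict f.rangeRestrict_surjective)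
  have hd : 2 ^ k ∣ 60 := by
    rw [← hk, show (60 : ℕ) = Nat.card (alternatingGroup (Fin 5)) by rw [Nat.card_eq_fintype_card]; rfl]
    exact card_subgroup_dvd_card _
  rw [hk]
  by_contra hlt
  have : 3 ≤ k := by
    by_contra hk3
    interval_cases k <;> norm_num at hlt
  exact absurd ((pow_dvd_pow 2 this).trans hd) (by norm_num)

/-- the centre of the kernel has exponent two -/
theorem centre_sq : ∀ x ∈ F.P ⊓ centralizer (F.P : Set G), x * x = 1 := by
  set Z := F.P ⊓ centralizer (F.P : Set G) with hZ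
  have hcomm : ∀ a ∈ Z, ∀ b ∈ Z, a * b = b * a := fun a ha b hb => (mem_centralizer_iff.1 hb.2 a ha.1)
  let Z0 : Subgroup G :=
    { carrier := {z | z ∈ Z ∧ z * z = 1}
      one_mem' := ⟨one_mem _, one_mul 1⟩
      mul_mem' := fun {a b} ha hb => ⟨mul_mem ha.1 hb.1, by
        rw [(show Commute a b from hcomm a ha.1 b hb.1).symm.mul_mul_mul_comm, ha.2, hb.2, one_mul]⟩
      inv_mem' := fun {a} ha => ⟨inv_mem ha.1, by rw [← mul_inv_rev, ha.2, inv_one]⟩ }
  have hnZ : D.C ≤ normalizer (Z : Set G) := by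
    have key : ∀ c ∈ D.C, ∀ x ∈ Z, c * x * c⁻¹ ∈ Z := by
      intro c hc x hx
      refine ⟨(mem_normalizer_iff.1 (F.C_le_normalizer_P hc) x).1 hx.1, mem_centralizer_iff.2 fun p hp => ?_⟩
      have hp' := (mem_normalizer_iff.1 (F.C_le_normalizer_P (inv_mem hc)) p).1 hp
      have h := congrArg (fun v => c * v * c⁻¹) (mem_centralizer_iff.1 hx.2 _ hp')
      simpa [mul_assoc] using h
    intro c hc
    refine mem_normalizer_iff.2 fun x => ⟨fun hx => key c hc x hx, fun hx => ?_⟩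
    have := key c⁻¹ (inv_mem hc) _ hx
    simpa [mul_assoc] using this
  have hwn : D.el3 ∈ normalizer (Z : Set G) := hnZ D.w_C
  have hu : D.inv2 ∈ Z0 := ⟨⟨F.u_P, mem_centralizer_iff.2 fun p hp => D.mem_C.1 (F.P_le hp)⟩, D.uu⟩
  have hwn0 : D.el3 ∈ normalizer (Z0 : Set G) := by
    refine mem_normalizer_iff.2 fun x => ?_
    have e : D.el3 * x * D.el3⁻¹ * (D.el3 * x * D.el3⁻¹) = D.el3 * (x * x) * D.el3⁻¹ := by group
    show x ∈ Z ∧ x * x = 1 ↔ D.el3 * x * D.el3⁻¹ ∈ Z ∧ D.el3 * x * D.el3⁻¹ * (D.el3 * x * D.el3⁻¹) = 1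
    rw [e, conj_eq_one_iff, ← mem_normalizer_iff.1 hwn x]
  intro x hx
  have hxw : x⁻¹ * (D.el3 * x * D.el3⁻¹) ∈ Z0 := by
    have hx' := (mem_normalizer_iff.1 hwn x).1 hx
    refine ⟨mul_mem (inv_mem hx) hx', ?_⟩
    rw [(show Commute x⁻¹ (D.el3 * x * D.el3⁻¹) from hcomm _ (inv_mem hx) _ hx').symm.mul_mul_mul_comm,
      ← mul_inv_rev, show D.el3 * x * D.el3⁻¹ * (D.el3 * x * D.el3⁻¹) = D.el3 * (x * x) * D.el3⁻¹ by group]
    rcases F.sq_mem hx.1 with e | e <;> rw [e]
    · group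
    · rw [D.comm_uw.symm, mul_inv_cancel_right, inv_mul_cancel]
  have h3 : ¬ 3 ∣ Nat.card Z := fun h => F.three_ndvd (h.trans (card_dvd_of_le inf_le_left))
  have := fixed_quot (by rw [← D.w_ord]; exact pow_orderOf_eq_one _) h3 (show Z0 ≤ Z from fun z hz => hz.1) hwn hwn0
    (fun c hc hcw => ?_) hx hxw
  · exact this.2
  · rcases F.fix_w hc.1 hcw with e | e <;> rw [e]
    · exact one_mem _
    · exact hu

theorem exists_invol (h512 : 512 ≤ Nat.card F.P) : ∃ e ∈ F.P, orderOf e = 2 ∧ e ≠ D.inv2 := by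
  by_contra! hno
  haveI : Fact (Nat.Prime 2) := ⟨Nat.prime_two⟩
  have hun : Cfsg.Agent.Solv.UniqueOrderP 2 F.P := by
    intro x y hx hy hy1
    have key : ∀ z : F.P, z ^ 2 = 1 → z ≠ 1 → (z : G) = D.inv2 := fun z hz hz1 =>
      hno z z.2 (by rw [orderOf_coe]; exact orderOf_eq_prime hz hz1)
    by_cases hx1 : x = 1
    · rw [hx1]; exact one_mem _
    · rw [show x = y from Subtype.ext ((key x hx hx1).trans (key y hy hy1).symm)]
      exact mem_zpowers y
  have hexp : ∀ z : F.P, z ^ 4 = 1 := fun z => Subtype.ext (F.pow_four z.2)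
  rcases Cfsg.Agent.Solv.cyclic_or_quaternion F.isPGroup hun with hc | ⟨-, n, ⟨e⟩⟩
  · obtain ⟨z, hz⟩ := hc.exists_generator
    have h := orderOf_eq_card_of_forall_mem_zpowers hz
    have := Nat.le_of_dvd (by norm_num) (orderOf_dvd_of_pow_eq_one (hexp z))
    omega
  · have h := hexp (e.symm (QuaternionGroup.a 1))
    rw [← map_pow, e.symm.map_eq_one_iff, ← orderOf_dvd_iff_pow_eq_one, QuaternionGroup.orderOf_a_one] at h
    have := Nat.le_of_dvd (by norm_num) h
    have h4 : Nat.card F.P = 4 * 2 ^ n := by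
      rw [Nat.card_congr e.toEquiv, Nat.card_eq_fintype_card, QuaternionGroup.card]
    omega

/-- The kernel has exponent two. -/
theorem elem : ∀ x ∈ F.P, x * x = 1 := by
  set Z := F.P ⊓ centralizer (F.P : Set G) with hZ
  have hnZ : D.C ≤ normalizer (Z : Set G) := by
    have key : ∀ c ∈ D.C, ∀ x ∈ Z, c * x * c⁻¹ ∈ Z := by
      intro c hc x hx
      refine ⟨(mem_normalizer_iff.1 (F.C_le_normalizer_P hc) x).1 hx.1, mem_centralizer_iff.2 fun p hp => ?_⟩
      have hp' := (mem_normalizer_iff.1 (F.C_le_normalizer_P (inv_mem hc)) p).1 hp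
      have h := congrArg (fun v => c * v * c⁻¹) (mem_centralizer_iff.1 hx.2 _ hp')
      simpa [mul_assoc] using h
    intro c hc
    refine mem_normalizer_iff.2 fun x => ⟨fun hx => key c hc x hx, fun hx => ?_⟩
    have := key c⁻¹ (inv_mem hc) _ hx
    simpa [mul_assoc] using this
  have hu : D.inv2 ∈ Z := ⟨F.u_P, mem_centralizer_iff.2 fun p hp => D.mem_C.1 (F.P_le hp)⟩
  obtain ⟨j, hj, -⟩ := F.module Z inf_le_left hnZ hu
  rcases Nat.lt_or_ge j 2 with hj2 | hj2
  · interval_cases j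
    · rw [pow_zero, one_mul] at hj
      intro x hx
      exact F.centre_sq x ((eq_of_le_of_card_ge (inf_le_left : Z ≤ F.P) hj.le).symm ▸ hx)
    · exact F.quad_elem Z inf_le_left hnZ hu F.centre_sq
        (fun k hk x hx => (mem_centralizer_iff.1 hk.2 x hx).symm) (by rw [hj, pow_one])
  exfalso
  have hZ2 : 2 ≤ Nat.card Z := by
    have := Nat.le_of_dvd Nat.card_pos (orderOf_dvd_natCard (⟨D.inv2, hu⟩ : Z))
    rwa [← orderOf_coe, D.u_ord] at this
  have h512 : 512 ≤ Nat.card F.P := by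
    rw [hj]
    have : 16 ^ 2 ≤ 16 ^ j := Nat.pow_le_pow_right (by norm_num) hj2
    nlinarith
  obtain ⟨e, heP, he2, heu⟩ := F.exists_invol h512
  obtain ⟨g, hg⟩ := D.conj_u he2
  -- commutation with the second involution
  set C1 := F.P ⊓ centralizer ({e} : Set G) with hC1
  have hval : ∀ y ∈ F.P, ∀ x ∈ F.P, x * y * x⁻¹ * y⁻¹ ∈ zpowers D.inv2 := fun y hy x hx =>
    D.mem_zu.2 (F.comm_mem hx hy)
  let κ : ∀ y ∈ F.P, F.P →* G := fun y hy =>
    { toFun := fun x => (x : G) * y * (x : G)⁻¹ * y⁻¹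
      map_one' := by simp
      map_mul' := fun a b => by
        have hc : Commute ((b : G) * y * (b : G)⁻¹ * y⁻¹) (a : G) := by
          rcases F.comm_mem b.2 hy with e' | e' <;> rw [e']
          · exact Commute.one_left _
          · exact (D.mem_C.1 (F.P_le a.2)).symm
        have hc2 : Commute ((b : G) * y * (b : G)⁻¹ * y⁻¹) ((a : G) * y * (a : G)⁻¹ * y⁻¹) := by
          rcases F.comm_mem b.2 hy with e' | e' <;> rw [e']
          · exact Commute.one_left _
          · exact (D.mem_C.1 (mul_mem (mul_mem (mul_mem (F.P_le a.2) (F.P_le hy)) (inv_mem (F.P_le a.2)))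
              (inv_mem (F.P_le hy)))).symm
        calc ((a * b : F.P) : G) * y * ((a * b : F.P) : G)⁻¹ * y⁻¹
            = (a : G) * ((b : G) * y * (b : G)⁻¹ * y⁻¹) * (a : G)⁻¹ * ((a : G) * y * (a : G)⁻¹ * y⁻¹) := by
              simp only [coe_mul]; group
          _ = _ := by rw [← hc.eq, mul_inv_cancel_right, hc2.eq] }
  have hrange : ∀ y hy, Nat.card (κ y hy).range ≤ 2 := fun y hy => by
    refine (Nat.le_of_dvd Nat.card_pos (card_dvd_of_le (show (κ y hy).range ≤ zpowers D.inv2 from ?_))).trans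
      (le_of_eq (by rw [Nat.card_zpowers, D.u_ord]))
    rintro _ ⟨x, rfl⟩
    exact hval y hy x x.2
  have hC1card : Nat.card F.P ≤ 2 * Nat.card C1 := by
    have h := (κ e heP).ker.card_mul_index
    rw [index_ker] at h
    rw [← h, mul_comm]
    refine Nat.mul_le_mul (hrange e heP) (le_of_eq ?_)
    refine Nat.card_congr ⟨fun x => ⟨((x : F.P) : G), (x : F.P).2, mem_centralizer_singleton_iff.2
        (mul_inv_eq_one.1 (show ((x : F.P) : G) * e * ((x : F.P) : G)⁻¹ * e⁻¹ = 1 from x.2) |>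
          mul_inv_eq_iff_eq_mul.1)⟩,
      fun x => ⟨⟨x, x.2.1⟩, by
        show (x : G) * e * (x : G)⁻¹ * e⁻¹ = 1
        rw [mem_centralizer_singleton_iff.1 x.2.2, mul_inv_cancel_right, mul_inv_cancel]⟩,
      fun x => rfl, fun x => rfl⟩
  have hmemC : ∀ x : C1, g⁻¹ * (x : G) * g ∈ D.C := fun x => by
    have h := mem_centralizer_singleton_iff.1 x.2.2
    rw [← hg] at h
    have := congrArg (fun v => g⁻¹ * v * g) h
    rw [D.mem_C]
    simpa [mul_assoc] using this
  let ψ : C1 →* alternatingGroup (Fin 5) :=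
    F.φ.comp
      { toFun := fun x => ⟨g⁻¹ * (x : G) * g, hmemC x⟩
        map_one' := Subtype.ext (by simp)
        map_mul' := fun a b => Subtype.ext (by simp [mul_assoc]) }
  set I := ψ.ker.map C1.subtype with hI
  have hIcard : Nat.card F.P ≤ 8 * Nat.card I := by
    have h := ψ.ker.card_mul_index
    rw [index_ker] at h
    have h4 := card_range_le (F.isPGroup.to_le (inf_le_left : C1 ≤ F.P)) ψ
    rw [hI, ← Nat.card_congr (ψ.ker.equivMapOfInjective _ C1.subtype_injective).toEquiv]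
    calc Nat.card F.P ≤ 2 * Nat.card C1 := hC1card
      _ = 2 * (Nat.card ψ.ker * Nat.card ψ.range) := by rw [h]
      _ ≤ 2 * (Nat.card ψ.ker * 4) := by gcongr
      _ = 8 * Nat.card ψ.ker := by ring
  have hIsq : ∀ x ∈ I, x * x = 1 := by
    rintro _ ⟨x, hx, rfl⟩
    have hx' : g⁻¹ * (x : G) * g ∈ F.P := F.mem_P.2 ⟨hmemC x, hx⟩
    rcases F.sq_mem x.2.1 with h1 | h1
    · exact h1
    rcases F.sq_mem hx' with h2 | h2
    · have : (x : G) * x = 1 := by
        have := congrArg (fun v => g * v * g⁻¹) h2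
        simpa [mul_assoc] using this
      exact this
    · exfalso
      refine heu ?_
      calc e = g * D.inv2 * g⁻¹ := hg.symm
        _ = g * (g⁻¹ * (x : G) * g * (g⁻¹ * (x : G) * g)) * g⁻¹ := by rw [h2]
        _ = (x : G) * x := by group
        _ = D.inv2 := h1
  have hIP : I ≤ F.P := (map_subtype_le _).trans inf_le_left
  have hIc : ∀ a ∈ I, ∀ b ∈ I, a * b = b * a := fun a ha b hb => by
    calc a * b = (a * b)⁻¹ := eq_inv_of_mul_eq_one_left (hIsq _ (mul_mem ha hb))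
      _ = b⁻¹ * a⁻¹ := mul_inv_rev a b
      _ = b * a := by rw [← eq_inv_of_mul_eq_one_left (hIsq a ha), ← eq_inv_of_mul_eq_one_left (hIsq b hb)]
  set A := I ⊔ Z
  have hAP : A ≤ F.P := sup_le hIP inf_le_left
  have hAc : A ≤ centralizer (A : Set G) := by
    have h1 : A ≤ centralizer (I : Set G) := sup_le
      (fun a ha => mem_centralizer_iff.2 fun b hb => hIc b hb a ha)
      (fun a ha => mem_centralizer_iff.2 fun b hb => mem_centralizer_iff.1 ha.2 b (hIP hb))
    have h2 : A ≤ centralizer (Z : Set G) := fun a ha => mem_centralizer_iff.2 fun b hb =>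
      (mem_centralizer_iff.1 hb.2 a (hAP ha)).symm
    intro a ha
    refine mem_centralizer_iff.2 fun b hb => ?_
    have : A ≤ centralizer ({a} : Set G) :=
      sup_le (fun i hi => mem_centralizer_singleton_iff.2 (mem_centralizer_iff.1 (h1 ha) i hi))
        (fun i hi => mem_centralizer_singleton_iff.2 (mem_centralizer_iff.1 (h2 ha) i hi))
    exact mem_centralizer_singleton_iff.1 (this hb)
  obtain ⟨x, hx, y, hy, z, hz, hgen⟩ :=
    gen_three hAP (hIcard.trans (Nat.mul_le_mul_left 8 (card_le_of_le le_sup_left)))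
  -- the commutators with the three generators
  let f : A →* G × G × G :=
    ((κ x hx).comp (inclusion hAP)).prod (((κ y hy).comp (inclusion hAP)).prod ((κ z hz).comp (inclusion hAP)))
  have hfr : Nat.card f.range ≤ 8 := by
    have hsub : f.range ≤ (κ x hx).range.prod ((κ y hy).range.prod (κ z hz).range) := by
      rintro _ ⟨a, rfl⟩
      exact ⟨⟨_, rfl⟩, ⟨_, rfl⟩, ⟨_, rfl⟩⟩
    refine (card_le_of_le hsub).trans ?_
    rw [Nat.card_congr (prodEquiv _ _).toEquiv, Nat.card_prod, Nat.card_congr (prodEquiv _ _).toEquiv, Nat.card_prod]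
    exact Nat.mul_le_mul (hrange x hx) (Nat.mul_le_mul (hrange y hy) (hrange z hz))
  have hfk : Nat.card f.ker ≤ Nat.card Z := by
    refine Nat.card_le_card_of_injective (fun a => ⟨((a : A) : G), hAP (a : A).2,
      mem_centralizer_iff.2 fun p hp => ?_⟩) fun a b hab => Subtype.ext (Subtype.ext (congrArg (fun t : Z => (t : G)) hab))
    have ha : f (a : A) = 1 := a.2
    have hcx : ∀ v : G, v ∈ F.P → ((a : A) : G) * v * ((a : A) : G)⁻¹ * v⁻¹ = 1 → v * (a : A) = (a : A) * v :=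
      fun v _ hv => (mul_inv_eq_iff_eq_mul.1 (mul_inv_eq_one.1 hv)).symm
    have hle : F.P ≤ centralizer ({((a : A) : G)} : Set G) := by
      refine hgen.trans (sup_le (sup_le (sup_le (fun b hb => ?_) ?_) ?_) ?_)
      · exact mem_centralizer_singleton_iff.2 (mem_centralizer_iff.1 (hAc (a : A).2) b hb)
      · exact zpowers_le.2 (mem_centralizer_singleton_iff.2 (hcx x hx (congrArg Prod.fst ha)))
      · exact zpowers_le.2 (mem_centralizer_singleton_iff.2 (hcx y hy (congrArg (fun p => p.2.1) ha)))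
      · exact zpowers_le.2 (mem_centralizer_singleton_iff.2 (hcx z hz (congrArg (fun p => p.2.2) ha)))
    exact mem_centralizer_singleton_iff.1 (hle hp)
  have hA : Nat.card A ≤ 8 * Nat.card Z := by
    have h := f.ker.card_mul_index
    rw [index_ker] at h
    rw [← h, mul_comm]
    exact Nat.mul_le_mul hfr hfk
  have h64 : 16 ^ j * Nat.card Z ≤ 64 * Nat.card Z := by
    rw [← hj]
    calc Nat.card F.P ≤ 8 * Nat.card I := hIcard
      _ ≤ 8 * (8 * Nat.card Z) := Nat.mul_le_mul_left 8 ((card_le_of_le le_sup_left).trans hA)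
      _ = 64 * Nat.card Z := by ring
  have : 16 ^ 2 ≤ 16 ^ j := Nat.pow_le_pow_right (by norm_num) hj2
  have := Nat.le_of_mul_le_mul_right h64 Nat.card_pos
  omega

theorem commP {a b : G} (ha : a ∈ F.P) (hb : b ∈ F.P) : a * b = b * a := by
  calc a * b = (a * b)⁻¹ := eq_inv_of_mul_eq_one_left (F.elem _ (mul_mem ha hb))
    _ = b⁻¹ * a⁻¹ := mul_inv_rev a b
    _ = b * a := by rw [← eq_inv_of_mul_eq_one_left (F.elem a ha), ← eq_inv_of_mul_eq_one_left (F.elem b hb)]

/-- An involution of the quotient fixes at most a square root's worth of the kernel. -/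
theorem fix_bound {y : G} (hy : y ∈ D.C) (hyP : y ∉ F.P) (hy2 : y * y ∈ F.P) :
    Nat.card ↥(F.P ⊓ centralizer ({y} : Set G)) ^ 2 ≤ 2 * Nat.card F.P := by
  set a := F.φ ⟨y, hy⟩ with ha
  have ha1 : a ≠ 1 := fun e => hyP (F.mem_P.2 ⟨hy, e⟩)
  have ha2 : a * a = 1 := by
    obtain ⟨_, he⟩ := F.mem_P.1 hy2
    exact (map_mul F.φ ⟨y, hy⟩ ⟨y, hy⟩).symm.trans he
  have hinv : ∀ b : alternatingGroup (Fin 5), b ≠ 1 → b * b = 1 →
      ∃ g h, g * b * g⁻¹ = b * (h * FiveModule.w0 * h⁻¹) := by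
    decide +kernel
  obtain ⟨g, h, hgh⟩ := hinv a ha1 ha2
  obtain ⟨c, hc⟩ := F.surj g
  obtain ⟨d, hd⟩ := F.surj h
  set w' : G := (d : G) * D.el3 * (d : G)⁻¹ with hw'
  have hp : (c : G) * y * (c : G)⁻¹ * (y * w')⁻¹ ∈ F.P := by
    refine F.mem_P.2 ⟨mul_mem (mul_mem (mul_mem c.2 hy) (inv_mem c.2))
      (inv_mem (mul_mem hy (mul_mem (mul_mem d.2 D.w_C) (inv_mem d.2)))), ?_⟩
    show F.φ (c * ⟨y, hy⟩ * c⁻¹ * (⟨y, hy⟩ * (d * ⟨D.el3, D.w_C⟩ * d⁻¹))⁻¹) = 1
    simp only [map_mul, map_inv, hc, hd, F.hw, ← ha]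
    rw [mul_inv_eq_one]; exact hgh
  set D1 := F.P ⊓ centralizer ({y} : Set G) with hD1
  set D2 := F.P ⊓ centralizer ({(c : G) * y * (c : G)⁻¹} : Set G) with hD2
  have hcard : Nat.card D2 = Nat.card D1 := by
    refine Nat.card_congr (Equiv.subtypeEquiv (MulAut.conj (c : G)).symm.toEquiv fun x => ?_)
    show x ∈ D2 ↔ (c : G)⁻¹ * x * c ∈ D1
    rw [hD1, hD2, mem_inf, mem_inf, mem_centralizer_singleton_iff, mem_centralizer_singleton_iff]
    refine and_congr ?_ ⟨fun h => ?_, fun h => ?_⟩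
    · have := mem_normalizer_iff.1 (F.C_le_normalizer_P (inv_mem c.2)) x
      rwa [inv_inv] at this
    · have := congrArg (fun v => (c : G)⁻¹ * v * c) h
      simpa [mul_assoc] using this
    · have := congrArg (fun v => (c : G) * v * (c : G)⁻¹) h
      simpa [mul_assoc] using this
  have hmeet : D1 ⊓ D2 ≤ zpowers D.inv2 := by
    rintro x ⟨hx1, hx2⟩
    have h1 : x * y = y * x := mem_centralizer_singleton_iff.1 hx1.2
    have h2 : x * ((c : G) * y * (c : G)⁻¹) = (c : G) * y * (c : G)⁻¹ * x := mem_centralizer_singleton_iff.1 hx2.2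
    have h3 : Commute x w' := by
      have e : w' = y⁻¹ * (((c : G) * y * (c : G)⁻¹ * (y * w')⁻¹)⁻¹ * ((c : G) * y * (c : G)⁻¹)) := by group
      rw [e]
      exact (show Commute x y from h1).inv_right.mul_right
        ((show Commute x _ from F.commP hx1.1 hp).inv_right.mul_right h2)
    have hx' : (d : G)⁻¹ * x * d ∈ F.P := by
      have := (mem_normalizer_iff.1 (F.C_le_normalizer_P (inv_mem d.2)) x).1 hx1.1
      rwa [inv_inv] at this
    have hfw : (d : G)⁻¹ * x * d * D.el3 = D.el3 * ((d : G)⁻¹ * x * d) := by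
      have := congrArg (fun v => (d : G)⁻¹ * v * d) h3.eq
      simpa [hw', mul_assoc] using this
    rcases F.fix_w hx' hfw with e | e
    · have := congrArg (fun v => (d : G) * v * (d : G)⁻¹) e
      exact D.mem_zu.2 (Or.inl (by simpa [mul_assoc] using this))
    · have := congrArg (fun v => (d : G) * v * (d : G)⁻¹) e
      refine D.mem_zu.2 (Or.inr ?_)
      rw [show x = (d : G) * D.inv2 * (d : G)⁻¹ by simpa [mul_assoc] using this, D.mem_C.1 d.2, mul_inv_cancel_right]
  have hnorm : D2 ≤ normalizer (D1 : Set G) := fun x hx => mem_normalizer_iff.2 fun z => by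
    constructor
    · intro hz
      rw [F.commP hx.1 hz.1, mul_inv_cancel_right]; exact hz
    · intro hz
      have hz' : z ∈ F.P := by
        have := mul_mem (mul_mem (F.P.inv_mem (show x ∈ F.P from hx.1)) hz.1) hx.1
        simpa [mul_assoc] using this
      rwa [F.commP hx.1 hz', mul_inv_cancel_right] at hz
  have h := Cfsg.Agent.Solv.card_sup_mul_card_inf' D1 D2 hnorm
  rw [hcard] at h
  calc Nat.card D1 ^ 2 = Nat.card ↥(D1 ⊔ D2) * Nat.card ↥(D1 ⊓ D2) := by rw [pow_two, h]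
    _ ≤ Nat.card F.P * 2 := Nat.mul_le_mul (card_le_of_le (sup_le inf_le_left inf_le_left))
        ((card_le_of_le hmeet).trans (le_of_eq (by rw [Nat.card_zpowers, D.u_ord])))
    _ = 2 * Nat.card F.P := mul_comm _ _

end FiveCtx

end Cfsg.Agent.Char.OrderSix
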