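import Mathlib

/-!
# Modules of exponent two for the alternating group of degree five without fixed points of order three
-/

set_option autoImplicit false
set_option linter.unusedSectionVars false
set_option linter.style.haveILetI false

namespace Cfsg.Agent.Char.OrderSix.FiveModule

open Equiv (swap)

abbrev A5 : Type := alternatingGroup (Fin 5)

/-- a three-cycle -/
def w0 : A5 := ⟨swap 0 1 * swap 1 2, Equiv.Perm.mem_alternatingGroup.2 (by decide +kernel)⟩
/-- an involution inverting it -/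
def a0 : A5 := ⟨swap 1 2 * swap 3 4, Equiv.Perm.mem_alternatingGroup.2 (by decide +kernel)⟩
/-- an involution commuting with it -/
def b0 : A5 := ⟨swap 1 3 * swap 2 4, Equiv.Perm.mem_alternatingGroup.2 (by decide +kernel)⟩
/-- a three-cycle permuting the four-group of the two involutions -/
def r0 : A5 := ⟨swap 2 3 * swap 3 4, Equiv.Perm.mem_alternatingGroup.2 (by decide +kernel)⟩
/-- a five-cycle -/
def s0 : A5 := ⟨swap 0 1 * swap 1 2 * swap 2 3 * swap 3 4, Equiv.Perm.mem_alternatingGroup.2 (by decide +kernel)⟩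

theorem w0_pow : w0 ^ 3 = 1 ∧ w0 ≠ 1 := by decide +kernel

theorem s0_pow : s0 ^ 5 = 1 ∧ s0 ≠ 1 := by decide +kernel

theorem a0_two : a0 * a0 = 1 ∧ b0 * b0 = 1 ∧ a0 * b0 = b0 * a0 := by decide +kernel

theorem conj_three : ∀ y : A5, y ^ 3 = 1 → y ≠ 1 → ∃ g : A5, g * w0 * g⁻¹ = y := by decide +kernel

theorem conj_five : ∀ y : A5, y ^ 5 = 1 → y ≠ 1 →
    ∃ g : A5, g * s0 * g⁻¹ = y ∨ g * (s0 * s0) * g⁻¹ = y := by decide +kernel

theorem r0_act : r0 ^ 3 = 1 ∧ r0 ≠ 1 ∧ ((r0 * a0 = b0 * r0 ∧ r0 * b0 = a0 * b0 * r0) ∨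
    (r0 * a0 = a0 * b0 * r0 ∧ r0 * b0 = a0 * r0)) := by decide +kernel

theorem pair_conj : (a0 * w0) * (a0 * w0) = 1 ∧ ∃ g : A5, g * a0 * g⁻¹ = a0 * w0 := by decide +kernel

theorem top_of_fix {V : Type*} [CommGroup V] (ρ : A5 →* MulAut V) (hw : ∀ v, ρ w0 v = v → v = 1)
    {y : A5} (hy : y ^ 3 = 1) (hy1 : y ≠ 1) {v : V} (hv : ρ y v = v) : v = 1 := by
  obtain ⟨g, rfl⟩ := conj_three y hy hy1
  rw [map_mul, map_mul, MulAut.mul_apply, MulAut.mul_apply] at hv
  have h := congrArg (ρ g⁻¹) hv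
  rw [← MulAut.mul_apply, ← map_mul, inv_mul_cancel, map_one, MulAut.one_apply] at h
  have := congrArg (ρ g) (hw _ h)
  rwa [map_one, ← MulAut.mul_apply, ← map_mul, mul_inv_cancel, map_one, MulAut.one_apply] at this

variable {V : Type*} [CommGroup V] [Finite V]

/-- the fixed points of an operator -/
def fixed (ρ : A5 →* MulAut V) (z : A5) : Subgroup V := (ρ z).toMonoidHom.eqLocus (MonoidHom.id V)

theorem mem_fixed {ρ : A5 →* MulAut V} {z : A5} {v : V} : v ∈ fixed ρ z ↔ ρ z v = v := Iff.rfl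

/-- one plus an operator -/
def norm1 (ρ : A5 →* MulAut V) (z : A5) : V →* V where
  toFun v := v * ρ z v
  map_one' := by rw [map_one, mul_one]
  map_mul' a b := by rw [map_mul]; exact mul_mul_mul_comm a b _ _

theorem ker_norm1 {ρ : A5 →* MulAut V} (h2 : ∀ v : V, v * v = 1) (z : A5) :
    (norm1 ρ z).ker = fixed ρ z := by
  ext v
  show v * ρ z v = 1 ↔ ρ z v = v
  rw [mul_eq_one_iff_inv_eq, inv_eq_of_mul_eq_one_right (h2 v), eq_comm]

theorem card_mod {ρ : A5 →* MulAut V} (hw : ∀ v, ρ w0 v = v → v = 1) {y : A5} (hy : y ^ 3 = 1) (hy1 : y ≠ 1)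
    (K : Subgroup V) (hK : ∀ v ∈ K, ρ y v ∈ K) : Nat.card K % 3 = 1 := by
  classical
  haveI : Fact (Nat.Prime 3) := ⟨Nat.prime_three⟩
  letI : Fintype K := Fintype.ofFinite K
  let f : K → K := fun v => ⟨ρ y v, hK v v.2⟩
  have hy' : ∀ v : V, ρ y (ρ y (ρ y v)) = v := fun v => by
    rw [← MulAut.mul_apply, ← MulAut.mul_apply, ← map_mul, ← map_mul, ← pow_two, ← pow_succ, hy, map_one,
      MulAut.one_apply]
  let e : Equiv.Perm K := ⟨f, fun v => f (f v), fun v => Subtype.ext (hy' v), fun v => Subtype.ext (hy' v)⟩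
  have hpow : e ^ 3 ^ 1 = 1 := Equiv.ext fun v => Subtype.ext (hy' v)
  have hfix := Equiv.Perm.card_compl_support_modEq (p := 3) (n := 1) hpow
  rw [← Nat.card_eq_fintype_card] at hfix
  have h1 : e.supportᶜ = {1} := by
    ext v
    rw [Finset.mem_compl, Equiv.Perm.notMem_support, Finset.mem_singleton]
    exact ⟨fun h => Subtype.ext (top_of_fix ρ hw hy hy1 (congrArg Subtype.val h)),
      fun h => by subst h; exact Subtype.ext (map_one (ρ y))⟩
  rw [h1, Finset.card_singleton] at hfix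
  exact hfix.symm

theorem two_pow_mod {i : ℕ} (h : 2 ^ i % 3 = 1) : ∃ j, i = 2 * j := by
  obtain ⟨j, hj | hj⟩ := Nat.even_or_odd' i
  · exact ⟨j, hj⟩
  · exfalso
    rw [hj, pow_succ, pow_mul, Nat.mul_mod, Nat.pow_mod] at h
    norm_num at h

/-- The order of the module is a power of sixteen. -/
theorem card_pow (ρ : A5 →* MulAut V) (h2 : ∀ v : V, v * v = 1) (hw : ∀ v, ρ w0 v = v → v = 1) :
    ∃ k, Nat.card V = 16 ^ k := by
  haveI : Fact (Nat.Prime 2) := ⟨Nat.prime_two⟩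
  have hp : IsPGroup 2 V := fun v => ⟨1, by rw [pow_one, pow_two, h2]⟩
  have hsplit : ∀ z, z * z = 1 → Nat.card V = Nat.card (fixed ρ z) * Nat.card (norm1 ρ z).range ∧
      (norm1 ρ z).range ≤ fixed ρ z := by
    intro z hz
    refine ⟨?_, ?_⟩
    · rw [← ker_norm1 h2, ← Subgroup.index_ker (norm1 ρ z), Subgroup.card_mul_index]
    · rintro _ ⟨v, rfl⟩
      show ρ z (v * ρ z v) = v * ρ z v
      rw [map_mul, ← MulAut.mul_apply, ← map_mul, hz, map_one, MulAut.one_apply, mul_comm]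
  obtain ⟨hab, g, hg⟩ := pair_conj
  have hconj : Nat.card (fixed ρ a0) = Nat.card (fixed ρ (a0 * w0)) := by
    refine Nat.card_congr (Equiv.subtypeEquiv (ρ g).toEquiv fun v => ?_)
    show ρ a0 v = v ↔ ρ (a0 * w0) (ρ g v) = ρ g v
    rw [← hg, ← MulAut.mul_apply, ← map_mul, inv_mul_cancel_right, map_mul, MulAut.mul_apply,
      (ρ g).injective.eq_iff]
  have hle : Nat.card (fixed ρ a0) * Nat.card (fixed ρ (a0 * w0)) ≤ Nat.card V := by
    rw [← Nat.card_prod]
    refine Nat.card_le_card_of_injective (fun p => (p.1 : V) * p.2) fun p q h => ?_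
    have h' : (q.1 : V)⁻¹ * p.1 = q.2 * (p.2 : V)⁻¹ := by
      rw [inv_mul_eq_iff_eq_mul, ← mul_assoc, eq_mul_inv_iff_mul_eq]; exact h
    have hz1 : (q.1 : V)⁻¹ * p.1 ∈ fixed ρ a0 := mul_mem (inv_mem q.1.2) p.1.2
    have hz2 : (q.1 : V)⁻¹ * p.1 ∈ fixed ρ (a0 * w0) := h' ▸ mul_mem q.2.2 (inv_mem p.2.2)
    have hz : (q.1 : V)⁻¹ * p.1 = 1 := by
      refine hw _ ?_
      have e : w0 = a0 * (a0 * w0) := by rw [← mul_assoc, a0_two.1, one_mul]
      rw [congrArg ρ e, map_mul ρ, MulAut.mul_apply, mem_fixed.1 hz2, mem_fixed.1 hz1]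
    refine Prod.ext (Subtype.ext (inv_mul_eq_one.1 hz).symm) (Subtype.ext ?_)
    rw [hz] at h'
    exact (mul_inv_eq_one.1 h'.symm).symm
  obtain ⟨hV, hrange⟩ := hsplit a0 a0_two.1
  have hsq : Nat.card V = Nat.card (fixed ρ a0) * Nat.card (fixed ρ a0) := by
    refine le_antisymm ?_ (by rwa [← hconj] at hle)
    rw [hV]
    exact Nat.mul_le_mul_left _ (Nat.card_le_card_of_injective _ (Subgroup.inclusion_injective hrange))
  have hrange' : (norm1 ρ a0).range = fixed ρ a0 := by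
    refine Subgroup.eq_of_le_of_card_ge hrange (le_of_eq ?_)
    have := hV.symm.trans hsq
    exact (Nat.eq_of_mul_eq_mul_left Nat.card_pos this).symm
  -- the restriction of the second operator to the fixed points of the first
  set h := (norm1 ρ b0).comp (fixed ρ a0).subtype with hh
  obtain ⟨hr3, hr1, hr⟩ := r0_act
  have hswap : ∀ (x y : A5) (v : V), r0 * x = y * r0 → ρ r0 (ρ x v) = ρ y (ρ r0 v) := fun x y v e => by
    rw [← MulAut.mul_apply, ← map_mul, e, map_mul, MulAut.mul_apply]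
  have hker : Nat.card h.ker % 3 = 1 := by
    rw [← Nat.card_congr (h.ker.equivMapOfInjective _ (fixed ρ a0).subtype_injective).toEquiv.symm]
    refine card_mod hw hr3 hr1 _ ?_
    rintro _ ⟨⟨v, hv⟩, hvk, rfl⟩
    have hvb : ρ b0 v = v := by
      have : v ∈ (norm1 ρ b0).ker := hvk
      rwa [ker_norm1 h2] at this
    have hva : ρ a0 v = v := hv
    have hvab : ρ (a0 * b0) v = v := by rw [map_mul, MulAut.mul_apply, hvb, hva]
    obtain ⟨ha, hb⟩ : ρ a0 (ρ r0 v) = ρ r0 v ∧ ρ b0 (ρ r0 v) = ρ r0 v := by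
      rcases hr with ⟨e1, e2⟩ | ⟨e1, e2⟩
      · have h1 := hswap _ _ v e1
        have h2' := hswap _ _ v e2
        rw [hva] at h1; rw [hvb, map_mul, MulAut.mul_apply, ← h1] at h2'
        exact ⟨h2'.symm, h1.symm⟩
      · have h1 := hswap _ _ v e1
        have h2' := hswap _ _ v e2
        rw [hvb] at h2'; rw [hva, map_mul, MulAut.mul_apply] at h1
        refine ⟨h2'.symm, (ρ a0).injective ?_⟩
        rw [← h1]
        exact h2'
    refine ⟨⟨ρ r0 v, ha⟩, ?_, rfl⟩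
    show ρ r0 v ∈ (norm1 ρ b0).ker
    rw [ker_norm1 h2]
    exact hb
  have hran : Nat.card h.range % 3 = 1 := by
    refine card_mod hw hr3 hr1 _ ?_
    rintro _ ⟨⟨v, hv⟩, rfl⟩
    have hv' : v ∈ (norm1 ρ a0).range := hrange'.symm ▸ hv
    obtain ⟨x, rfl⟩ := hv'
    have hN : ∀ x : V, h ⟨norm1 ρ a0 x, hrange ⟨x, rfl⟩⟩ =
        x * ρ a0 x * (ρ b0 x * ρ (a0 * b0) x) := fun x => by
      show x * ρ a0 x * ρ b0 (x * ρ a0 x) = _
      have hc : ρ b0 (ρ a0 x) = ρ (a0 * b0) x := by rw [a0_two.2.2, map_mul ρ, MulAut.mul_apply]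
      rw [map_mul (ρ b0), hc]
    refine ⟨⟨norm1 ρ a0 (ρ r0 x), hrange ⟨_, rfl⟩⟩, ?_⟩
    have perm : ∀ p a b c : V, p * a * (b * c) = p * b * (c * a) ∧ p * a * (b * c) = p * c * (a * b) :=
      fun p a b c => ⟨by rw [mul_assoc, mul_assoc, mul_comm a (b * c), mul_assoc],
        by rw [mul_assoc, mul_assoc, mul_comm c (a * b), mul_assoc]⟩
    rw [hN, hN, map_mul (ρ r0), map_mul (ρ r0), map_mul (ρ r0)]
    rcases hr with ⟨e1, e2⟩ | ⟨e1, e2⟩
    · have e3 : r0 * (a0 * b0) = a0 * r0 := by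
        rw [← mul_assoc, e1, mul_assoc, e2, ← mul_assoc, ← mul_assoc, ← a0_two.2.2, mul_assoc a0 b0 b0,
          a0_two.2.1, mul_one]
      rw [hswap _ _ x e1, hswap _ _ x e2, hswap _ _ x e3]
      exact (perm _ _ _ _).1
    · have e3 : r0 * (a0 * b0) = b0 * r0 := by
        rw [← mul_assoc, e1, mul_assoc, e2, ← mul_assoc, a0_two.2.2, mul_assoc b0 a0 a0, a0_two.1, mul_one]
      rw [hswap _ _ x e1, hswap _ _ x e2, hswap _ _ x e3]
      exact (perm _ _ _ _).2
  have hcf : Nat.card (fixed ρ a0) = Nat.card h.ker * Nat.card h.range := by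
    rw [← Subgroup.index_ker h, Subgroup.card_mul_index]
  obtain ⟨i, hi⟩ := IsPGroup.iff_card.1 ((hp.to_subgroup (fixed ρ a0)).to_subgroup h.ker)
  obtain ⟨j, hj⟩ := IsPGroup.iff_card.1 (hp.to_subgroup h.range)
  rw [hi] at hker; rw [hj] at hran
  obtain ⟨i', rfl⟩ := two_pow_mod hker
  obtain ⟨j', rfl⟩ := two_pow_mod hran
  refine ⟨i' + j', ?_⟩
  rw [hsq, hcf, hi, hj, show (16 : ℕ) = 2 ^ 4 from rfl, ← pow_mul, ← pow_add, ← pow_add]
  congr 1
  ring

/-- A module of order sixteen is transitive on its nonidentity elements. -/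
theorem transitive (ρ : A5 →* MulAut V) (h2 : ∀ v : V, v * v = 1) (hw : ∀ v, ρ w0 v = v → v = 1)
    (hV : Nat.card V = 16) {v v' : V} (hv : v ≠ 1) (hv' : v' ≠ 1) : ∃ g, ρ g v = v' := by
  classical
  haveI : Fact (Nat.Prime 5) := ⟨by norm_num⟩
  haveI : Fact (Nat.Prime 2) := ⟨Nat.prime_two⟩
  haveI : Fact (Nat.Prime 3) := ⟨Nat.prime_three⟩
  letI : MulAction A5 V := MulAction.compHom V ρ
  letI : Fintype V := Fintype.ofFinite V
  have hp : IsPGroup 2 V := fun v => ⟨1, by rw [pow_one, pow_two, h2]⟩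
  have hno5 : ∀ s : A5, s ^ 5 = 1 → s ≠ 1 → ∀ x : V, ρ s x = x → x = 1 := by
    intro s hs hs1 x hx
    set F : Subgroup V := fixed ρ s
    obtain ⟨j, hj⟩ := IsPGroup.iff_card.1 (hp.to_subgroup F)
    have hPG : IsPGroup 5 (Subgroup.zpowers s) :=
      IsPGroup.of_card (n := 1) (by rw [Nat.card_zpowers, orderOf_eq_prime hs hs1, pow_one])
    have hmod := hPG.card_modEq_card_fixedPoints V
    have hfix : MulAction.fixedPoints (Subgroup.zpowers s) V = (F : Set V) := by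
      ext y
      refine ⟨fun h => h ⟨s, Subgroup.mem_zpowers s⟩, fun h g => ?_⟩
      have hstab : s ∈ MulAction.stabilizer A5 y := h
      exact (Subgroup.zpowers_le.2 hstab) g.2
    rw [hfix, hV, show Nat.card (F : Set V) = Nat.card F from rfl, hj] at hmod
    have hj4 : j ≤ 4 := by
      have : 2 ^ j ≤ 2 ^ 4 := by
        rw [← hj, show (2 : ℕ) ^ 4 = Nat.card V by rw [hV]; rfl]; exact Subgroup.card_le_card_group F
      exact (Nat.pow_le_pow_iff_right Nat.one_lt_two).1 this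
    interval_cases j
    · have hF : F = ⊥ := Subgroup.card_eq_one.1 hj
      exact Subgroup.mem_bot.1 (hF ▸ hx)
    · exact absurd hmod (by decide)
    · exact absurd hmod (by decide)
    · exact absurd hmod (by decide)
    · exfalso
      have hF : F = ⊤ := Subgroup.eq_top_of_card_eq _ (by rw [hj, hV]; rfl)
      have hs' : s ∈ ρ.ker := MonoidHom.mem_ker.2 (MulEquiv.ext fun y => (hF ▸ Subgroup.mem_top y : y ∈ F))
      rcases Subgroup.Normal.eq_bot_or_eq_top (inferInstance : ρ.ker.Normal) with h | h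
      · exact hs1 (Subgroup.mem_bot.1 (h ▸ hs'))
      · exact hv (hw v (by
          rw [show ρ w0 = 1 from MonoidHom.mem_ker.1 (h ▸ Subgroup.mem_top w0), MulAut.one_apply]))
  have hcop : ∀ p : ℕ, [Fact p.Prime] → (p = 3 ∨ p = 5) → ¬ p ∣ Nat.card (MulAction.stabilizer A5 v) := by
    intro p _ hp' hdvd
    obtain ⟨y, hy⟩ := exists_prime_orderOf_dvd_card' p hdvd
    have hy1 : (y : A5) ≠ 1 := fun h => by
      rw [← Subgroup.orderOf_coe, h, orderOf_one] at hy; omega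
    have hyv : ρ (y : A5) v = v := y.2
    have hyp : (y : A5) ^ p = 1 := by rw [← hy, ← Subgroup.orderOf_coe, pow_orderOf_eq_one]
    rcases hp' with rfl | rfl
    · exact hv (top_of_fix ρ hw hyp hy1 hyv)
    · exact hv (hno5 _ hyp hy1 v hyv)
  have hA : Nat.card A5 = 60 := by rw [Nat.card_eq_fintype_card]; rfl
  have hdvd : Nat.card (MulAction.stabilizer A5 v) ∣ 4 := by
    have h60 : Nat.card (MulAction.stabilizer A5 v) ∣ 4 * 15 := by
      show _ ∣ 60
      rw [← hA]; exact Subgroup.card_subgroup_dvd_card _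
    refine Nat.Coprime.dvd_of_dvd_mul_right ?_ h60
    exact Nat.Coprime.mul_right (Nat.Prime.coprime_iff_not_dvd Nat.prime_three |>.2 (hcop 3 (Or.inl rfl))).symm
      (Nat.Prime.coprime_iff_not_dvd (p := 5) (by norm_num) |>.2 (hcop 5 (Or.inr rfl))).symm
  have horb : 15 ≤ Nat.card (MulAction.orbit A5 v) := by
    have h := Nat.card_congr (MulAction.orbitProdStabilizerEquivGroup A5 v)
    rw [Nat.card_prod, hA] at h
    have := Nat.le_of_dvd (by norm_num) hdvd
    nlinarith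
  by_contra! hno
  have hsub : MulAction.orbit A5 v ⊆ ({1, v'} : Set V)ᶜ := by
    rintro _ ⟨g, rfl⟩ (h | h)
    · exact hv ((ρ g).map_eq_one_iff.1 h)
    · exact hno g h
  have hle := Nat.card_mono (Set.toFinite _) hsub
  rw [Nat.card_coe_set_eq ({1, v'}ᶜ : Set V), Set.ncard_compl, Set.ncard_pair hv'.symm, hV] at hle
  omega

/-- A quadratic map constant off the identity vanishes in dimension at least three. -/
theorem quad_const {M : Type*} [Group M] (q : V → M) (hV : 8 ≤ Nat.card V)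
    (hconst : ∀ x y : V, x ≠ 1 → y ≠ 1 → q x = q y)
    (hb : ∀ a b d : V, q (a * (b * d)) * (q a * q (b * d))⁻¹ =
      q (a * b) * (q a * q b)⁻¹ * (q (a * d) * (q a * q d)⁻¹)) {x : V} (hx : x ≠ 1) : q x = 1 := by
  obtain ⟨a, -, ha⟩ : ∃ a ∈ (Set.univ : Set V), a ∉ ({1} : Set V) :=
    ⟨x, trivial, hx⟩
  obtain ⟨b, -, hb1⟩ := Set.exists_mem_notMem_of_ncard_lt_ncard (s := ({1, a, a⁻¹} : Set V)) (t := Set.univ)
    (by
      rw [Set.ncard_univ]
      calc _ ≤ Set.ncard ({a, a⁻¹} : Set V) + 1 := Set.ncard_insert_le _ _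
        _ ≤ Set.ncard ({a⁻¹} : Set V) + 1 + 1 := by gcongr; exact Set.ncard_insert_le _ _
        _ < _ := by rw [Set.ncard_singleton]; omega) (Set.toFinite _)
  obtain ⟨d, -, hd⟩ := Set.exists_mem_notMem_of_ncard_lt_ncard (t := Set.univ)
    (s := ({1, a⁻¹, b⁻¹, (a * b)⁻¹} : Set V))
    (by
      rw [Set.ncard_univ]
      calc _ ≤ Set.ncard ({a⁻¹, b⁻¹, (a * b)⁻¹} : Set V) + 1 := Set.ncard_insert_le _ _
        _ ≤ Set.ncard ({b⁻¹, (a * b)⁻¹} : Set V) + 1 + 1 := by gcongr; exact Set.ncard_insert_le _ _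
        _ ≤ Set.ncard ({(a * b)⁻¹} : Set V) + 1 + 1 + 1 := by gcongr; exact Set.ncard_insert_le _ _
        _ < _ := by rw [Set.ncard_singleton]; omega) (Set.toFinite _)
  simp only [Set.mem_insert_iff, Set.mem_singleton_iff, not_or] at ha hb1 hd
  have hab : a * b ≠ 1 := fun h => hb1.2.2 (eq_inv_of_mul_eq_one_right h)
  have had : a * d ≠ 1 := fun h => hd.2.1 (eq_inv_of_mul_eq_one_right h)
  have hbd : b * d ≠ 1 := fun h => hd.2.2.1 (eq_inv_of_mul_eq_one_right h)
  have habd : a * (b * d) ≠ 1 := fun h => hd.2.2.2 (eq_inv_of_mul_eq_one_right (by rw [mul_assoc]; exact h))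
  have h := hb a b d
  rw [hconst _ x habd hx, hconst _ x ha hx, hconst _ x hbd hx, hconst _ x hab hx, hconst _ x hb1.1 hx,
    hconst _ x had hx, hconst _ x hd.1 hx] at h
  simpa [mul_inv_rev] using h

end Cfsg.Agent.Char.OrderSix.FiveModule
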