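import Cfsg.Agent.Lib.Char.OrderSix.Setup
import Cfsg.Agent.Lib.Solv.Coprime

/-!
# Coprime fixed points and small tools
-/

set_option autoImplicit false
set_option linter.unusedSectionVars false
set_option linter.style.haveILetI false

open Cfsg Subgroup

namespace Cfsg.Agent.Char.OrderSix

universe u
variable {G : Type u} [Group G] [Finite G]

/-- a coset fixed by an element of order three contains a fixed element -/
theorem fixed_quot {P K : Subgroup G} {w : G} (hw3 : w ^ 3 = 1) (h3 : ¬ 3 ∣ Nat.card P) (hKP : K ≤ P)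
    (hwP : w ∈ normalizer (P : Set G)) (hwK : w ∈ normalizer (K : Set G))
    (hfix : ∀ c ∈ P, c * w = w * c → c ∈ K) {x : G} (hx : x ∈ P) (hxw : x⁻¹ * (w * x * w⁻¹) ∈ K) : x ∈ K := by
  haveI : IsMulCommutative (zpowers w) :=
    ⟨⟨fun a b => Subtype.ext (by
      obtain ⟨i, hi⟩ := mem_zpowers_iff.1 a.2; obtain ⟨j, hj⟩ := mem_zpowers_iff.1 b.2
      show (a : G) * b = b * a
      rw [← hi, ← hj]; exact (Commute.zpow_zpow_self w i j).eq)⟩⟩
  have hco : (Nat.card (zpowers w)).Coprime (Nat.card P) := by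
    rw [Nat.card_zpowers]
    exact Nat.Coprime.coprime_dvd_left (orderOf_dvd_of_pow_eq_one hw3)
      ((Nat.Prime.coprime_iff_not_dvd Nat.prime_three).2 h3)
  have hsol : Group.IsSolvable (zpowers w) := Group.isSolvable_of_comm fun a b => mul_comm' a b
  have hinv : ∀ a ∈ zpowers w, x⁻¹ * (a * x * a⁻¹) ∈ K := by
    let A : Subgroup G :=
      { carrier := {a | a ∈ normalizer (K : Set G) ∧ x⁻¹ * (a * x * a⁻¹) ∈ K}
        one_mem' := ⟨one_mem _, by simp⟩
        mul_mem' := fun {a b} ha hb => ⟨mul_mem ha.1 hb.1, by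
          have e : x⁻¹ * (a * b * x * (a * b)⁻¹) =
              x⁻¹ * (a * x * a⁻¹) * (a * (x⁻¹ * (b * x * b⁻¹)) * a⁻¹) := by group
          rw [e]; exact mul_mem ha.2 ((mem_normalizer_iff.1 ha.1 _).1 hb.2)⟩
        inv_mem' := fun {a} ha => ⟨inv_mem ha.1, by
          have e : x⁻¹ * (a⁻¹ * x * a⁻¹⁻¹) = a⁻¹ * (x⁻¹ * (a * x * a⁻¹))⁻¹ * a⁻¹⁻¹ := by group
          rw [e]; exact (mem_normalizer_iff.1 (inv_mem ha.1) _).1 (inv_mem ha.2)⟩ }
    exact fun a ha => ((zpowers_le.2 (show w ∈ A from ⟨hwK, hxw⟩)) ha).2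
  obtain ⟨c, ⟨hcP, hcw⟩, hxc⟩ := Cfsg.Agent.Solv.exists_fixed_in_coset' (zpowers w) P K (zpowers_le.2 hwP) hco
    (Or.inl hsol) hKP (zpowers_le.2 hwK) hx hinv
  have hcK := hfix c hcP (mem_centralizer_iff.1 hcw w (mem_zpowers w)).symm
  have := mul_mem hcK (inv_mem hxc)
  rwa [mul_inv_rev, inv_inv, mul_inv_cancel_left] at this

end Cfsg.Agent.Char.OrderSix
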