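import Cfsg.Agent.Lib.Char.OrderSix.Lifts
import Cfsg.Agent.Lib.Char.OrderSix.Module
import Cfsg.Agent.Lib.Char.OrderSix.Tools

/-!
# A centraliser with quotient the alternating group of degree five: the module
-/

set_option autoImplicit false
set_option linter.unusedSectionVars false
set_option linter.style.haveILetI false

open Cfsg Subgroup
open scoped commutatorElement

namespace Cfsg.Agent.Char.OrderSix

universe u
variable {G : Type u} [Group G] [Finite G]

/-- The quotient map onto the alternating group with a nontrivial elementary kernel. -/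
structure FiveCtx (D : Ctx G) where
  φ : D.C →* alternatingGroup (Fin 5)
  surj : Function.Surjective φ
  hu : D.inC ∈ φ.ker
  hsq : ∀ x ∈ φ.ker, ∀ y ∈ φ.ker, x * x ∈ zpowers D.inC ∧ ⁅x, y⁆ ∈ zpowers D.inC
  hw : φ ⟨D.el3, D.w_C⟩ = FiveModule.w0

namespace FiveCtx

variable {D : Ctx G} (F : FiveCtx D)

/-- the kernel in the whole group -/
def P : Subgroup G := F.φ.ker.map D.C.subtype

theorem P_le : F.P ≤ D.C := map_subtype_le _

theorem mem_P {x : G} : x ∈ F.P ↔ ∃ h : x ∈ D.C, F.φ ⟨x, h⟩ = 1 :=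
  ⟨fun ⟨y, hy, e⟩ => ⟨e ▸ y.2, by subst e; exact hy⟩, fun ⟨h, e⟩ => ⟨⟨x, h⟩, e, rfl⟩⟩

theorem u_P : D.inv2 ∈ F.P := ⟨D.inC, F.hu, rfl⟩

theorem C_le_normalizer_P : D.C ≤ normalizer (F.P : Set G) := by
  intro c hc
  rw [mem_normalizer_iff]
  have key : ∀ d : D.C, ∀ x ∈ F.P, (d : G) * x * (d : G)⁻¹ ∈ F.P := by
    rintro d _ ⟨y, hy, rfl⟩
    exact ⟨_, (inferInstance : F.φ.ker.Normal).conj_mem y hy d, rfl⟩
  refine fun x => ⟨fun hx => key ⟨c, hc⟩ x hx, fun hx => ?_⟩
  have := key (⟨c, hc⟩⁻¹) _ hx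
  simpa [mul_assoc] using this

theorem sq_mem {x : G} (hx : x ∈ F.P) : x * x = 1 ∨ x * x = D.inv2 := by
  obtain ⟨y, hy, rfl⟩ := hx
  exact D.mem_zInC.1 (F.hsq y hy y hy).1

theorem comm_mem {x y : G} (hx : x ∈ F.P) (hy : y ∈ F.P) :
    x * y * x⁻¹ * y⁻¹ = 1 ∨ x * y * x⁻¹ * y⁻¹ = D.inv2 := by
  obtain ⟨a, ha, rfl⟩ := hx
  obtain ⟨b, hb, rfl⟩ := hy
  exact D.mem_zInC.1 (F.hsq a ha b hb).2

theorem pow_four {x : G} (hx : x ∈ F.P) : x ^ 2 ^ 2 = 1 := by
  rw [show (2 : ℕ) ^ 2 = 2 * 2 from rfl, pow_mul, pow_two, pow_two]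
  rcases F.sq_mem hx with e | e <;> rw [e]
  · exact one_mul 1
  · exact D.uu

theorem isPGroup : IsPGroup 2 F.P := fun x => ⟨2, Subtype.ext (F.pow_four x.2)⟩

theorem three_ndvd : ¬ 3 ∣ Nat.card F.P := fun h => by
  haveI : Fact (Nat.Prime 2) := ⟨Nat.prime_two⟩
  obtain ⟨k, hk⟩ := IsPGroup.iff_card.1 F.isPGroup
  rw [hk] at h
  exact absurd (Nat.prime_three.dvd_of_dvd_pow h) (by norm_num)

theorem card_C : Nat.card D.C = 60 * Nat.card F.P := by
  have h1 := F.φ.ker.card_mul_index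
  rw [index_ker, MonoidHom.range_eq_top.2 F.surj, card_top, Nat.card_eq_fintype_card (α := alternatingGroup (Fin 5)),
    show Fintype.card (alternatingGroup (Fin 5)) = 60 from rfl] at h1
  rw [← h1, mul_comm, show Nat.card F.P = Nat.card F.φ.ker from
    Nat.card_congr (F.φ.ker.equivMapOfInjective _ D.C.subtype_injective).toEquiv.symm]

theorem fix_w {x : G} (hx : x ∈ F.P) (hw : x * D.el3 = D.el3 * x) : x = 1 ∨ x = D.inv2 :=
  D.fix_two (F.P_le hx) hw ⟨2, F.pow_four hx⟩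

/-- The factor by an invariant subgroup containing the involution. -/
theorem module (K : Subgroup G) (hKP : K ≤ F.P) (hK : D.C ≤ normalizer (K : Set G)) (hu : D.inv2 ∈ K) :
    ∃ k, Nat.card F.P = 16 ^ k * Nat.card K ∧ (k = 1 → ∀ x ∈ F.P, x ∉ K → ∀ y ∈ F.P, y ∉ K →
      ∃ c ∈ D.C, y⁻¹ * (c * x * c⁻¹) ∈ K) := by
  classical
  set P' := F.φ.ker
  set K' : Subgroup P' := (K.subgroupOf D.C).subgroupOf P' with hK'
  have hmemK : ∀ z : P', z ∈ K' ↔ ((z : D.C) : G) ∈ K := fun z => Iff.rfl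
  have hU : ∀ z : D.C, z ∈ zpowers D.inC → (z : G) ∈ K := fun z hz => by
    rcases D.mem_zInC.1 hz with e | e <;> rw [e]
    · exact one_mem _
    · exact hu
  haveI hKn : K'.Normal := ⟨fun z hz g => by
    rw [hmemK] at hz ⊢
    exact (mem_normalizer_iff.1 (hK (g : D.C).2) _).1 hz⟩
  letI : CommGroup (P' ⧸ K') :=
    { (inferInstance : Group (P' ⧸ K')) with
      mul_comm := fun a b => by
        obtain ⟨x, rfl⟩ := QuotientGroup.mk'_surjective K' a
        obtain ⟨y, rfl⟩ := QuotientGroup.mk'_surjective K' b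
        rw [← commutatorElement_eq_one_iff_mul_comm, ← map_commutatorElement]
        exact (QuotientGroup.eq_one_iff _).2 ((hmemK _).2 (hU _ (F.hsq x x.2 y y.2).2)) }
  have h2 : ∀ v : P' ⧸ K', v * v = 1 := fun v => by
    obtain ⟨x, rfl⟩ := QuotientGroup.mk'_surjective K' v
    rw [← map_mul]
    exact (QuotientGroup.eq_one_iff _).2 ((hmemK _).2 (hU _ (F.hsq x x.2 x x.2).1))
  have hmap : ∀ c : D.C, K'.map (MulAut.conjNormal (H := P') c).toMonoidHom = K' := by
    intro c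
    ext z
    constructor
    · rintro ⟨y, hy, rfl⟩
      rw [hmemK]
      exact (mem_normalizer_iff.1 (hK c.2) _).1 hy
    · intro hz
      refine ⟨MulAut.conjNormal c⁻¹ z, ?_, ?_⟩
      · show _ ∈ K'
        rw [hmemK]
        have := (mem_normalizer_iff.1 (hK (c⁻¹ : D.C).2) _).1 hz
        simpa using this
      · show MulAut.conjNormal c (MulAut.conjNormal c⁻¹ z) = z
        rw [← MulAut.mul_apply, ← map_mul, mul_inv_cancel, map_one, MulAut.one_apply]
  let ψ : D.C →* MulAut (P' ⧸ K') :=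
    { toFun := fun c => QuotientGroup.congr K' K' (MulAut.conjNormal c) (hmap c)
      map_one' := MulEquiv.ext fun v => by
        obtain ⟨x, rfl⟩ := QuotientGroup.mk'_surjective K' v
        show QuotientGroup.mk' K' (MulAut.conjNormal (1 : D.C) x) = _
        rw [map_one, MulAut.one_apply]; rfl
      map_mul' := fun a b => MulEquiv.ext fun v => by
        obtain ⟨x, rfl⟩ := QuotientGroup.mk'_surjective K' v
        show QuotientGroup.mk' K' (MulAut.conjNormal (a * b) x) = _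
        rw [map_mul, MulAut.mul_apply]; rfl }
  have hker : F.φ.ker ≤ ψ.ker := fun c hc => MonoidHom.mem_ker.2 (MulEquiv.ext fun v => by
    obtain ⟨x, rfl⟩ := QuotientGroup.mk'_surjective K' v
    show QuotientGroup.mk' K' (MulAut.conjNormal c x) = QuotientGroup.mk' K' x
    have e : MulAut.conjNormal c x = (⟨c, hc⟩ : P') * x * (⟨c, hc⟩ : P')⁻¹ := Subtype.ext rfl
    rw [e, map_mul, map_mul, map_inv, mul_comm (QuotientGroup.mk' K' _), mul_inv_cancel_right])
  set ρ := F.φ.liftOfSurjective F.surj ⟨ψ, hker⟩ with hρ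
  have hρc : ∀ c, ρ (F.φ c) = ψ c := fun c =>
    MonoidHom.liftOfRightInverse_comp_apply _ _ _ ⟨ψ, hker⟩ c
  have hw : ∀ v, ρ FiveModule.w0 v = v → v = 1 := by
    intro v hv
    obtain ⟨x, rfl⟩ := QuotientGroup.mk'_surjective K' v
    rw [← F.hw, hρc] at hv
    have hxK : (((x : D.C) : G))⁻¹ * (D.el3 * ((x : D.C) : G) * D.el3⁻¹) ∈ K := by
      have : (x⁻¹ * MulAut.conjNormal (⟨D.el3, D.w_C⟩ : D.C) x : P') ∈ K' := QuotientGroup.eq.1 hv.symm
      simpa using (hmemK _).1 this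
    refine (QuotientGroup.eq_one_iff _).2 ((hmemK x).2 (fixed_quot (P := F.P) ?_ F.three_ndvd hKP
      (F.C_le_normalizer_P D.w_C) (hK D.w_C) (fun c hc hcw => ?_) ⟨x, x.2, rfl⟩ hxK))
    · rw [← D.w_ord]; exact pow_orderOf_eq_one _
    · rcases F.fix_w hc hcw with e | e <;> rw [e]
      · exact one_mem _
      · exact hu
  obtain ⟨k, hk⟩ := FiveModule.card_pow ρ h2 hw
  have hcard : Nat.card F.P = 16 ^ k * Nat.card K := by
    have h := K'.card_mul_index
    rw [show K'.index = Nat.card (P' ⧸ K') from rfl, hk] at h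
    rw [show Nat.card F.P = Nat.card P' from Nat.card_congr (P'.equivMapOfInjective _ D.C.subtype_injective).toEquiv.symm,
      ← h, mul_comm]
    congr 1
    refine Nat.card_congr ⟨fun z => ⟨((z : P') : D.C), (hmemK _).1 z.2⟩,
      fun z => ⟨⟨⟨z, F.P_le (hKP z.2)⟩, (F.mem_P.1 (hKP z.2)).2⟩, (hmemK _).2 z.2⟩, fun z => rfl, fun z => rfl⟩
  refine ⟨k, hcard, fun hk1 x hx hxK y hy hyK => ?_⟩
  obtain ⟨x, hxP, rfl⟩ := hx
  obtain ⟨y, hyP, rfl⟩ := hy
  subst hk1
  obtain ⟨g, hg⟩ := FiveModule.transitive ρ h2 hw (by rw [hk]; rfl)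
    (v := QuotientGroup.mk' K' ⟨x, hxP⟩) (v' := QuotientGroup.mk' K' ⟨y, hyP⟩)
    (fun e => hxK ((hmemK _).1 ((QuotientGroup.eq_one_iff (N := K') _).1 e)))
    (fun e => hyK ((hmemK _).1 ((QuotientGroup.eq_one_iff (N := K') _).1 e)))
  obtain ⟨c, rfl⟩ := F.surj g
  rw [hρc] at hg
  refine ⟨c, c.2, ?_⟩
  have : ((⟨y, hyP⟩ : P')⁻¹ * MulAut.conjNormal c (⟨x, hxP⟩ : P')) ∈ K' := QuotientGroup.eq.1 hg.symm
  simpa using (hmemK _).1 this

/-- A factor of order sixteen over a central elementary subgroup makes everything elementary. -/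
theorem quad_elem (K : Subgroup G) (hKP : K ≤ F.P) (hK : D.C ≤ normalizer (K : Set G)) (hu : D.inv2 ∈ K)
    (hK2 : ∀ k ∈ K, k * k = 1) (hKc : ∀ k ∈ K, ∀ x ∈ F.P, k * x = x * k)
    (hcard : Nat.card F.P = 16 * Nat.card K) : ∀ x ∈ F.P, x * x = 1 := by
  classical
  obtain ⟨k, hk, htrans⟩ := F.module K hKP hK hu
  have hk1 : k = 1 := by
    rw [hcard] at hk
    have h := Nat.eq_of_mul_eq_mul_right Nat.card_pos hk
    exact ((Nat.pow_right_injective (by norm_num : 2 ≤ 16)) ((pow_one 16).trans h)).symm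
  set K' := K.subgroupOf F.P
  haveI : K'.Normal := ⟨fun z hz g => by
    show (g : G) * z * (g : G)⁻¹ ∈ K
    exact (mem_normalizer_iff.1 (hK (F.P_le g.2)) _).1 hz⟩
  letI : CommGroup (F.P ⧸ K') :=
    { (inferInstance : Group (F.P ⧸ K')) with
      mul_comm := fun a b => by
        obtain ⟨x, rfl⟩ := QuotientGroup.mk'_surjective K' a
        obtain ⟨y, rfl⟩ := QuotientGroup.mk'_surjective K' b
        rw [← commutatorElement_eq_one_iff_mul_comm, ← map_commutatorElement]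
        refine (QuotientGroup.eq_one_iff _).2 ?_
        show (x : G) * y * (x : G)⁻¹ * (y : G)⁻¹ ∈ K
        rcases F.comm_mem x.2 y.2 with e | e <;> rw [e]
        · exact one_mem _
        · exact hu }
  have hcongr : ∀ (x : F.P) (k : G), k ∈ K → ((x : G) * k) * ((x : G) * k) = (x : G) * x := fun x k hk => by
    rw [mul_assoc, ← mul_assoc k, hKc k hk x x.2, mul_assoc (x : G) k k, hK2 k hk, mul_one]
  let q : F.P ⧸ K' → G := Quotient.lift (fun x : F.P => (x : G) * x) fun a b hab => by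
    have hab' : a⁻¹ * b ∈ K' := (QuotientGroup.leftRel_apply (s := K')).1 hab
    have := hcongr a _ (show ((a⁻¹ * b : F.P) : G) ∈ K from hab')
    simp only [coe_mul, InvMemClass.coe_inv, mul_inv_cancel_left] at this
    exact this.symm
  have hq : ∀ x : F.P, q (QuotientGroup.mk' K' x) = (x : G) * x := fun x => rfl
  have hcent : ∀ x y : G, x ∈ F.P → y ∈ F.P → ∀ z ∈ D.C, Commute (x * y * x⁻¹ * y⁻¹) z := by
    intro x y hx hy z hz
    rcases F.comm_mem hx hy with e | e <;> rw [e]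
    · exact Commute.one_left z
    · exact (D.mem_C.1 hz).symm
  intro x hx
  by_cases hxK : x ∈ K
  · exact hK2 x hxK
  have h := FiveModule.quad_const q (x := QuotientGroup.mk' K' ⟨x, hx⟩) ?_ ?_ ?_
    (fun e => hxK (show x ∈ K from (QuotientGroup.eq_one_iff (N := K') _).1 e))
  · exact h
  · have h := K'.card_mul_index
    rw [Nat.card_congr (subgroupOfEquivOfLe hKP).toEquiv, hcard, mul_comm 16] at h
    rw [show Nat.card (F.P ⧸ K') = K'.index from rfl, Nat.eq_of_mul_eq_mul_left Nat.card_pos h]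
    norm_num
  · intro a b ha hb
    obtain ⟨y, rfl⟩ := QuotientGroup.mk'_surjective K' a
    obtain ⟨z, rfl⟩ := QuotientGroup.mk'_surjective K' b
    obtain ⟨c, hc, hcy⟩ := htrans hk1 y y.2 (fun e => ha ((QuotientGroup.eq_one_iff _).2 e)) z z.2
      (fun e => hb ((QuotientGroup.eq_one_iff _).2 e))
    rw [hq, hq, ← hcongr z _ hcy, mul_inv_cancel_left]
    have hcy2 : (y : G) * y = c * ((y : G) * y) * c⁻¹ := by
      rcases F.sq_mem y.2 with e | e <;> rw [e]
      · group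
      · rw [D.mem_C.1 hc, mul_inv_cancel_right]
    calc (y : G) * y = c * ((y : G) * y) * c⁻¹ := hcy2
      _ = c * y * c⁻¹ * (c * y * c⁻¹) := by group
  · intro a b d
    obtain ⟨a, rfl⟩ := QuotientGroup.mk'_surjective K' a
    obtain ⟨b, rfl⟩ := QuotientGroup.mk'_surjective K' b
    obtain ⟨d, rfl⟩ := QuotientGroup.mk'_surjective K' d
    have hsqc : ∀ x : F.P, ∀ z : G, z ∈ D.C → Commute ((x : G) * x) z := fun x z hz => by
      rcases F.sq_mem x.2 with e | e <;> rw [e]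
      · exact Commute.one_left z
      · exact (D.mem_C.1 hz).symm
    have hbeta : ∀ x y : F.P, ((x : G) * y) * ((x : G) * y) * (((x : G) * x) * ((y : G) * y))⁻¹ =
        (x : G) * y * (x : G)⁻¹ * (y : G)⁻¹ := by
      intro x y
      have h1 := (hcent x y x.2 y.2 x (F.P_le x.2)).eq
      have hinv : ((y : G) * x * (y : G)⁻¹ * (x : G)⁻¹) = (x : G) * y * (x : G)⁻¹ * (y : G)⁻¹ := by
        have : ((x : G) * y * (x : G)⁻¹ * (y : G)⁻¹) * ((x : G) * y * (x : G)⁻¹ * (y : G)⁻¹) = 1 := by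
          rcases F.comm_mem x.2 y.2 with e | e <;> rw [e]
          · exact one_mul 1
          · exact D.uu
        rw [← inv_eq_of_mul_eq_one_right this]
        group
      calc ((x : G) * y) * ((x : G) * y) * (((x : G) * x) * ((y : G) * y))⁻¹
          = (x : G) * ((y : G) * x * (y : G)⁻¹ * (x : G)⁻¹) * (x : G)⁻¹ := by group
        _ = _ := by rw [hinv, ← h1, mul_inv_cancel_right]
    show q (QuotientGroup.mk' K' (a * (b * d))) * _ = _
    simp only [← map_mul, hq, coe_mul]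
    have e1 := hbeta a (b * d)
    rw [coe_mul] at e1
    rw [e1, hbeta a b, hbeta a d]
    have h2 := (hcent a d a.2 d.2 b (F.P_le b.2)).eq
    calc (a : G) * ((b : G) * d) * (a : G)⁻¹ * ((b : G) * d)⁻¹
        = (a : G) * b * (a : G)⁻¹ * (b : G)⁻¹ * ((b : G) * ((a : G) * d * (a : G)⁻¹ * (d : G)⁻¹) * (b : G)⁻¹) := by
          group
      _ = _ := by rw [← h2, mul_inv_cancel_right]

end FiveCtx

end Cfsg.Agent.Char.OrderSix
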