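import Cfsg.Agent.Lib.Char.OrderSix.Five

/-!
# A centraliser with quotient the alternating group of degree five: no nontrivial kernel
-/

set_option autoImplicit false
set_option linter.unusedSectionVars false
set_option linter.style.haveILetI false

open Cfsg Subgroup
open scoped commutatorElement Pointwise

namespace Cfsg.Agent.Char.OrderSix

universe u
variable {G : Type u} [Group G] [Finite G] [IsSimpleGroup G]

theorem card_psl_seven : Nat.card (Matrix.ProjectiveSpecialLinearGroup (Fin 2) (ZMod 7)) = 168 := by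
  haveI : Fact (Nat.Prime 7) := ⟨by norm_num⟩
  have h1 := Classical.Dickson.card_P2 (F := ZMod 7)
  rw [ZMod.card, show Nat.gcd 2 (7 - 1) = 2 from rfl] at h1
  omega

namespace FiveCtx

variable {D : Ctx G} (F : FiveCtx D)

theorem normalizer_le : normalizer (F.P : Set G) ≤ D.C := by
  classical
  haveI : Fact (Nat.Prime 2) := ⟨Nat.prime_two⟩
  haveI : Fact (Nat.Prime 3) := ⟨Nat.prime_three⟩
  set M := normalizer (F.P : Set G) with hM
  set P' := F.P.subgroupOf M with hP'
  haveI : P'.Normal := normal_in_normalizer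
  set π := QuotientGroup.mk' P'
  set w' : M := ⟨D.el3, F.C_le_normalizer_P D.w_C⟩ with hw'
  have hmem : ∀ z : M, π z = 1 ↔ (z : G) ∈ F.P := fun z => QuotientGroup.eq_one_iff z
  have hwP : D.el3 ∉ F.P := fun h => by
    rcases F.fix_w h rfl with e | e
    · exact D.w_ne e
    · have := D.w_ord; rw [e, D.u_ord] at this; omega
  have hπw : orderOf (π w') = 3 := orderOf_eq_prime
    (by rw [← map_pow, show w' ^ 3 = 1 from Subtype.ext (D.w_ord ▸ pow_orderOf_eq_one D.el3), map_one])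
    (fun h => hwP ((hmem w').1 h))
  have hX : Nat.card (zpowers (π w')) = 3 := by rw [Nat.card_zpowers, hπw]
  have hAP : ∀ a ∈ zpowers D.el3, a ∈ F.P → a = 1 := fun a ha haP => by
    obtain ⟨i, rfl⟩ := mem_zpowers_iff.1 ha
    rcases F.fix_w haP ((Commute.refl D.el3).zpow_left i).eq with e | e
    · exact e
    · exfalso
      have h3 : (D.el3 ^ i) ^ 3 = 1 := by
        rw [← zpow_natCast, ← zpow_mul, mul_comm, zpow_mul, zpow_natCast, ← D.w_ord, pow_orderOf_eq_one, one_zpow]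
      rw [e, pow_succ, pow_two, D.uu, one_mul] at h3
      exact D.u_ne h3
  have hCX : centralizer ((zpowers (π w') : Subgroup (M ⧸ P')) : Set (M ⧸ P')) = zpowers (π w') := by
    refine le_antisymm (fun q hq => ?_) (fun q hq => mem_centralizer_iff.2 fun r hr => ?_)
    · obtain ⟨c, rfl⟩ := QuotientGroup.mk'_surjective P' q
      have hc : Commute (π c) (π w') := (mem_centralizer_iff.1 hq _ (mem_zpowers _)).symm
      obtain ⟨d, hd, hn⟩ := Cfsg.Agent.Solv.exists_fixed_in_coset (zpowers D.el3) F.P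
        (zpowers_le.2 (F.C_le_normalizer_P D.w_C))
        (by rw [Nat.card_zpowers, D.w_ord]; exact (Nat.Prime.coprime_iff_not_dvd Nat.prime_three).2 F.three_ndvd)
        (Or.inr (Group.isSolvable_of_comm fun a b => Subtype.ext (F.commP a.2 b.2))) (x := (c : G)) (fun a ha => by
          obtain ⟨i, rfl⟩ := mem_zpowers_iff.1 ha
          refine (hmem (c⁻¹ * (w' ^ i * c * (w' ^ i)⁻¹))).1 ?_
          simp only [map_mul, map_inv, map_zpow]
          rw [((hc.zpow_right i).symm).eq, mul_inv_cancel_right, inv_mul_cancel])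
      have hcd : (c : G) * d ∈ M := mul_mem c.2 (le_normalizer hd)
      set z : M := ⟨(c : G) * d, hcd⟩ with hz
      have hπz : π z = π c := by
        rw [show z = c * ⟨d, le_normalizer hd⟩ from rfl, map_mul, (hmem ⟨d, _⟩).2 hd, mul_one]
      have hzw : (c : G) * d * D.el3 * ((c : G) * d)⁻¹ * D.el3⁻¹ = 1 := by
        refine hAP _ (mul_mem ((mem_normalizer_iff.1 hn _).1 (mem_zpowers _)) (inv_mem (mem_zpowers _))) ?_
        refine (hmem (z * w' * z⁻¹ * w'⁻¹)).1 ?_
        simp only [map_mul, map_inv, hπz]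
        rw [hc.eq, mul_inv_cancel_right, mul_inv_cancel]
      have hzw' : (c : G) * d * D.el3 = D.el3 * ((c : G) * d) :=
        mul_inv_eq_iff_eq_mul.1 (mul_inv_eq_one.1 hzw)
      have hfixu : ((c : G) * d) * D.inv2 * ((c : G) * d)⁻¹ = D.inv2 := by
        have hmemP := (mem_normalizer_iff.1 hcd D.inv2).1 F.u_P
        rcases F.fix_w hmemP ((((show Commute _ D.el3 from hzw').mul_left D.comm_uw).mul_left
          (show Commute ((c : G) * d) D.el3 from hzw').inv_left).eq) with e | e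
        · exact absurd (conj_eq_one_iff.1 e) D.u_ne
        · exact e
      obtain ⟨i, hi⟩ := mem_zpowers_iff.1 (D.cent_uw (mul_inv_eq_iff_eq_mul.1 hfixu) hzw')
      rw [← hπz]
      have ht : D.t ∈ M := F.C_le_normalizer_P (D.mem_C.2 (by rw [Ctx.inv2, ← pow_succ, ← pow_succ']))
      rw [show z = ⟨D.t, ht⟩ ^ i from Subtype.ext (by rw [coe_zpow]; exact hi.symm), map_zpow]
      refine zpow_mem ?_ i
      rw [show (⟨D.t, ht⟩ : M) = ⟨D.inv2, le_normalizer F.u_P⟩ * w' from Subtype.ext D.uw.symm, map_mul,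
        (hmem ⟨D.inv2, _⟩).2 F.u_P, one_mul]
      exact mem_zpowers _
    · obtain ⟨i, rfl⟩ := mem_zpowers_iff.1 hr
      obtain ⟨j, rfl⟩ := mem_zpowers_iff.1 hq
      exact (Commute.zpow_zpow_self _ i j).eq
  -- the image of the centraliser
  set f : D.C →* M ⧸ P' := π.comp (inclusion F.C_le_normalizer_P)
  have hf : ∀ c : D.C, f c = 1 ↔ F.φ c = 1 := fun c => by
    show π _ = 1 ↔ _
    rw [hmem]
    exact ⟨fun h => (F.mem_P.1 h).2, fun h => F.mem_P.2 ⟨c.2, h⟩⟩
  have hfw : f ⟨D.el3, D.w_C⟩ = π w' := rfl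
  have hcases : ∀ (Q : Type u) [Group Q] (χ : M ⧸ P' →* Q),
      (∀ c : D.C, χ (f c) = 1 → F.φ c = 1) ∨ χ (π w') = 1 := by
    intro Q _ χ
    have hn : (((χ.comp f).ker).map F.φ).Normal := (inferInstance : (χ.comp f).ker.Normal).map _ F.surj
    rcases hn.eq_bot_or_eq_top with h | h
    · exact Or.inl fun c hc => mem_bot.1 (h ▸ ⟨c, hc, rfl⟩)
    · obtain ⟨c, hc, hcw⟩ := (h ▸ mem_top FiveModule.w0 : FiveModule.w0 ∈ ((χ.comp f).ker).map F.φ)
      right
      have h1 : f (c⁻¹ * ⟨D.el3, D.w_C⟩) = 1 := by rw [hf, map_mul, map_inv, hcw, F.hw, inv_mul_cancel]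
      rw [map_mul, map_inv, inv_mul_eq_one] at h1
      rw [← hfw, ← h1]; exact hc
  have h60 : ∀ (Q : Type u) [Group Q] [Finite Q] (χ : M ⧸ P' →* Q), (∀ c : D.C, χ (f c) = 1 → F.φ c = 1) →
      60 ∣ Nat.card Q := by
    intro Q _ _ χ hχ
    have hk : (χ.comp f).ker = F.φ.ker := SetLike.ext fun c =>
      ⟨hχ c, fun hc => by show χ (f c) = 1; rw [(hf c).2 hc, map_one]⟩
    have h := index_ker (χ.comp f)
    rw [hk, index_ker, MonoidHom.range_eq_top.2 F.surj, card_top,
      Nat.card_eq_fintype_card (α := alternatingGroup (Fin 5)),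
      show Fintype.card (alternatingGroup (Fin 5)) = 60 from rfl] at h
    exact h ▸ card_subgroup_dvd_card _
  rcases S3331.result (zpowers (π w')) hX hCX with ⟨N, hN, -, hcop, hq⟩ | ⟨E, hE, -, hE2, ⟨e⟩⟩ | ⟨⟨e⟩⟩
  · exfalso
    rcases hcases _ (QuotientGroup.mk' N) with h | h
    · have hd := h60 _ _ h
      rcases hq with hq | ⟨⟨e⟩⟩
      · rw [hq] at hd; norm_num at hd
      · rw [Nat.card_congr e.toEquiv, Nat.card_perm, Nat.card_fin] at hd; norm_num [Nat.factorial] at hd
    · have hwN : π w' ∈ N := (QuotientGroup.eq_one_iff _).1 h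
      have h3 : 3 ∣ Nat.card N := by
        have := orderOf_dvd_natCard (⟨π w', hwN⟩ : N)
        rwa [← orderOf_coe, hπw] at this
      exact Nat.not_coprime_of_dvd_of_dvd (by norm_num) h3 dvd_rfl hcop
  · obtain ⟨m, hm⟩ := IsPGroup.iff_card.1 (show IsPGroup 2 E from fun x => ⟨1, Subtype.ext (by
      rw [pow_one]; exact hE2 x x.2)⟩)
    obtain ⟨k, hk⟩ := IsPGroup.iff_card.1 F.isPGroup
    have hcQ : Nat.card (M ⧸ P') = 60 * 2 ^ m := by
      rw [card_eq_card_quotient_mul_card_subgroup E, Nat.card_congr e.toEquiv,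
        Nat.card_eq_fintype_card (α := alternatingGroup (Fin 5)),
        show Fintype.card (alternatingGroup (Fin 5)) = 60 from rfl, hm]
    have hcM : Nat.card M = 60 * 2 ^ m * 2 ^ k := by
      rw [card_eq_card_quotient_mul_card_subgroup P', hcQ, hP',
        Nat.card_congr (subgroupOfEquivOfLe le_normalizer).toEquiv, hk]
    have hdvd : 2 ^ (m + k + 2) ∣ Nat.card M := ⟨15, by rw [hcM, pow_add, pow_add]; ring⟩
    obtain ⟨K, hK⟩ := Sylow.exists_subgroup_card_pow_prime 2 hdvd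
    have hKc : Nat.card (K.map M.subtype) = 2 ^ (m + k + 2) := by
      rw [Nat.card_congr (K.equivMapOfInjective _ M.subtype_injective).toEquiv.symm, hK]
    have := F.sylow_le (IsPGroup.of_card hKc)
    rw [hKc, hk, pow_add, pow_add] at this
    have hm0 : m = 0 := by
      by_contra hm0
      have h2 : 2 ≤ 2 ^ m := Nat.le_self_pow hm0 2
      have : 0 < 2 ^ k := by positivity
      nlinarith
    refine (eq_of_le_of_card_ge F.C_le_normalizer_P (le_of_eq ?_)).ge
    rw [F.card_C, hk]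
    exact hcM.trans (by rw [hm0, pow_zero, mul_one])
  · exfalso
    have hd := h60 _ (MonoidHom.id (M ⧸ P')) fun c hc => (hf c).1 hc
    rw [Nat.card_congr e.toEquiv, card_psl_seven] at hd
    norm_num at hd

/-- conjugates of the kernel -/
def PE (g : G) : Subgroup G := F.P.map (MulAut.conj g).toMonoidHom

theorem mem_PE {g x : G} : x ∈ F.PE g ↔ g⁻¹ * x * g ∈ F.P := by
  rw [PE, mem_map_equiv]
  show g⁻¹ * x * g ∈ F.P ↔ _
  exact Iff.rfl

theorem card_PE (g : G) : Nat.card (F.PE g) = Nat.card F.P :=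
  (Nat.card_congr (F.P.equivMapOfInjective _ (MulAut.conj g).injective).toEquiv).symm

theorem PE_sq {g x : G} (hx : x ∈ F.PE g) : x * x = 1 := by
  have h := F.elem _ (F.mem_PE.1 hx)
  have := congrArg (fun v => g * v * g⁻¹) h
  simpa [mul_assoc] using this

theorem mem_conj_C {g e x : G} (hg : g * D.inv2 * g⁻¹ = e) : x * e = e * x ↔ g⁻¹ * x * g ∈ D.C := by
  subst hg
  rw [D.mem_C]
  constructor <;> intro h
  · have := congrArg (fun v => g⁻¹ * v * g) h
    simpa [mul_assoc] using this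
  · have := congrArg (fun v => g * v * g⁻¹) h
    simpa [mul_assoc] using this

theorem PE_le_cent {g e : G} (hg : g * D.inv2 * g⁻¹ = e) : F.PE g ≤ centralizer ({e} : Set G) := fun _ hx =>
  mem_centralizer_singleton_iff.2 ((mem_conj_C hg).2 (F.P_le (F.mem_PE.1 hx)))

theorem cent_normalizes_PE {g e : G} (hg : g * D.inv2 * g⁻¹ = e) :
    centralizer ({e} : Set G) ≤ normalizer (F.PE g : Set G) := by
  intro c hc
  have hn := F.C_le_normalizer_P ((mem_conj_C hg).1 (mem_centralizer_singleton_iff.1 hc))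
  refine mem_normalizer_iff.2 fun x => ?_
  rw [F.mem_PE, F.mem_PE, mem_normalizer_iff.1 hn (g⁻¹ * x * g)]
  simp only [mul_inv_rev, inv_inv, mul_assoc, mul_inv_cancel_left]

/-- a two-group centralising two conjugate involutions -/
theorem part_bound {g e : G} (hg : g * D.inv2 * g⁻¹ = e) {T : Subgroup G} (hT : IsPGroup 2 T)
    (hTe : T ≤ centralizer ({e} : Set G)) : Nat.card T ≤ 4 * Nat.card ↥(T ⊓ F.PE g) := by
  let ψ : T →* alternatingGroup (Fin 5) :=
    F.φ.comp
      { toFun := fun x => ⟨g⁻¹ * (x : G) * g, (mem_conj_C hg).1 (mem_centralizer_singleton_iff.1 (hTe x.2))⟩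
        map_one' := Subtype.ext (by simp)
        map_mul' := fun a b => Subtype.ext (by simp [mul_assoc]) }
  have h := ψ.ker.card_mul_index
  rw [index_ker] at h
  rw [← h, mul_comm]
  refine Nat.mul_le_mul (card_range_le hT ψ) (le_of_eq ?_)
  exact Nat.card_congr ⟨fun x => ⟨((x : T) : G), (x : T).2, F.mem_PE.2 (F.mem_P.2 ⟨_, x.2⟩)⟩,
    fun x => ⟨⟨x, x.2.1⟩, (F.mem_P.1 (F.mem_PE.1 x.2.2)).2⟩, fun x => rfl, fun x => rfl⟩

theorem meet_bound {g : G} (hPE : F.PE g ≤ D.C) (hne : F.PE g ≠ F.P) :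
    Nat.card ↥(F.P ⊓ F.PE g) ^ 2 ≤ 2 * Nat.card F.P := by
  obtain ⟨y, hy, hyP⟩ := SetLike.not_le_iff_exists.1
    (show ¬ F.PE g ≤ F.P from fun h => hne (eq_of_le_of_card_ge h (F.card_PE g).ge))
  refine le_trans (Nat.pow_le_pow_left (card_le_of_le ?_) 2)
    (F.fix_bound (hPE hy) hyP (by rw [F.PE_sq hy]; exact one_mem _))
  refine fun x hx => ⟨hx.1, mem_centralizer_singleton_iff.2 ?_⟩
  have hxy : x * y = (x * y)⁻¹ := eq_inv_of_mul_eq_one_left (F.PE_sq (mul_mem hx.2 hy))
  rw [mul_inv_rev, ← eq_inv_of_mul_eq_one_left (F.PE_sq hx.2), ← eq_inv_of_mul_eq_one_left (F.PE_sq hy)] at hxy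
  exact hxy

theorem PE_le_C {g : G} (hu : D.inv2 ∈ F.PE g) : F.PE g ≤ D.C := fun x hx => by
  have hxy : x * D.inv2 = (x * D.inv2)⁻¹ := eq_inv_of_mul_eq_one_left (F.PE_sq (mul_mem hx hu))
  rw [mul_inv_rev, ← eq_inv_of_mul_eq_one_left (F.PE_sq hx), ← eq_inv_of_mul_eq_one_left D.uu] at hxy
  exact D.mem_C.2 hxy

theorem PE_ne {g e : G} (hg : g * D.inv2 * g⁻¹ = e) (heu : e ≠ D.inv2) : F.PE g ≠ F.P := fun h => by
  have hgN : g ∈ normalizer (F.P : Set G) := mem_normalizer_iff.2 fun x => by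
    conv_rhs => rw [← h, F.mem_PE]
    simp [mul_assoc]
  exact heu (by rw [← hg, D.mem_C.1 (F.normalizer_le hgN), mul_inv_cancel_right])

theorem not_mem_bound {g e : G} (hg : g * D.inv2 * g⁻¹ = e) (heP : e ∈ F.P) (hu : D.inv2 ∉ F.PE g)
    {T : Subgroup G} (hT : IsPGroup 2 T) (hTe : T ≤ centralizer ({e} : Set G)) (hTu : T ≤ D.C) :
    Nat.card T ^ 2 ≤ 32 * Nat.card F.P := by
  set u0 := g⁻¹ * D.inv2 * g with hu0
  have hu0C : u0 ∈ D.C := (mem_conj_C hg).1 (D.mem_C.1 (F.P_le heP)).symm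
  have h1 := F.fix_bound hu0C (fun h => hu (F.mem_PE.2 h))
    (by rw [show u0 * u0 = g⁻¹ * (D.inv2 * D.inv2) * g by rw [hu0]; group, D.uu]; simpa using one_mem F.P)
  have h2 : Nat.card ↥(T ⊓ F.PE g) ≤ Nat.card ↥(F.P ⊓ centralizer ({u0} : Set G)) := by
    refine Nat.card_le_card_of_injective (fun x => ⟨g⁻¹ * (x : G) * g, F.mem_PE.1 x.2.2,
      mem_centralizer_singleton_iff.2 ?_⟩) fun a b hab => ?_
    · have := congrArg (fun v => g⁻¹ * v * g) (D.mem_C.1 (hTu x.2.1))
      simpa [hu0, mul_assoc] using this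
    · exact Subtype.ext (mul_left_cancel (mul_right_cancel (congrArg Subtype.val hab)))
  calc Nat.card T ^ 2 ≤ (4 * Nat.card ↥(T ⊓ F.PE g)) ^ 2 := Nat.pow_le_pow_left (F.part_bound hg hT hTe) 2
    _ ≤ (4 * Nat.card ↥(F.P ⊓ centralizer ({u0} : Set G))) ^ 2 :=
        Nat.pow_le_pow_left (Nat.mul_le_mul_left 4 h2) 2
    _ ≤ 32 * Nat.card F.P := by rw [mul_pow]; omega

/-- no kernel of order thirty-two -/
theorem small (hcard : Nat.card F.P = 32)
    (htrans : ∀ x ∈ F.P, x ∉ zpowers D.inv2 → ∀ y ∈ F.P, y ∉ zpowers D.inv2 →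
      ∃ c ∈ D.C, y⁻¹ * (c * x * c⁻¹) ∈ zpowers D.inv2) : False := by
  classical
  haveI : Fact (Nat.Prime 2) := ⟨Nat.prime_two⟩
  set U := zpowers D.inv2 with hU
  have hUP : U ≤ F.P := zpowers_le.2 F.u_P
  have hU2 : Nat.card U = 2 := by rw [hU, Nat.card_zpowers, D.u_ord]
  obtain ⟨e, heP, heU⟩ := SetLike.not_le_iff_exists.1 (show ¬ F.P ≤ U from fun h => by
    have := Nat.le_of_dvd Nat.card_pos (card_dvd_of_le h)
    omega)
  have hord : ∀ z ∈ F.P, z ≠ 1 → orderOf z = 2 := fun z hz hz1 =>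
    orderOf_eq_prime (by rw [pow_two]; exact F.elem z hz) hz1
  have hPe : ∀ e' ∈ F.P, F.P ≤ centralizer ({e'} : Set G) := fun e' he' x hx =>
    mem_centralizer_singleton_iff.2 (F.commP hx he')
  -- the orbit of the chosen involution
  letI : MulAction D.C G := MulAction.compHom G (ConjAct.toConjAct.toMonoidHom.comp D.C.subtype)
  have hsmul : ∀ (c : D.C) (z : G), c • z = (c : G) * z * (c : G)⁻¹ := fun c z => rfl
  set O := MulAction.orbit D.C e with hO
  have hPU : ∀ z, z ∈ (F.P : Set G) \ U ↔ z ∈ F.P ∧ z ∉ U := fun z => Iff.rfl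
  have hsub : O ⊆ (F.P : Set G) \ U := by
    rintro _ ⟨c, rfl⟩
    refine ⟨(mem_normalizer_iff.1 (F.C_le_normalizer_P c.2) e).1 heP, fun h => heU ?_⟩
    exact (mem_normalizer_iff.1 (D.C_le_normalizer c.2) e).2 h
  have hcover : ∀ z ∈ (F.P : Set G) \ U, z ∈ O ∨ z * D.inv2 ∈ O := by
    rintro z ⟨hz, hzU⟩
    obtain ⟨c, hc, h⟩ := htrans e heP heU z hz hzU
    rcases D.mem_zu.1 h with h' | h'
    · exact Or.inl ⟨⟨c, hc⟩, (inv_mul_eq_one.1 h').symm⟩
    · exact Or.inr ⟨⟨c, hc⟩, inv_mul_eq_iff_eq_mul.1 h'⟩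
  have h30 : Nat.card ↥((F.P : Set G) \ U) = 30 := by
    have h := Set.ncard_diff (show (U : Set G) ⊆ F.P from hUP) (Set.toFinite _)
    rw [← Nat.card_coe_set_eq, ← Nat.card_coe_set_eq] at h
    rw [h, show Nat.card ((F.P : Set G) : Set G) = 32 from hcard, ← Nat.card_coe_set_eq,
      show Nat.card ((U : Set G) : Set G) = 2 from hU2]
  have hocard : Nat.card O = 30 ∨ Nat.card O = 15 := by
    by_cases heu : e * D.inv2 ∈ O
    · left
      obtain ⟨d, hd⟩ := heu
      have hd' : (d : G) * e * (d : G)⁻¹ = e * D.inv2 := hd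
      have : O = (F.P : Set G) \ U := Set.Subset.antisymm hsub fun z hz => by
        rcases hcover z hz with h | ⟨c, hc⟩
        · exact h
        · have hc' : (c : G) * e * (c : G)⁻¹ = z * D.inv2 := hc
          refine ⟨c * d, ?_⟩
          show (c * d) • e = z
          rw [hsmul, coe_mul]
          calc (c : G) * d * e * ((c : G) * d)⁻¹ = (c : G) * ((d : G) * e * (d : G)⁻¹) * (c : G)⁻¹ := by group
            _ = (c : G) * e * ((c : G)⁻¹ * ((c : G) * D.inv2) * (c : G)⁻¹) := by rw [hd']; group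
            _ = (c : G) * e * (c : G)⁻¹ * D.inv2 := by rw [D.mem_C.1 c.2]; group
            _ = z := by rw [hc', mul_assoc, D.uu, mul_one]
      rw [this, h30]
    · right
      set O' := (fun z => z * D.inv2) '' O with hO'
      have hdisj : Disjoint O O' := Set.disjoint_left.2 fun z hz hz' => by
        obtain ⟨c, rfl⟩ := hz
        obtain ⟨y, ⟨d, rfl⟩, hy⟩ := hz'
        refine heu ⟨d⁻¹ * c, ?_⟩
        simp only [hsmul] at hy ⊢
        calc ((d⁻¹ * c : D.C) : G) * e * ((d⁻¹ * c : D.C) : G)⁻¹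
            = (d : G)⁻¹ * ((c : G) * e * (c : G)⁻¹) * d := by simp only [coe_mul, InvMemClass.coe_inv]; group
          _ = e * ((d : G)⁻¹ * (D.inv2 * d)) := by rw [← hy]; group
          _ = e * D.inv2 := by rw [← D.mem_C.1 d.2, inv_mul_cancel_left]
      have hun : O ∪ O' = (F.P : Set G) \ U := by
        refine Set.Subset.antisymm (Set.union_subset hsub ?_) fun z hz => ?_
        · rintro _ ⟨y, hy, rfl⟩
          obtain ⟨hyP, hyU⟩ := hsub hy
          exact ⟨mul_mem hyP F.u_P, fun h => hyU ((mul_mem_cancel_right (mem_zpowers _)).1 h)⟩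
        · rcases hcover z hz with h | h
          · exact Or.inl h
          · exact Or.inr ⟨_, h, by simp [mul_assoc, D.uu]⟩
      have h := Set.ncard_union_eq hdisj (Set.toFinite _) (Set.toFinite _)
      rw [hun, Set.ncard_image_of_injective _ (mul_left_injective _), ← Nat.card_coe_set_eq, h30,
        ← Nat.card_coe_set_eq] at h
      omega
  have hstab : 64 ∣ Nat.card (MulAction.stabilizer D.C e) := by
    have h := Nat.card_congr (MulAction.orbitProdStabilizerEquivGroup D.C e)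
    rw [Nat.card_prod, F.card_C, hcard] at h
    rcases hocard with h' | h' <;> rw [← hO, h'] at h <;> omega
  obtain ⟨K, hK⟩ := Sylow.exists_subgroup_card_pow_prime 2 (show 2 ^ 6 ∣ _ from hstab)
  set T := (K.map (MulAction.stabilizer D.C e).subtype).map D.C.subtype with hTdef
  have hT64 : Nat.card T = 2 ^ 6 := by
    rw [hTdef, Nat.card_congr (equivMapOfInjective _ _ D.C.subtype_injective).toEquiv.symm,
      Nat.card_congr (equivMapOfInjective _ _ (subtype_injective _)).toEquiv.symm, hK]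
  have hTe : T ≤ centralizer ({e} : Set G) := by
    rintro _ ⟨_, ⟨y, -, rfl⟩, rfl⟩
    exact mem_centralizer_singleton_iff.2 (mul_inv_eq_iff_eq_mul.1
      (show ((y : D.C) : G) * e * ((y : D.C) : G)⁻¹ = e from y.2))
  -- the conclusions for an involution with a large common two-subgroup
  have single : ∀ e' ∈ F.P, e' ∉ U → ∀ T : Subgroup G, IsPGroup 2 T → T ≤ D.C →
      T ≤ centralizer ({e'} : Set G) → 64 ≤ Nat.card T →
      ∃ g, g * D.inv2 * g⁻¹ = e' ∧ F.PE g ≤ D.C ∧ F.PE g ≠ F.P ∧ Nat.card ↥(F.P ⊓ F.PE g) = 8 := by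
    intro e' he' he'U T hT hTC hTe h64
    obtain ⟨g, hg⟩ := D.conj_u (hord e' he' fun h => he'U (h ▸ one_mem _))
    have hne := F.PE_ne hg fun h => he'U (h ▸ mem_zpowers _)
    have hu : D.inv2 ∈ F.PE g := by
      by_contra hu
      have := F.not_mem_bound hg he' hu hT hTe hTC
      rw [hcard] at this
      nlinarith
    have h1 := F.meet_bound (F.PE_le_C hu) hne
    have h2 := F.part_bound hg F.isPGroup (hPe e' he')
    refine ⟨g, hg, F.PE_le_C hu, hne, ?_⟩
    rw [hcard] at h1 h2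
    nlinarith
  obtain ⟨g, hg, hC, hne, h8⟩ := single e heP heU T (IsPGroup.of_card hT64) (map_subtype_le _) hTe (by rw [hT64]; rfl)
  have hnorm : F.PE g ≤ normalizer (F.P : Set G) := hC.trans F.C_le_normalizer_P
  set S2 := F.P ⊔ F.PE g with hS2
  have hS2card : Nat.card S2 = 128 := by
    have h := Cfsg.Agent.Solv.card_sup_mul_card_inf' F.P (F.PE g) hnorm
    rw [h8, F.card_PE, hcard] at h
    rw [hS2]
    omega
  have hS2C : S2 ≤ D.C := sup_le F.P_le hC
  have he2P : e * D.inv2 ∈ F.P := mul_mem heP F.u_P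
  have he2U : e * D.inv2 ∉ U := fun h => heU ((mul_mem_cancel_right (mem_zpowers _)).1 h)
  have hS2e : S2 ≤ centralizer ({e * D.inv2} : Set G) := fun x hx => mem_centralizer_singleton_iff.2 (by
    have h1 : S2 ≤ centralizer ({e} : Set G) := sup_le (hPe e heP) (F.PE_le_cent hg)
    exact (show Commute x e from mem_centralizer_singleton_iff.1 (h1 hx)).mul_right
      (show Commute x D.inv2 from D.mem_C.1 (hS2C hx)))
  have hS2p : IsPGroup 2 S2 := IsPGroup.of_card (n := 7) (by rw [hS2card]; rfl)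
  obtain ⟨g', hg', hC', hne', h8'⟩ := single _ he2P he2U S2 hS2p hS2C hS2e (by rw [hS2card]; norm_num)
  have hp' : IsPGroup 2 (F.PE g') :=
    F.isPGroup.map _
  have hle : F.PE g' ≤ S2 := by
    have hn : S2 ≤ normalizer (F.PE g' : Set G) := hS2e.trans (F.cent_normalizes_PE hg')
    have h := F.sylow_le (hS2p.to_sup_of_normal_right' hp' hn)
    rw [hcard] at h
    exact le_sup_right.trans (eq_of_le_of_card_ge (le_sup_left : S2 ≤ S2 ⊔ F.PE g') (by rw [hS2card]; omega)).ge
  have hunion : ∀ z ∈ F.PE g', z ∈ F.P ∨ z ∈ F.PE g := by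
    intro z hz
    have hz' : z ∈ (F.P : Set G) * (F.PE g : Set G) := by
      rw [← coe_mul_of_right_le_normalizer_left F.P (F.PE g) hnorm]
      exact hle hz
    obtain ⟨p, hp, y, hy, rfl⟩ := hz'
    by_cases hyP : y ∈ F.P
    · exact Or.inl (mul_mem hp hyP)
    refine Or.inr (mul_mem ?_ hy)
    have hpy : p * y = y * p := by
      have h : p * y = (p * y)⁻¹ := eq_inv_of_mul_eq_one_left (F.PE_sq hz)
      rw [mul_inv_rev, ← eq_inv_of_mul_eq_one_left (F.elem p hp), ← eq_inv_of_mul_eq_one_left (F.PE_sq hy)] at h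
      exact h
    have hb := F.fix_bound (hC hy) hyP (by rw [F.PE_sq hy]; exact one_mem _)
    have hle' : F.P ⊓ F.PE g ≤ F.P ⊓ centralizer ({y} : Set G) := fun x hx => ⟨hx.1,
      mem_centralizer_singleton_iff.2 (by
        have h : x * y = (x * y)⁻¹ := eq_inv_of_mul_eq_one_left (F.PE_sq (mul_mem hx.2 hy))
        rw [mul_inv_rev, ← eq_inv_of_mul_eq_one_left (F.PE_sq hx.2), ← eq_inv_of_mul_eq_one_left (F.PE_sq hy)] at h
        exact h)⟩
    have heq := eq_of_le_of_card_ge hle' (by rw [h8, hcard] at *; nlinarith)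
    exact (heq.symm ▸ (⟨hp, mem_centralizer_singleton_iff.2 hpy⟩ : p ∈ F.P ⊓ centralizer ({y} : Set G)) :
      p ∈ F.P ⊓ F.PE g).2
  have heq : F.PE g' = F.PE g := by
    refine eq_of_le_of_card_ge (fun z hz => ?_) (by rw [F.card_PE, F.card_PE])
    by_contra hzg
    refine hne' (eq_of_le_of_card_ge (fun x hx => ?_) (by rw [F.card_PE]))
    rcases hunion x hx with h | h
    · exact h
    · have hzP := (hunion z hz).resolve_right hzg
      rcases hunion (z * x) (mul_mem hz hx) with h' | h'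
      · exact (mul_mem_cancel_left hzP).1 h'
      · exact absurd ((mul_mem_cancel_right h).1 h') hzg
  have hgN : g⁻¹ * g' ∈ normalizer (F.P : Set G) := mem_normalizer_iff.2 fun x => by
    have h1 : g' * x * g'⁻¹ ∈ F.PE g' ↔ x ∈ F.P := by rw [F.mem_PE]; simp [mul_assoc]
    rw [← h1, heq, F.mem_PE]
    simp [mul_assoc]
  have hcomm := D.mem_C.1 (F.normalizer_le hgN)
  have hee : e * D.inv2 = e := by
    calc e * D.inv2 = g' * D.inv2 * g'⁻¹ := hg'.symm
      _ = g * (g⁻¹ * g' * D.inv2) * g'⁻¹ := by group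
      _ = g * (D.inv2 * (g⁻¹ * g')) * g'⁻¹ := by rw [hcomm]
      _ = g * D.inv2 * g⁻¹ := by group
      _ = e := hg
  exact D.u_ne (mul_eq_left.1 hee)

/-- The kernel is trivial. -/
theorem false_of_ne (hne : F.φ.ker ≠ zpowers D.inC) : False := by
  classical
  haveI : Fact (Nat.Prime 2) := ⟨Nat.prime_two⟩
  set U := zpowers D.inv2 with hU
  have hUP : U ≤ F.P := zpowers_le.2 F.u_P
  obtain ⟨k, hk, htrans⟩ := F.module U hUP D.C_le_normalizer (mem_zpowers _)
  have hU2 : Nat.card U = 2 := by rw [hU, Nat.card_zpowers, D.u_ord]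
  have hk0 : k ≠ 0 := by
    rintro rfl
    refine hne (le_antisymm (fun x hx => ?_) (zpowers_le.2 F.hu))
    rw [pow_zero, one_mul] at hk
    have hxP : (x : G) ∈ F.P := F.mem_P.2 ⟨x.2, hx⟩
    rw [← eq_of_le_of_card_ge hUP hk.le] at hxP
    exact D.mem_zInC.2 (D.mem_zu.1 hxP)
  have hPU : ¬ F.P ≤ U := fun h => by
    have := Nat.le_of_dvd Nat.card_pos (card_dvd_of_le h)
    rw [hk, hU2] at this
    have := Nat.le_self_pow hk0 16
    omega
  obtain ⟨e, heP, heU⟩ := SetLike.not_le_iff_exists.1 hPU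
  have heU' : e ≠ 1 ∧ e ≠ D.inv2 := ⟨fun h => heU (h ▸ one_mem _), fun h => heU (h ▸ mem_zpowers _)⟩
  have hord : ∀ z ∈ F.P, z ≠ 1 → orderOf z = 2 := fun z hz hz1 =>
    orderOf_eq_prime (by rw [pow_two]; exact F.elem z hz) hz1
  obtain ⟨g, hg⟩ := D.conj_u (hord e heP heU'.1)
  have hPe : ∀ e' ∈ F.P, F.P ≤ centralizer ({e'} : Set G) := fun e' he' x hx =>
    mem_centralizer_singleton_iff.2 (F.commP hx he')
  by_cases huPE : D.inv2 ∈ F.PE g
  swap
  · have h := F.not_mem_bound hg heP huPE F.isPGroup (hPe e heP) F.P_le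
    -- only the smallest case survives
    have hk1 : k = 1 := by
      by_contra hk1
      rw [pow_two, hk, hU2] at h
      have : 16 ^ 2 ≤ 16 ^ k := Nat.pow_le_pow_right (by norm_num) (by omega)
      nlinarith
    exact F.small (by rw [hk, hU2, hk1]; rfl) (htrans hk1)
  by_cases hk1 : k = 1
  · exact F.small (by rw [hk, hU2, hk1]; rfl) (htrans hk1)
  have hPEC := F.PE_le_C huPE
  have h1 := F.meet_bound hPEC (F.PE_ne hg heU'.2)
  have h2 := F.part_bound hg F.isPGroup (hPe e heP)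
  have : 16 ^ 2 ≤ 16 ^ k := Nat.pow_le_pow_right (by norm_num) (by omega)
  rw [hk, hU2] at h1 h2
  have h3 := Nat.pow_le_pow_left h2 2
  rw [mul_pow] at h3
  nlinarith

end FiveCtx

end Cfsg.Agent.Char.OrderSix
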