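import Cfsg.Agent.Lib.Char.OrderSix.FiveEnd

/-!
# A centraliser with quotient the alternating group of degree five
-/

set_option autoImplicit false
set_option linter.unusedSectionVars false
set_option linter.style.haveILetI false

open Cfsg Subgroup
open scoped commutatorElement

namespace Cfsg.Agent.Char.OrderSix

universe u
variable {G : Type u} [Group G] [Finite G] [IsSimpleGroup G]

theorem Ctx.five_case (D : Ctx G) (hna : ¬ IsMulCommutative G) (h : D.ShapeFive) : Cfsg.Spor.IsoJ1 G := by
  obtain ⟨φ, hsurj, hu, hsq⟩ := h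
  by_cases hker : φ.ker = zpowers D.inC
  · exact D.five_trivial hna φ hsurj hker
  exfalso
  set y := φ ⟨D.el3, D.w_C⟩ with hy
  have hy3 : y ^ 3 = 1 := by
    rw [hy, ← map_pow, show (⟨D.el3, D.w_C⟩ : D.C) ^ 3 = 1 from Subtype.ext (D.w_ord ▸ pow_orderOf_eq_one D.el3),
      map_one]
  have hy1 : y ≠ 1 := fun h => by
    have hw : (⟨D.el3, D.w_C⟩ : D.C) ∈ φ.ker := h
    have h4 : ((⟨D.el3, D.w_C⟩ : D.C) * ⟨D.el3, D.w_C⟩) ∈ zpowers D.inC := (hsq _ hw _ hw).1
    have hord : orderOf (D.el3 * D.el3) = 3 := by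
      rw [← pow_two, orderOf_pow' _ two_ne_zero, D.w_ord]; rfl
    rcases D.mem_zInC.1 h4 with e | e
    · rw [show D.el3 * D.el3 = 1 from e, orderOf_one] at hord; omega
    · rw [show D.el3 * D.el3 = D.inv2 from e, D.u_ord] at hord; omega
  obtain ⟨g, hg⟩ := FiveModule.conj_three y hy3 hy1
  set e := (MulAut.conj g).symm with he
  have hk : (e.toMonoidHom.comp φ).ker = φ.ker := by
    ext x
    rw [MonoidHom.mem_ker, MonoidHom.mem_ker]
    exact e.map_eq_one_iff
  let F : FiveCtx D :=
    { φ := e.toMonoidHom.comp φ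
      surj := e.surjective.comp hsurj
      hu := hk.symm ▸ hu
      hsq := hk.symm ▸ hsq
      hw := by
        show e y = _
        rw [he, MulEquiv.symm_apply_eq]
        exact hg.symm }
  exact F.false_of_ne (hk.symm ▸ hker)

end Cfsg.Agent.Char.OrderSix
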