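import Cfsg.Agent.Lib.Lie.InvCentralizerFour
import Cfsg.Agent.Lib.Char.OneClassProducts
import Cfsg.Agent.Lib.Char.OrderSix.Dioph

/-!
# The principal 2-block of a group with a Sylow four-group and one class of involutions
-/

set_option autoImplicit false
set_option linter.unusedSectionVars false
set_option linter.style.haveILetI false

open Cfsg

namespace Cfsg.Agent.Char.OrderSix

universe u
variable {G : Type u} [Group G] [Fintype G] {M : Ideal AlgInt}

open Cfsg.Agent Cfsg.Agent.Char in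
/-- The signed degrees of the principal block. -/
theorem four_data (hM : IsPModular 2 M) (P : Sylow 2 G) (hP : Nat.card P = 4) {x : G} (hxP : x ∈ (P : Subgroup G))
    (hx : orderOf x = 2) (hexp : ∀ y : P, y * y = 1)
    (hone : ∀ s t : G, orderOf s = 2 → orderOf t = 2 → IsConj s t) :
    ∃ (c1 c2 c3 : IrrCharacter G) (e1 e2 e3 : ℤ),
      (∀ c, c ∈ principalBlock M G ↔ (c : G → ℂ) = (fun _ => 1) ∨ c = c1 ∨ c = c2 ∨ c = c3) ∧
      ((c1 : G → ℂ) ≠ (fun _ => 1) ∧ (c2 : G → ℂ) ≠ (fun _ => 1) ∧ (c3 : G → ℂ) ≠ (fun _ => 1)) ∧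
      ((e1 = 1 ∨ e1 = -1) ∧ (e2 = 1 ∨ e2 = -1) ∧ (e3 = 1 ∨ e3 = -1)) ∧
      ((c1 : G → ℂ) x = e1 ∧ (c2 : G → ℂ) x = e2 ∧ (c3 : G → ℂ) x = e3) ∧
      ((e1 * (charDegree (c1 : G → ℂ) : ℤ)) % 4 = 1 ∧ (e2 * (charDegree (c2 : G → ℂ) : ℤ)) % 4 = 1 ∧
        (e3 * (charDegree (c3 : G → ℂ) : ℤ)) % 4 = 1) ∧
      1 + e1 * (charDegree (c1 : G → ℂ) : ℤ) + e2 * charDegree (c2 : G → ℂ) + e3 * charDegree (c3 : G → ℂ) = 0 ∧
      (Nat.card G : ℤ) * (Nat.card (Subgroup.centralizer ((P : Subgroup G) : Set G)) : ℤ) ^ 2 *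
          ((1 + e1 * charDegree (c1 : G → ℂ)) * (1 + e2 * charDegree (c2 : G → ℂ)) *
            (1 + e3 * charDegree (c3 : G → ℂ))) =
        8 * (Nat.card ↥(Subgroup.centralizer ({x} : Set G)) : ℤ) ^ 3 *
          (e1 * charDegree (c1 : G → ℂ) * (e2 * charDegree (c2 : G → ℂ)) * (e3 * charDegree (c3 : G → ℂ))) := by
  classical
  haveI : Fact (Nat.Prime 2) := ⟨Nat.prime_two⟩
  have hx1 : x ≠ 1 := fun h => by simp [h] at hx
  obtain ⟨z, hk, hz, hz2⟩ := four_signs hM P hP hexp hone hxP hx1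
  set B := principalBlock M G
  set one : IrrCharacter G := ⟨fun _ => 1, isIrrCharacter_one⟩
  have h1B : one ∈ B := self_mem_blockOf (pmod_prime hM) one
  have hcard : (B.toFinset.erase one).card = 3 := by
    rw [Finset.card_erase_of_mem (Set.mem_toFinset.2 h1B), Set.toFinset_card, ← Nat.card_eq_fintype_card, hk]
  obtain ⟨c1, c2, c3, h12, h13, h23, hB3⟩ := Finset.card_eq_three.1 hcard
  have hmem : ∀ c, c ∈ B ↔ c = one ∨ c = c1 ∨ c = c2 ∨ c = c3 := fun c => by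
    have h := Finset.ext_iff.1 hB3 c
    simp only [Finset.mem_erase, Set.mem_toFinset, Finset.mem_insert, Finset.mem_singleton] at h
    by_cases hc : c = one
    · simp [hc, h1B]
    · simp only [ne_eq, hc, not_false_eq_true, true_and] at h
      simp [h, hc]
  have hnot : ∀ c, c = c1 ∨ c = c2 ∨ c = c3 → c ≠ one := fun c hc => by
    have h := (Finset.ext_iff.1 hB3 c).2 (by simp [hc])
    exact (Finset.mem_erase.1 h).1
  have hzc : ∀ c, c = c1 ∨ c = c2 ∨ c = c3 → z c = 1 ∨ z c = -1 := fun c hc =>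
    sq_eq_one_iff.1 (hz2 c ((hmem c).2 (Or.inr hc)))
  obtain ⟨hdeg, hcnt, -⟩ := four_equations hM P hP hexp hone hxP hx (χ₁ := c1) (χ₂ := c2) (χ₃ := c3)
    (ε₁ := z c1) (ε₂ := z c2) (ε₃ := z c3)
    (Set.ext fun c => by
      rw [Set.mem_setOf_eq, hmem]
      exact or_congr ⟨fun h => by rw [h], fun h => Subtype.ext h⟩ Iff.rfl)
    ⟨fun h => hnot c1 (Or.inl rfl) (Subtype.ext h), fun h => hnot c2 (Or.inr (Or.inl rfl)) (Subtype.ext h),
      fun h => hnot c3 (Or.inr (Or.inr rfl)) (Subtype.ext h), h12, h13, h23⟩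
    ⟨hzc c1 (Or.inl rfl), hzc c2 (Or.inr (Or.inl rfl)), hzc c3 (Or.inr (Or.inr rfl))⟩ ⟨hz c1, hz c2, hz c3⟩
  set cP := Nat.card (Subgroup.centralizer ((P : Subgroup G) : Set G)) with hcP
  set cx := Nat.card ↥(Subgroup.centralizer ({x} : Set G)) with hcx
  have hcx0 : (cx : ℚ) ≠ 0 := Nat.cast_ne_zero.mpr Nat.card_pos.ne'
  -- congruence modulo four
  have hcong : ∀ c, (c = c1 ∨ c = c2 ∨ c = c3) → (z c * (charDegree (c : G → ℂ) : ℤ)) % 4 = 1 := by
    intro c hc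
    haveI : Fintype (P : Subgroup G) := Fintype.ofFinite _
    obtain ⟨n, hn⟩ := classInner_natCast (isCharacter_comp (P : Subgroup G).subtype (irr_isCharacter c.2))
      (isCharacter_one (G := (P : Subgroup G)))
    have hval : ∀ a : (P : Subgroup G), a ≠ 1 → (c : G → ℂ) a = z c := by
      intro a ha
      have ha2 : orderOf (a : G) = 2 := orderOf_eq_prime
        (by have := congrArg Subtype.val (hexp a); rw [← pow_two] at this; simpa using this)
        fun h => ha (Subtype.ext h)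
      obtain ⟨g, hg⟩ := isConj_iff.1 (hone a x ha2 hx)
      rw [← isClassFunction_character (irr_isCharacter c.2) (a : G) g, hg, hz]
    simp only [classInner, Function.comp_apply, Subgroup.coe_subtype, map_one, mul_one] at hn
    rw [← Finset.add_sum_erase _ _ (Finset.mem_univ (1 : (P : Subgroup G))),
      Finset.sum_congr rfl (fun a ha => hval a (Finset.ne_of_mem_erase ha)), Finset.sum_const,
      Finset.card_erase_of_mem (Finset.mem_univ _), Finset.card_univ, ← Nat.card_eq_fintype_card,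
      show Nat.card (P : Subgroup G) = 4 from hP, OneMemClass.coe_one, char_one_eq_deg (irr_isCharacter c.2),
      ← charDegree_eq_deg, inv_mul_eq_iff_eq_mul₀ (by norm_num)] at hn
    have hn' : (charDegree (c : G → ℂ) : ℤ) + 3 * z c = 4 * n := by
      apply Int.cast_injective (α := ℂ)
      push_cast
      simpa [nsmul_eq_mul] using hn
    rcases hzc c hc with h | h <;> rw [h] at hn' ⊢ <;> omega
  have hd0 : ∀ c : IrrCharacter G, (charDegree (c : G → ℂ) : ℚ) ≠ 0 := fun c => by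
    rw [charDegree_eq_deg]; exact Nat.cast_ne_zero.mpr (deg_pos c.2).ne'
  have hsq : ∀ c, (c = c1 ∨ c = c2 ∨ c = c3) → (z c * (charDegree (c : G → ℂ) : ℤ)) ^ 2 = (charDegree (c : G → ℂ) : ℤ) ^ 2 := by
    intro c hc; rcases hzc c hc with h | h <;> rw [h] <;> ring
  refine ⟨c1, c2, c3, z c1, z c2, z c3, fun c => (hmem c).trans (or_congr ⟨fun h => by rw [h], fun h => Subtype.ext h⟩ Iff.rfl),
    ⟨fun h => hnot c1 (Or.inl rfl) (Subtype.ext h), fun h => hnot c2 (Or.inr (Or.inl rfl)) (Subtype.ext h),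
      fun h => hnot c3 (Or.inr (Or.inr rfl)) (Subtype.ext h)⟩,
    ⟨hzc c1 (Or.inl rfl), hzc c2 (Or.inr (Or.inl rfl)), hzc c3 (Or.inr (Or.inr rfl))⟩, ⟨hz c1, hz c2, hz c3⟩,
    ⟨hcong c1 (Or.inl rfl), hcong c2 (Or.inr (Or.inl rfl)), hcong c3 (Or.inr (Or.inr rfl))⟩, hdeg, ?_⟩
  have i1 : (z c1 : ℚ) ^ 2 = 1 := by exact_mod_cast hz2 c1 ((hmem c1).2 (Or.inr (Or.inl rfl)))
  have i2 : (z c2 : ℚ) ^ 2 = 1 := by exact_mod_cast hz2 c2 ((hmem c2).2 (Or.inr (Or.inr (Or.inl rfl))))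
  have i3 : (z c3 : ℚ) ^ 2 = 1 := by exact_mod_cast hz2 c3 ((hmem c3).2 (Or.inr (Or.inr (Or.inr rfl))))
  have hd : (1 : ℚ) + z c1 * charDegree (c1 : G → ℂ) + z c2 * charDegree (c2 : G → ℂ) +
      z c3 * charDegree (c3 : G → ℂ) = 0 := by exact_mod_cast hdeg
  have := hd0 c1; have := hd0 c2; have := hd0 c3
  have e1 := hcnt
  field_simp at e1
  apply Int.cast_injective (α := ℚ)
  push_cast
  linear_combination ((z c1 : ℚ) * z c2 * z c3) * e1
    + (Nat.card G : ℚ) * (cP : ℚ) ^ 2 * hd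
    - (Nat.card G : ℚ) * (cP : ℚ) ^ 2 * ((z c2 * z c3 * charDegree (c2 : G → ℂ) * charDegree (c3 : G → ℂ)) * i1
      + (z c1 * z c3 * charDegree (c1 : G → ℂ) * charDegree (c3 : G → ℂ)) * i2
      + (z c1 * z c2 * charDegree (c1 : G → ℂ) * charDegree (c2 : G → ℂ)) * i3)

end Cfsg.Agent.Char.OrderSix
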