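import Cfsg.Agent.Lib.Char.OrderSix.SymLocal
import Cfsg.Agent.Lib.Solv.Extraspecial

/-!
# Index six: an extraspecial two-part
-/

set_option autoImplicit false
set_option linter.unusedSectionVars false
set_option linter.style.haveILetI false

open Cfsg Subgroup
open scoped Pointwise commutatorElement

namespace Cfsg.Agent.Char.OrderSix

universe u
variable {G : Type u} [Group G] [Finite G]

namespace SymCtx

variable {D : Ctx G} (F : SymCtx D)

theorem U_Zc {z : G} (hz : z ∈ zpowers D.inv2) : z ∈ F.Zc :=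
  ⟨F.zu_le hz, fun x hx => by
    rw [show x * z = z * x from (F.U_comm hz (F.P_le_C hx)).eq.symm, mul_inv_cancel_right, mul_inv_cancel]
    exact one_mem _⟩

/-- squares of the second centre -/
theorem sq_Zc (hV : ∀ v ∈ F.V, v ∈ zpowers D.inv2) {z : G} (hz : z ∈ F.Zc) : z * z ∈ zpowers D.inv2 := by
  refine F.centre_sq (mul_mem hz.1 hz.1) (fun x hx => ?_) hV
  refine mul_inv_eq_iff_eq_mul.1 ?_
  rcases D.mem_zu.1 (hz.2 x hx) with h | h
  · calc x * (z * z) * x⁻¹ = (x * z * x⁻¹) * (x * z * x⁻¹) := by group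
      _ = z * z := by rw [mul_inv_eq_one.1 h]
  · calc x * (z * z) * x⁻¹ = (x * z * x⁻¹) * (x * z * x⁻¹) := by group
      _ = D.inv2 * z * (D.inv2 * z) := by rw [mul_inv_eq_iff_eq_mul.1 h]
      _ = z * z := by
        rw [(show Commute z D.inv2 from D.mem_C.1 (F.P_le_C hz.1)).mul_mul_mul_comm, D.uu, one_mul]

/-- the congruence for invariant subgroups of the two-part -/
theorem card_mod_inv {K : Subgroup G} (hKP : K ≤ F.P) (hu : D.inv2 ∈ K)
    (hw : ∀ x ∈ K, D.el3 * x * D.el3⁻¹ ∈ K) : Nat.card K % 3 = 2 := by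
  classical
  haveI : Fact (Nat.Prime 3) := ⟨Nat.prime_three⟩
  letI : Fintype K := Fintype.ofFinite _
  let f : K → K := fun v => ⟨D.el3 * v * D.el3⁻¹, hw v v.2⟩
  have hw3 : D.el3 * D.el3 * D.el3 = 1 := by
    have h := pow_orderOf_eq_one D.el3
    rw [D.w_ord] at h
    simpa [pow_succ, mul_assoc] using h
  have hf : ∀ v : G, D.el3 * (D.el3 * (D.el3 * v * D.el3⁻¹) * D.el3⁻¹) * D.el3⁻¹ = v := fun v => by
    calc _ = D.el3 * D.el3 * D.el3 * v * (D.el3 * D.el3 * D.el3)⁻¹ := by group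
      _ = v := by rw [hw3]; group
  let e : Equiv.Perm K := ⟨f, fun v => f (f v), fun v => Subtype.ext (hf v), fun v => Subtype.ext (hf v)⟩
  have hpow : e ^ 3 ^ 1 = 1 := Equiv.ext fun v => Subtype.ext (hf v)
  have hfix := Equiv.Perm.card_compl_support_modEq (p := 3) (n := 1) hpow
  rw [← Nat.card_eq_fintype_card] at hfix
  have h1 : e.supportᶜ = {1, ⟨D.inv2, hu⟩} := by
    ext v
    rw [Finset.mem_compl, Equiv.Perm.notMem_support, Finset.mem_insert, Finset.mem_singleton]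
    refine ⟨fun h => ?_, ?_⟩
    · rcases F.fix_P (hKP v.2) (mul_inv_eq_iff_eq_mul.1 (congrArg Subtype.val h)).symm with h | h
      · exact Or.inl (Subtype.ext h)
      · exact Or.inr (Subtype.ext h)
    · rintro (rfl | rfl)
      · exact Subtype.ext (by show D.el3 * 1 * D.el3⁻¹ = 1; group)
      · exact Subtype.ext (by show D.el3 * D.inv2 * D.el3⁻¹ = D.inv2; rw [← D.comm_uw, mul_inv_cancel_right])
  rw [h1, Finset.card_pair (fun h => D.u_ne (congrArg Subtype.val h).symm)] at hfix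
  exact hfix.symm

/-- the nilpotent subgroup is the product of its parts -/
theorem N_split {n : G} (hn : n ∈ F.N) : ∃ p ∈ F.P, ∃ q ∈ F.W, n = p * q := by
  classical
  have hnorm : F.W ≤ normalizer (F.P : Set G) := F.W_le_C.trans F.C_le_normalizer_P
  have h := Cfsg.Agent.Solv.card_sup_mul_card_inf' F.P F.W hnorm
  have hinf : F.P ⊓ F.W = ⊥ := (disjoint_of_coprime_natCard (by
    haveI : Fact (Nat.Prime 2) := ⟨Nat.prime_two⟩
    obtain ⟨k, hk⟩ := IsPGroup.iff_card.1 F.isPGroup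
    rw [hk]
    exact (Nat.coprime_two_left.2 F.hodd).pow_left k)).eq_bot
  rw [hinf, card_bot, mul_one, ← F.hcard] at h
  have htop : F.P ⊔ F.W = F.N := eq_of_le_of_card_ge (sup_le F.P_le F.W_le) h.ge
  have hn' : n ∈ (F.P : Set G) * (F.W : Set G) := by
    rw [← coe_mul_of_right_le_normalizer_left F.P F.W hnorm, htop]; exact hn
  obtain ⟨p, hp, q, hq, rfl⟩ := hn'
  exact ⟨p, hp, q, hq, rfl⟩

end SymCtx

namespace LineCtx

variable {D : Ctx G} (F : LineCtx D)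

variable [IsSimpleGroup G]

/-- the second centre is everything -/
theorem Zc_eq : F.Zc = F.P := by
  classical
  haveI : Fact (Nat.Prime 2) := ⟨Nat.prime_two⟩
  have hle : F.Zc ≤ F.P := fun z hz => hz.1
  refine le_antisymm hle ?_
  by_contra hne
  obtain ⟨x, hxP, hxZ⟩ := SetLike.not_le_iff_exists.1 hne
  have hmod := F.toSymCtx.card_mod_inv hle (F.toSymCtx.U_Zc (mem_zpowers _)) fun z hz => F.conj_Zc D.w_C hz
  obtain ⟨k, hk⟩ := IsPGroup.iff_card.1 (F.isPGroup.to_le hle)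
  have hd := card_dvd_of_le hle
  rw [F.thirty_two, hk, show (32 : ℕ) = 2 ^ 5 from rfl, Nat.pow_dvd_pow_iff_le_right one_lt_two] at hd
  have h5 : k ≠ 5 := fun h => hne (eq_of_le_of_card_ge hle (by rw [F.thirty_two, hk, h]; rfl)).ge
  have hk1 : 2 ≤ k := by
    by_contra h
    have hZU : zpowers D.inv2 = F.Zc :=
      eq_of_le_of_card_ge (zpowers_le.2 (F.toSymCtx.U_Zc (mem_zpowers _))) (by
        rw [hk, Nat.card_zpowers, D.u_ord]
        exact (Nat.pow_le_pow_right two_pos (show k ≤ 1 by omega)).trans (le_of_eq rfl))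
    exact F.heU (hZU.symm ▸ F.heZ)
  have hk3 : k = 3 := by
    rw [hk] at hmod
    interval_cases k <;> omega
  -- the quotient has order four
  set Z' := F.Zc.subgroupOf F.P with hZ'
  haveI hZn : Z'.Normal := (normal_subgroupOf_iff_le_normalizer hle).2 fun m hm => mem_normalizer_iff.2 fun z =>
    ⟨fun hz => F.conj_Zc (F.P_le_C hm) hz, fun hz => by
      simpa [mul_assoc] using F.conj_Zc (inv_mem (F.P_le_C hm)) hz⟩
  have h4 : Nat.card (F.P ⧸ Z') = 4 := by
    have h := card_eq_card_quotient_mul_card_subgroup Z'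
    rw [Nat.card_congr (subgroupOfEquivOfLe hle).toEquiv, F.thirty_two, hk, hk3] at h
    omega
  set y := D.el3 * x * D.el3⁻¹ with hy
  have hyP : y ∈ F.P := F.conj_P D.w_C hxP
  set π := QuotientGroup.mk' Z'
  set X := π ⟨x, hxP⟩ with hX
  set Y := π ⟨y, hyP⟩ with hY
  have hmem : ∀ z : F.P, π z = 1 ↔ (z : G) ∈ F.Zc := fun z => QuotientGroup.eq_one_iff z
  have hX1 : X ≠ 1 := fun h => hxZ ((hmem _).1 h)
  have hY1 : Y ≠ 1 := fun h => hxZ (by
    have := F.conj_Zc (inv_mem D.w_C) ((hmem _).1 h)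
    simpa [hy, mul_assoc] using this)
  have hXY : X ≠ Y := fun h => hxZ (F.fixed_quot_P hle (F.toSymCtx.U_Zc (mem_zpowers _))
    (mem_normalizer_iff.2 fun z => ⟨fun hz => F.conj_Zc D.w_C hz, fun hz => by
      simpa [mul_assoc] using F.conj_Zc (inv_mem D.w_C) hz⟩) hxP
    ((hmem (⟨x, hxP⟩⁻¹ * ⟨y, hyP⟩)).1 (by rw [map_mul, map_inv, ← hX, ← hY, h, inv_mul_cancel])))
  haveI : IsMulCommutative (F.P ⧸ Z') := by
    exact IsPGroup.isMulCommutative_of_card_eq_prime_sq (p := 2) (h4.trans (by norm_num))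
  have hcm : ∀ a b : F.P ⧸ Z', a * b = b * a := fun a b => IsMulCommutative.is_comm.comm a b
  have hc : x * y * x⁻¹ * y⁻¹ ∈ F.Zc := (hmem (⟨x, hxP⟩ * ⟨y, hyP⟩ * ⟨x, hxP⟩⁻¹ * ⟨y, hyP⟩⁻¹)).1 (by
    rw [map_mul, map_mul, map_mul, map_inv, map_inv, hcm (π _) (π _), mul_inv_cancel_right, mul_inv_cancel])
  -- the element of order three acting on the quotient
  set W1 : F.P → F.P := fun v => ⟨D.el3 * v * D.el3⁻¹, F.conj_P D.w_C v.2⟩ with hW1
  have hW1mul : ∀ p q : F.P, W1 (p * q) = W1 p * W1 q := fun p q => Subtype.ext (by simp [hW1, mul_assoc])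
  have hcong : ∀ p q : F.P, π p = π q → π (W1 p) = π (W1 q) := fun p q h => by
    have h1 : (p : G)⁻¹ * q ∈ F.Zc := (hmem (p⁻¹ * q)).1 (by rw [map_mul, map_inv, h, inv_mul_cancel])
    have h2 : (W1 p : G)⁻¹ * W1 q ∈ F.Zc := by
      have := F.conj_Zc D.w_C h1
      rwa [show D.el3 * ((p : G)⁻¹ * q) * D.el3⁻¹ = (W1 p : G)⁻¹ * W1 q by simp [hW1, mul_assoc]] at this
    have h3 := (hmem ((W1 p)⁻¹ * W1 q)).2 h2
    rw [map_mul, map_inv] at h3
    exact inv_mul_eq_one.1 h3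
  set z := D.el3 * y * D.el3⁻¹ with hz
  have hzP : z ∈ F.P := F.conj_P D.w_C hyP
  set Z := π ⟨z, hzP⟩ with hZ
  have hW3 : W1 ⟨z, hzP⟩ = ⟨x, hxP⟩ := by
    have hw3 : D.el3 * D.el3 * D.el3 = 1 := by
      have h := pow_orderOf_eq_one D.el3
      rw [D.w_ord] at h
      simpa [pow_succ, mul_assoc] using h
    refine Subtype.ext ?_
    calc D.el3 * z * D.el3⁻¹ = (D.el3 * D.el3 * D.el3) * x * (D.el3 * D.el3 * D.el3)⁻¹ := by rw [hz, hy]; group
      _ = x := by rw [hw3]; group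
  have hW11 : W1 1 = 1 := Subtype.ext (by simp [hW1])
  have hz1 : Z ≠ 1 := fun h => hX1 (by
    have := hcong ⟨z, hzP⟩ 1 (by rw [map_one]; exact h)
    rwa [hW3, hW11, map_one] at this)
  have hXZ : Z ≠ X := fun h => hXY (by
    have := hcong ⟨z, hzP⟩ ⟨x, hxP⟩ h
    rwa [hW3] at this)
  have hYZ : Z ≠ Y := fun h => hXZ (by
    have := hcong ⟨z, hzP⟩ ⟨y, hyP⟩ h
    rw [hW3] at this
    exact this.symm)
  have hXY1 : X * Y ≠ 1 := fun h => by
    have h2 : Y * Z = 1 := by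
      have := hcong (⟨x, hxP⟩ * ⟨y, hyP⟩) 1 (by rw [map_one, map_mul]; exact h)
      rw [hW1mul, hW11, map_one, map_mul] at this
      exact this
    exact hXZ ((mul_left_cancel (h2.trans (h.symm.trans (hcm X Y)))))
  -- all four classes
  have hall : ∀ q : F.P ⧸ Z', q = 1 ∨ q = X ∨ q = Y ∨ q = X * Y := by
    intro q
    letI : Fintype (F.P ⧸ Z') := Fintype.ofFinite _
    have hcard : ({1, X, Y, X * Y} : Finset (F.P ⧸ Z')).card = 4 := by
      have e1 : X ≠ X * Y := fun h => hY1 (mul_eq_left.1 h.symm)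
      have e2 : Y ≠ X * Y := fun h => hX1 (mul_eq_right.1 h.symm)
      rw [Finset.card_insert_of_notMem, Finset.card_insert_of_notMem, Finset.card_pair e2]
      · simp [hXY, e1]
      · simp [hX1.symm, hY1.symm, hXY1.symm]
    have heq : ({1, X, Y, X * Y} : Finset (F.P ⧸ Z')) = Finset.univ :=
      (Finset.card_eq_iff_eq_univ _).1 (by rw [hcard, ← Nat.card_eq_fintype_card, h4])
    have := heq.symm ▸ Finset.mem_univ q
    simpa using this
  have hcase : (x * y)⁻¹ * z ∈ F.Zc := by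
    rcases hall Z with h | h | h | h
    · exact absurd h hz1
    · exact absurd h hXZ
    · exact absurd h hYZ
    · exact (hmem ((⟨x, hxP⟩ * ⟨y, hyP⟩)⁻¹ * ⟨z, hzP⟩)).1 (by
        rw [map_mul, map_inv, map_mul, ← hZ, h, inv_mul_cancel])
  -- the commutator is fixed modulo the involution
  set c := x * y * x⁻¹ * y⁻¹ with hcdef
  have hUn : D.el3 ∈ normalizer (zpowers D.inv2 : Set G) := D.C_le_normalizer D.w_C
  have hcU : c ∈ zpowers D.inv2 := by
    refine F.fixed_quot_P F.zu_le (mem_zpowers _) hUn (hle hc) ?_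
    set d := (x * y)⁻¹ * z with hd'
    set ν := y⁻¹ * d⁻¹ * y⁻¹⁻¹ * d⁻¹⁻¹ with hν
    have hνU : ν ∈ zpowers D.inv2 := (inv_mem hcase : d⁻¹ ∈ F.Zc).2 _ (inv_mem hyP)
    have e1 : D.el3 * c * D.el3⁻¹ = y * z * y⁻¹ * z⁻¹ := by rw [hcdef, hz, hy]; group
    have e2 : y * z * y⁻¹ * z⁻¹ = (y * x * y) * (d * (y⁻¹ * d⁻¹ * y⁻¹⁻¹ * d⁻¹⁻¹) * d⁻¹) * (y⁻¹ * x⁻¹ * y⁻¹) *
        (y * x * y⁻¹ * x⁻¹) := by
      rw [hd']; group
    have hcent : ∀ {p : G}, p ∈ D.C → p * ν * p⁻¹ = ν := fun hp => by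
      rw [← (F.toSymCtx.U_comm hνU hp).eq, mul_inv_cancel_right]
    have hd'' : d ∈ D.C := F.P_le_C (hle hcase)
    rw [e1, e2, ← hν, hcent hd'',
      show y⁻¹ * x⁻¹ * y⁻¹ = (y * x * y)⁻¹ by group,
      hcent (mul_mem (mul_mem (F.P_le_C hyP) (F.P_le_C hxP)) (F.P_le_C hyP)),
      show y * x * y⁻¹ * x⁻¹ = c⁻¹ by rw [hcdef]; group,
      show c⁻¹ * (ν * c⁻¹) = (c * c)⁻¹ * (c * ν * c⁻¹) by group, hcent (F.P_le_C (hle hc))]
    exact mul_mem (inv_mem (F.toSymCtx.sq_Zc F.hV hc)) hνU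
  -- every commutator with the new element is trivial modulo the involution
  refine hxZ ⟨hxP, fun p hp => ?_⟩
  have hgen : ∀ (v : G), v ∈ F.P → ∃ zz ∈ F.Zc, v = zz ∨ v = x * zz ∨ v = y * zz ∨ v = x * y * zz := by
    intro v hv
    rcases hall (π ⟨v, hv⟩) with h | h | h | h
    · exact ⟨v, (hmem _).1 h, Or.inl rfl⟩
    · exact ⟨x⁻¹ * v, (hmem (⟨x, hxP⟩⁻¹ * ⟨v, hv⟩)).1 (by rw [map_mul, map_inv, h, ← hX, inv_mul_cancel]),
        Or.inr (Or.inl (by group))⟩
    · exact ⟨y⁻¹ * v, (hmem (⟨y, hyP⟩⁻¹ * ⟨v, hv⟩)).1 (by rw [map_mul, map_inv, h, ← hY, inv_mul_cancel]),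
        Or.inr (Or.inr (Or.inl (by group)))⟩
    · exact ⟨(x * y)⁻¹ * v, (hmem ((⟨x, hxP⟩ * ⟨y, hyP⟩)⁻¹ * ⟨v, hv⟩)).1 (by
        rw [map_mul, map_inv, map_mul, h, ← hX, ← hY, inv_mul_cancel]), Or.inr (Or.inr (Or.inr (by group)))⟩
  have hconj : ∀ {m v : G}, m ∈ D.C → v ∈ zpowers D.inv2 → m * v * m⁻¹ ∈ zpowers D.inv2 := fun hm hv => by
    rw [← (F.toSymCtx.U_comm hv hm).eq, mul_inv_cancel_right]; exact hv
  obtain ⟨zz, hzz, hp'⟩ := hgen p hp
  have hzx : zz * x * zz⁻¹ * x⁻¹ ∈ zpowers D.inv2 := by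
    have := inv_mem (hzz.2 x hxP)
    simpa [mul_assoc] using this
  have hyx : y * x * y⁻¹ * x⁻¹ ∈ zpowers D.inv2 := by
    have := inv_mem hcU
    simpa [hcdef, mul_assoc] using this
  rcases hp' with rfl | rfl | rfl | rfl
  · exact hzx
  · rw [show x * zz * x * (x * zz)⁻¹ * x⁻¹ = x * (zz * x * zz⁻¹ * x⁻¹) * x⁻¹ by group]
    exact hconj (F.P_le_C hxP) hzx
  · rw [show y * zz * x * (y * zz)⁻¹ * x⁻¹ = (y * (zz * x * zz⁻¹ * x⁻¹) * y⁻¹) * (y * x * y⁻¹ * x⁻¹) by group]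
    exact mul_mem (hconj (F.P_le_C hyP) hzx) hyx
  · rw [show x * y * zz * x * (x * y * zz)⁻¹ * x⁻¹ =
      x * ((y * (zz * x * zz⁻¹ * x⁻¹) * y⁻¹) * (y * x * y⁻¹ * x⁻¹)) * x⁻¹ by group]
    exact hconj (F.P_le_C hxP) (mul_mem (hconj (F.P_le_C hyP) hzx) hyx)

theorem comm_U {x y : G} (hx : x ∈ F.P) (hy : y ∈ F.P) : x * y * x⁻¹ * y⁻¹ ∈ zpowers D.inv2 :=
  (show y ∈ F.Zc from F.Zc_eq.symm ▸ hy).2 x hx

/-- The two-part is extraspecial. -/
theorem extraspecial : IsExtraspecial 2 F.P := by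
  haveI : Fact (Nat.Prime 2) := ⟨Nat.prime_two⟩
  have hcen : ∀ z : F.P, z ∈ center F.P ↔ (z : G) ∈ zpowers D.inv2 := fun z => by
    rw [mem_center_iff]
    refine ⟨fun h => F.centre_sq z.2 (fun x hx => congrArg Subtype.val (h ⟨x, hx⟩)) F.hV, fun h y => ?_⟩
    exact Subtype.ext (F.toSymCtx.U_comm h (F.P_le_C y.2)).eq.symm
  have hc : Nat.card (center F.P) = 2 := by
    rw [show center F.P = (zpowers D.inv2).subgroupOf F.P from ext fun z => (hcen z).trans mem_subgroupOf.symm,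
      Nat.card_congr (subgroupOfEquivOfLe F.zu_le).toEquiv, Nat.card_zpowers, D.u_ord]
  refine Solv.isExtraspecial_of F.isPGroup hc (le_antisymm ?_ ?_) fun x => ?_
  · rw [commutator_def, Subgroup.commutator_le]
    intro x _ y _
    exact (hcen _).2 (F.comm_U x.2 y.2)
  · intro z hz
    obtain ⟨s, hs, hse⟩ := F.exists_mover
    rcases D.mem_zu.1 ((hcen z).1 hz) with h | h
    · rw [show z = 1 from Subtype.ext h]; exact one_mem _
    · have := commutator_mem_commutator (mem_top (⟨s, hs⟩ : F.P)) (mem_top (⟨F.e, F.e_P⟩ : F.P))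
      rw [show z = ⁅(⟨s, hs⟩ : F.P), ⟨F.e, F.e_P⟩⁆ from Subtype.ext (by
        show (z : G) = s * F.e * s⁻¹ * F.e⁻¹
        rw [h, hse, F.eu_comm.eq, mul_inv_cancel_right])]
      exact this
  · rw [hcen, SubmonoidClass.coe_pow, pow_two]
    exact F.toSymCtx.sq_Zc F.hV (F.Zc_eq.symm ▸ x.2)

/-- an element of odd order fixing the line -/
theorem mem_W_of_odd {x : G} (hx : x ∈ D.C) (hxe : x * F.e = F.e * x) (ho : Odd (orderOf x)) : x ∈ F.W := by
  refine (F.hW x).2 ⟨?_, ho⟩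
  obtain ⟨n, hn, i, j, hj, rfl⟩ := F.toSymCtx.C_cases hx
  have hUN : ∀ {v : G}, v ∈ zpowers D.inv2 → v ∈ F.N := fun hv => zpowers_le.2 F.hu hv
  interval_cases j
  · rw [pow_zero, mul_one] at hxe ho ⊢
    have hwi : D.el3 ^ i = D.el3 ^ (i % 3) := by conv_lhs => rw [← pow_mod_orderOf, D.w_ord]
    rcases (show i % 3 = 0 ∨ i % 3 = 1 ∨ i % 3 = 2 by omega) with h | h | h
    · rw [hwi, h, pow_zero, mul_one]; exact hn
    all_goals
      exfalso
      rw [hwi, h] at hxe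
      refine F.heU (F.fixed_quot_P F.zu_le (mem_zpowers _) (D.C_le_normalizer D.w_C) F.e_P ?_)
      obtain ⟨p, hp, q, hq, rfl⟩ := F.toSymCtx.N_split hn
    · set v := D.el3 * F.e * D.el3⁻¹ with hv
      have hvZ : v ∈ F.Zc := F.conj_Zc D.w_C F.heZ
      rw [pow_one] at hxe
      have h1 : p * q * v * (p * q)⁻¹ = F.e := by
        rw [show p * q * v * (p * q)⁻¹ = p * q * D.el3 * F.e * (p * q * D.el3)⁻¹ by rw [hv]; group, hxe,
          mul_inv_cancel_right]
      have h2 : q * v * q⁻¹ = v := by rw [← F.hcomm v hvZ.1 q hq, mul_inv_cancel_right]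
      have h3 : p * v * p⁻¹ = F.e := by
        rw [← h1, show p * q * v * (p * q)⁻¹ = p * (q * v * q⁻¹) * p⁻¹ by group, h2]
      have h4 := inv_mem (hvZ.2 p hp)
      rw [h3] at h4
      have h5 : F.e⁻¹ * v = F.e⁻¹ * (F.e * v⁻¹)⁻¹ * F.e⁻¹⁻¹ := by group
      rw [h5]
      exact (mem_normalizer_iff.1 (D.C_le_normalizer (inv_mem (F.P_le_C F.e_P))) _).1 h4
    · set v := D.el3⁻¹ * F.e * D.el3 with hv
      have hvZ : v ∈ F.Zc := by simpa [hv] using F.conj_Zc (inv_mem D.w_C) F.heZ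
      rw [show D.el3 ^ 2 = D.el3⁻¹ from eq_inv_of_mul_eq_one_left (by
        rw [← pow_succ, show 2 + 1 = orderOf D.el3 from D.w_ord.symm]; exact pow_orderOf_eq_one _)] at hxe
      have h1 : p * q * v * (p * q)⁻¹ = F.e := by
        rw [show p * q * v * (p * q)⁻¹ = p * q * D.el3⁻¹ * F.e * (p * q * D.el3⁻¹)⁻¹ by rw [hv]; group, hxe,
          mul_inv_cancel_right]
      have h2 : q * v * q⁻¹ = v := by rw [← F.hcomm v hvZ.1 q hq, mul_inv_cancel_right]
      have h3 : p * v * p⁻¹ = F.e := by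
        rw [← h1, show p * q * v * (p * q)⁻¹ = p * (q * v * q⁻¹) * p⁻¹ by group, h2]
      have h4 := hvZ.2 p hp
      rw [h3] at h4
      have h6 : D.el3 * (F.e * v⁻¹) * D.el3⁻¹ ∈ zpowers D.inv2 :=
        (mem_normalizer_iff.1 (D.C_le_normalizer D.w_C) _).1 h4
      rw [show D.el3 * (F.e * v⁻¹) * D.el3⁻¹ = D.el3 * F.e * D.el3⁻¹ * F.e⁻¹ by rw [hv]; group] at h6
      rw [show F.e⁻¹ * (D.el3 * F.e * D.el3⁻¹) = F.e⁻¹ * (D.el3 * F.e * D.el3⁻¹ * F.e⁻¹) * F.e⁻¹⁻¹ by group]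
      exact (mem_normalizer_iff.1 (D.C_le_normalizer (inv_mem (F.P_le_C F.e_P))) _).1 h6
  · set r := D.el3 ^ i * F.a ^ 1 with hr
    have hrC : r ∈ D.C := mul_mem (pow_mem D.w_C i) (pow_mem F.haC 1)
    have hrr : r * r ∈ F.N := by
      rw [hr, pow_one, show D.el3 ^ i * F.a * (D.el3 ^ i * F.a) =
        D.el3 ^ i * (F.a * D.el3 * F.a⁻¹) ^ i * (F.a * F.a) by rw [conj_pow]; group, F.hinv, inv_pow, mul_inv_cancel,
        one_mul]
      exact hUN F.toSymCtx.asq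
    have h2 : n * r * (n * r) ∈ F.N := by
      rw [show n * r * (n * r) = n * (r * n * r⁻¹) * (r * r) by group]
      exact mul_mem (mul_mem hn ((mem_normalizer_iff.1 (F.hnorm hrC) n).1 hn)) hrr
    obtain ⟨m, hm⟩ := ho
    have h1 := pow_orderOf_eq_one (n * r)
    rw [hm, pow_succ, pow_mul, pow_two] at h1
    rw [← inv_inv (n * r), ← eq_inv_of_mul_eq_one_left h1]
    exact inv_mem (pow_mem h2 m)

/-- The odd part is trivial. -/
theorem W_bot : F.W = ⊥ := by
  classical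
  haveI : Fact (Nat.Prime 2) := ⟨Nat.prime_two⟩
  obtain ⟨s, g, hsP, hse, hgT, hgu, -, -, -⟩ := F.exists_cycle
  have hsS := F.P_le_S hsP
  rw [eq_bot_iff]
  intro q0 hq0
  rw [mem_bot]
  by_contra hq1
  -- the normaliser of the fixer normalises the odd part
  have hline : ∀ m ∈ normalizer (F.T : Set G), ∀ z : G, z = D.inv2 ∨ z = F.e → ∀ q ∈ F.W,
      Commute q (m * z * m⁻¹) := by
    intro m hm z hz q hq
    have hzT : z ∈ F.T := by rcases hz with rfl | rfl; exacts [F.u_T, F.e_T]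
    have hzc : ∀ x ∈ F.T, x * z = z * x := fun x hx => by
      rcases hz with rfl | rfl
      · exact D.mem_C.1 (F.S_le_C (F.T_le_S hx))
      · exact (F.mem_T.1 hx).2
    have hz2 : z * z = 1 := by rcases hz with rfl | rfl; exacts [D.uu, F.he2]
    have hzm := (mem_normalizer_iff.1 hm z).1 hzT
    have hqe : Commute q F.e := (F.hcomm F.e F.e_P q hq).symm
    have hqu : Commute q D.inv2 := D.mem_C.1 (F.W_le_C hq)
    rcases F.Om_cases hzm (fun x hx => by
        have hx' : m⁻¹ * x * m ∈ F.T := by simpa using (mem_normalizer_iff.1 (inv_mem hm) x).1 hx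
        have := congrArg (fun v => m * v * m⁻¹) (hzc _ hx')
        simpa [mul_assoc] using this) (by
        rw [show m * z * m⁻¹ * (m * z * m⁻¹) = m * (z * z) * m⁻¹ by group, hz2]; group) with h | h | h | h <;> rw [h]
    exacts [Commute.one_right q, hqu, hqe, hqe.mul_right hqu]
  have hWn : ∀ m ∈ normalizer (F.T : Set G), ∀ q ∈ F.W, m * q * m⁻¹ ∈ F.W := by
    intro m hm q hq
    have h : ∀ z : G, z = D.inv2 ∨ z = F.e → m * q * m⁻¹ * z = z * (m * q * m⁻¹) := fun z hz => by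
      have h1 : Commute q (m⁻¹ * z * m) := by simpa using hline m⁻¹ (inv_mem hm) z hz q hq
      have := congrArg (fun v => m * v * m⁻¹) h1.eq
      simpa [mul_assoc] using this
    refine F.mem_W_of_odd (D.mem_C.2 (h _ (Or.inl rfl))) (h _ (Or.inr rfl)) ?_
    rw [show m * q * m⁻¹ = (MulAut.conj m).toMonoidHom q from rfl, orderOf_injective _ (MulAut.conj m).injective]
    exact ((F.hW q).1 hq).2
  set I := F.T ⊓ F.P with hI
  have hout : ∀ t ∈ F.T, (∀ q ∈ F.W, Commute t q) → t ∈ I := by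
    intro t ht htc
    refine mem_inf.2 ⟨ht, by_contra fun htP => ?_⟩
    obtain ⟨p, hp, rfl⟩ := F.toSymCtx.S_coset (F.T_le_S ht) htP
    have ha : ∀ q ∈ F.W, Commute F.a q := fun q hq => by
      have := ((show Commute p q from F.hcomm p hp q hq).inv_left).mul_left (htc q hq)
      rw [inv_mul_cancel_left] at this
      exact Commute.inv_left_iff.1 this
    have e1 := (ha _ (F.conj_W D.w_C hq0)).eq
    have e2 : F.a * (D.el3 * q0 * D.el3⁻¹) = D.el3⁻¹ * q0 * D.el3 * F.a := by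
      calc F.a * (D.el3 * q0 * D.el3⁻¹) = (F.a * D.el3 * F.a⁻¹) * (F.a * q0) * D.el3⁻¹ := by group
        _ = (F.a * D.el3 * F.a⁻¹) * q0 * (F.a * D.el3 * F.a⁻¹)⁻¹ * F.a := by rw [(ha _ hq0).eq]; group
        _ = _ := by rw [F.hinv, inv_inv]
    have e3 : D.el3⁻¹ * q0 * D.el3 = D.el3 * q0 * D.el3⁻¹ := mul_right_cancel (e2.symm.trans e1)
    have hw3 : D.el3 * D.el3 * D.el3 = 1 := by
      have h := pow_orderOf_eq_one D.el3
      rw [D.w_ord] at h
      simpa [pow_succ, mul_assoc] using h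
    refine hq1 (F.fix_W hq0 ?_)
    have e4 : q0 = D.el3 * D.el3 * q0 * (D.el3 * D.el3)⁻¹ := by
      calc q0 = D.el3 * (D.el3⁻¹ * q0 * D.el3) * D.el3⁻¹ := by group
        _ = _ := by rw [e3]; group
    have e5 : D.el3 * D.el3 = D.el3⁻¹ := eq_inv_of_mul_eq_one_left hw3
    rw [e5, inv_inv] at e4
    have := congrArg (fun v => D.el3 * v) e4
    simpa [mul_assoc] using this.symm
  have hIn : ∀ m ∈ normalizer (F.T : Set G), ∀ t ∈ I, m * t * m⁻¹ ∈ I := by
    intro m hm t ht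
    refine hout _ ((mem_normalizer_iff.1 hm t).1 ht.1) fun q hq => ?_
    have hq' : m⁻¹ * q * m ∈ F.W := by simpa using hWn m⁻¹ (inv_mem hm) q hq
    have := congrArg (fun v => m * v * m⁻¹) (F.hcomm t ht.2 _ hq')
    show m * t * m⁻¹ * q = q * (m * t * m⁻¹)
    simpa [mul_assoc] using this
  by_cases hab : ∀ x ∈ I, ∀ y ∈ I, x * y = y * x
  swap
  · push Not at hab
    obtain ⟨x, hx, y, hy, hxy⟩ := hab
    have hcu : ∀ {a b : G}, a ∈ I → b ∈ I → a * b * a⁻¹ * b⁻¹ = 1 ∨ a * b * a⁻¹ * b⁻¹ = D.inv2 :=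
      fun ha hb => D.mem_zu.1 (F.comm_U ha.2 hb.2)
    have h1 := (hcu hx hy).resolve_left fun h => hxy (mul_inv_eq_iff_eq_mul.1 (mul_inv_eq_one.1 h))
    refine hgu ?_
    have e : g * D.inv2 * g⁻¹ = g * x * g⁻¹ * (g * y * g⁻¹) * (g * x * g⁻¹)⁻¹ * (g * y * g⁻¹)⁻¹ := by
      rw [← h1]; group
    rw [e]
    refine (hcu (hIn g hgT x hx) (hIn g hgT y hy)).resolve_left fun h => D.u_ne ?_
    rw [← e] at h
    exact conj_eq_one_iff.1 h
  -- an abelian subgroup of index two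
  have hcos : ∀ x ∈ F.P, x ∈ I ∨ s⁻¹ * x ∈ I := fun x hx =>
    (F.T_coset hsS hse (F.P_le_S hx)).imp (fun h => ⟨h, hx⟩) fun h => mem_inf.2 ⟨h, mul_mem (inv_mem hsP) hx⟩
  set I' := I.map (MulAut.conj D.el3).toMonoidHom with hI'
  have hI'P : I' ≤ F.P := by rintro _ ⟨x, hx, rfl⟩; exact F.conj_P D.w_C hx.2
  have hidx : Nat.card F.P ≤ 2 * Nat.card I := by
    have hsub : (F.P : Set G) ⊆ (I : Set G) ∪ (fun t => s * t) '' (I : Set G) := fun x hx => by
      rcases hcos x hx with h | h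
      · exact Or.inl h
      · exact Or.inr ⟨_, h, by group⟩
    have h := (Set.ncard_le_ncard hsub (Set.toFinite _)).trans (Set.ncard_union_le _ _)
    rw [Set.ncard_image_of_injective _ (mul_right_injective s), ← Nat.card_coe_set_eq, ← Nat.card_coe_set_eq,
      ← two_mul] at h
    exact h
  have hcI : Nat.card I' = Nat.card I :=
    (Nat.card_congr (I.equivMapOfInjective _ (MulAut.conj D.el3).injective).toEquiv).symm
  set e1 := D.el3 * F.e * D.el3⁻¹ with he1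
  have he1P : e1 ∈ F.P := F.conj_P D.w_C F.e_P
  by_cases hII : I' = I
  · have hIe1 : ∀ x ∈ I, x * e1 = e1 * x := fun x hx =>
      hab x hx e1 (hII ▸ ⟨F.e, ⟨F.e_T, F.e_P⟩, rfl⟩)
    have hcent : ∀ z ∈ F.P, (∀ x ∈ I, x * z = z * x) → s * z = z * s → z ∈ zpowers D.inv2 := by
      intro z hz hzI hzs
      refine F.centre_sq hz (fun x hx => ?_) F.hV
      rcases hcos x hx with h | h
      · exact hzI x h
      · rw [show x = s * (s⁻¹ * x) by group]
        exact ((show Commute s z from hzs).mul_left (hzI _ h)).eq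
    rcases D.mem_zu.1 (F.comm_U hsP he1P) with h | h
    · have := hcent e1 he1P hIe1 (mul_inv_eq_iff_eq_mul.1 (mul_inv_eq_one.1 h))
      refine F.heU ((mem_normalizer_iff.1 (D.C_le_normalizer D.w_C) _).2 this)
    · have h1 : s * e1 * s⁻¹ = e1 * D.inv2 := by
        rw [mul_inv_eq_iff_eq_mul.1 h, D.mem_C.1 (F.P_le_C he1P)]
      have hcu := (show Commute D.inv2 e1 from (D.mem_C.1 (F.P_le_C he1P)).symm)
      have h2 : s * (F.e * e1) * s⁻¹ = F.e * e1 := by
        calc s * (F.e * e1) * s⁻¹ = (s * F.e * s⁻¹) * (s * e1 * s⁻¹) := by group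
          _ = F.e * D.inv2 * (e1 * D.inv2) := by rw [hse, h1]
          _ = F.e * e1 := by rw [mul_assoc, ← mul_assoc D.inv2, hcu.eq, mul_assoc e1, D.uu, mul_one]
      have h3 := hcent (F.e * e1) (mul_mem F.e_P he1P)
        (fun x hx => ((show Commute x F.e from (F.mem_T.1 hx.1).2).mul_right (hIe1 x hx)).eq)
        (mul_inv_eq_iff_eq_mul.1 h2)
      refine F.heU (F.fixed_quot_P F.zu_le (mem_zpowers _) (D.C_le_normalizer D.w_C) F.e_P ?_)
      rwa [inv_eq_of_mul_eq_one_right F.he2]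
  -- two abelian subgroups generate
  have h16 : 16 ≤ Nat.card I := by rw [F.thirty_two] at hidx; omega
  have hsup : I ⊔ I' = F.P := by
    refine eq_of_le_of_card_ge (sup_le inf_le_right hI'P) ?_
    obtain ⟨k, hk⟩ := IsPGroup.iff_card.1 (F.isPGroup.to_le (sup_le inf_le_right hI'P : I ⊔ I' ≤ F.P))
    have hlt : Nat.card I < Nat.card ↥(I ⊔ I') := by
      refine lt_of_le_of_ne (card_le_of_le le_sup_left) fun h => hII ?_
      exact eq_of_le_of_card_ge ((eq_of_le_of_card_ge le_sup_left h.ge).symm ▸ le_sup_right) hcI.ge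
    rw [F.thirty_two, hk]
    rw [hk] at hlt
    have hk5 : 5 ≤ k := by
      by_contra h
      have := h16.trans_lt (hlt.trans_le (Nat.pow_le_pow_right two_pos (show k ≤ 4 by omega)))
      norm_num at this
    exact (le_of_eq rfl).trans (Nat.pow_le_pow_right two_pos hk5)
  have hJ : I ⊓ I' ≤ zpowers D.inv2 := fun z hz => by
    refine F.centre_sq hz.1.2 (fun x hx => ?_) F.hV
    have hle : I ⊔ I' ≤ centralizer ({z} : Set G) := sup_le (fun y hy => mem_centralizer_singleton_iff.2 (hab y hy z hz.1))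
      (fun y hy => by
        obtain ⟨y', hy', rfl⟩ := hy
        obtain ⟨z', hz', hzz⟩ := hz.2
        rw [← hzz, mem_centralizer_singleton_iff, ← map_mul, ← map_mul, hab y' hy' z' hz'])
    exact mem_centralizer_singleton_iff.1 (hle (hsup.symm ▸ hx))
  set P1 := I.subgroupOf F.P
  set P2 := I'.subgroupOf F.P
  have hi : ∀ J : Subgroup G, J ≤ F.P → Nat.card J = Nat.card I → (J.subgroupOf F.P).index ≤ 2 := by
    intro J hJ' hc
    have h := (J.subgroupOf F.P).card_mul_index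
    rw [Nat.card_congr (subgroupOfEquivOfLe hJ').toEquiv, hc] at h
    exact Nat.le_of_mul_le_mul_left (h ▸ hidx.trans (le_of_eq (mul_comm _ _))) Nat.card_pos
  have h12 := index_inf_le (H := P1) (K := P2)
  have hcard := (P1 ⊓ P2).card_mul_index
  have h2 : Nat.card ↥(P1 ⊓ P2) ≤ 2 := by
    rw [show P1 ⊓ P2 = (I ⊓ I').subgroupOf F.P from rfl,
      Nat.card_congr (subgroupOfEquivOfLe (show I ⊓ I' ≤ F.P from fun x hx => hx.1.2)).toEquiv]
    exact (card_le_of_le hJ).trans (le_of_eq (by rw [Nat.card_zpowers, D.u_ord]))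
  have h8 := Nat.mul_le_mul h2 (h12.trans (Nat.mul_le_mul (hi I inf_le_right rfl) (hi I' hI'P hcI)))
  rw [hcard, F.thirty_two] at h8
  omega

end LineCtx

end Cfsg.Agent.Char.OrderSix
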