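import Cfsg.Agent.Lib.Char.OrderSix.SymBase
import Cfsg.Agent.Lib.Char.OrderSix.SymExtra
import Cfsg.Agent.Lib.Fusion.BurnsideFusion
import Cfsg.Agent.S1545

/-!
# Index six with the two-part of order two: the odd part of the centraliser
-/

set_option autoImplicit false
set_option linter.unusedSectionVars false
set_option linter.style.haveILetI false

open Cfsg Subgroup

namespace Cfsg.Agent.Char.OrderSix

universe u
variable {G : Type u} [Group G] [Finite G]

/-- an element of odd order whose square lies in a subgroup lies in it -/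
theorem mem_of_sq {K : Subgroup G} {x : G} (ho : Odd (orderOf x)) (h : x * x ∈ K) : x ∈ K := by
  obtain ⟨m, hm⟩ := ho
  have h1 := pow_orderOf_eq_one x
  rw [hm, pow_succ, pow_mul, pow_two] at h1
  rw [← inv_inv x, ← eq_inv_of_mul_eq_one_left h1]
  exact inv_mem (pow_mem h m)

/-- The shape of index six with the two-part of order two and an inverting involution. -/
structure KleinCtx (D : Ctx G) extends SymCtx D where
  hPu : P = zpowers D.inv2
  haa : a * a = 1
  hnil : Group.IsNilpotent N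

theorem exists_kleinCtx [IsSimpleGroup G] {D : Ctx G} (F : SymCtx D) (hna : ¬ IsMulCommutative G)
    (hnil : Group.IsNilpotent F.N) (hPu : F.P = zpowers D.inv2) : ∃ K : KleinCtx D, K.toSymCtx = F := by
  refine ⟨{ toSymCtx := F, hPu := hPu, haa := ?_, hnil := hnil }, rfl⟩
  rcases D.mem_zu.1 F.asq with h | h
  · exact h
  exfalso
  obtain ⟨e, he, he2, heu⟩ := Ctx.exists_other hna F.sylow D.inv2
  have hee : e * e = 1 := by rw [← pow_two, ← he2]; exact pow_orderOf_eq_one e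
  have he' : e ∈ F.S := he
  rcases F.mem_S.1 he' with hp | hp
  · rw [hPu] at hp
    rcases D.mem_zu.1 hp with hp | hp
    · rw [hp, orderOf_one] at he2; omega
    · exact heu hp
  · rw [hPu] at hp
    rcases D.mem_zu.1 hp with hp | hp
    · rw [eq_inv_of_mul_eq_one_left hp, ← mul_inv_rev, inv_eq_one, h] at hee
      exact D.u_ne hee
    · rw [← h] at hp
      have hea : e = F.a := mul_right_cancel hp
      rw [hea, h] at hee
      exact D.u_ne hee

namespace KleinCtx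

variable {D : Ctx G} (F : KleinCtx D)

/-- the fixed points of the inverting involution in the odd part -/
def W0 : Subgroup G := F.W ⊓ centralizer ({F.a} : Set G)

theorem mem_W0 {x : G} : x ∈ F.W0 ↔ x ∈ F.W ∧ x * F.a = F.a * x := by
  rw [W0, mem_inf, mem_centralizer_singleton_iff]

theorem au : Commute F.a D.inv2 := D.mem_C.1 F.haC

theorem W_u {x : G} (hx : x ∈ F.W) : Commute x D.inv2 := D.mem_C.1 (F.W_le_C hx)

theorem ua_sq : D.inv2 * F.a * (D.inv2 * F.a) = 1 := by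
  rw [F.au.mul_mul_mul_comm, D.uu, F.haa, one_mul]

theorem S_iff {x : G} : x ∈ F.S ↔ x = 1 ∨ x = D.inv2 ∨ x = F.a ∨ x = D.inv2 * F.a := by
  have ha : F.a⁻¹ = F.a := inv_eq_of_mul_eq_one_left F.haa
  constructor
  · intro hx
    rcases F.mem_S.1 hx with h | h <;> rw [F.hPu] at h <;> rcases D.mem_zu.1 h with h | h
    · exact Or.inl h
    · exact Or.inr (Or.inl h)
    · exact Or.inr (Or.inr (Or.inl ((eq_inv_of_mul_eq_one_left h).trans ha)))
    · exact Or.inr (Or.inr (Or.inr (by rw [← h, mul_assoc, F.haa, mul_one])))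
  · rintro (rfl | rfl | rfl | rfl)
    · exact one_mem _
    · exact F.P_le_S F.u_P
    · exact F.a_S
    · exact mul_mem (F.P_le_S F.u_P) F.a_S

theorem card_P : Nat.card F.P = 2 := by rw [F.hPu, Nat.card_zpowers, D.u_ord]

theorem card_S4 : Nat.card F.S = 4 := by rw [F.card_S, F.card_P]

theorem S_sq {x : G} (hx : x ∈ F.S) : x * x = 1 := by
  rcases F.S_iff.1 hx with rfl | rfl | rfl | rfl
  · exact one_mul _
  · exact D.uu
  · exact F.haa
  · exact F.ua_sq

theorem S_comm {x y : G} (hx : x ∈ F.S) (hy : y ∈ F.S) : x * y = y * x := by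
  have h := inv_eq_of_mul_eq_one_left (F.S_sq (mul_mem hx hy))
  rw [mul_inv_rev, inv_eq_of_mul_eq_one_left (F.S_sq hx), inv_eq_of_mul_eq_one_left (F.S_sq hy)] at h
  exact h.symm

theorem S_central : F.S ≤ centralizer (F.S : Set G) := fun _ hx =>
  mem_centralizer_iff.2 fun _ hy => F.S_comm hy hx

theorem S_ord {x : G} (hx : x ∈ F.S) (hx1 : x ≠ 1) : orderOf x = 2 := by
  haveI : Fact (Nat.Prime 2) := ⟨Nat.prime_two⟩
  exact orderOf_eq_prime (by rw [pow_two]; exact F.S_sq hx) hx1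

theorem cent_S {x : G} (hu : Commute x D.inv2) (ha : Commute x F.a) {s : G} (hs : s ∈ F.S) : Commute x s := by
  rcases F.S_iff.1 hs with rfl | rfl | rfl | rfl
  · exact Commute.one_right x
  · exact hu
  · exact ha
  · exact hu.mul_right ha

theorem W0_S {x : G} (hx : x ∈ F.W0) {s : G} (hs : s ∈ F.S) : Commute x s :=
  F.cent_S (F.W_u (F.mem_W0.1 hx).1) (F.mem_W0.1 hx).2 hs

theorem W_meet {x : G} (hx : x ∈ F.W) (hs : x * x = 1) : x = 1 := by
  obtain ⟨-, ho⟩ := (F.hW x).1 hx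
  exact mem_bot.1 (mem_of_sq ho (mem_bot.2 hs))

theorem wpow_W {i : ℕ} (h : D.el3 ^ i ∈ F.W) : D.el3 ^ i = 1 := by
  rw [← pow_mod_orderOf, D.w_ord] at h ⊢
  have hlt := Nat.mod_lt i (show 0 < 3 by norm_num)
  generalize i % 3 = j at h hlt ⊢
  have h1 : j = 0 ∨ j = 1 ∨ j = 2 := by omega
  rcases h1 with rfl | hj
  · exact pow_zero _
  exfalso
  have hw : D.el3 ∈ F.W := by
    rcases hj with rfl | rfl
    · simpa using h
    · have hw3 : D.el3 ^ 3 = 1 := D.w_ord ▸ pow_orderOf_eq_one D.el3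
      have e : (D.el3 ^ 2)⁻¹ = D.el3 := inv_eq_of_mul_eq_one_right (by rw [← pow_succ]; exact hw3)
      rw [← e]; exact inv_mem h
  exact D.w_ne (F.fix_W hw rfl)

theorem C_parts {x : G} (hx : x ∈ D.C) : ∃ q ∈ F.W, ∃ i : ℕ, ∃ s ∈ F.S, x = q * D.el3 ^ i * s := by
  obtain ⟨n, hn, i, j, hj, rfl⟩ := F.toSymCtx.C_cases hx
  obtain ⟨p, hp, q, hq, rfl⟩ := F.toSymCtx.N_split hn
  refine ⟨q, hq, i, p * F.a ^ j, mul_mem (F.P_le_S hp) (pow_mem F.a_S j), ?_⟩
  have hpc : Commute p (q * D.el3 ^ i) := by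
    rw [F.hPu] at hp
    rcases D.mem_zu.1 hp with rfl | rfl
    · exact Commute.one_left _
    · exact (F.W_u hq).symm.mul_right ((show Commute D.inv2 D.el3 from D.comm_uw).pow_right i)
  calc p * q * (D.el3 ^ i * F.a ^ j) = p * (q * D.el3 ^ i) * F.a ^ j := by group
    _ = _ := by rw [hpc.eq]; group

theorem S_conj_W {q s : G} (hq : q ∈ F.W) (hs : s ∈ F.S) : s * q * s⁻¹ ∈ F.W := F.conj_W (F.S_le_C hs) hq

theorem sq_mem_W {q s : G} (hq : q ∈ F.W) (hs : s ∈ F.S) : q * s * (q * s) ∈ F.W := by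
  rw [show q * s * (q * s) = q * (s * q * s⁻¹) * (s * s) by group, F.S_sq hs, mul_one]
  exact mul_mem hq (F.S_conj_W hq hs)

/-- the centraliser of the inverting involution inside -/
theorem cent_a_parts {x : G} (hx : x ∈ D.C) (ha : Commute x F.a) :
    ∃ q ∈ F.W0, ∃ s ∈ F.S, x = q * s := by
  obtain ⟨q, hq, i, s, hs, rfl⟩ := F.C_parts hx
  have hsa : Commute s F.a := F.S_comm hs F.a_S
  have h2 : Commute (q * D.el3 ^ i) F.a := by
    have := ha.mul_left hsa.inv_left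
    rwa [mul_inv_cancel_right] at this
  have h3 : F.a * q * F.a⁻¹ * (D.el3⁻¹) ^ i = q * D.el3 ^ i := by
    rw [← F.hinv, conj_pow]
    calc F.a * q * F.a⁻¹ * (F.a * D.el3 ^ i * F.a⁻¹) = F.a * (q * D.el3 ^ i) * F.a⁻¹ := by group
      _ = _ := by rw [← h2.eq, mul_inv_cancel_right]
  have h4 : D.el3 ^ (i + i) ∈ F.W := by
    have e : q⁻¹ * (F.a * q * F.a⁻¹) = D.el3 ^ i * D.el3 ^ i := by
      rw [inv_pow, mul_inv_eq_iff_eq_mul] at h3
      rw [h3]; group
    rw [pow_add, ← e]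
    exact mul_mem (inv_mem hq) (F.conj_W F.haC hq)
  have h5 := F.wpow_W h4
  have h6 : D.el3 ^ i = 1 := by
    have hd := orderOf_dvd_of_pow_eq_one h5
    rw [D.w_ord] at hd
    exact orderOf_dvd_iff_pow_eq_one.1 (by rw [D.w_ord]; omega)
  rw [h6, mul_one] at h2 ⊢
  exact ⟨q, F.mem_W0.2 ⟨hq, h2.eq⟩, s, hs, rfl⟩

theorem card_W_sq : Nat.card F.W = Nat.card F.W0 * Nat.card F.W0 := by
  classical
  haveI : Fact (Nat.Prime 2) := ⟨Nat.prime_two⟩
  have hao : orderOf F.a = 2 :=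
    orderOf_eq_prime (by rw [pow_two]; exact F.haa) fun h => F.a_notP (h ▸ one_mem _)
  have hEe : ∀ e ∈ zpowers F.a, e = 1 ∨ e = F.a := fun e he => by
    obtain ⟨i, rfl⟩ := mem_zpowers_iff.1 he
    rw [← zpow_mod_orderOf, hao]
    rcases Int.emod_two_eq i with h | h <;> rw [show ((2 : ℕ) : ℤ) = 2 from rfl, h] <;> simp
  set U := zpowers D.el3
  set E := zpowers F.a
  have hU3 : Nat.card U = 3 := by rw [Nat.card_zpowers, D.w_ord]
  have hE2 : Nat.card E = 2 := by rw [Nat.card_zpowers, hao]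
  have hnU : F.a ∈ normalizer (U : Set G) := by
    have hh : ∀ x ∈ U, F.a * x * F.a⁻¹ ∈ U := fun x hx => by
      obtain ⟨k, rfl⟩ := mem_zpowers_iff.1 hx
      rw [← conj_zpow, F.hinv, inv_zpow]
      exact inv_mem (zpow_mem (mem_zpowers _) k)
    exact mem_normalizer_iff.2 fun x => ⟨hh x, fun hx => by
      have h := hh _ hx
      rwa [show F.a * (F.a * x * F.a⁻¹) * F.a⁻¹ = F.a * F.a * x * (F.a * F.a)⁻¹ by group, F.haa, one_mul,
        inv_one, mul_one] at h⟩
  have hUE : U ⊔ E ≤ D.C := sup_le (zpowers_le.2 D.w_C) (zpowers_le.2 F.haC)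
  have hcardUE : Nat.card (U ⊔ E : Subgroup G) ∣ 6 := by
    have h := Solv.card_sup_mul_card_inf' U E (zpowers_le.2 hnU)
    rw [hU3, hE2] at h
    exact ⟨_, h.symm⟩
  have hcop : (Nat.card F.W).Coprime (Nat.card (U ⊔ E : Subgroup G)) := by
    refine Nat.Coprime.coprime_dvd_right hcardUE ?_
    rw [show (6 : ℕ) = 2 * 3 from rfl]
    exact Nat.Coprime.mul_right (Nat.coprime_two_right.2 F.hodd)
      ((Nat.Prime.coprime_iff_not_dvd Nat.prime_three).2 F.three_W).symm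
  have hmeet : F.W ⊓ (U ⊔ E) = ⊥ := Subgroup.inf_eq_bot_of_coprime hcop
  have hfix : ∀ (K : Subgroup G), (∀ x ∈ F.W ⊓ centralizer (K : Set G), x * D.el3 = D.el3 * x) →
      Nat.card ↥(F.W ⊓ centralizer (K : Set G)) = 1 := fun K hK => by
    refine Subgroup.card_eq_one.2 ((Subgroup.eq_bot_iff_forall _).2 fun x hx => ?_)
    exact F.fix_W (mem_inf.1 hx).1 (hK x hx)
  have h := S1545.result U E F.W
    (fun h => by rw [h, card_bot] at hU3; omega) (fun h => by rw [h, card_bot] at hE2; omega)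
    (Subgroup.inf_eq_bot_of_coprime (by rw [hU3, hE2]; norm_num))
    (fun e he x hx => (mem_normalizer_iff.1 ((zpowers_le.2 hnU) he) x).1 hx)
    (fun e he he1 x hx hc => by
      rcases hEe e he with rfl | rfl
      · exact absurd rfl he1
      obtain ⟨i, hi⟩ := (mem_powers_iff_mem_zpowers (x := D.el3)).2 hx
      change D.el3 ^ i = x at hi
      subst hi
      have hc' : F.a * D.el3 ^ i * F.a⁻¹ = D.el3 ^ i := by rw [hc, mul_inv_cancel_right]
      rw [← conj_pow, F.hinv, inv_pow, inv_eq_iff_mul_eq_one, ← pow_add] at hc'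
      have hd := orderOf_dvd_of_pow_eq_one hc'
      rw [D.w_ord] at hd
      exact orderOf_dvd_iff_pow_eq_one.1 (by rw [D.w_ord]; omega))
    (fun x hx y hy => F.conj_W (hUE hx) hy) hmeet
    (by
      haveI := F.hnil
      exact Group.isSolvable_of_isSolvable_injective (Subgroup.inclusion_injective F.W_le))
    hcop
  rw [hE2, hfix _ (fun x hx => (mem_centralizer_iff.1 (mem_inf.1 hx).2 _ (mem_sup_left (mem_zpowers _))).symm),
    hfix _ (fun x hx => (mem_centralizer_iff.1 (mem_inf.1 hx).2 _ (mem_zpowers _)).symm), one_pow, one_mul, mul_one,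
    pow_two] at h
  have e : F.W ⊓ centralizer (E : Set G) = F.W0 := by
    rw [W0, show (E : Set G) = ((closure ({F.a} : Set G) : Subgroup G) : Set G) by rw [← zpowers_eq_closure], centralizer_closure]
  rwa [e] at h

/-- the product of the three conjugates -/
theorem cube {x : G} (hx : x ∈ F.W) : x * (D.el3 * x * D.el3⁻¹) * (D.el3⁻¹ * x * D.el3) = 1 ∧
    x * (D.el3⁻¹ * x * D.el3) * (D.el3 * x * D.el3⁻¹) = 1 := by
  have hw3 : D.el3 ^ 3 = 1 := D.w_ord ▸ pow_orderOf_eq_one D.el3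
  have hw2 : D.el3⁻¹ = D.el3 * D.el3 := by
    refine inv_eq_of_mul_eq_one_right ?_
    rw [← mul_assoc, ← pow_two, ← pow_succ]; exact hw3
  have key : ∀ v : G, (v = D.el3 ∨ v = D.el3⁻¹) → x * (v * x * v⁻¹) * (v * v * x * (v * v)⁻¹) = 1 := by
    intro v hv
    have hvC : v ∈ D.C := by rcases hv with rfl | rfl; exacts [D.w_C, inv_mem D.w_C]
    have hv3 : v ^ 3 = 1 := by rcases hv with rfl | rfl <;> simp [inv_pow, hw3]
    set y := x * (v * x * v⁻¹) * (v * v * x * (v * v)⁻¹) with hy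
    have hyW : y ∈ F.W := mul_mem (mul_mem hx (F.conj_W hvC hx)) (F.conj_W (mul_mem hvC hvC) hx)
    have hxv : (x * v) ^ 3 = y := by
      rw [pow_succ, pow_two, hy]
      conv_rhs => rw [← mul_one (x * _ * _), ← hv3, pow_succ, pow_two]
      group
    -- a power of the mixed element fixes the product
    have hc : Commute (x * v) y := hxv ▸ (Commute.refl _).pow_right 3
    by_contra hy1
    obtain ⟨m, hm⟩ : 3 ∣ orderOf (x * v) := by
      by_contra h3
      have hcop : (orderOf (x * v)).Coprime 3 := ((Nat.Prime.coprime_iff_not_dvd Nat.prime_three).2 h3).symm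
      obtain ⟨k, hk⟩ := exists_pow_eq_self_of_coprime hcop.symm
      have hmem : x * v ∈ F.W := hk ▸ pow_mem (hxv.symm ▸ hyW) k
      have hvW : v ∈ F.W := by
        have := mul_mem (inv_mem hx) hmem
        rwa [inv_mul_cancel_left] at this
      have hwW : D.el3 ∈ F.W := by
        rcases hv with rfl | rfl
        · exact hvW
        · simpa using inv_mem hvW
      exact D.w_ne (F.fix_W hwW rfl)
    have hm0 : m ≠ 0 := fun h => (orderOf_pos (x * v)).ne' (by rw [hm, h, mul_zero])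
    have h3o : orderOf ((x * v) ^ m) = 3 := by
      rw [orderOf_pow' _ hm0, hm, Nat.gcd_eq_right (dvd_mul_left m 3), Nat.mul_div_cancel _ (Nat.pos_of_ne_zero hm0)]
    obtain ⟨c, hcC, hcw⟩ := F.three_sylow (pow_mem (mul_mem (F.W_le_C hx) hvC) m) h3o
    have hcy : Commute (c⁻¹ * y * c) D.el3 := by
      have h : Commute y (c * D.el3 * c⁻¹) := by
        rcases hcw with e | e <;> rw [e]
        · exact (hc.pow_left m).symm
        · exact (hc.pow_left m).symm.inv_right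
      have := congrArg (fun t => c⁻¹ * t * c) h.eq
      show c⁻¹ * y * c * D.el3 = D.el3 * (c⁻¹ * y * c)
      simpa [mul_assoc] using this
    have hmem : c⁻¹ * y * c ∈ F.W := by simpa using F.conj_W (inv_mem hcC) hyW
    exact hy1 (by
      have e := F.fix_W hmem hcy.eq
      calc y = c * (c⁻¹ * y * c) * c⁻¹ := by group
        _ = 1 := by rw [e]; group)
  constructor
  · have h := key D.el3 (Or.inl rfl)
    rwa [← hw2, inv_inv] at h
  · have h := key D.el3⁻¹ (Or.inr rfl)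
    have e : D.el3⁻¹ * D.el3⁻¹ = D.el3 := by rw [← mul_inv_rev, ← hw2, inv_inv]
    rwa [inv_inv, e] at h

theorem conj_comm {x : G} (hx : x ∈ F.W) : Commute x (D.el3 * x * D.el3⁻¹) := by
  have h3 : D.el3 * D.el3 * D.el3 = 1 := by
    rw [← pow_two, ← pow_succ, show 2 + 1 = orderOf D.el3 from D.w_ord.symm]; exact pow_orderOf_eq_one D.el3
  obtain ⟨h1, h2⟩ := F.cube (F.conj_W D.w_C hx)
  have e1 : D.el3 * (D.el3 * x * D.el3⁻¹) * D.el3⁻¹ = D.el3⁻¹ * x * D.el3 := by
    rw [show D.el3⁻¹ = D.el3 * D.el3 from inv_eq_of_mul_eq_one_right (by rw [← mul_assoc]; exact h3)]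
    calc D.el3 * (D.el3 * x * (D.el3 * D.el3)) * (D.el3 * D.el3)
        = D.el3 * D.el3 * x * D.el3 * (D.el3 * D.el3 * D.el3) := by group
      _ = _ := by rw [h3, mul_one]
  have e2 : D.el3⁻¹ * (D.el3 * x * D.el3⁻¹) * D.el3 = x := by group
  rw [e1, e2] at h1 h2
  obtain ⟨h3', h4⟩ := F.cube hx
  have i1 := eq_inv_of_mul_eq_one_left h1
  have i4 := eq_inv_of_mul_eq_one_left h4
  set x' := D.el3 * x * D.el3⁻¹
  set x'' := D.el3⁻¹ * x * D.el3
  -- x' x'' x = 1 and x x'' x' = 1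
  have a1 : x * x' = x''⁻¹ := eq_inv_of_mul_eq_one_left h3'
  have a2 : x' * x = x''⁻¹ := eq_inv_of_mul_eq_one_left h2
  exact a1.trans a2.symm

theorem W_split {y : G} (hy : y ∈ F.W) : ∃ x ∈ F.W0, ∃ x' ∈ F.W0, y = x * (D.el3 * x' * D.el3⁻¹) := by
  classical
  let f : F.W0 × F.W0 → F.W := fun p => ⟨(p.1 : G) * (D.el3 * p.2 * D.el3⁻¹),
    mul_mem (F.mem_W0.1 p.1.2).1 (F.conj_W D.w_C (F.mem_W0.1 p.2.2).1)⟩
  have hinj : Function.Injective f := by
    intro p r h
    have h' : (p.1 : G) * (D.el3 * p.2 * D.el3⁻¹) = (r.1 : G) * (D.el3 * r.2 * D.el3⁻¹) := congrArg Subtype.val h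
    set y := (r.1 : G)⁻¹ * p.1 with hy
    have hy0 : y ∈ F.W0 := mul_mem (inv_mem r.1.2) p.1.2
    have hyw : y = D.el3 * ((r.2 : G) * (p.2 : G)⁻¹) * D.el3⁻¹ := by
      calc y = (r.1 : G)⁻¹ * ((p.1 : G) * (D.el3 * p.2 * D.el3⁻¹)) * (D.el3 * (p.2 : G)⁻¹ * D.el3⁻¹) := by
            rw [hy]; group
        _ = _ := by rw [h']; group
    have hv : (r.2 : G) * (p.2 : G)⁻¹ ∈ F.W0 := mul_mem r.2.2 (inv_mem p.2.2)
    set v := (r.2 : G) * (p.2 : G)⁻¹
    have hva : Commute v F.a := (F.mem_W0.1 hv).2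
    have hwv : D.el3 * v * D.el3⁻¹ = D.el3⁻¹ * v * D.el3 := by
      have hc : Commute y F.a := (F.mem_W0.1 hy0).2
      calc D.el3 * v * D.el3⁻¹ = F.a * y * F.a⁻¹ := by rw [← hc.eq, mul_inv_cancel_right, hyw]
        _ = (F.a * D.el3 * F.a⁻¹) * (F.a * v * F.a⁻¹) * (F.a * D.el3 * F.a⁻¹)⁻¹ := by rw [hyw]; group
        _ = _ := by rw [F.hinv, ← hva.eq, mul_inv_cancel_right, inv_inv]
    have hv1 : v = 1 := by
      have hw3 : D.el3 * D.el3 * D.el3 = 1 := by
        rw [← pow_two, ← pow_succ, show 2 + 1 = orderOf D.el3 from D.w_ord.symm]; exact pow_orderOf_eq_one D.el3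
      have hw2 : D.el3⁻¹ = D.el3 * D.el3 := inv_eq_of_mul_eq_one_right (by rw [← mul_assoc]; exact hw3)
      have h2 : Commute v (D.el3 * D.el3) := by
        have := congrArg (fun t => D.el3 * t * D.el3) hwv
        simp only [mul_assoc, inv_mul_cancel, mul_one, mul_inv_cancel_left] at this
        show v * (D.el3 * D.el3) = D.el3 * D.el3 * v
        rw [← mul_assoc]; simpa [mul_assoc] using this.symm
      rw [← hw2] at h2
      exact F.fix_W (F.mem_W0.1 hv).1 (by simpa using h2.inv_right.eq)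
    have hy1 : y = 1 := by rw [hyw, hv1]; group
    exact Prod.ext (Subtype.ext (inv_mul_eq_one.1 hy1).symm) (Subtype.ext (mul_inv_eq_one.1 hv1).symm)
  obtain ⟨p, hp⟩ := ((Nat.bijective_iff_injective_and_card f).2
    ⟨hinj, by rw [Nat.card_prod]; exact F.card_W_sq.symm⟩).2 ⟨y, hy⟩
  exact ⟨p.1, p.1.2, p.2, p.2.2, (congrArg Subtype.val hp).symm⟩

theorem twist_comm {x y : G} (hx : x ∈ F.W0) (hy : y ∈ F.W0) (hxy : Commute x y) :
    Commute y (D.el3 * x * D.el3⁻¹) := by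
  have hxW := (F.mem_W0.1 hx).1
  have hyW := (F.mem_W0.1 hy).1
  set x' := D.el3 * x * D.el3⁻¹
  set y' := D.el3 * y * D.el3⁻¹
  set x'' := D.el3⁻¹ * x * D.el3
  set y'' := D.el3⁻¹ * y * D.el3
  have c'' : Commute x'' y'' := by
    show x'' * y'' = y'' * x''
    calc x'' * y'' = D.el3⁻¹ * (x * y) * D.el3 := by simp only [x'', y'']; group
      _ = _ := by rw [hxy.eq]; simp only [x'', y'']; group
  have ex : x'' = (x * x')⁻¹ := eq_inv_of_mul_eq_one_right (F.cube hxW).1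
  have ey : y'' = (y * y')⁻¹ := eq_inv_of_mul_eq_one_right (F.cube hyW).1
  have exy : x'' * y'' = (x * y * (x' * y'))⁻¹ := by
    refine eq_inv_of_mul_eq_one_right ?_
    rw [show x' * y' = D.el3 * (x * y) * D.el3⁻¹ by simp only [x', y']; group,
      show x'' * y'' = D.el3⁻¹ * (x * y) * D.el3 by simp only [x'', y'']; group]
    exact (F.cube (mul_mem hxW hyW)).1
  rw [c''.eq, ey, ex, ← mul_inv_rev, inv_inj] at exy
  have e2 : x * (y * x') * y' = x * (x' * y) * y' := by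
    calc x * (y * x') * y' = x * y * (x' * y') := by group
      _ = x * x' * (y * y') := exy.symm
      _ = _ := by group
  exact mul_right_cancel (mul_left_cancel (mul_assoc x _ y' ▸ mul_assoc x _ y' ▸ e2))

/-- the centre of the fixed points is central in the whole odd part -/
theorem centre_W {z : G} (hz : z ∈ F.W0) (hzc : ∀ x ∈ F.W0, Commute x z) {y : G} (hy : y ∈ F.W) : Commute z y := by
  obtain ⟨x, hx, x', hx', rfl⟩ := F.W_split hy
  exact (hzc x hx).symm.mul_right (F.twist_comm hx' hz (hzc x' hx'))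

/-- the centraliser of a central element of the fixed points inside -/
theorem cent_z_parts {z : G} (hz : z ∈ F.W0) (hzc : ∀ x ∈ F.W0, Commute x z) (hz1 : z ≠ 1) {x : G} (hx : x ∈ D.C)
    (hxz : Commute x z) : ∃ q ∈ F.W, ∃ s ∈ F.S, x = q * s := by
  obtain ⟨q, hq, i, s, hs, rfl⟩ := F.C_parts hx
  have h1 : Commute (D.el3 ^ i) z := by
    have := ((F.centre_W hz hzc (inv_mem hq)).symm.mul_left hxz).mul_left (F.W0_S hz (inv_mem hs)).symm
    rwa [show q⁻¹ * (q * D.el3 ^ i * s) * s⁻¹ = D.el3 ^ i by group] at this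
  by_cases h : D.el3 ^ i = 1
  · exact ⟨q, hq, s, hs, by rw [h, mul_one]⟩
  · exfalso
    have hcop : (orderOf D.el3).Coprime i := by
      rw [D.w_ord, Nat.Prime.coprime_iff_not_dvd Nat.prime_three]
      intro hd
      exact h (orderOf_dvd_iff_pow_eq_one.1 (by rwa [D.w_ord]))
    obtain ⟨k, hk⟩ := exists_pow_eq_self_of_coprime hcop.symm
    exact hz1 (F.fix_W (F.mem_W0.1 hz).1 (hk ▸ (h1.pow_left k)).symm.eq)

theorem odd_mem_W {z : G} (hz : z ∈ F.W0) (hzc : ∀ x ∈ F.W0, Commute x z) (hz1 : z ≠ 1) {x : G} (hx : x ∈ D.C)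
    (hxz : Commute x z) (ho : Odd (orderOf x)) : x ∈ F.W := by
  obtain ⟨q, hq, s, hs, rfl⟩ := F.cent_z_parts hz hzc hz1 hx hxz
  exact mem_of_sq ho (F.sq_mem_W hq hs)

theorem odd_mem_W0 {x : G} (ho : Odd (orderOf x)) (h : ∀ s ∈ F.S, Commute x s) : x ∈ F.W0 := by
  have hxC : x ∈ D.C := D.mem_C.2 (h _ (F.P_le_S F.u_P)).eq
  obtain ⟨q, hq, s, hs, rfl⟩ := F.cent_a_parts hxC (h _ F.a_S)
  refine mem_of_sq ho ?_
  rw [show q * s * (q * s) = q * (s * q) * s by group, ← (F.W0_S hq hs).eq,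
    show q * (q * s) * s = q * q * (s * s) by group, F.S_sq hs, mul_one]
  exact mul_mem hq hq

theorem card_cent_S : Nat.card (centralizer (F.S : Set G)) = 4 * Nat.card F.W0 := by
  classical
  let f : F.S × F.W0 → centralizer (F.S : Set G) := fun p =>
    ⟨(p.2 : G) * p.1, mem_centralizer_iff.2 fun y hy =>
      ((F.W0_S p.2.2 hy).mul_left (F.S_comm p.1.2 hy)).symm.eq⟩
  rw [← F.card_S4, ← Nat.card_prod]
  refine (Nat.card_eq_of_bijective f ⟨fun p r h => ?_, fun x => ?_⟩).symm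
  · have h' : (p.2 : G) * p.1 = (r.2 : G) * r.1 := congrArg Subtype.val h
    have hv : (r.2 : G)⁻¹ * p.2 = r.1 * (p.1 : G)⁻¹ := by
      rw [eq_mul_inv_iff_mul_eq, mul_assoc, h', inv_mul_cancel_left]
    have h1 : (r.2 : G)⁻¹ * p.2 = 1 :=
      F.W_meet (F.mem_W0.1 (mul_mem (inv_mem r.2.2) p.2.2)).1 (by rw [hv]; exact F.S_sq (mul_mem r.1.2 (inv_mem p.1.2)))
    have h2 := (inv_mul_eq_one.1 h1).symm
    rw [h2] at h'
    exact Prod.ext (Subtype.ext (mul_left_cancel h')) (Subtype.ext h2)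
  · have hxc : ∀ s ∈ F.S, Commute (x : G) s := fun s hs => (mem_centralizer_iff.1 x.2 s hs).symm
    obtain ⟨q, hq, s, hs, hx⟩ :=
      F.cent_a_parts (D.mem_C.2 (hxc _ (F.P_le_S F.u_P)).eq) (hxc _ F.a_S)
    exact ⟨(⟨s, hs⟩, ⟨q, hq⟩), Subtype.ext hx.symm⟩

theorem card_C12 : Nat.card D.C = 12 * (Nat.card F.W0 * Nat.card F.W0) := by
  rw [F.hidx, F.hcard, F.card_P, F.card_W_sq]; ring

variable [IsSimpleGroup G]

/-- every involution of the Sylow subgroup is reached from within its normaliser -/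
theorem exists_move {s : G} (hs : s ∈ F.S) (hs1 : s ≠ 1) :
    ∃ g : G, g * D.inv2 * g⁻¹ = s ∧ g ∈ normalizer (F.S : Set G) ∧ ∀ x, g * x * g⁻¹ ∈ F.W0 ↔ x ∈ F.W0 := by
  haveI : Fact (Nat.Prime 2) := ⟨Nat.prime_two⟩
  obtain ⟨c, hc⟩ := D.conj_u (F.S_ord hs hs1)
  obtain ⟨g, hg, hgu⟩ := Fusion.fusion_of_abelian (p := 2) (S := F.S) (Fusion.sylIn_top F.sylow) F.S_central
    (x := D.inv2) (g := c) (F.P_le_S F.u_P) (by rw [hc]; exact hs)
  rw [hc] at hgu
  refine ⟨g, hgu, hg, ?_⟩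
  have key : ∀ m ∈ normalizer (F.S : Set G), ∀ x ∈ F.W0, m * x * m⁻¹ ∈ F.W0 := by
    intro m hm x hx
    refine F.odd_mem_W0 ?_ fun t ht => ?_
    · rw [show m * x * m⁻¹ = (MulAut.conj m).toMonoidHom x from rfl, orderOf_injective _ (MulAut.conj m).injective]
      exact ((F.hW x).1 (F.mem_W0.1 hx).1).2
    · have hy : m⁻¹ * t * m ∈ F.S := (mem_normalizer_iff''.1 hm t).1 ht
      have := congrArg (fun v => m * v * m⁻¹) (F.W0_S hx hy).eq
      show m * x * m⁻¹ * t = t * (m * x * m⁻¹)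
      simpa [mul_assoc] using this
  refine fun x => ⟨fun h => ?_, key g hg x⟩
  simpa [mul_assoc] using key g⁻¹ (inv_mem hg) _ h

theorem move_centre {g z : G} (hg : ∀ x, g * x * g⁻¹ ∈ F.W0 ↔ x ∈ F.W0) (hz : z ∈ F.W0)
    (hzc : ∀ x ∈ F.W0, Commute x z) : g⁻¹ * z * g ∈ F.W0 ∧ ∀ x ∈ F.W0, Commute x (g⁻¹ * z * g) := by
  refine ⟨(hg _).1 (by rwa [show g * (g⁻¹ * z * g) * g⁻¹ = z by group]), fun x hx => ?_⟩
  have := congrArg (fun v => g⁻¹ * v * g) (hzc _ ((hg x).2 hx)).eq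
  show x * (g⁻¹ * z * g) = g⁻¹ * z * g * x
  simpa [mul_assoc] using this

end KleinCtx

end Cfsg.Agent.Char.OrderSix
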