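import Cfsg.Agent.Lib.Small.Order459648

/-!
# A character of small degree constant on cosets of a commuting cyclic group
-/

set_option autoImplicit false

namespace Cfsg.Agent.Char.OrderSix

open Cfsg Cfsg.Agent.Char
open scoped ComplexConjugate

universe u
variable {G : Type u} [Group G] [Fintype G]

open Small.Order459648 in
/-- A commuting element of coprime order lies in the kernel when the degree is small. -/
theorem kernel_of_small (hperf : commutator G = ⊤) {χ : G → ℂ} (hχ : IsCharacter G χ) (S : Subgroup G) {z : G}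
    (hco : (Nat.card S).Coprime (orderOf z)) (hcomm : ∀ x ∈ S, Commute x z)
    (hconst : ∀ x ∈ S, x ≠ 1 → ∀ k : ℕ, χ (x * z ^ k) = χ x) {d : ℕ} (hd : χ 1 = d)
    (hlt : d < 2 * Nat.card S) : χ z = χ 1 := by
  classical
  obtain ⟨n, ρ, rfl⟩ := hχ
  obtain ⟨μ, hμ, htr, hdet⟩ := exists_eigenvalues ρ z
  rw [Representation.char_one] at hd
  have hdn : Module.finrank ℂ (Fin n → ℂ) = d := by exact_mod_cast hd
  letI : Fintype (Subgroup.zpowers z) := Fintype.ofFinite _
  letI : Fintype S := Fintype.ofFinite _
  -- a non-trivial value occurs a multiple of `|S|` times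
  have hdvd : ∀ i, μ i ≠ 1 → Nat.card S ∣ (Finset.univ.filter fun j => μ j = μ i).card := by
    intro i hi
    set lam := μ i with hlam
    have hl0 : lam ≠ 0 := fun h => by
      have := hμ i
      rw [← hlam, h, zero_pow (orderOf_pos z).ne'] at this
      exact zero_ne_one this
    let L : Subgroup.zpowers z →* ℂˣ := monoidHomOfForallMemZpowers (g := ⟨z, Subgroup.mem_zpowers z⟩)
      (fun x => by
        obtain ⟨k, hk⟩ := Subgroup.mem_zpowers_iff.1 x.2
        exact Subgroup.mem_zpowers_iff.2 ⟨k, Subtype.ext (by simpa using hk)⟩)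
      (g' := Units.mk0 lam hl0) (by
        rw [Subgroup.orderOf_mk]
        exact orderOf_dvd_of_pow_eq_one (Units.ext (by simpa using hμ i)))
    have hL : ∀ k : ℕ, (L (⟨z, Subgroup.mem_zpowers z⟩ ^ k) : ℂ) = lam ^ k := fun k => by
      rw [map_pow, Units.val_pow_eq_pow_val, monoidHomOfForallMemZpowers_apply_gen, Units.val_mk0]
    let f : S × Subgroup.zpowers z →* G := MonoidHom.noncommCoprod S.subtype (Subgroup.zpowers z).subtype
      fun x y => by
        obtain ⟨k, hk⟩ := Subgroup.mem_zpowers_iff.1 y.2
        show Commute (x : G) (y : G)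
        rw [← hk]; exact (hcomm _ x.2).zpow_right k
    obtain ⟨N, hN⟩ := classInner_natCast (isCharacter_comp f ⟨n, ρ, rfl⟩)
      (isCharacter_comp (MonoidHom.snd S (Subgroup.zpowers z)) (isCharacter_linear L))
    refine ⟨N, ?_⟩
    have hsum : ∀ x : S, ∑ y : Subgroup.zpowers z, ρ.character ((x : G) * y) * conj (L y : ℂ) =
        if x = 1 then (orderOf z : ℂ) * ((Finset.univ.filter fun j => μ j = lam).card : ℂ) else 0 := by
      intro x
      have hsub : ∀ j : ℕ, conj (lam ^ j) = (lam⁻¹) ^ j := fun j => by
        rw [map_pow, root_of_unity_conj (orderOf_pos z).ne' (hμ i)]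
      rw [← (finEquivZPowers (isOfFinOrder_of_finite z)).sum_comp,
        Finset.sum_congr rfl (g := fun j : Fin (orderOf z) => ρ.character ((x : G) * z ^ (j : ℕ)) * (lam⁻¹) ^ (j : ℕ))
          fun j _ => by
            have e : finEquivZPowers (isOfFinOrder_of_finite z) j =
                (⟨z, Subgroup.mem_zpowers z⟩ : Subgroup.zpowers z) ^ (j : ℕ) := Subtype.ext (by simp [finEquivZPowers_apply])
            rw [e, hL, hsub, Subgroup.coe_pow],
        Fin.sum_univ_eq_sum_range (fun j => ρ.character ((x : G) * z ^ j) * (lam⁻¹) ^ j)]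
      have hgeom : ∀ q : ℂ, q ^ orderOf z = 1 → q ≠ 1 → ∑ j ∈ Finset.range (orderOf z), q ^ j = 0 := fun q hq hq1 => by
        rw [geom_sum_eq hq1, hq, sub_self, zero_div]
      have hin : (lam⁻¹) ^ orderOf z = 1 := by rw [inv_pow, hμ i, inv_one]
      split_ifs with hx
      · subst hx
        simp only [OneMemClass.coe_one, one_mul, htr, Finset.sum_mul]
        rw [Finset.sum_comm, Finset.sum_congr rfl (g := fun j => if μ j = lam then (orderOf z : ℂ) else 0)
          fun j _ => ?_, Finset.sum_ite, Finset.sum_const_zero, add_zero, Finset.sum_const, nsmul_eq_mul, mul_comm]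
        rw [Finset.sum_congr rfl fun k _ => (mul_pow (μ j) lam⁻¹ k).symm]
        split_ifs with hj
        · simp [hj, hl0]
        · refine hgeom _ (by rw [mul_pow, hμ j, hin, one_mul]) fun h => hj ?_
          exact (mul_inv_eq_one₀ hl0).1 h
      · rw [Finset.sum_congr rfl fun j _ => by rw [hconst _ x.2 (fun h => hx (Subtype.ext h)) j],
          ← Finset.mul_sum, hgeom _ hin (fun h => hi (inv_eq_one.1 h)), mul_zero]
    have h1 : classInner (fun a => ρ.character (f a))
        (fun a => (L (MonoidHom.snd S (Subgroup.zpowers z) a) : ℂ)) = (N : ℂ) := hN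
    rw [classInner, Fintype.sum_prod_type, Nat.card_prod, Nat.card_zpowers] at h1
    have h2 : (∑ x : S, ∑ y : Subgroup.zpowers z, ρ.character (f (x, y)) *
        conj (L (MonoidHom.snd S (Subgroup.zpowers z) (x, y)) : ℂ)) =
        (orderOf z : ℂ) * ((Finset.univ.filter fun j => μ j = lam).card : ℂ) :=
      (Finset.sum_congr rfl fun x _ => hsum x).trans (by simp)
    rw [h2, Nat.cast_mul, inv_mul_eq_iff_eq_mul₀ (mul_ne_zero (Nat.cast_ne_zero.2 Nat.card_pos.ne')
      (Nat.cast_ne_zero.2 (orderOf_pos z).ne'))] at h1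
    have h3 : ((orderOf z * (Finset.univ.filter fun j => μ j = lam).card : ℕ) : ℂ) =
        ((orderOf z * (Nat.card S * N) : ℕ) : ℂ) := by
      push_cast; rw [h1]; ring
    exact Nat.eq_of_mul_eq_mul_left (orderOf_pos z) (Nat.cast_inj.1 h3)
  -- so all values are one
  have hall : ∀ i, μ i = 1 := by
    by_contra! h
    obtain ⟨i, hi⟩ := h
    have hpos : ∀ j, 0 < (Finset.univ.filter fun k => μ k = μ j).card := fun j =>
      Finset.card_pos.2 ⟨j, by simp⟩
    have hge : ∀ j, μ j ≠ 1 → Nat.card S ≤ (Finset.univ.filter fun k => μ k = μ j).card := fun j hj =>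
      Nat.le_of_dvd (hpos j) (hdvd j hj)
    set A := Finset.univ.filter fun k => μ k = μ i with hA
    have hAd : A.card ≤ d := by
      rw [← hdn]; exact (Finset.card_le_univ A).trans (by simp)
    have hsame : ∀ j, μ j ≠ 1 → μ j = μ i := by
      intro j hj
      by_contra hne
      have hdisj : Disjoint A (Finset.univ.filter fun k => μ k = μ j) := by
        rw [Finset.disjoint_left]
        intro k hk hk'
        simp only [hA, Finset.mem_filter] at hk hk'
        exact hne (hk'.2.symm.trans hk.2)
      have := (Finset.card_union_of_disjoint hdisj).symm.trans_le (Finset.card_le_univ _)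
      have h1 := hge i hi
      have h2 := hge j hj
      rw [Fintype.card_fin] at this
      rw [← hA] at h1
      omega
    have hAm : A.card = Nat.card S := by
      obtain ⟨c, hc⟩ := hdvd i hi
      have := hpos i
      rcases c with _ | _ | c
      · rw [hc] at this; omega
      · rw [hc]; simp
      · nlinarith
    have hone : LinearMap.det (ρ (z ^ 1)) = 1 := by
      let f : G →* ℂ := LinearMap.det.comp ρ
      have h1 : commutator G ≤ f.toHomUnits.ker := Abelianization.commutator_subset_ker _
      rw [hperf] at h1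
      exact congrArg Units.val (MonoidHom.mem_ker.1 (h1 (Subgroup.mem_top (z ^ 1))))
    rw [hdet 1] at hone
    simp only [pow_one] at hone
    rw [← Finset.prod_filter_mul_prod_filter_not Finset.univ (fun k => μ k = μ i),
      Finset.prod_congr rfl (fun k hk => (Finset.mem_filter.1 hk).2), Finset.prod_const, ← hA,
      Finset.prod_eq_one (fun k hk => ?_), mul_one, hAm] at hone
    swap
    · by_contra hk1
      exact (Finset.mem_filter.1 hk).2 (hsame k hk1)
    refine hi ?_
    have h1 : orderOf (μ i) ∣ Nat.card S := orderOf_dvd_of_pow_eq_one hone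
    have h2 : orderOf (μ i) ∣ orderOf z := orderOf_dvd_of_pow_eq_one (hμ i)
    exact orderOf_eq_one_iff.1 (Nat.eq_one_of_dvd_coprimes hco h1 h2)
  have h := htr 1
  simp only [pow_one, hall, Finset.sum_const, Finset.card_univ, Fintype.card_fin, nsmul_eq_mul, mul_one] at h
  rw [h, Representation.char_one]

/-- In a simple group such an element is trivial. -/
theorem eq_one_of_small [IsSimpleGroup G] (hna : ¬ IsMulCommutative G) {χ : IrrCharacter G}
    (hne : (χ : G → ℂ) ≠ fun _ => 1) (S : Subgroup G) {z : G}
    (hco : (Nat.card S).Coprime (orderOf z)) (hcomm : ∀ x ∈ S, Commute x z)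
    (hconst : ∀ x ∈ S, x ≠ 1 → ∀ k : ℕ, (χ : G → ℂ) (x * z ^ k) = (χ : G → ℂ) x)
    (hlt : charDegree (χ : G → ℂ) < 2 * Nat.card S) : z = 1 := by
  have h := kernel_of_small (Small.Order459648.perfect hna) (irr_isCharacter χ.2) S hco hcomm hconst
    (char_one_eq_deg (irr_isCharacter χ.2)) (by rwa [← charDegree_eq_deg])
  have hne' : χ ≠ Small.Order459648.oneChar := fun e => hne (congrArg Subtype.val e)
  exact Small.Order459648.faithful hne' (Small.Order459648.one_lt_degree hna hne').ne' z h

end Cfsg.Agent.Char.OrderSix
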