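import Cfsg.Agent.Lib.Char.OrderSix.KleinBase
import Cfsg.Agent.Lib.Char.OrderSix.SmallDeg
import Cfsg.Agent.Lib.Char.IsolatedBase

/-!
# Index six with the two-part of order two: principal characters on the sections of involutions
-/

set_option autoImplicit false
set_option linter.unusedSectionVars false
set_option linter.style.haveILetI false

open Cfsg Cfsg.Agent.Char Subgroup

namespace Cfsg.Agent.Char.OrderSix

universe u
variable {G : Type u} [Group G] [Fintype G] {M : Ideal AlgInt}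

/-- Principal characters are constant on the odd normal part of a centraliser. -/
theorem odd_const (hM : IsPModular 2 M) {x : G} (hx : orderOf x = 2) (K : Subgroup G)
    (hKC : K ≤ centralizer ({x} : Set G)) (hn : centralizer ({x} : Set G) ≤ normalizer (K : Set G))
    (hodd : Odd (Nat.card K)) {χ : IrrCharacter G} (hχ : χ ∈ principalBlock M G) {y : G} (hy : y ∈ K) :
    (χ : G → ℂ) (x * y) = (χ : G → ℂ) x := by
  haveI : Fact (Nat.Prime 2) := ⟨Nat.prime_two⟩
  haveI : (K.subgroupOf (centralizer ({x} : Set G))).Normal := (normal_subgroupOf_iff_le_normalizer hKC).2 hn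
  have h2 : ∀ w : G, w ∈ K → ¬ 2 ∣ orderOf w := fun w hw h =>
    (Nat.not_even_iff_odd.2 hodd) (even_iff_two_dvd.2 (dvd_trans h (by
      rw [← Subgroup.orderOf_mk w hw]; exact orderOf_dvd_natCard _)))
  have h := principal_section_const hM ⟨1, by rw [hx, pow_one]⟩ (K.subgroupOf (centralizer ({x} : Set G)))
    (by rw [Nat.card_congr (subgroupOfEquivOfLe hKC).toEquiv]; exact fun h => (Nat.not_even_iff_odd.2 hodd) (even_iff_two_dvd.2 h))
    χ hχ 1 ⟨y, hKC hy⟩ (mem_subgroupOf.2 hy) (by simp) (by rw [mul_one, Subgroup.orderOf_mk]; exact h2 y hy)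
  simpa using h

namespace KleinCtx

variable {D : Ctx G} (F : KleinCtx D) [IsSimpleGroup G]

theorem u_const (hM : IsPModular 2 M) {χ : IrrCharacter G} (hχ : χ ∈ principalBlock M G) {y : G} (hy : y ∈ F.W) :
    (χ : G → ℂ) (D.inv2 * y) = (χ : G → ℂ) D.inv2 :=
  odd_const hM D.u_ord F.W F.W_le_C F.C_le_normalizer_W F.hodd hχ hy

/-- constancy on the fixed points in all three sections -/
theorem S_const (hM : IsPModular 2 M) {χ : IrrCharacter G} (hχ : χ ∈ principalBlock M G) {s : G} (hs : s ∈ F.S)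
    (hs1 : s ≠ 1) {y : G} (hy : y ∈ F.W0) : (χ : G → ℂ) (s * y) = (χ : G → ℂ) s := by
  obtain ⟨g, hgu, -, hg0⟩ := F.exists_move hs hs1
  have hy' : g⁻¹ * y * g ∈ F.W0 := (hg0 _).1 (by rwa [show g * (g⁻¹ * y * g) * g⁻¹ = y by group])
  have hcl := isClassFunction_character (irr_isCharacter χ.2)
  rw [show s * y = g * (D.inv2 * (g⁻¹ * y * g)) * g⁻¹ by rw [← hgu]; group, hcl, F.u_const hM hχ (F.mem_W0.1 hy').1,
    ← hgu, hcl]

/-- no small degrees when there are fixed points -/
theorem degree_ge (hna : ¬ IsMulCommutative G) (hM : IsPModular 2 M) {χ : IrrCharacter G}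
    (hχ : χ ∈ principalBlock M G) (hne : (χ : G → ℂ) ≠ fun _ => 1) {z : G} (hz : z ∈ F.W0) (hz1 : z ≠ 1) :
    8 ≤ charDegree (χ : G → ℂ) := by
  by_contra hlt
  refine hz1 (eq_one_of_small hna hne F.S ?_ (fun x hx => (F.W0_S hz hx).symm)
    (fun x hx hx1 k => F.S_const hM hχ hx hx1 (pow_mem hz k)) (by rw [F.card_S4]; omega))
  rw [F.card_S4, show (4 : ℕ) = 2 ^ 2 from rfl]
  exact Nat.Coprime.pow_left 2 (Nat.coprime_two_left.2 ((F.hW z).1 (F.mem_W0.1 hz).1).2)

end KleinCtx

end Cfsg.Agent.Char.OrderSix
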