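import Cfsg.Agent.Lib.Char.OrderSix.KleinLocal

/-!
# Index six with the two-part of order two: the fourth power divides the order
-/

set_option autoImplicit false
set_option linter.unusedSectionVars false
set_option linter.style.haveILetI false
set_option maxHeartbeats 1600000

open Cfsg Cfsg.Agent.Char Subgroup

namespace Cfsg.Agent.Char.OrderSix

universe u
variable {G : Type u} [Group G] [Fintype G] {M : Ideal AlgInt}

/-- conjugating inside a subgroup -/
theorem odd_conj_iff (g x : G) : Odd (orderOf (g * x * g⁻¹)) ↔ Odd (orderOf x) := by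
  rw [show g * x * g⁻¹ = (MulAut.conj g).toMonoidHom x from rfl, orderOf_injective _ (MulAut.conj g).injective]

/-- a proper multiple without the factors two and three is at least five times as big -/
theorem five_mul_le {n v : ℕ} (hv : Odd v) (h3 : ¬ 3 ∣ v) (hd : n ∣ v) (hne : n ≠ v) : 5 * n ≤ v := by
  obtain ⟨c, rfl⟩ := hd
  have h1 : c ≠ 1 := fun h => hne (by rw [h, mul_one])
  have h2 : Odd c := Nat.Odd.of_mul_right hv
  have h0 : c ≠ 3 := fun h => h3 (h ▸ dvd_mul_left 3 n)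
  rcases h2 with ⟨k, rfl⟩
  have : 2 ≤ k := by omega
  nlinarith

namespace KleinCtx

variable {D : Ctx G} (F : KleinCtx D) [IsSimpleGroup G]

theorem pow_four_dvd_of_complement {N : Subgroup G} (hN : Nat.card N = Nat.card F.W0 ^ 4) :
    4 * Nat.card F.W0 ^ 4 ∣ Nat.card G := by
  refine Nat.Coprime.mul_dvd_of_dvd_of_dvd ?_ (F.card_S4 ▸ card_subgroup_dvd_card F.S) (hN ▸ card_subgroup_dvd_card N)
  rw [show (4 : ℕ) = 2 ^ 2 from rfl]
  exact Nat.Coprime.pow_left 2 (Nat.coprime_two_left.2 (Odd.pow (Odd.of_dvd_nat F.hodd (card_dvd_of_le inf_le_left))))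

/-- the group fixing `z` and its conjugate -/
def K1 (_F : KleinCtx D) (z : G) : Subgroup G :=
  centralizer ({z} : Set G) ⊓ centralizer ({D.el3 * z * D.el3⁻¹} : Set G)

theorem mem_K1 {z x : G} : x ∈ F.K1 z ↔ Commute x z ∧ Commute x (D.el3 * z * D.el3⁻¹) := by
  rw [K1, mem_inf, mem_centralizer_singleton_iff, mem_centralizer_singleton_iff]; rfl

theorem K1_parts {z : G} (hz : z ∈ F.W0) (hzc : ∀ x ∈ F.W0, Commute x z) (hz1 : z ≠ 1) {x : G}
    (hx : x ∈ F.K1 z) (hxC : x ∈ D.C) : ∃ q ∈ F.W, x = q ∨ x = q * D.inv2 := by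
  obtain ⟨hxz, hxz'⟩ := F.mem_K1.1 hx
  obtain ⟨q, hq, s, hs, rfl⟩ := F.cent_z_parts hz hzc hz1 hxC hxz
  have hzW := (F.mem_W0.1 hz).1
  have hcw : ∀ {y : G}, y ∈ F.W → Commute y (D.el3 * z * D.el3⁻¹) := fun {y} hy => by
    have hy' : D.el3⁻¹ * y * D.el3 ∈ F.W := by simpa using F.conj_W (inv_mem D.w_C) hy
    have := congrArg (fun t => D.el3 * t * D.el3⁻¹) (F.centre_W hz hzc hy').symm.eq
    show y * (D.el3 * z * D.el3⁻¹) = D.el3 * z * D.el3⁻¹ * y
    simpa [mul_assoc] using this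
  have hs' : Commute s (D.el3 * z * D.el3⁻¹) := by
    have := (hcw (inv_mem hq)).mul_left hxz'
    rwa [inv_mul_cancel_left] at this
  have hmove : ¬ Commute F.a (D.el3 * z * D.el3⁻¹) := fun h => by
    have e : F.a * (D.el3 * z * D.el3⁻¹) * F.a⁻¹ = D.el3⁻¹ * z * D.el3 := by
      calc F.a * (D.el3 * z * D.el3⁻¹) * F.a⁻¹ =
          (F.a * D.el3 * F.a⁻¹) * (F.a * z * F.a⁻¹) * (F.a * D.el3 * F.a⁻¹)⁻¹ := by group
        _ = _ := by rw [F.hinv, ← (F.mem_W0.1 hz).2, mul_inv_cancel_right, inv_inv]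
    rw [h.eq, mul_inv_cancel_right] at e
    have hc : Commute z (D.el3 * D.el3) := by
      have := congrArg (fun t => D.el3 * t * D.el3) e
      show z * (D.el3 * D.el3) = D.el3 * D.el3 * z
      simpa [mul_assoc] using this.symm
    have hw3 : D.el3 * D.el3 * D.el3 = 1 := by
      rw [← pow_two, ← pow_succ, show 2 + 1 = orderOf D.el3 from D.w_ord.symm]; exact pow_orderOf_eq_one _
    rw [← inv_eq_of_mul_eq_one_left hw3] at hc
    exact hz1 (F.fix_W hzW (by simpa using hc.inv_right.eq))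
  rcases F.S_iff.1 hs with rfl | rfl | rfl | rfl
  · exact ⟨q, hq, Or.inl (mul_one q)⟩
  · exact ⟨q, hq, Or.inr rfl⟩
  · exact absurd hs' hmove
  · refine absurd ?_ hmove
    have := (show Commute D.inv2⁻¹ (D.el3 * z * D.el3⁻¹) from
      (F.W_u (F.conj_W D.w_C hzW)).symm.inv_left).mul_left hs'
    rwa [inv_mul_cancel_left] at this

theorem u_K1 {z : G} (hz : z ∈ F.W0) : D.inv2 ∈ F.K1 z :=
  F.mem_K1.2 ⟨(F.W_u (F.mem_W0.1 hz).1).symm, (F.W_u (F.conj_W D.w_C (F.mem_W0.1 hz).1)).symm⟩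

/-- a normal complement in that group -/
theorem K1_complement {z : G} (hz : z ∈ F.W0) (hzc : ∀ x ∈ F.W0, Commute x z) (hz1 : z ≠ 1) :
    ∃ Q : Subgroup G, Q ≤ F.K1 z ∧ Odd (Nat.card Q) ∧ Nat.card (F.K1 z) = 2 * Nat.card Q ∧
      F.S ≤ normalizer (Q : Set G) ∧ F.W ≤ Q := by
  classical
  haveI : Fact (Nat.Prime 2) := ⟨Nat.prime_two⟩
  set L := F.K1 z with hL
  set U : Subgroup L := zpowers ⟨D.inv2, F.u_K1 hz⟩ with hU
  have hUc : Nat.card U = 2 := by rw [Nat.card_zpowers, Subgroup.orderOf_mk, D.u_ord]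
  have hmax : ∀ {R : Subgroup L}, IsPGroup 2 R → U ≤ R → R = U := by
    intro R hR hUR
    refine le_antisymm (fun r hr => ?_) hUR
    have huR : (⟨D.inv2, F.u_K1 hz⟩ : L) ∈ R := hUR (mem_zpowers _)
    have hrC : ∀ r ∈ R, (r : G) ∈ D.C := by
      haveI : Nontrivial R := Finite.one_lt_card_iff_nontrivial.1
        (lt_of_lt_of_le (by rw [hUc]; norm_num) (card_le_of_le hUR))
      haveI := hR.center_nontrivial
      obtain ⟨c, hc⟩ := exists_prime_orderOf_dvd_card' (G := center R) 2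
        ((hR.to_subgroup (center R)).card_eq_or_dvd.resolve_left (Finite.one_lt_card).ne')
      have hcu : ((c : R) : L) = ⟨D.inv2, F.u_K1 hz⟩ := by
        have hcomm : (((c : R) : L) : G) * D.inv2 = D.inv2 * (((c : R) : L) : G) :=
          (congrArg (fun v : R => ((v : L) : G)) (mem_center_iff.1 c.2 ⟨_, huR⟩)).symm
        obtain ⟨q, hq, hcq⟩ := F.K1_parts hz hzc hz1 ((c : R) : L).2 (D.mem_C.2 hcomm)
        have ho : orderOf (((c : R) : L) : G) = 2 := by rw [orderOf_coe, orderOf_coe, orderOf_coe, hc]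
        have hsq := pow_orderOf_eq_one (((c : R) : L) : G)
        rw [ho, pow_two] at hsq
        rcases hcq with e | e <;> rw [e] at hsq
        · exfalso
          rw [e, F.W_meet hq hsq, orderOf_one] at ho
          omega
        · rw [(F.W_u hq).symm.mul_mul_mul_comm, D.uu, mul_one] at hsq
          exact Subtype.ext (by rw [e, F.W_meet hq hsq, one_mul])
      intro r hr
      have := congrArg (fun v : R => ((v : L) : G)) (mem_center_iff.1 c.2 ⟨r, hr⟩)
      simp only [Subgroup.coe_mul, hcu] at this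
      exact D.mem_C.2 this
    obtain ⟨q, hq, he⟩ := F.K1_parts hz hzc hz1 r.2 (hrC r hr)
    obtain ⟨k, hk⟩ := hR ⟨r, hr⟩
    have hk' : (r : G) ^ 2 ^ k = 1 := congrArg (fun v : R => ((v : L) : G)) hk
    have hq1 : q = 1 := by
      have ho := ((F.hW q).1 hq).2
      have h2 : q ^ 2 ^ (k + 1) = 1 := by
        rcases he with e | e <;> rw [e] at hk'
        · rw [pow_succ, pow_mul, hk', one_pow]
        · rw [(F.W_u hq).mul_pow] at hk'
          rw [pow_succ, pow_mul, eq_inv_of_mul_eq_one_left hk', inv_pow, ← pow_mul, mul_comm, pow_mul, pow_two,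
            D.uu, one_pow, inv_one]
      exact orderOf_eq_one_iff.1 (Nat.eq_one_of_dvd_coprimes
        (Nat.Coprime.pow_left (k + 1) (Nat.coprime_two_left.2 ho)) (orderOf_dvd_of_pow_eq_one h2) dvd_rfl)
    rcases he with e | e <;> rw [hq1] at e
    · rw [show r = 1 from Subtype.ext e]; exact one_mem _
    · rw [show r = ⟨D.inv2, F.u_K1 hz⟩ from Subtype.ext (by rw [e, one_mul])]; exact mem_zpowers _
  let P : Sylow 2 L :=
    { toSubgroup := U
      isPGroup' := IsPGroup.of_card (n := 1) (by rw [hUc, pow_one])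
      is_maximal' := fun hQ hle => hmax hQ hle }
  have hNC : normalizer ((P : Subgroup L) : Set L) ≤ centralizer ((P : Subgroup L) : Set L) := by
    intro n hn
    refine mem_centralizer_iff.2 fun v hv => ?_
    have h1 := (mem_normalizer_iff.1 hn v).1 hv
    have hv2 : ∀ {w : L}, w ∈ U → w = 1 ∨ w = ⟨D.inv2, F.u_K1 hz⟩ := fun {w} hw => by
      have : (w : G) ∈ zpowers D.inv2 := by
        obtain ⟨i, rfl⟩ := mem_zpowers_iff.1 hw
        exact ⟨i, by simp⟩
      rcases D.mem_zu.1 this with e | e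
      · exact Or.inl (Subtype.ext e)
      · exact Or.inr (Subtype.ext e)
    rcases hv2 hv with rfl | rfl
    · simp
    · rcases hv2 h1 with e | e
      · exfalso
        rw [conj_eq_one_iff] at e
        exact D.u_ne (congrArg Subtype.val e)
      · exact (mul_inv_eq_iff_eq_mul.1 e).symm
  obtain ⟨N, hN, hc⟩ := Fusion.hnpc_exists_complement (Fusion.hnpc_of_normalizer_le_centralizer P hNC) P
  haveI := hN
  have hodd : Odd (Nat.card N) := by
    rw [← hc.index_eq_card]
    exact Nat.not_even_iff_odd.1 fun h => P.not_dvd_index (even_iff_two_dvd.1 h)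
  have hNmem : ∀ {x : L}, Odd (orderOf x) → x ∈ N := fun ho =>
    odd_mem_complement hc (k := 1) (by rw [pow_one]; exact hUc) ho
  have hcard : Nat.card (N.map L.subtype) = Nat.card N :=
    Nat.card_congr (N.equivMapOfInjective _ L.subtype_injective).toEquiv.symm
  have hinv : ∀ s ∈ F.S, ∀ x ∈ L, s * x * s⁻¹ ∈ L := by
    intro s hs x hx
    obtain ⟨h1, h2⟩ := F.mem_K1.1 hx
    have hzs : Commute s z := (F.W0_S hz hs).symm
    set z' := D.el3 * z * D.el3⁻¹ with hz'
    have h3 : Commute x (D.el3⁻¹ * z * D.el3) := by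
      rw [eq_inv_of_mul_eq_one_right (F.cube (F.mem_W0.1 hz).1).1]
      exact (h1.mul_right h2).inv_right
    have hsz' : s⁻¹ * z' * s = z' ∨ s⁻¹ * z' * s = D.el3⁻¹ * z * D.el3 := by
      have hzW := F.conj_W D.w_C (F.mem_W0.1 hz).1
      have ha : F.a⁻¹ * z' * F.a = D.el3⁻¹ * z * D.el3 := by
        calc F.a⁻¹ * z' * F.a = (F.a * F.a)⁻¹ * ((F.a * D.el3 * F.a⁻¹) * (F.a * z * F.a⁻¹) *
            (F.a * D.el3 * F.a⁻¹)⁻¹) * (F.a * F.a) := by rw [hz']; group
          _ = _ := by rw [F.haa, F.hinv, ← (F.mem_W0.1 hz).2, mul_inv_cancel_right, inv_inv]; group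
      rcases F.S_iff.1 hs with rfl | rfl | rfl | rfl
      · exact Or.inl (by group)
      · exact Or.inl (by rw [mul_assoc, (F.W_u hzW).eq, inv_mul_cancel_left])
      · exact Or.inr ha
      · refine Or.inr ?_
        rw [← ha, mul_inv_rev]
        calc F.a⁻¹ * D.inv2⁻¹ * z' * (D.inv2 * F.a) = F.a⁻¹ * (D.inv2⁻¹ * (z' * D.inv2)) * F.a := by group
          _ = _ := by rw [(F.W_u hzW).eq, inv_mul_cancel_left]
    have e : ∀ {v : G}, Commute x (s⁻¹ * v * s) → Commute (s * x * s⁻¹) v := fun {v} h => by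
      have := congrArg (fun t => s * t * s⁻¹) h.eq
      show s * x * s⁻¹ * v = v * (s * x * s⁻¹)
      simpa [mul_assoc] using this
    refine F.mem_K1.2 ⟨e (by rwa [mul_assoc, ← hzs.eq, inv_mul_cancel_left]), e ?_⟩
    rcases hsz' with r | r <;> rw [r]
    · exact h2
    · exact h3
  refine ⟨N.map L.subtype, map_subtype_le _, hcard ▸ hodd, ?_, fun s hs => ?_, fun x hx => ?_⟩
  · rw [hcard, ← N.card_mul_index, hc.symm.index_eq_card]
    rw [show Nat.card (P : Subgroup L) = 2 from hUc, mul_comm]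
  · have key : ∀ c ∈ F.S, ∀ v ∈ N.map L.subtype, c * v * c⁻¹ ∈ N.map L.subtype := by
      rintro c hcS _ ⟨v, hv, rfl⟩
      refine ⟨⟨c * v * c⁻¹, hinv c hcS v v.2⟩, hNmem ?_, rfl⟩
      rw [Subgroup.orderOf_mk, odd_conj_iff, orderOf_coe]
      refine Odd.of_dvd_nat hodd ?_
      rw [← Subgroup.orderOf_mk v hv]
      exact orderOf_dvd_natCard _
    exact mem_normalizer_iff.2 fun v => ⟨key s hs v, fun h => by
      simpa [mul_assoc] using key s⁻¹ (inv_mem hs) _ h⟩
  · have hy' : D.el3⁻¹ * x * D.el3 ∈ F.W := by simpa using F.conj_W (inv_mem D.w_C) hx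
    have h2 := congrArg (fun t => D.el3 * t * D.el3⁻¹) (F.centre_W hz hzc hy').symm.eq
    have hxL : x ∈ L := F.mem_K1.2 ⟨(F.centre_W hz hzc hx).symm, by
      show x * (D.el3 * z * D.el3⁻¹) = D.el3 * z * D.el3⁻¹ * x
      simpa [mul_assoc] using h2⟩
    exact ⟨⟨x, hxL⟩, hNmem (by rw [Subgroup.orderOf_mk]; exact ((F.hW x).1 hx).2), rfl⟩

/-- the order of that group bounds the centraliser of `z` -/
theorem cent_bound {z : G} (hz : z ∈ F.W0) (hzc : ∀ x ∈ F.W0, Commute x z) (hz1 : z ≠ 1) :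
    4 * Nat.card F.W0 ^ 4 ∣ Nat.card G ∨
      5 * Nat.card (centralizer ({z} : Set G)) ^ 2 ≤ 2 * Nat.card F.W0 ^ 4 * Nat.card G := by
  obtain ⟨Q, hQK, hodd, hcard, hn, hWQ⟩ := F.K1_complement hz hzc hz1
  have hQz : ∀ x ∈ Q, Commute x z := fun x hx => (F.mem_K1.1 (hQK hx)).1
  have hu : Nat.card ↥(Q ⊓ centralizer ({D.inv2} : Set G)) = Nat.card F.W :=
    (F.card_fix hz hzc hz1 (F.P_le_S F.u_P) D.u_ne hQz hodd).2 fun x hxz hxu ho =>
      hWQ (F.odd_mem_W hz hzc hz1 (D.mem_C.2 hxu.eq) hxz ho)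
  have ha1 : F.a ≠ 1 := fun h => F.a_notP (h ▸ one_mem _)
  have hua1 : D.inv2 * F.a ≠ 1 := fun h => F.a_notP (eq_inv_of_mul_eq_one_right h ▸ inv_mem F.u_P)
  have h := F.formula hn hodd fun x hx => hWQ (F.mem_W0.1 hx).1
  have da := (F.card_fix hz hzc hz1 F.a_S ha1 hQz hodd).1
  have dua := (F.card_fix hz hzc hz1 (mul_mem (F.P_le_S F.u_P) F.a_S) hua1 hQz hodd).1
  rw [hu, F.card_W_sq, mul_comm (Nat.card Q), mul_assoc _ (Nat.card ↥(Q ⊓ centralizer ({F.a} : Set G)))] at h
  have h' := Nat.eq_of_mul_eq_mul_left (Nat.mul_pos Nat.card_pos Nat.card_pos) h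
  have hd : Nat.card Q ∣ Nat.card F.W0 ^ 4 := by
    rw [h', show Nat.card F.W0 ^ 4 = (Nat.card F.W0 * Nat.card F.W0) * (Nat.card F.W0 * Nat.card F.W0) by ring,
      ← F.card_W_sq]
    exact mul_dvd_mul da dua
  by_cases he : Nat.card Q = Nat.card F.W0 ^ 4
  · exact Or.inl (F.pow_four_dvd_of_complement he)
  right
  have h5 := five_mul_le (Odd.pow (Odd.of_dvd_nat F.hodd (card_dvd_of_le inf_le_left)))
    (fun h3 => F.three_W ((Nat.prime_three.dvd_of_dvd_pow h3).trans (card_dvd_of_le inf_le_left))) hd he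
  have hprod := card_mul_card_le (centralizer ({z} : Set G)) (centralizer ({D.el3 * z * D.el3⁻¹} : Set G))
  have hconj : Nat.card (centralizer ({D.el3 * z * D.el3⁻¹} : Set G)) = Nat.card (centralizer ({z} : Set G)) := by
    refine Nat.card_congr (Equiv.subtypeEquiv (MulAut.conj D.el3).symm.toEquiv fun x => ?_)
    show x ∈ centralizer _ ↔ D.el3⁻¹ * x * D.el3 ∈ centralizer _
    rw [mem_centralizer_singleton_iff, mem_centralizer_singleton_iff]
    constructor <;> intro h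
    · have := congrArg (fun v => D.el3⁻¹ * v * D.el3) h
      simpa [mul_assoc] using this
    · have := congrArg (fun v => D.el3 * v * D.el3⁻¹) h
      simpa [mul_assoc] using this
  rw [hconj, show centralizer ({z} : Set G) ⊓ centralizer ({D.el3 * z * D.el3⁻¹} : Set G) = F.K1 z from rfl,
    hcard] at hprod
  calc 5 * Nat.card (centralizer ({z} : Set G)) ^ 2 ≤ 5 * (Nat.card G * (2 * Nat.card Q)) := by
        rw [pow_two]; exact Nat.mul_le_mul_left 5 hprod
    _ = 2 * Nat.card G * (5 * Nat.card Q) := by ring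
    _ ≤ 2 * Nat.card G * Nat.card F.W0 ^ 4 := Nat.mul_le_mul_left _ h5
    _ = _ := by ring

/-- either the fourth power divides the order, or the centraliser of `z` is large -/
theorem cent_large (hM : IsPModular 2 M) {z : G} (hz : z ∈ F.W0) (hzc : ∀ x ∈ F.W0, Commute x z) (hz1 : z ≠ 1) :
    4 * Nat.card F.W0 ^ 4 ∣ Nat.card G ∨
      800 * Nat.card F.W0 ^ 4 ≤ 36 * Nat.card (centralizer ({z} : Set G)) := by
  classical
  haveI : Fact (Nat.Prime 2) := ⟨Nat.prime_two⟩
  set H := centralizer ({z} : Set G) with hH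
  have hmemH : ∀ {x : G}, x ∈ H ↔ Commute x z := fun {x} => mem_centralizer_singleton_iff
  have hSH : F.S ≤ H := fun s hs => hmemH.2 (F.W0_S hz hs).symm
  rcases F.split hSH with ⟨N, hNH, hodd, hn, hall⟩ | hone
  · exact Or.inl (F.pow_four_dvd_of_complement (F.card_complement hz hzc hz1 hn hodd (fun x hx => hmemH.1 (hNH hx))
      fun s _ _ x hxz _ ho => hall x (hmemH.2 hxz) ho))
  set P : Sylow 2 H := F.sylow.subtype hSH
  letI : Fintype H := Fintype.ofFinite _
  have hu : D.inv2 ∈ F.S := F.P_le_S F.u_P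
  set u' : H := ⟨D.inv2, hSH hu⟩ with hu'
  have hu'o : orderOf u' = 2 := by rw [hu', Subgroup.orderOf_mk, D.u_ord]
  have hP4 : Nat.card (P : Subgroup H) = 4 := (Nat.card_congr (subgroupOfEquivOfLe hSH).toEquiv).trans F.card_S4
  obtain ⟨c1, c2, c3, e1, e2, e3, hmem, hne, he, hval, hmod, hsum, hcount⟩ :=
    four_data hM P hP4 (x := u') (mem_subgroupOf.2 hu) hu'o (fun y => Subtype.ext (Subtype.ext (F.S_sq y.2))) hone
  have hCP : Nat.card (centralizer ((P : Subgroup H) : Set H)) = 4 * Nat.card F.W0 := by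
    rw [← F.card_cent_S]
    have hle : ∀ x ∈ centralizer (F.S : Set G), x ∈ H := fun x hx => by
      have hxc : ∀ s ∈ F.S, Commute x s := fun s hs => (mem_centralizer_iff.1 hx s hs).symm
      obtain ⟨q, hq, s, hs, rfl⟩ := F.cent_a_parts (D.mem_C.2 (hxc _ hu).eq) (hxc _ F.a_S)
      exact mul_mem (hmemH.2 (hzc q hq)) (hSH hs)
    exact Nat.card_congr
      { toFun := fun x => ⟨(x : H), mem_centralizer_iff.2 fun s hs =>
          congrArg Subtype.val (mem_centralizer_iff.1 x.2 ⟨s, hSH hs⟩ (mem_subgroupOf.2 hs))⟩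
        invFun := fun x => ⟨⟨x, hle x x.2⟩, mem_centralizer_iff.2 fun s hs =>
          Subtype.ext (mem_centralizer_iff.1 x.2 s (mem_subgroupOf.1 hs))⟩
        left_inv := fun x => rfl
        right_inv := fun x => rfl }
  have hCu : Nat.card ↥(centralizer ({u'} : Set H)) = 4 * (Nat.card F.W0 * Nat.card F.W0) := by
    rw [← F.card_Cz hz hzc hz1]
    exact Nat.card_congr
      { toFun := fun x => ⟨((x : H) : G), mem_inf.2 ⟨(x : H).2, D.mem_C.2
          (congrArg Subtype.val (mem_centralizer_singleton_iff.1 x.2))⟩⟩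
        invFun := fun x => ⟨⟨x, (mem_inf.1 x.2).1⟩, mem_centralizer_singleton_iff.2
          (Subtype.ext (D.mem_C.1 (mem_inf.1 x.2).2))⟩
        left_inv := fun x => rfl
        right_inv := fun x => rfl }
  rw [hCP, hCu] at hcount
  by_cases hlin : e1 * (charDegree (c1 : H → ℂ) : ℤ) = 1 ∨ e2 * (charDegree (c2 : H → ℂ) : ℤ) = 1 ∨
      e3 * (charDegree (c3 : H → ℂ) : ℤ) = 1
  · left
    obtain ⟨c, hc, hcne, hd1, hcu⟩ : ∃ c, c ∈ principalBlock M H ∧ (c : H → ℂ) ≠ (fun _ => 1) ∧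
        charDegree (c : H → ℂ) = 1 ∧ (c : H → ℂ) u' = 1 := by
      have key : ∀ (e : ℤ) (d : ℕ), (e = 1 ∨ e = -1) → e * (d : ℤ) = 1 → d = 1 ∧ e = 1 := fun e d he h => by
        rcases he with rfl | rfl <;> omega
      rcases hlin with h | h | h
      · obtain ⟨a1, a2⟩ := key _ _ he.1 h
        exact ⟨c1, (hmem _).2 (Or.inr (Or.inl rfl)), hne.1, a1, by rw [hval.1, a2, Int.cast_one]⟩
      · obtain ⟨a1, a2⟩ := key _ _ he.2.1 h
        exact ⟨c2, (hmem _).2 (Or.inr (Or.inr (Or.inl rfl))), hne.2.1, a1, by rw [hval.2.1, a2, Int.cast_one]⟩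
      · obtain ⟨a1, a2⟩ := key _ _ he.2.2 h
        exact ⟨c3, (hmem _).2 (Or.inr (Or.inr (Or.inr rfl))), hne.2.2, a1, by rw [hval.2.2, a2, Int.cast_one]⟩
    obtain ⟨l, hl⟩ := exists_hom_of_degree_one (irr_isCharacter c.2) (by
      rw [char_one_eq_deg (irr_isCharacter c.2), ← charDegree_eq_deg, hd1, Nat.cast_one])
    have hlu : l u' = 1 := Units.ext (by rw [hl] at hcu; exact hcu)
    have hconjl : ∀ a b : H, l (b * a * b⁻¹) = l a := fun a b => by
      rw [map_mul, map_mul, map_inv, mul_comm (l b), mul_assoc, mul_inv_cancel, mul_one]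
    have hlinv : ∀ a : H, orderOf a = 2 → l a = 1 := fun a ha => by
      obtain ⟨b, hb⟩ := isConj_iff.1 (hone u' a hu'o ha)
      rw [← hb, hconjl, hlu]
    have hlS : ∀ s (hs : s ∈ F.S), l ⟨s, hSH hs⟩ = 1 := fun s hs => by
      by_cases hs1 : s = 1
      · subst hs1; exact map_one l
      · exact hlinv _ (by rw [Subgroup.orderOf_mk]; exact F.S_ord hs hs1)
    have hlW : ∀ y (hy : y ∈ F.W), l ⟨y, hmemH.2 (F.centre_W hz hzc hy).symm⟩ = 1 := fun y hy => by
      have hWH : F.W ≤ H := fun v hv => hmemH.2 (F.centre_W hz hzc hv).symm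
      have h := odd_const hM hu'o (F.W.subgroupOf H)
        (fun v hv => mem_centralizer_singleton_iff.2 (Subtype.ext (F.W_u (mem_subgroupOf.1 hv)).eq))
        (fun v hv => ?_) ?_ hc (y := ⟨y, hWH hy⟩) (mem_subgroupOf.2 hy)
      · have hl' : ∀ a, (c : H → ℂ) a = (l a : ℂ) := fun a => by rw [hl]
        rw [hl', hl', map_mul, hlu, one_mul] at h
        exact Units.ext h
      · have hvC : (v : G) ∈ D.C := D.mem_C.2 (congrArg Subtype.val (mem_centralizer_singleton_iff.1 hv))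
        refine mem_normalizer_iff.2 fun a => ?_
        simp only [mem_subgroupOf, Subgroup.coe_mul, InvMemClass.coe_inv]
        exact mem_normalizer_iff.1 (F.C_le_normalizer_W hvC) a
      · rw [Nat.card_congr (subgroupOfEquivOfLe hWH).toEquiv]; exact F.hodd
    have hlodd : ∀ s ∈ F.S, s ≠ 1 → ∀ x (hx : x ∈ H), Commute x s → Odd (orderOf x) → l ⟨x, hx⟩ = 1 := by
      intro s hs hs1 x hx hxs ho
      obtain ⟨b, hb⟩ := isConj_iff.1 (hone u' ⟨s, hSH hs⟩ hu'o (by rw [Subgroup.orderOf_mk]; exact F.S_ord hs hs1))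
      have hb' : (b : G) * D.inv2 * (b : G)⁻¹ = s := congrArg Subtype.val hb
      have hy : (b : G)⁻¹ * x * b ∈ F.W := by
        refine F.odd_mem_W hz hzc hz1 (D.mem_C.2 ?_) ?_ ?_
        · have := congrArg (fun t => (b : G)⁻¹ * t * b) hxs.eq
          rw [← hb'] at this
          simpa [mul_assoc] using this
        · exact hmemH.1 (mul_mem (mul_mem (inv_mem b.2) hx) b.2)
        · have := odd_conj_iff ((b : G)⁻¹) x
          rw [inv_inv] at this
          exact this.2 ho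
      rw [show (⟨x, hx⟩ : H) = b * ⟨_, hmemH.2 (F.centre_W hz hzc hy).symm⟩ * b⁻¹ from
        Subtype.ext (show x = (b : G) * ((b : G)⁻¹ * x * b) * (b : G)⁻¹ by group), hconjl, hlW _ hy]
    set L := l.ker.map H.subtype with hL
    have hmemL : ∀ {x : G} (hx : x ∈ H), l ⟨x, hx⟩ = 1 → x ∈ L := fun {x} hx h => ⟨⟨x, hx⟩, h, rfl⟩
    have hLH : L ≤ H := map_subtype_le _
    have hSL : F.S ≤ L := fun s hs => hmemL (hSH hs) (hlS s hs)
    rcases F.split hSL with ⟨N, hNL, hodd, hn, hall⟩ | honeL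
    · exact F.pow_four_dvd_of_complement (F.card_complement hz hzc hz1 hn hodd
        (fun x hx => hmemH.1 (hLH (hNL hx)))
        fun s hs hs1 x hxz hxs ho => hall x (hmemL (hmemH.2 hxz) (hlodd s hs hs1 x _ hxs ho)) ho)
    -- one class in the kernel forces the kernel to be everything
    exfalso
    apply hcne
    funext h
    rw [hl]
    suffices l h = 1 by simp [this]
    set PL : Sylow 2 L := F.sylow.subtype hSL
    have hSR : ∀ s ∈ F.S, (h : G) * s * (h : G)⁻¹ ∈ L := fun s hs => by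
      refine hmemL (mul_mem (mul_mem h.2 (hSH hs)) (inv_mem h.2)) ?_
      rw [show (⟨(h : G) * s * (h : G)⁻¹, _⟩ : H) = h * ⟨s, hSH hs⟩ * h⁻¹ from rfl, hconjl, hlS s hs]
    set R : Subgroup L := (F.S.map (MulAut.conj (h : G)).toMonoidHom).subgroupOf L
    have hRle : F.S.map (MulAut.conj (h : G)).toMonoidHom ≤ L := by
      rintro _ ⟨s, hs, rfl⟩
      exact hSR s hs
    have hR : Nat.card R = 2 ^ (Nat.card L).factorization 2 := by
      rw [← PL.card_eq_multiplicity, Nat.card_congr (subgroupOfEquivOfLe hRle).toEquiv,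
        show (PL : Subgroup L) = F.S.subgroupOf L from rfl, Nat.card_congr (subgroupOfEquivOfLe hSL).toEquiv]
      exact (Nat.card_congr (F.S.equivMapOfInjective _ (MulAut.conj (h : G)).injective).toEquiv).symm
    obtain ⟨k, hk⟩ := MulAction.exists_smul_eq L PL (Sylow.ofCard R hR)
    have hkh : ∀ s ∈ F.S, ((k : G)⁻¹ * h) * s * ((k : G)⁻¹ * h)⁻¹ ∈ F.S := by
      intro s hs
      have hm : (⟨(h : G) * s * (h : G)⁻¹, hSR s hs⟩ : L) ∈ ((k • PL : Sylow 2 L) : Subgroup L) := by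
        rw [hk]; exact ⟨s, hs, rfl⟩
      obtain ⟨t, ht, htk⟩ := hm
      have e : (k : G) * (t : G) * (k : G)⁻¹ = (h : G) * s * (h : G)⁻¹ := congrArg Subtype.val htk
      rw [mul_inv_rev, inv_inv, show (k : G)⁻¹ * h * s * ((h : G)⁻¹ * k) =
        (k : G)⁻¹ * ((h : G) * s * (h : G)⁻¹) * k by group, ← e,
        show (k : G)⁻¹ * ((k : G) * t * (k : G)⁻¹) * k = (t : G) by group]
      exact ht
    set n := (k : G)⁻¹ * h with hn
    obtain ⟨k1, hk1⟩ := isConj_iff.1 (honeL ⟨D.inv2, hSL hu⟩ ⟨n * D.inv2 * n⁻¹, hSL (hkh _ hu)⟩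
      (by rw [Subgroup.orderOf_mk, D.u_ord])
      (by
        rw [Subgroup.orderOf_mk, show n * D.inv2 * n⁻¹ = (MulAut.conj n).toMonoidHom D.inv2 from rfl,
          orderOf_injective _ (MulAut.conj n).injective, D.u_ord]))
    have hk1' : (k1 : G) * D.inv2 * (k1 : G)⁻¹ = n * D.inv2 * n⁻¹ := congrArg Subtype.val hk1
    set m := (k1 : G)⁻¹ * n with hm
    have hmC : m ∈ D.C := D.mem_C.2 (by
      have := congrArg (fun t => (k1 : G)⁻¹ * t * n) hk1'
      simp only [hm]
      simpa [mul_assoc] using this.symm)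
    have hmH : m ∈ H :=
      mul_mem (inv_mem (hLH k1.2)) (mul_mem (inv_mem (hLH k.2)) h.2)
    obtain ⟨q, hq, s, hs, hqs⟩ := F.cent_z_parts hz hzc hz1 hmC (hmemH.1 hmH)
    have hmL : m ∈ L := hqs ▸ mul_mem (hmemL _ (hlW q hq)) (hSL hs)
    have hhL : (h : G) ∈ L := by
      rw [show (h : G) = (k : G) * ((k1 : G) * m) by rw [hm, hn]; group]
      exact mul_mem k.2 (mul_mem k1.2 hmL)
    obtain ⟨h', hh', he'⟩ := hhL
    rwa [show h' = h from Subtype.ext he'] at hh'
  · right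
    push Not at hlin
    obtain ⟨hA, hB, hC⟩ := hlin
    obtain ⟨m1, m2, m3⟩ := hmod
    have hr := ratio_lower m1 m2 m3 hA hB hC hsum
    set A := e1 * (charDegree (c1 : H → ℂ) : ℤ)
    set B := e2 * (charDegree (c2 : H → ℂ) : ℤ)
    set C := e3 * (charDegree (c3 : H → ℂ) : ℤ)
    have habs : ∀ (X Y P Q : ℤ), 0 ≤ X → 0 ≤ Y → X * P = Y * Q → X * |P| = Y * |Q| := fun X Y P Q hX hY h => by
      conv_lhs => rw [← abs_of_nonneg hX]
      conv_rhs => rw [← abs_of_nonneg hY]
      rw [← abs_mul, ← abs_mul, h]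
    have heq := habs _ _ _ _ (by positivity) (by positivity) hcount
    push_cast at heq
    have hpos : 0 < |A * B * C| := abs_pos.2 (by
      have := (ne_zero_of_mod m1).1; have := (ne_zero_of_mod m2).1; have := (ne_zero_of_mod m3).1
      simp [*])
    have hv : (0 : ℤ) < (Nat.card F.W0 : ℤ) := by exact_mod_cast Nat.card_pos
    set v := (Nat.card F.W0 : ℤ)
    set h := (Nat.card H : ℤ)
    have e : h * |(1 + A) * (1 + B) * (1 + C)| = 32 * v ^ 4 * |A * B * C| := by
      refine mul_left_cancel₀ (show (16 : ℤ) * v ^ 2 ≠ 0 by positivity) ?_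
      linear_combination heq
    have hle : 800 * v ^ 4 * |A * B * C| ≤ 36 * h * |A * B * C| := by
      calc 800 * v ^ 4 * |A * B * C| = 25 * (32 * v ^ 4 * |A * B * C|) := by ring
        _ = h * (25 * |(1 + A) * (1 + B) * (1 + C)|) := by rw [← e]; ring
        _ ≤ h * (36 * |A * B * C|) := mul_le_mul_of_nonneg_left hr (Nat.cast_nonneg _)
        _ = _ := by ring
    have hfin := le_of_mul_le_mul_right hle hpos
    simp only [v, h] at hfin
    exact_mod_cast hfin

/-- the fourth power divides the order -/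
theorem pow_four_dvd (hM : IsPModular 2 M) {z : G} (hz : z ∈ F.W0) (hzc : ∀ x ∈ F.W0, Commute x z) (hz1 : z ≠ 1)
    (hbound : Nat.card G ≤ 1094 * Nat.card F.W0 ^ 4) : 4 * Nat.card F.W0 ^ 4 ∣ Nat.card G := by
  rcases F.cent_bound hz hzc hz1 with h | hB
  · exact h
  rcases F.cent_large hM hz hzc hz1 with h | hA
  · exact h
  exfalso
  set v := Nat.card F.W0 ^ 4
  set h := Nat.card (centralizer ({z} : Set G))
  have hv : 0 < v := pow_pos Nat.card_pos 4
  have h1 : (800 * v) ^ 2 ≤ (36 * h) ^ 2 := Nat.pow_le_pow_left hA 2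
  have h2 : 5 * h ^ 2 ≤ 2 * v * (1094 * v) := hB.trans (Nat.mul_le_mul_left _ hbound)
  nlinarith

end KleinCtx

end Cfsg.Agent.Char.OrderSix
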