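import Cfsg.Agent.Lib.Char.OrderSix.KleinDiv
import Cfsg.Agent.Lib.Char.SmallOrderGraph.List
import Cfsg.Agent.S0498

/-!
# Index six with the two-part of order two: the two linear groups
-/

set_option autoImplicit false
set_option linter.unusedSectionVars false
set_option linter.style.haveILetI false

open Cfsg Cfsg.Agent.Char Subgroup

namespace Cfsg.Agent.Char.OrderSix

/-- With absolute values at least three the three factors multiply to at most `9/4`. -/
theorem ratio_small {a b c : ℤ} (ha : 3 ≤ |a|) (hb : 3 ≤ |b|) (hc : 3 ≤ |c|) (hsum : 1 + a + b + c = 0) :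
    4 * |a * b * c| ≤ 9 * |(1 + a) * (1 + b) * (1 + c)| := by
  have any : ∀ t : ℤ, 3 ≤ |t| → 2 * |t| ≤ 3 * |1 + t| := fun t h => by
    rcases abs_cases t with ⟨e, he⟩ | ⟨e, he⟩ <;> rcases abs_cases (1 + t) with ⟨e', he'⟩ | ⟨e', he'⟩ <;> omega
  have pos : ∀ t : ℤ, 0 ≤ t → |t| ≤ |1 + t| := fun t h => by
    rcases abs_cases t with ⟨e, he⟩ | ⟨e, he⟩ <;> rcases abs_cases (1 + t) with ⟨e', he'⟩ | ⟨e', he'⟩ <;> omega
  have key : ∀ a b c : ℤ, 3 ≤ |a| → 3 ≤ |b| → 0 ≤ c → 4 * |a * b * c| ≤ 9 * |(1 + a) * (1 + b) * (1 + c)| := by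
    intro a b c ha hb hc
    have := mul_le_mul (mul_le_mul (any a ha) (any b hb) (by positivity) (by positivity))
      (pos c hc) (by positivity) (by positivity)
    simp only [abs_mul] at this ⊢
    linarith
  rcases le_or_gt 0 c with h | h
  · exact key a b c ha hb h
  rcases le_or_gt 0 b with h' | h'
  · have := key a c b ha hc h'
    rwa [show (1 + a) * (1 + c) * (1 + b) = (1 + a) * (1 + b) * (1 + c) by ring,
      show a * c * b = a * b * c by ring] at this
  · have := key b c a hb hc (by omega)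
    rwa [show (1 + b) * (1 + c) * (1 + a) = (1 + a) * (1 + b) * (1 + c) by ring,
      show b * c * a = a * b * c by ring] at this

universe u
variable {G : Type u} [Group G] [Fintype G] [IsSimpleGroup G]

namespace KleinCtx

variable {D : Ctx G} (F : KleinCtx D)

theorem exists_central (h : F.W0 ≠ ⊥) : ∃ z ∈ F.W0, (∀ x ∈ F.W0, Commute x z) ∧ z ≠ 1 := by
  haveI := F.hnil
  haveI hnil : Group.IsNilpotent F.W0 :=
    Group.nilpotent_of_surjective
      (subgroupOfEquivOfLe ((inf_le_left : F.W0 ≤ F.W).trans F.W_le)).toMonoidHom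
      (subgroupOfEquivOfLe ((inf_le_left : F.W0 ≤ F.W).trans F.W_le)).surjective
  by_contra! hno
  obtain ⟨n, hn⟩ := Group.IsNilpotent.nilpotent F.W0
  have hb : ∀ m, Subgroup.upperCentralSeries F.W0 m = ⊥ := by
    intro m
    induction m with
    | zero => exact Subgroup.upperCentralSeries_zero F.W0
    | succ m ih =>
      refine (eq_bot_iff_forall _).2 fun x hx => ?_
      rw [Subgroup.mem_upperCentralSeries_succ_iff] at hx
      refine Subtype.ext (hno (x : G) x.2 fun y hy => ?_)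
      have := hx ⟨y, hy⟩
      rw [ih, mem_bot] at this
      have e := congrArg Subtype.val this
      simp only [commutatorElement_def, Subgroup.coe_mul, InvMemClass.coe_inv, OneMemClass.coe_one] at e
      show y * (x : G) = (x : G) * y
      rw [mul_inv_eq_one, mul_inv_eq_iff_eq_mul] at e
      exact e.symm
  rw [hb n] at hn
  refine h ((eq_bot_iff_forall _).2 fun x hx => ?_)
  have : (⟨x, hx⟩ : F.W0) ∈ (⊥ : Subgroup F.W0) := hn.symm ▸ mem_top _
  exact congrArg Subtype.val (mem_bot.1 this)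

include F in
/-- The two-part of order two leads to the linear groups. -/
theorem klein_case (hna : ¬ IsMulCommutative G) :
    ∃ (K : Type) (_ : Field K) (_ : Fintype K), (Fintype.card K = 11 ∨ Fintype.card K = 13) ∧
      Nonempty (G ≃* Matrix.ProjectiveSpecialLinearGroup (Fin 2) K) := by
  classical
  haveI : Fact (Nat.Prime 2) := ⟨Nat.prime_two⟩
  obtain ⟨M, hM⟩ := exists_pModular (p := 2) Nat.prime_two
  obtain ⟨c1, c2, c3, e1, e2, e3, hmem, hne, he, -, hmod, hsum, hcount⟩ :=
    four_data hM F.sylow F.card_S4 (x := D.inv2) (F.P_le_S F.u_P) D.u_ord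
      (fun y => Subtype.ext (F.S_sq y.2)) D.hone
  rw [show Nat.card (centralizer ((F.sylow : Subgroup G) : Set G)) = 4 * Nat.card F.W0 from F.card_cent_S,
    show Nat.card ↥(centralizer ({D.inv2} : Set G)) = 12 * (Nat.card F.W0 * Nat.card F.W0) from F.card_C12] at hcount
  obtain ⟨m1, m2, m3⟩ := hmod
  have hd : ∀ c : IrrCharacter G, (c : G → ℂ) ≠ (fun _ => 1) → 1 < charDegree (c : G → ℂ) := fun c hc =>
    Small.Order459648.one_lt_degree hna fun e => hc (congrArg Subtype.val e)
  have habsd : ∀ {e : ℤ} (c : IrrCharacter G), (e = 1 ∨ e = -1) →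
      |e * (charDegree (c : G → ℂ) : ℤ)| = charDegree (c : G → ℂ) := fun {e} c he => by
    rcases he with rfl | rfl <;> simp
  have a1 := habsd c1 he.1
  have a2 := habsd c2 he.2.1
  have a3 := habsd c3 he.2.2
  have d1 := hd c1 hne.1
  have d2 := hd c2 hne.2.1
  have d3 := hd c3 hne.2.2
  set A := e1 * (charDegree (c1 : G → ℂ) : ℤ)
  set B := e2 * (charDegree (c2 : G → ℂ) : ℤ)
  set C := e3 * (charDegree (c3 : G → ℂ) : ℤ)
  have heq : (Nat.card G : ℤ) * ((1 + A) * (1 + B) * (1 + C)) =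
      864 * (Nat.card F.W0 : ℤ) ^ 4 * (A * B * C) := by
    refine mul_left_cancel₀ (show (16 : ℤ) * (Nat.card F.W0 : ℤ) ^ 2 ≠ 0 by
      have : (0 : ℤ) < (Nat.card F.W0 : ℤ) := by exact_mod_cast Nat.card_pos
      positivity) ?_
    push_cast at hcount
    linear_combination hcount
  have hP0 : (1 + A) * (1 + B) * (1 + C) ≠ 0 := by
    have := (ne_zero_of_mod m1).2; have := (ne_zero_of_mod m2).2; have := (ne_zero_of_mod m3).2
    simp [*]
  have habs : (Nat.card G : ℤ) * |(1 + A) * (1 + B) * (1 + C)| =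
      864 * (Nat.card F.W0 : ℤ) ^ 4 * |A * B * C| := by
    have := congrArg abs heq
    rwa [abs_mul, abs_mul (864 * (Nat.card F.W0 : ℤ) ^ 4),
      abs_of_nonneg (show (0 : ℤ) ≤ (Nat.card G : ℤ) by positivity),
      abs_of_nonneg (show (0 : ℤ) ≤ 864 * (Nat.card F.W0 : ℤ) ^ 4 by positivity)] at this
  have upper : ∀ p q : ℤ, 0 ≤ p → q * |A * B * C| ≤ p * |(1 + A) * (1 + B) * (1 + C)| →
      q * (Nat.card G : ℤ) ≤ 864 * (Nat.card F.W0 : ℤ) ^ 4 * p := by
    intro p q _ h
    refine le_of_mul_le_mul_right ?_ (abs_pos.2 hP0)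
    calc q * (Nat.card G : ℤ) * |(1 + A) * (1 + B) * (1 + C)|
        = 864 * (Nat.card F.W0 : ℤ) ^ 4 * (q * |A * B * C|) := by rw [mul_assoc, habs]; ring
      _ ≤ 864 * (Nat.card F.W0 : ℤ) ^ 4 * (p * |(1 + A) * (1 + B) * (1 + C)|) :=
        mul_le_mul_of_nonneg_left h (by positivity)
      _ = _ := by ring
  have three : ∀ t : ℤ, t % 4 = 1 → 1 < |t| → 3 ≤ |t| := fun t h h1 => by
    rcases abs_cases t with ⟨e, -⟩ | ⟨e, -⟩ <;> omega
  by_cases hW : F.W0 = ⊥
  · have hv : Nat.card F.W0 = 1 := card_eq_one.2 hW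
    have hu := upper 9 4 (by norm_num) (ratio_small (three A m1 (by omega)) (three B m2 (by omega)) (three C m3 (by omega)) hsum)
    have hl : (600 : ℤ) ≤ Nat.card G := by
      have hr := ratio_lower m1 m2 m3 (fun e => by rw [e] at a1; norm_num at a1; omega)
        (fun e => by rw [e] at a2; norm_num at a2; omega) (fun e => by rw [e] at a3; norm_num at a3; omega) hsum
      have h1 : 25 * 864 * |A * B * C| ≤ 36 * (Nat.card G : ℤ) * |A * B * C| := by
        have := mul_le_mul_of_nonneg_left hr (Int.natCast_nonneg (Nat.card G))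
        rw [hv] at habs
        push_cast at habs
        linarith
      have := le_of_mul_le_mul_right h1 (abs_pos.2 (by
        have := (ne_zero_of_mod m1).1; have := (ne_zero_of_mod m2).1; have := (ne_zero_of_mod m3).1
        simp [*]))
      omega
    rw [hv] at hu
    push_cast at hu
    have hG := Char.SmallOrderGraph.card_mem_orders (G := G) hna (by omega)
    simp only [Char.SmallOrderGraph.orders, List.mem_cons, List.not_mem_nil, or_false] at hG
    rcases (show Nat.card G = 660 ∨ Nat.card G = 1092 by omega) with h | h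
    · haveI : Fact (Nat.Prime 11) := ⟨by norm_num⟩
      exact ⟨ZMod 11, inferInstance, inferInstance, Or.inl (ZMod.card 11),
        S0498.result 11 (Or.inl rfl) (by rw [h]; norm_num) (ZMod.card 11)⟩
    · haveI : Fact (Nat.Prime 13) := ⟨by norm_num⟩
      exact ⟨ZMod 13, inferInstance, inferInstance, Or.inr (ZMod.card 13),
        S0498.result 13 (Or.inr rfl) (by rw [h]; norm_num) (ZMod.card 13)⟩
  exfalso
  obtain ⟨z, hz, hzc, hz1⟩ := F.exists_central hW
  have g1 := F.degree_ge hna hM ((hmem c1).2 (Or.inr (Or.inl rfl))) hne.1 hz hz1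
  have g2 := F.degree_ge hna hM ((hmem c2).2 (Or.inr (Or.inr (Or.inl rfl)))) hne.2.1 hz hz1
  have g3 := F.degree_ge hna hM ((hmem c3).2 (Or.inr (Or.inr (Or.inr rfl)))) hne.2.2 hz hz1
  have n1 : 9 ≤ |A| := by rcases abs_cases A with ⟨e, -⟩ | ⟨e, -⟩ <;> omega
  have n2 : 9 ≤ |B| := by rcases abs_cases B with ⟨e, -⟩ | ⟨e, -⟩ <;> omega
  have n3 : 9 ≤ |C| := by rcases abs_cases C with ⟨e, -⟩ | ⟨e, -⟩ <;> omega
  have hu := upper 81 64 (by norm_num) (ratio_upper n1 n2 n3 hsum)
  have hb : Nat.card G ≤ 1094 * Nat.card F.W0 ^ 4 := by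
    have : (Nat.card G : ℤ) ≤ 1094 * (Nat.card F.W0 : ℤ) ^ 4 := by
      have : (0 : ℤ) ≤ (Nat.card F.W0 : ℤ) ^ 4 := by positivity
      linarith
    exact_mod_cast this
  obtain ⟨k, hk⟩ := F.pow_four_dvd hM hz hzc hz1 hb
  refine no_signed (D := k) m1 m2 m3 n1 n2 n3 hsum ?_
  refine mul_left_cancel₀ (show (4 : ℤ) * (Nat.card F.W0 : ℤ) ^ 4 ≠ 0 by
    have : (0 : ℤ) < (Nat.card F.W0 : ℤ) := by exact_mod_cast Nat.card_pos
    positivity) ?_
  rw [hk] at heq
  push_cast at heq
  linear_combination heq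

end KleinCtx

end Cfsg.Agent.Char.OrderSix
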