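import Cfsg.Agent.Lib.Char.OrderSix.KleinChar
import Cfsg.Agent.Lib.Char.OrderSix.Four
import Cfsg.Agent.Lib.Fusion.FixedPointFormula
import Cfsg.Agent.Lib.Fusion.KleinSylowClasses
import Cfsg.Agent.Lib.Fusion.NPC

/-!
# Index six with the two-part of order two: the centraliser of a central element of the fixed points
-/

set_option autoImplicit false
set_option linter.unusedSectionVars false
set_option linter.style.haveILetI false
set_option maxHeartbeats 1000000

open Cfsg Cfsg.Agent.Char Subgroup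

namespace Cfsg.Agent.Char.OrderSix

universe u
variable {G : Type u} [Group G] [Fintype G]

/-- elements of odd order lie in a normal complement of a group of two-power order -/
theorem odd_mem_complement {H : Type*} [Group H] [Finite H] {N P : Subgroup H} [N.Normal]
    (hc : N.IsComplement' P) {k : ℕ} (hP : Nat.card P = 2 ^ k) {x : H} (ho : Odd (orderOf x)) : x ∈ N := by
  have h : x ^ (2 ^ k) ∈ N := by
    rw [← hP, ← hc.symm.index_eq_card]
    exact pow_index_mem N x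
  obtain ⟨m, hm⟩ := exists_pow_eq_self_of_coprime (Nat.Coprime.pow_left k (Nat.coprime_two_left.2 ho))
  rw [← hm]
  exact pow_mem h m

/-- a subgroup with an intersection of given order bounds the product -/
theorem card_mul_card_le (H H' : Subgroup G) :
    Nat.card H * Nat.card H' ≤ Nat.card G * Nat.card (H ⊓ H' : Subgroup G) := by
  have h1 := (H'.subgroupOf H).card_mul_index
  rw [Nat.card_congr (show (H'.subgroupOf H) ≃ (H ⊓ H' : Subgroup G) from
    ⟨fun x => ⟨x.1.1, mem_inf.2 ⟨x.1.2, x.2⟩⟩, fun x => ⟨⟨x.1, (mem_inf.1 x.2).1⟩, (mem_inf.1 x.2).2⟩,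
      fun _ => rfl, fun _ => rfl⟩)] at h1
  have h2 := H'.card_mul_index
  have h3 : (H'.subgroupOf H).index ≤ H'.index := by
    rw [← relIndex, ← relIndex_top_right]
    exact relIndex_le_of_le_right le_top (by rw [relIndex_top_right]; exact H'.index_ne_zero_of_finite)
  rw [← h1, ← h2]
  calc Nat.card (H ⊓ H' : Subgroup G) * (H'.subgroupOf H).index * Nat.card H'
      ≤ Nat.card (H ⊓ H' : Subgroup G) * H'.index * Nat.card H' := by gcongr
    _ = _ := by ring

namespace KleinCtx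

variable {D : Ctx G} (F : KleinCtx D) [IsSimpleGroup G]

/-- the odd elements over one involution in the centraliser of `z` -/
theorem side {z : G} (hz : z ∈ F.W0) (hzc : ∀ x ∈ F.W0, Commute x z) (hz1 : z ≠ 1) {s : G} (hs : s ∈ F.S)
    (hs1 : s ≠ 1) : ∃ g : G, (∀ x : G, Commute x z → Commute x s → Odd (orderOf x) → g⁻¹ * x * g ∈ F.W) ∧
      ∀ y ∈ F.W, Commute (g * y * g⁻¹) z ∧ Commute (g * y * g⁻¹) s ∧ Odd (orderOf (g * y * g⁻¹)) := by
  obtain ⟨g, hgu, -, hg0⟩ := F.exists_move hs hs1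
  obtain ⟨hz', hzc'⟩ := F.move_centre hg0 hz hzc
  refine ⟨g, fun x hxz hxs ho => ?_, fun y hy => ⟨?_, ?_, ?_⟩⟩
  · have e : ∀ {v : G}, Commute x v → Commute (g⁻¹ * x * g) (g⁻¹ * v * g) := fun {v} h => by
      have := congrArg (fun t => g⁻¹ * t * g) h.eq
      show g⁻¹ * x * g * (g⁻¹ * v * g) = g⁻¹ * v * g * (g⁻¹ * x * g)
      simpa [mul_assoc] using this
    refine F.odd_mem_W hz' hzc' (fun h => hz1 ?_) (D.mem_C.2 ?_) (e hxz) ?_
    · calc z = g * (g⁻¹ * z * g) * g⁻¹ := by group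
        _ = 1 := by rw [h]; group
    · have := e hxs
      rwa [show g⁻¹ * s * g = D.inv2 by rw [← hgu]; group] at this
    · rw [show g⁻¹ * x * g = (MulAut.conj g⁻¹).toMonoidHom x by simp,
        orderOf_injective _ (MulAut.conj g⁻¹).injective]
      exact ho
  · have := congrArg (fun t => g * t * g⁻¹) (F.centre_W hz' hzc' hy).symm.eq
    show g * y * g⁻¹ * z = z * (g * y * g⁻¹)
    simpa [mul_assoc] using this
  · rw [← hgu]
    have := congrArg (fun t => g * t * g⁻¹) (F.W_u hy).eq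
    show g * y * g⁻¹ * (g * D.inv2 * g⁻¹) = g * D.inv2 * g⁻¹ * (g * y * g⁻¹)
    simpa [mul_assoc] using this
  · rw [show g * y * g⁻¹ = (MulAut.conj g).toMonoidHom y from rfl, orderOf_injective _ (MulAut.conj g).injective]
    exact ((F.hW y).1 hy).2

/-- fixed points of one involution in an odd subgroup of the centraliser of `z` -/
theorem card_fix {z : G} (hz : z ∈ F.W0) (hzc : ∀ x ∈ F.W0, Commute x z) (hz1 : z ≠ 1) {s : G} (hs : s ∈ F.S)
    (hs1 : s ≠ 1) {K : Subgroup G} (hKz : ∀ x ∈ K, Commute x z) (hodd : Odd (Nat.card K)) :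
    Nat.card ↥(K ⊓ centralizer ({s} : Set G)) ∣ Nat.card F.W ∧
      ((∀ x : G, Commute x z → Commute x s → Odd (orderOf x) → x ∈ K) →
        Nat.card ↥(K ⊓ centralizer ({s} : Set G)) = Nat.card F.W) := by
  obtain ⟨g, h1, h2⟩ := F.side hz hzc hz1 hs hs1
  set W' := F.W.map (MulAut.conj g).toMonoidHom
  have hc : Nat.card W' = Nat.card F.W :=
    Nat.card_congr (F.W.equivMapOfInjective _ (MulAut.conj g).injective).toEquiv.symm
  have hle : K ⊓ centralizer ({s} : Set G) ≤ W' := fun x hx => by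
    refine ⟨g⁻¹ * x * g, h1 x (hKz x (mem_inf.1 hx).1) (mem_centralizer_singleton_iff.1 (mem_inf.1 hx).2) ?_,
      show g * (g⁻¹ * x * g) * g⁻¹ = x by group⟩
    refine Odd.of_dvd_nat hodd ?_
    rw [← Subgroup.orderOf_mk x (mem_inf.1 hx).1]
    exact orderOf_dvd_natCard _
  refine ⟨hc ▸ card_dvd_of_le hle, fun hall => ?_⟩
  rw [← hc, le_antisymm hle]
  rintro x ⟨y, hy, rfl⟩
  obtain ⟨e1, e2, e3⟩ := h2 y hy
  exact mem_inf.2 ⟨hall _ e1 e2 e3, mem_centralizer_singleton_iff.2 e2.eq⟩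

/-- the fixed point formula -/
theorem formula {K : Subgroup G} (hn : F.S ≤ normalizer (K : Set G)) (hodd : Odd (Nat.card K)) (hW0 : F.W0 ≤ K) :
    Nat.card K * (Nat.card F.W0 * Nat.card F.W0) =
      Nat.card ↥(K ⊓ centralizer ({D.inv2} : Set G)) * Nat.card ↥(K ⊓ centralizer ({F.a} : Set G)) *
        Nat.card ↥(K ⊓ centralizer ({D.inv2 * F.a} : Set G)) := by
  classical
  haveI : Fact (Nat.Prime 2) := ⟨Nat.prime_two⟩
  have h := Fusion.fixed_formula (p := 2) (A := F.S) (K := K)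
    ⟨⟨fun x y => Subtype.ext (F.S_comm x.2 y.2)⟩⟩ (by rw [F.card_S4]; norm_num)
    (fun x hx => by rw [pow_two]; exact F.S_sq hx) hn
    (by rw [F.card_S4, show (4 : ℕ) = 2 ^ 2 from rfl]; exact Nat.Coprime.pow_left 2 (Nat.coprime_two_left.2 hodd))
  have hset : Fusion.nonId F.S = {D.inv2, F.a, D.inv2 * F.a} := by
    ext x
    rw [Fusion.mem_nonId, Finset.mem_insert, Finset.mem_insert, Finset.mem_singleton]
    constructor
    · rintro ⟨hx, h1⟩
      exact (F.S_iff.1 hx).resolve_left h1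
    · rintro (rfl | rfl | rfl)
      · exact ⟨F.P_le_S F.u_P, D.u_ne⟩
      · exact ⟨F.a_S, fun h => F.a_notP (h ▸ one_mem _)⟩
      · refine ⟨mul_mem (F.P_le_S F.u_P) F.a_S, fun h => F.a_notP ?_⟩
        rw [eq_inv_of_mul_eq_one_right h]
        exact inv_mem F.u_P
  have hua : D.inv2 ≠ F.a := fun h => F.a_notP (h ▸ F.u_P)
  have hu' : D.inv2 ≠ D.inv2 * F.a := fun h => F.a_notP (by
    rw [mul_eq_left.1 h.symm]; exact one_mem _)
  have ha' : F.a ≠ D.inv2 * F.a := fun h => D.u_ne (mul_eq_right.1 h.symm)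
  rw [hset, Finset.prod_insert (by simp [hua, hu']), Finset.prod_insert (by simp [ha']), Finset.prod_singleton] at h
  have hfix : K ⊓ centralizer (F.S : Set G) = F.W0 := by
    refine le_antisymm (fun x hx => F.odd_mem_W0 ?_ fun s hs => ?_) fun x hx => ?_
    · refine Odd.of_dvd_nat hodd ?_
      rw [← Subgroup.orderOf_mk x (mem_inf.1 hx).1]
      exact orderOf_dvd_natCard _
    · exact (mem_centralizer_iff.1 (mem_inf.1 hx).2 s hs).symm
    · exact mem_inf.2 ⟨hW0 hx, mem_centralizer_iff.2 fun s hs => (F.W0_S hx hs).symm.eq⟩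
  rw [hfix] at h
  rw [mul_assoc, h]
  ring

/-- the centraliser of `z` in the involution centraliser -/
theorem card_Cz {z : G} (hz : z ∈ F.W0) (hzc : ∀ x ∈ F.W0, Commute x z) (hz1 : z ≠ 1) :
    Nat.card ↥(centralizer ({z} : Set G) ⊓ D.C) = 4 * (Nat.card F.W0 * Nat.card F.W0) := by
  let f : F.S × F.W → ↥(centralizer ({z} : Set G) ⊓ D.C) := fun p =>
    ⟨(p.2 : G) * p.1, mem_inf.2 ⟨mem_centralizer_singleton_iff.2
      ((F.centre_W hz hzc p.2.2).symm.mul_left (F.W0_S hz p.1.2).symm).eq,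
      mul_mem (F.W_le_C p.2.2) (F.S_le_C p.1.2)⟩⟩
  rw [← F.card_W_sq, ← F.card_S4, ← Nat.card_prod]
  refine (Nat.card_eq_of_bijective f ⟨fun p r h => ?_, fun x => ?_⟩).symm
  · have h' : (p.2 : G) * p.1 = (r.2 : G) * r.1 := congrArg Subtype.val h
    have hv : (r.2 : G)⁻¹ * p.2 = r.1 * (p.1 : G)⁻¹ := by
      rw [eq_mul_inv_iff_mul_eq, mul_assoc, h', inv_mul_cancel_left]
    have h1 : (r.2 : G)⁻¹ * p.2 = 1 :=
      F.W_meet (mul_mem (inv_mem r.2.2) p.2.2) (by rw [hv]; exact F.S_sq (mul_mem r.1.2 (inv_mem p.1.2)))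
    have h2 := (inv_mul_eq_one.1 h1).symm
    rw [h2] at h'
    exact Prod.ext (Subtype.ext (mul_left_cancel h')) (Subtype.ext h2)
  · obtain ⟨hxz, hxC⟩ := mem_inf.1 x.2
    obtain ⟨q, hq, s, hs, hx⟩ := F.cent_z_parts hz hzc hz1 hxC (mem_centralizer_singleton_iff.1 hxz)
    exact ⟨(⟨s, hs⟩, ⟨q, hq⟩), Subtype.ext hx.symm⟩

/-- a subgroup containing the Sylow subgroup: a complement or one class -/
theorem split {L : Subgroup G} (hL : F.S ≤ L) :
    (∃ N : Subgroup G, N ≤ L ∧ Odd (Nat.card N) ∧ F.S ≤ normalizer (N : Set G) ∧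
      ∀ x ∈ L, Odd (orderOf x) → x ∈ N) ∨
    ∀ x y : L, orderOf x = 2 → orderOf y = 2 → IsConj x y := by
  classical
  haveI : Fact (Nat.Prime 2) := ⟨Nat.prime_two⟩
  set P : Sylow 2 L := F.sylow.subtype hL
  have hP : Nat.card (P : Subgroup L) = 4 :=
    (Nat.card_congr (subgroupOfEquivOfLe hL).toEquiv).trans F.card_S4
  haveI hK : IsKleinFour (P : Subgroup L) := by
    refine ⟨hP, ?_⟩
    haveI : Nontrivial (P : Subgroup L) := Finite.one_lt_card_iff_nontrivial.1 (by rw [hP]; norm_num)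
    refine (Monoid.exponent_eq_prime_iff Nat.prime_two).2 fun x hx => ?_
    rw [← orderOf_coe, ← orderOf_coe]
    exact F.S_ord x.2 fun h => hx (Subtype.ext (Subtype.ext h))
  rcases Fusion.klein_sylow_dichotomy P hK with ⟨-, N, hN, hc⟩ | ⟨h1, -⟩
  · left
    haveI := hN
    have hcard : Nat.card (N.map L.subtype) = Nat.card N :=
      Nat.card_congr (N.equivMapOfInjective _ L.subtype_injective).toEquiv.symm
    refine ⟨N.map L.subtype, map_subtype_le _, ?_, fun s hs => ?_, fun x hx ho => ?_⟩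
    · rw [hcard, ← hc.index_eq_card]
      exact Nat.not_even_iff_odd.1 fun h => P.not_dvd_index (even_iff_two_dvd.1 h)
    · have key : ∀ c ∈ L, ∀ v ∈ N.map L.subtype, c * v * c⁻¹ ∈ N.map L.subtype := by
        rintro c hc _ ⟨v, hv, rfl⟩
        exact ⟨_, Normal.conj_mem hN v hv ⟨c, hc⟩, rfl⟩
      exact mem_normalizer_iff.2 fun v => ⟨key s (hL hs) v, fun h => by
        simpa [mul_assoc] using key s⁻¹ (inv_mem (hL hs)) _ h⟩
    · exact ⟨⟨x, hx⟩, odd_mem_complement hc (k := 2) hP (by rw [Subgroup.orderOf_mk]; exact ho), rfl⟩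
  · right
    intro x y hx hy
    obtain ⟨hs, -⟩ := Nat.card_eq_one_iff_unique.1 h1
    have := hs.elim ⟨ConjClasses.mk x, x, hx, rfl⟩ ⟨ConjClasses.mk y, y, hy, rfl⟩
    exact ConjClasses.mk_eq_mk_iff_isConj.1 (congrArg Subtype.val this)

/-- a complement over the whole of the three sections has order the fourth power -/
theorem card_complement {z : G} (hz : z ∈ F.W0) (hzc : ∀ x ∈ F.W0, Commute x z) (hz1 : z ≠ 1) {N : Subgroup G}
    (hn : F.S ≤ normalizer (N : Set G)) (hodd : Odd (Nat.card N)) (hNz : ∀ x ∈ N, Commute x z)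
    (hall : ∀ s ∈ F.S, s ≠ 1 → ∀ x : G, Commute x z → Commute x s → Odd (orderOf x) → x ∈ N) :
    Nat.card N = Nat.card F.W0 ^ 4 := by
  have hu : D.inv2 ∈ F.S := F.P_le_S F.u_P
  have ha : F.a ∈ F.S := F.a_S
  have hua : D.inv2 * F.a ∈ F.S := mul_mem hu ha
  have ha1 : F.a ≠ 1 := fun h => F.a_notP (h ▸ one_mem _)
  have hua1 : D.inv2 * F.a ≠ 1 := fun h => F.a_notP (eq_inv_of_mul_eq_one_right h ▸ inv_mem F.u_P)
  have h := F.formula hn hodd fun x hx => hall _ hu D.u_ne x (hzc x hx) (F.W0_S hx hu) ((F.hW x).1 (F.mem_W0.1 hx).1).2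
  rw [(F.card_fix hz hzc hz1 hu D.u_ne hNz hodd).2 (hall _ hu D.u_ne),
    (F.card_fix hz hzc hz1 ha ha1 hNz hodd).2 (hall _ ha ha1),
    (F.card_fix hz hzc hz1 hua hua1 hNz hodd).2 (hall _ hua hua1), F.card_W_sq] at h
  refine Nat.eq_of_mul_eq_mul_right (Nat.mul_pos Nat.card_pos Nat.card_pos) (h.trans ?_)
  ring

end KleinCtx

end Cfsg.Agent.Char.OrderSix
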