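import Cfsg.Agent.Lib.Char.OrderSix.Cases
import Cfsg.Agent.Lib.Classical.SL2FourSylow
import Cfsg.Agent.S0089
import Cfsg.Agent.S3285

/-!
# Centralisers that are central extensions of a simple group
-/

set_option autoImplicit false
set_option linter.unusedSectionVars false
set_option linter.style.haveILetI false

open Cfsg Subgroup
open scoped commutatorElement

namespace Cfsg.Agent.Char.OrderSix

universe u

abbrev SL7 : Type := Matrix.SpecialLinearGroup (Fin 2) (ZMod 7)

theorem seven_data : (∃ g : SL7, ∃ k : SL7, k * (g * g) ≠ g * g * k ∧ ∀ l : SL7, l * g ^ 4 = g ^ 4 * l) ∧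
    (2 : ZMod 7) ≠ 0 :=
  ⟨⟨⟨!![3, 1; 6, 0], by decide +kernel⟩, ⟨!![1, 1; 0, 1], by decide +kernel⟩, by decide +kernel, by decide +kernel⟩,
    by decide⟩

theorem five_invol_conj : ∀ x y : alternatingGroup (Fin 5), x * x = 1 → x ≠ 1 → y * y = 1 → y ≠ 1 →
    ∃ g, g * x * g⁻¹ = y := by
  decide +kernel

variable {G : Type u} [Group G] [Finite G] [IsSimpleGroup G]

namespace Ctx

variable (D : Ctx G)

/-- if some element has order divisible by four, the involution is a square -/
theorem sq_of_four {c : G} (hc : 4 ∣ orderOf c) : ∃ d : D.C, (d : G) * d = D.inv2 := by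
  set c0 := c ^ (orderOf c / 4) with hc0
  have h4 : orderOf c0 = 4 := by
    rw [hc0, orderOf_pow_orderOf_div (orderOf_pos c).ne' hc]
  have h2 : orderOf (c0 * c0) = 2 := by
    rw [← pow_two, orderOf_pow' _ two_ne_zero, h4]; rfl
  obtain ⟨g, hg⟩ := D.conj_u h2
  have hd : g⁻¹ * c0 * g * (g⁻¹ * c0 * g) = D.inv2 := by
    calc g⁻¹ * c0 * g * (g⁻¹ * c0 * g) = g⁻¹ * (c0 * c0) * g := by group
      _ = g⁻¹ * (g * D.inv2 * g⁻¹) * g := by rw [hg]
      _ = D.inv2 := by group
  exact ⟨⟨g⁻¹ * c0 * g, D.mem_C.2 (by rw [← hd]; exact (mul_assoc _ _ _).symm)⟩, hd⟩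

/-- a central extension in which the involution is a square and the quotient has one class of involutions -/
theorem square_false (hna : ¬ IsMulCommutative G) {Q : Type*} [Group Q] (φ : D.C →* Q)
    (hker : φ.ker = zpowers D.inC)
    (hconj : ∀ x y : Q, x * x = 1 → x ≠ 1 → y * y = 1 → y ≠ 1 → ∃ g, g * x * g⁻¹ = y)
    (hsurj : Function.Surjective φ) {d : D.C} (hd : (d : G) * d = D.inv2) : False := by
  have hdd : d * d = D.inC := Subtype.ext hd
  have hdU : d ∉ zpowers D.inC := fun h => by
    rcases D.mem_zInC.1 h with e | e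
    · rw [e, one_mul] at hd; exact D.u_ne hd.symm
    · rw [e, D.uu] at hd; exact D.u_ne hd.symm
  have hall : ∀ y : D.C, y * y = 1 → y ∈ zpowers D.inC := by
    intro y hy
    by_contra hyU
    obtain ⟨g, hg⟩ := hconj (φ d) (φ y)
      (by rw [← map_mul, hdd, ← MonoidHom.mem_ker, hker]; exact mem_zpowers _)
      (fun h => hdU (hker ▸ MonoidHom.mem_ker.2 h))
      (by rw [← map_mul, hy, map_one]) (fun h => hyU (hker ▸ MonoidHom.mem_ker.2 h))
    obtain ⟨g', rfl⟩ := hsurj g
    have hmem : (g' * d * g'⁻¹)⁻¹ * y ∈ zpowers D.inC := by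
      rw [← hker, MonoidHom.mem_ker, map_mul, map_inv, map_mul, map_mul, map_inv, hg, inv_mul_cancel]
    have hcomm : ∀ z ∈ zpowers D.inC, ∀ v : D.C, Commute z v := fun z hz v =>
      (mem_center_iff.1 (zpowers_le.2 D.inC_center hz) v).symm
    set z := (g' * d * g'⁻¹)⁻¹ * y with hz
    have hy' : y = g' * d * g'⁻¹ * z := by rw [hz, mul_inv_cancel_left]
    have hzz : z * z = 1 := by
      rcases D.mem_zInC.1 hmem with e | e
      · exact Subtype.ext (by rw [coe_mul, e, one_mul, coe_one])
      · exact Subtype.ext (by rw [coe_mul, e, D.uu, coe_one])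
    have hsq : y * y = D.inC := by
      calc y * y = (g' * d * g'⁻¹) * (g' * d * g'⁻¹) * (z * z) := by
            rw [hy']; exact (hcomm z hmem _).mul_mul_mul_comm _ _
        _ = g' * (d * d) * g'⁻¹ := by rw [hzz, mul_one]; group
        _ = D.inC := by rw [hdd, mem_center_iff.1 D.inC_center g', mul_inv_cancel_right]
    rw [hy] at hsq
    exact D.u_ne (congrArg Subtype.val hsq).symm
  obtain ⟨S, -, hSC⟩ := D.exists_sylow
  obtain ⟨e, heS, he2, heu⟩ := exists_other hna S D.inv2
  have h := hall ⟨e, hSC heS⟩ (Subtype.ext (by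
    show e * e = 1
    rw [← pow_two, ← he2, pow_orderOf_eq_one]))
  rcases D.mem_zInC.1 h with h | h
  · rw [show e = 1 from h, orderOf_one] at he2; omega
  · exact heu h

theorem seven_false (hna : ¬ IsMulCommutative G) (h : D.ShapeSeven) : False := by
  obtain ⟨φ, hsurj, hker⟩ := h
  haveI : Fact (Nat.Prime 7) := ⟨by norm_num⟩
  haveI : Fact (Nat.Prime 2) := ⟨Nat.prime_two⟩
  obtain ⟨⟨gS, k2, h2, h4⟩, h20⟩ := seven_data
  set π := QuotientGroup.mk' (center (Matrix.SpecialLinearGroup (Fin 2) (ZMod 7)))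
  have hord : orderOf (π gS) = 4 := by
    refine orderOf_eq_prime_pow (p := 2) (n := 1) (fun e => ?_) ?_
    · refine h2 ?_
      rw [pow_one, pow_two, ← map_mul] at e
      exact mem_center_iff.1 ((QuotientGroup.eq_one_iff _).1 e) k2
    · show π gS ^ 4 = 1
      rw [← map_pow]
      exact (QuotientGroup.eq_one_iff _).2 (mem_center_iff.2 h4)
  obtain ⟨c, hc⟩ := hsurj (π gS)
  have h4c : 4 ∣ orderOf (c : G) := by
    rw [orderOf_coe, ← hord, ← hc]; exact orderOf_map_dvd φ c
  obtain ⟨d, hd⟩ := D.sq_of_four h4c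
  refine D.square_false hna φ hker (fun x y hx hx1 hy hy1 => ?_) hsurj hd
  exact isConj_iff.1 (Classical.SL2Four.involutions_conj (F := ZMod 7) h20
    (orderOf_eq_prime (by rw [pow_two]; exact hx) hx1) (orderOf_eq_prime (by rw [pow_two]; exact hy) hy1))

/-- the quotient `A₅` with kernel of order two -/
theorem five_trivial (hna : ¬ IsMulCommutative G) (φ : D.C →* alternatingGroup (Fin 5))
    (hsurj : Function.Surjective φ) (hker : φ.ker = zpowers D.inC) : Cfsg.Spor.IsoJ1 G := by
  haveI : Fact (Nat.Prime 2) := ⟨Nat.prime_two⟩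
  by_cases h4 : ∃ c : G, 4 ∣ orderOf c
  · obtain ⟨c, hc⟩ := h4
    obtain ⟨d, hd⟩ := D.sq_of_four hc
    exact (D.square_false hna φ hker five_invol_conj hsurj hd).elim
  push Not at h4
  -- all Sylow subgroups of the centraliser are abelian
  have hab : ∀ p : ℕ, p.Prime → ∀ P : Sylow p D.C, IsMulCommutative P := by
    intro p hp P
    haveI : Fact p.Prime := ⟨hp⟩
    rcases eq_or_ne p 2 with rfl | hp2
    · have hsq : ∀ x : (P : Subgroup D.C), x * x = 1 := by
        intro x
        obtain ⟨k, hk⟩ := IsPGroup.iff_orderOf.1 P.2 x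
        by_contra hx
        refine h4 ((x : D.C) : G) ?_
        rw [orderOf_coe, orderOf_coe, hk]
        rcases Nat.lt_or_ge k 2 with hk2 | hk2
        · exfalso; apply hx
          rw [← pow_two]
          refine orderOf_dvd_iff_pow_eq_one.1 ?_
          rw [hk]
          interval_cases k <;> norm_num
        · exact pow_dvd_pow 2 hk2
      exact ⟨⟨fun a b => by
        have h1 := hsq a; have h2 := hsq b; have h3 := hsq (a * b)
        calc a * b = (a * b)⁻¹ := eq_inv_of_mul_eq_one_left h3
          _ = b⁻¹ * a⁻¹ := mul_inv_rev a b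
          _ = b * a := by rw [← eq_inv_of_mul_eq_one_left h1, ← eq_inv_of_mul_eq_one_left h2]⟩⟩
    · have hinj : Function.Injective (φ.comp (P : Subgroup D.C).subtype) := by
        rw [injective_iff_map_eq_one]
        intro x hx
        have hxU : (x : D.C) ∈ zpowers D.inC := hker ▸ MonoidHom.mem_ker.2 hx
        obtain ⟨k, hk⟩ := IsPGroup.iff_orderOf.1 P.2 x
        have h1 : orderOf (x : D.C) ∣ 2 := D.inC_ord ▸ orderOf_dvd_of_mem_zpowers hxU
        rw [orderOf_coe, hk, Nat.dvd_prime Nat.prime_two] at h1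
        refine orderOf_eq_one_iff.1 ?_
        rcases h1 with h | h
        · rw [hk, h]
        · exfalso
          cases k with
          | zero => norm_num at h
          | succ k => exact hp2 ((Nat.prime_dvd_prime_iff_eq hp Nat.prime_two).1 (h ▸ dvd_pow_self p k.succ_ne_zero))
      set R := (φ.comp (P : Subgroup D.C).subtype).range
      have hcard : Nat.card R ∣ 60 := by
        have h := card_subgroup_dvd_card R
        rwa [Nat.card_eq_fintype_card (α := alternatingGroup (Fin 5)),
          show Fintype.card (alternatingGroup (Fin 5)) = 60 from rfl] at h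
      obtain ⟨k, hk⟩ := IsPGroup.iff_card.1
        (P.2.of_surjective (φ.comp (P : Subgroup D.C).subtype).rangeRestrict (MonoidHom.rangeRestrict_surjective _))
      rw [show Nat.card R = p ^ k from hk] at hcard
      have hk1 : k ≤ 1 := by
        by_contra hk1
        have h2 : p ^ 2 ∣ 60 := (pow_dvd_pow p (by omega : 2 ≤ k)).trans hcard
        have hle : p ≤ 7 := by
          by_contra hgt
          have := Nat.le_of_dvd (by norm_num) h2
          nlinarith
        interval_cases p <;> first | exact absurd hp (by decide) | exact hp2 rfl | exact absurd h2 (by decide)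
      haveI : IsCyclic R := by
        interval_cases k
        · haveI : Subsingleton R := (Nat.card_eq_one_iff_unique.1 (by rw [hk, pow_zero])).1
          exact isCyclic_of_subsingleton
        · exact isCyclic_of_prime_card (p := p) (by rw [hk, pow_one])
      exact ⟨⟨fun a b => hinj (by
        rw [map_mul, map_mul]
        exact congrArg Subtype.val ((IsCyclic.commGroup (α := R)).mul_comm ⟨_, a, rfl⟩ ⟨_, b, rfl⟩))⟩⟩
  have hbot := S0089.result hab
  set T := commutator D.C with hT
  have hTop : T.map φ = ⊤ := by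
    rw [hT, commutator_def, map_commutator, map_top_of_surjective φ hsurj, ← commutator_def]
    have hA5 : IsSimpleGroup (alternatingGroup (Fin 5)) := inferInstance
    refine (Normal.eq_bot_or_eq_top (H := commutator (alternatingGroup (Fin 5))) inferInstance).resolve_left fun h => ?_
    have hc : ∀ x y : alternatingGroup (Fin 5), x * y = y * x := fun x y => by
      rw [← commutatorElement_eq_one_iff_mul_comm, ← Subgroup.mem_bot, ← h, commutator_def]
      exact commutator_mem_commutator (mem_top x) (mem_top y)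
    revert hc
    decide +kernel
  have hUT : D.inC ∉ T := fun h => by
    have hm : D.inC ∈ T ⊓ center D.C := ⟨h, D.inC_center⟩
    rw [hbot, mem_bot] at hm
    exact D.u_ne (congrArg Subtype.val hm)
  have hTinj : Function.Injective (φ.comp T.subtype) := by
    rw [injective_iff_map_eq_one]
    intro x hx
    have hxU : (x : D.C) ∈ zpowers D.inC := hker ▸ MonoidHom.mem_ker.2 hx
    rcases D.mem_zInC.1 hxU with h | h
    · exact Subtype.ext (Subtype.ext h)
    · exact absurd ((show (x : D.C) = D.inC from Subtype.ext h) ▸ x.2) hUT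
  have hTsurj : Function.Surjective (φ.comp T.subtype) := fun q => by
    obtain ⟨x, hx, rfl⟩ := (hTop ▸ mem_top q : q ∈ T.map φ)
    exact ⟨⟨x, hx⟩, rfl⟩
  obtain ⟨S, huS, hSC⟩ := D.exists_sylow
  have hns : ¬ Group.IsSolvable G := fun hs => by
    exact hna ⟨⟨IsSimpleGroup.comm_iff_isSolvable.2 hs⟩⟩
  have hd : IsInternalDirectProduct (zpowers D.inv2) (T.map D.C.subtype) (centralizer ({D.inv2} : Set G)) := by
    refine ⟨zpowers_le.2 D.u_C, map_subtype_le _, fun a ha b hb => ?_, ?_, ?_⟩
    · obtain ⟨i, rfl⟩ := mem_zpowers_iff.1 ha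
      exact (((show Commute b D.inv2 from D.mem_C.1 (map_subtype_le _ hb)).zpow_right i).eq).symm
    · rw [eq_bot_iff]
      rintro x ⟨hxU, ⟨y, hy, hyx⟩⟩
      rcases D.mem_zu.1 hxU with rfl | rfl
      · exact one_mem _
      · exact absurd ((show y = D.inC from Subtype.ext hyx) ▸ hy) hUT
    · refine le_antisymm (sup_le (zpowers_le.2 D.u_C) (map_subtype_le _)) fun c hc => ?_
      obtain ⟨⟨x, hxT⟩, hx⟩ := hTsurj (φ ⟨c, hc⟩)
      have hxU : x⁻¹ * ⟨c, hc⟩ ∈ zpowers D.inC := by
        rw [← hker, MonoidHom.mem_ker, map_mul, map_inv, show φ x = φ ⟨c, hc⟩ from hx, inv_mul_cancel]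
      rw [show c = (x : G) * ((x⁻¹ * ⟨c, hc⟩ : D.C) : G) by simp]
      exact mul_mem (mem_sup_right ⟨x, hxT, rfl⟩) (mem_sup_left (D.mem_zu.2 (D.mem_zInC.1 hxU)))
  have h2 : ∀ N : Subgroup G, N.Normal → N.index ≠ 2 := fun N hN h => by
      rcases hN.eq_bot_or_eq_top with e | e
      · rw [e, index_bot] at h
        haveI : Fact (Nat.card G).Prime := ⟨h ▸ Nat.prime_two⟩
        haveI : IsCyclic G := isCyclic_of_prime_card rfl
        exact hna ⟨⟨fun a b => (IsCyclic.commGroup (α := G)).mul_comm a b⟩⟩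
      · rw [e, index_top] at h; omega
  rcases S3285.result hns h2 D.inv2 ⟨D.u_ord, S, huS, fun x hx => D.mem_C.1 (hSC hx)⟩ 5 (T.map D.C.subtype)
    ⟨((T.equivMapOfInjective _ D.C.subtype_injective).symm.trans
      (MulEquiv.ofBijective (φ.comp T.subtype) ⟨hTinj, hTsurj⟩))⟩ hd with ⟨h, -⟩ | ⟨-, h⟩
  · omega
  · exact h

end Ctx

end Cfsg.Agent.Char.OrderSix
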