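import Cfsg.Agent.Lib.Char.OrderSix.QuatBase
import Cfsg.Agent.Lib.Char.OrderSix.CoverEnd
import Cfsg.Agent.Lib.Char.OrderSix.SmallDeg
import Cfsg.Agent.S2916

/-!
# Index six with a quaternion two-part: the odd part is trivial
-/

set_option autoImplicit false
set_option linter.unusedSectionVars false
set_option linter.style.haveILetI false
set_option maxHeartbeats 1000000

open Cfsg Subgroup

namespace Cfsg.Agent.Char.OrderSix

open Cfsg.Agent.Lead.GLTwoThree (GLT cod cod_mem cod_mul cod_one cod_injective mc codes invol_cod)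

theorem glt_invol_cent : ∀ x ∈ codes, ∀ y ∈ codes, mc x x = 28 → x ≠ 28 → x ≠ 56 → mc x y = mc y x →
    mc y y = 28 := by decide +kernel

universe u
variable {G : Type u} [Group G] [Fintype G]

/-- Principal characters are constant on an odd normal part of the centraliser of a two-element. -/
theorem two_const {M : Ideal AlgInt} (hM : IsPModular 2 M) {x : G} (hx : ∃ k : ℕ, orderOf x = 2 ^ k)
    (K : Subgroup G) (hKC : K ≤ centralizer ({x} : Set G))
    (hn : centralizer ({x} : Set G) ≤ normalizer (K : Set G)) (hodd : Odd (Nat.card K)) {χ : IrrCharacter G}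
    (hχ : χ ∈ principalBlock M G) {y : G} (hy : y ∈ K) : (χ : G → ℂ) (x * y) = (χ : G → ℂ) x := by
  haveI : (K.subgroupOf (centralizer ({x} : Set G))).Normal := (normal_subgroupOf_iff_le_normalizer hKC).2 hn
  have h2 : ¬ 2 ∣ Nat.card K := fun h => Nat.not_even_iff_odd.2 hodd (even_iff_two_dvd.2 h)
  have h := principal_section_const hM hx (K.subgroupOf (centralizer ({x} : Set G)))
    (by rwa [Nat.card_congr (subgroupOfEquivOfLe hKC).toEquiv])
    χ hχ 1 ⟨y, hKC hy⟩ (mem_subgroupOf.2 hy) (by simp)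
    (by
      rw [mul_one, Subgroup.orderOf_mk]
      exact fun h => h2 (h.trans (by rw [← Subgroup.orderOf_mk y hy]; exact orderOf_dvd_natCard _)))
  simpa using h

variable [IsSimpleGroup G]

namespace QuatCtx

variable {D : Ctx G} (F : QuatCtx D)

theorem exists_invol (hna : ¬ IsMulCommutative G) : ∃ e ∈ F.S, e ∉ F.P ∧ orderOf e = 2 := by
  obtain ⟨e, he, he2, heu⟩ := Ctx.exists_other hna F.sylow D.inv2
  refine ⟨e, he, fun hP => ?_, he2⟩
  rcases D.mem_zu.1 (F.huniq e hP (by rw [← pow_two, ← he2]; exact pow_orderOf_eq_one e)) with h | h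
  · rw [h, orderOf_one] at he2; omega
  · exact heu h

theorem card_S16 : Nat.card F.S = 16 := by rw [F.card_S, F.hP8]

/-- an element outside the two-part and the two-part give the whole Sylow subgroup -/
theorem S_comm {e z : G} (heS : e ∈ F.S) (heP : e ∉ F.P) (hz : z ∈ F.W) (hze : Commute z e) :
    ∀ s ∈ F.S, Commute s z := by
  have hP : ∀ p ∈ F.P, Commute p z := fun p hp => F.hcomm p hp z hz
  obtain ⟨p0, hp0, rfl⟩ := F.S_coset heS heP
  intro s hs
  by_cases hsP : s ∈ F.P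
  · exact hP s hsP
  obtain ⟨p, hp, rfl⟩ := F.S_coset hs hsP
  rw [show p * F.a⁻¹ = p * p0⁻¹ * (p0 * F.a⁻¹) by group]
  exact (hP _ (mul_mem hp (inv_mem hp0))).mul_left hze.symm

/-- no odd element centralises an involution outside the two-part -/
theorem fix_trivial (hna : ¬ IsMulCommutative G) (φ : ↥(centralizer ({D.inv2} : Set G)) →* GLT) (hs : Function.Surjective φ)
    (hker : φ.ker = F.W.subgroupOf (centralizer ({D.inv2} : Set G))) {e : G} (heS : e ∈ F.S) (heP : e ∉ F.P) {z : G} (hz : z ∈ F.W)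
    (hze : Commute z e) : z = 1 := by
  classical
  haveI : Fact (Nat.Prime 2) := ⟨Nat.prime_two⟩
  have hyp : Cover.Hyp (t := D.inv2) φ := ⟨D.u_ord, hs, by
    rw [hker, Nat.card_congr (subgroupOfEquivOfLe (show F.W ≤ centralizer ({D.inv2} : Set G) from F.W_le_C)).toEquiv]; exact F.hodd⟩
  obtain ⟨M, hM⟩ := exists_pModular (p := 2) Nat.prime_two
  have hcard := (F.S).card_mul_index
  rw [F.card_S16] at hcard
  have hodd : Odd (F.S).index := Nat.not_even_iff_odd.1 fun h => F.sylow.not_dvd_index (even_iff_two_dvd.1 h)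
  obtain ⟨χ, hχ, hne, hdeg⟩ := Cover.small_principal hna hyp hM (fun v hv => D.hone _ _ D.u_ord hv) hodd hcard.symm
  have hzo : Odd (orderOf z) := ((F.hW z).1 hz).2
  have hSz := F.S_comm heS heP hz hze
  refine eq_one_of_small hna hne F.S ?_ hSz ?_ (by rw [F.card_S16]; exact hdeg)
  · rw [F.card_S16, show (16 : ℕ) = 2 ^ 4 from rfl]
    exact Nat.Coprime.pow_left 4 (Nat.coprime_two_left.2 hzo)
  intro s hs' hs1 k
  have hcl := isClassFunction_character (irr_isCharacter χ.2)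
  by_cases hu : ∃ j : ℕ, s ^ j = D.inv2
  · obtain ⟨j, hj⟩ := hu
    have hsC : centralizer ({s} : Set G) ≤ D.C := fun c hc => D.mem_C.2 (by
      rw [← hj]; exact ((show Commute c s from mem_centralizer_singleton_iff.1 hc).pow_right j).eq)
    refine two_const hM ?_ (F.W ⊓ centralizer ({s} : Set G)) inf_le_right ?_
      (Odd.of_dvd_nat F.hodd (card_dvd_of_le inf_le_left)) hχ
      (pow_mem (mem_inf.2 ⟨hz, mem_centralizer_singleton_iff.2 (hSz s hs').symm.eq⟩) k)
    · obtain ⟨m, hm⟩ := IsPGroup.iff_orderOf.1 F.isPGroup_S ⟨s, hs'⟩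
      exact ⟨m, by rwa [Subgroup.orderOf_mk] at hm⟩
    · intro c hc
      have hfwd : ∀ c ∈ centralizer ({s} : Set G), ∀ x ∈ F.W ⊓ centralizer ({s} : Set G),
          c * x * c⁻¹ ∈ F.W ⊓ centralizer ({s} : Set G) := fun c hc x hx =>
        mem_inf.2 ⟨F.conj_W (hsC hc) (mem_inf.1 hx).1,
          mul_mem (mul_mem hc (mem_inf.1 hx).2) (inv_mem hc)⟩
      exact mem_normalizer_iff.2 fun x => ⟨hfwd c hc x, fun hx => by
        simpa [mul_assoc] using hfwd c⁻¹ (inv_mem hc) _ hx⟩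
  push Not at hu
  -- an involution outside the two-part
  have hss : s * s = 1 := by
    obtain ⟨m, hm⟩ := IsPGroup.iff_orderOf.1 F.isPGroup_S ⟨s, hs'⟩
    rw [Subgroup.orderOf_mk] at hm
    by_contra hss
    have hm2 : 2 ≤ m := by
      by_contra hm2
      refine hss ?_
      rw [← pow_two]
      exact orderOf_dvd_iff_pow_eq_one.1 (hm ▸ (pow_dvd_pow 2 (by omega : m ≤ 1)).trans (by norm_num))
    obtain ⟨r, rfl⟩ : ∃ r, m = r + 2 := ⟨m - 2, by omega⟩
    have hsq : s * s ∈ F.P := by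
      by_cases hP : s ∈ F.P
      · exact mul_mem hP hP
      obtain ⟨p, hp, rfl⟩ := F.S_coset hs' hP
      rw [show p * F.a⁻¹ * (p * F.a⁻¹) = p * (F.a⁻¹ * p * F.a) * (F.a * F.a)⁻¹ by group]
      exact mul_mem (mul_mem hp (by simpa using F.conj_P (inv_mem F.haC) hp)) (inv_mem (F.zu_le F.asq))
    have hv2 : s ^ 2 ^ (r + 1) * s ^ 2 ^ (r + 1) = 1 := by
      rw [← pow_add, ← two_mul, ← pow_succ', ← hm, pow_orderOf_eq_one]
    have hvP : s ^ 2 ^ (r + 1) ∈ F.P := by
      rw [pow_succ', pow_mul, pow_two]; exact pow_mem hsq _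
    rcases D.mem_zu.1 (F.huniq _ hvP hv2) with h | h
    · have hd := orderOf_dvd_of_pow_eq_one h
      rw [hm] at hd
      have := (Nat.pow_dvd_pow_iff_le_right (by norm_num)).1 hd
      omega
    · exact hu _ h
  have hso : orderOf s = 2 := orderOf_eq_prime (by rw [pow_two]; exact hss) hs1
  obtain ⟨g, hg⟩ := D.conj_u hso
  have hgz : g⁻¹ * z ^ k * g ∈ F.W := by
    have hyC : g⁻¹ * z ^ k * g ∈ D.C := by
      refine D.mem_C.2 ?_
      have := congrArg (fun t => g⁻¹ * t * g) ((hSz s hs').pow_right k).eq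
      rw [← hg] at this
      simpa [mul_assoc] using this.symm
    have hyo : Odd (orderOf (g⁻¹ * z ^ k * g)) := by
      rw [show g⁻¹ * z ^ k * g = (MulAut.conj g⁻¹).toMonoidHom (z ^ k) by simp,
        orderOf_injective _ (MulAut.conj g⁻¹).injective]
      exact Odd.of_dvd_nat hzo (orderOf_pow_dvd k)
    have hu1C : g⁻¹ * D.inv2 * g ∈ D.C := by
      refine D.mem_C.2 ?_
      have hus : Commute D.inv2 s := (D.mem_C.1 (F.S_le_C hs')).symm
      have := congrArg (fun t => g⁻¹ * t * g) hus.eq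
      rw [← hg] at this
      simpa [mul_assoc] using this
    set u1 : ↥(centralizer ({D.inv2} : Set G)) := ⟨g⁻¹ * D.inv2 * g, hu1C⟩ with hu1
    set y : ↥(centralizer ({D.inv2} : Set G)) := ⟨g⁻¹ * z ^ k * g, hyC⟩ with hy
    have hu11 : u1 * u1 = 1 := Subtype.ext (by
      show g⁻¹ * D.inv2 * g * (g⁻¹ * D.inv2 * g) = 1
      rw [show g⁻¹ * D.inv2 * g * (g⁻¹ * D.inv2 * g) = g⁻¹ * (D.inv2 * D.inv2) * g by group, D.uu]; group)
    have hune : u1 ≠ 1 := fun h => D.u_ne (by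
      have := congrArg Subtype.val h
      simp only [hu1, OneMemClass.coe_one] at this
      calc D.inv2 = g * (g⁻¹ * D.inv2 * g) * g⁻¹ := by group
        _ = 1 := by rw [this]; group)
    have himg : φ u1 * φ u1 = 1 ∧ φ u1 ≠ 1 :=
      ⟨by rw [← map_mul, hu11, map_one], fun h => hune (Cover.eq_one_of_sq hyp (MonoidHom.mem_ker.2 h) hu11)⟩
    have hnc : cod (φ u1) ≠ 56 := fun h => by
      have e : g⁻¹ * D.inv2 * g = D.inv2 := congrArg Subtype.val (Cover.eq_t hyp h hu11)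
      refine hu 1 ?_
      rw [pow_one, ← hg]
      have := congrArg (fun t => g * t) e
      simp only [mul_assoc, mul_inv_cancel_left] at this
      rw [← this, mul_inv_cancel_right]
    have hcomm : u1 * y = y * u1 := Subtype.ext (by
      have hzu : Commute D.inv2 (z ^ k) := (show Commute (z ^ k) D.inv2 from D.mem_C.1 (pow_mem (F.W_le_C hz) k)).symm
      have := congrArg (fun t => g⁻¹ * t * g) hzu.eq
      show g⁻¹ * D.inv2 * g * (g⁻¹ * z ^ k * g) = g⁻¹ * z ^ k * g * (g⁻¹ * D.inv2 * g)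
      simpa [mul_assoc] using this)
    obtain ⟨a, b⟩ := invol_cod.1 himg
    have hy2 : φ y * φ y = 1 := cod_injective (by
      rw [cod_mul, cod_one]
      exact glt_invol_cent _ (cod_mem _) _ (cod_mem _) a b hnc (by rw [← cod_mul, ← cod_mul, ← map_mul, ← map_mul, hcomm]))
    have hy1 : φ y = 1 := by
      have h1 : orderOf (φ y) ∣ 2 := orderOf_dvd_of_pow_eq_one (by rw [pow_two]; exact hy2)
      have h2 : orderOf (φ y) ∣ orderOf (g⁻¹ * z ^ k * g) := by
        rw [← Subgroup.orderOf_mk _ hyC]; exact orderOf_map_dvd φ y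
      exact orderOf_eq_one_iff.1 (Nat.eq_one_of_dvd_coprimes (Nat.coprime_two_left.2 hyo) h1 h2)
    have := MonoidHom.mem_ker.2 hy1
    rwa [hker, mem_subgroupOf] at this
  rw [show s * z ^ k = g * (D.inv2 * (g⁻¹ * z ^ k * g)) * g⁻¹ by rw [← hg]; group, hcl,
    two_const hM ⟨1, by rw [D.u_ord, pow_one]⟩ F.W F.W_le_C F.C_le_normalizer_W F.hodd hχ hgz, ← hg, hcl]

include F in
/-- The quaternion two-part leads to L₃(3) or M₁₁. -/
theorem quat_case (hna : ¬ IsMulCommutative G) :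
    (∃ (K : Type) (_ : Field K) (_ : Fintype K), Fintype.card K = 3 ∧
        Nonempty (G ≃* Matrix.ProjectiveSpecialLinearGroup (Fin 3) K)) ∨ Cfsg.Spor.IsoM11 G := by
  classical
  obtain ⟨e, heS, heP, he2⟩ := F.exists_invol hna
  obtain ⟨φ, hs, hker⟩ := F.exists_cover heS heP he2
  have hee : e * e = 1 := by rw [← pow_two, ← he2]; exact pow_orderOf_eq_one e
  have heinv : e⁻¹ = e := inv_eq_of_mul_eq_one_left hee
  -- the involution inverts the odd part
  have hinv : ∀ y ∈ F.W, e * y * e = y⁻¹ := by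
    intro y hy
    have hW : ∀ x ∈ F.W, e * x * e ∈ F.W := fun x hx => by
      have := F.conj_W (F.S_le_C heS) hx
      rwa [heinv] at this
    let f : F.W → F.W := fun x => ⟨(x : G)⁻¹ * (e * x * e), mul_mem (inv_mem x.2) (hW x x.2)⟩
    have hinj : Function.Injective f := by
      intro x x' h
      have h' : (x : G)⁻¹ * (e * x * e) = (x' : G)⁻¹ * (e * x' * e) := congrArg Subtype.val h
      have hv : Commute ((x' : G) * (x : G)⁻¹) e := by
        show (x' : G) * (x : G)⁻¹ * e = e * ((x' : G) * (x : G)⁻¹)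
        calc (x' : G) * (x : G)⁻¹ * e
            = (x' : G) * ((x : G)⁻¹ * (e * x * e)) * (e * e)⁻¹ * e * (x : G)⁻¹ := by group
          _ = (x' : G) * ((x' : G)⁻¹ * (e * x' * e)) * (e * e)⁻¹ * e * (x : G)⁻¹ := by rw [h']
          _ = _ := by group
      have h1 := F.fix_trivial hna φ hs hker heS heP (mul_mem x'.2 (inv_mem x.2)) hv
      exact Subtype.ext (mul_inv_eq_one.1 h1).symm
    obtain ⟨x, hx⟩ := (Finite.injective_iff_surjective.1 hinj) ⟨y, hy⟩
    have hx' : (x : G)⁻¹ * (e * x * e) = y := congrArg Subtype.val hx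
    rw [← hx', show e * ((x : G)⁻¹ * (e * x * e)) * e = e * (x : G)⁻¹ * e * (x : G) * (e * e) by group, hee,
      mul_one, mul_inv_rev, inv_inv, mul_inv_rev, mul_inv_rev, heinv, ← mul_assoc]
  have hW1 : F.W = ⊥ := by
    refine (eq_bot_iff_forall _).2 fun x hx => ?_
    obtain ⟨p, hp, hep⟩ := F.S_coset heS heP
    set y := D.el3 * e * D.el3⁻¹ * e
    have hyx : Commute y x := by
      have hx' : D.el3⁻¹ * x * D.el3 ∈ F.W := by simpa using F.conj_W (inv_mem D.w_C) hx
      show y * x = x * y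
      have e1 : e * x * e = x⁻¹ := hinv x hx
      have e2 : e * x⁻¹ * e = x := by rw [hinv _ (inv_mem hx), inv_inv]
      have e3 : D.el3 * e * D.el3⁻¹ * x⁻¹ * (D.el3 * e * D.el3⁻¹) = x := by
        calc D.el3 * e * D.el3⁻¹ * x⁻¹ * (D.el3 * e * D.el3⁻¹)
            = D.el3 * (e * (D.el3⁻¹ * x * D.el3)⁻¹ * e) * D.el3⁻¹ := by group
          _ = x := by rw [hinv _ (inv_mem hx'), inv_inv]; group
      calc y * x = D.el3 * e * D.el3⁻¹ * (e * x * e) * e⁻¹ := by simp only [y]; group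
        _ = D.el3 * e * D.el3⁻¹ * x⁻¹ * e⁻¹ := by rw [e1]
        _ = D.el3 * e * D.el3⁻¹ * x⁻¹ * (D.el3 * e * D.el3⁻¹) * (D.el3 * e⁻¹ * D.el3⁻¹) * e⁻¹ := by group
        _ = x * (D.el3 * e⁻¹ * D.el3⁻¹) * e⁻¹ := by rw [e3]
        _ = _ := by rw [heinv]; simp only [y]; group
    have hai : F.a * D.el3⁻¹ * F.a⁻¹ = D.el3 := by
      rw [show F.a * D.el3⁻¹ * F.a⁻¹ = (F.a * D.el3 * F.a⁻¹)⁻¹ by group, F.hinv, inv_inv]
    have hwaw : D.el3 * F.a⁻¹ * D.el3⁻¹ = F.a⁻¹ * (D.el3⁻¹ * D.el3⁻¹) := by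
      calc D.el3 * F.a⁻¹ * D.el3⁻¹ = F.a⁻¹ * (F.a * D.el3 * F.a⁻¹) * D.el3⁻¹ := by group
        _ = _ := by rw [F.hinv]; group
    have hwaw2 : D.el3 ^ 2 * F.a⁻¹ * D.el3 ^ 2 = F.a⁻¹ := by
      calc D.el3 ^ 2 * F.a⁻¹ * D.el3 ^ 2
          = F.a⁻¹ * ((F.a * D.el3 * F.a⁻¹) * (F.a * D.el3 * F.a⁻¹)) * D.el3 ^ 2 := by rw [pow_two]; group
        _ = _ := by rw [F.hinv, pow_two]; group
    set q := (D.el3 * p * D.el3⁻¹) * (F.a⁻¹ * ((D.el3 ^ 2)⁻¹ * p * D.el3 ^ 2) * F.a) * (F.a * F.a)⁻¹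
    have hq : q ∈ F.P := by
      refine mul_mem (mul_mem (F.conj_P D.w_C hp) ?_) (inv_mem (F.zu_le F.asq))
      have := F.conj_P (inv_mem F.haC) (F.conj_P (inv_mem (pow_mem D.w_C 2)) hp)
      simpa using this
    have hyq : y = q * D.el3 ^ 2 := by
      calc y = (D.el3 * p * D.el3⁻¹) * (D.el3 * F.a⁻¹ * D.el3⁻¹) * p * F.a⁻¹ := by
            simp only [y, hep]; group
        _ = (D.el3 * p * D.el3⁻¹) * (F.a⁻¹ * (D.el3⁻¹ * D.el3⁻¹)) * p * (D.el3 ^ 2 * F.a⁻¹ * D.el3 ^ 2) := by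
            rw [hwaw, hwaw2]
        _ = _ := by simp only [q]; group
    rw [hyq] at hyx
    have hc : Commute (D.el3 ^ 2) x := by
      have := (show Commute q x from F.hcomm q hq x hx).inv_left.mul_left hyx
      rwa [inv_mul_cancel_left] at this
    refine F.fix_W hx ?_
    have := hc.pow_left 2
    rw [← pow_mul, show 2 * 2 = 3 + 1 from rfl, pow_succ, ← D.w_ord, pow_orderOf_eq_one, one_mul] at this
    exact this.symm.eq
  have hC : Nonempty (↥(centralizer ({D.inv2} : Set G)) ≃* GL (Fin 2) (ZMod 3)) := by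
    refine ⟨MulEquiv.ofBijective φ ⟨?_, hs⟩⟩
    rw [← MonoidHom.ker_eq_bot_iff, hker, hW1, bot_subgroupOf]
  refine S2916.result ?_ D.inv2 D.u_ord hC
  rcases IsSimpleGroup.eq_bot_or_eq_top_of_normal (Cfsg.pResidual 2 G) inferInstance with h | h
  · exfalso
    haveI : Fact (Nat.Prime 2) := ⟨Nat.prime_two⟩
    have hG : IsPGroup 2 G := (Fusion.isPGroup_quotient_pResidual (p := 2) (G := G)).of_equiv
      ((QuotientGroup.quotientMulEquivOfEq h).trans QuotientGroup.quotientBot)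
    obtain ⟨n, hn⟩ := IsPGroup.iff_orderOf.1 hG D.el3
    rw [D.w_ord] at hn
    have : 2 ∣ 3 := by
      rcases n with _ | n
      · norm_num at hn
      · exact ⟨2 ^ n, by rw [hn, pow_succ']⟩
    omega
  · exact h

end QuatCtx

end Cfsg.Agent.Char.OrderSix
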