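import Cfsg.Agent.Lib.Char.OrderSix.SymTop
import Cfsg.Agent.S2858

/-!
# Index six: a centre with four fixed elements
-/

set_option autoImplicit false
set_option linter.unusedSectionVars false
set_option linter.style.haveILetI false

open Cfsg Subgroup
open scoped Pointwise

namespace Cfsg.Agent.Char.OrderSix

universe u
variable {G : Type u} [Group G] [Finite G] [IsSimpleGroup G]

namespace SymCtx

variable {D : Ctx G} (F : SymCtx D)

include F in
theorem swap_false {g : G} (hg : g ∈ normalizer (F.S : Set G)) (h1 : g * D.inv2 * g⁻¹ ≠ D.inv2)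
    (h2 : g * (g * D.inv2 * g⁻¹) * g⁻¹ = D.inv2) : False := by
  haveI : Fact (Nat.Prime 2) := ⟨Nat.prime_two⟩
  obtain ⟨e, m, hm, hord⟩ := Nat.exists_eq_pow_mul_and_not_dvd (orderOf_pos g).ne' 2 (by norm_num)
  have hodd : Odd m := by rwa [Nat.odd_iff, ← Nat.two_dvd_ne_zero]
  obtain ⟨q, rfl⟩ := hodd
  have hc : Commute (g * g) D.inv2 := by
    refine mul_inv_eq_iff_eq_mul.1 ?_
    calc g * g * D.inv2 * (g * g)⁻¹ = g * (g * D.inv2 * g⁻¹) * g⁻¹ := by group
      _ = D.inv2 := h2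
  set h := g ^ (2 * q + 1) with hh
  have hh2 : h * D.inv2 * h⁻¹ = g * D.inv2 * g⁻¹ := by
    rw [hh, pow_succ', pow_mul, pow_two]
    calc g * (g * g) ^ q * D.inv2 * (g * (g * g) ^ q)⁻¹
        = g * ((g * g) ^ q * D.inv2 * ((g * g) ^ q)⁻¹) * g⁻¹ := by group
      _ = _ := by rw [(hc.pow_left q).eq, mul_inv_cancel_right]
  have hh1 : h ^ 2 ^ e = 1 := by rw [hh, ← pow_mul, mul_comm, ← hord, pow_orderOf_eq_one]
  have hp : IsPGroup 2 (zpowers h) := fun y => by
    obtain ⟨i, hi⟩ := mem_zpowers_iff.1 y.2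
    exact ⟨e, Subtype.ext (by rw [coe_pow, coe_one, ← hi, ← zpow_natCast, ← zpow_mul, mul_comm, zpow_mul,
      zpow_natCast, hh1, one_zpow])⟩
  have hsup : IsPGroup 2 (zpowers h ⊔ F.S : Subgroup G) :=
    hp.to_sup_of_normal_right' F.isPGroup_S (zpowers_le.2 (pow_mem hg _))
  have hS : h ∈ F.S := (F.sylow.3 hsup le_sup_right).le (mem_sup_left (mem_zpowers _))
  exact h1 (by rw [← hh2, D.mem_C.1 (F.S_le_C hS), mul_inv_cancel_right])

theorem Y_set (h4 : Nat.card F.Y ≤ 4) {z : G} (hz : z ∈ F.Y) (hz1 : z ≠ 1) (hzu : z ≠ D.inv2) {y : G}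
    (hy : y ∈ F.Y) : y = 1 ∨ y = D.inv2 ∨ y = z ∨ y = z * D.inv2 := by
  have hsub : ({1, D.inv2, z, z * D.inv2} : Set G) ⊆ (F.Y : Set G) := by
    rintro x (rfl | rfl | rfl | rfl)
    · exact one_mem _
    · exact F.u_Y
    · exact hz
    · exact mul_mem hz F.u_Y
  have hc : ({1, D.inv2, z, z * D.inv2} : Set G).ncard = 4 := by
    have hne : z * D.inv2 ≠ 1 := fun h => hzu ((eq_inv_of_mul_eq_one_left h).trans (inv_eq_of_mul_eq_one_right D.uu))
    rw [Set.ncard_insert_of_notMem, Set.ncard_insert_of_notMem, Set.ncard_pair]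
    · exact fun h => D.u_ne (mul_eq_left.1 h.symm)
    · rintro (h | h)
      · exact hzu h.symm
      · exact hz1 (mul_eq_right.1 (show z * D.inv2 = D.inv2 from h.symm))
    · rintro (h | h | h)
      · exact D.u_ne h.symm
      · exact hz1 h.symm
      · exact hne h.symm
  have heq := Set.eq_of_subset_of_ncard_le hsub (by rw [hc, ← Nat.card_coe_set_eq]; exact h4) (Set.toFinite _)
  have : y ∈ ({1, D.inv2, z, z * D.inv2} : Set G) := heq ▸ hy
  simpa using this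

theorem fix_false (hbig : ¬ F.P ≤ zpowers D.inv2) (h4 : Nat.card F.Y ≤ 4) {g z : G}
    (hg : g ∈ normalizer (F.S : Set G)) (h1 : g * D.inv2 * g⁻¹ ≠ D.inv2) (hz : z ∈ F.Y) (hz1 : z ≠ 1)
    (hzu : z ≠ D.inv2) (hfix : g * z * g⁻¹ = z) : False := by
  refine F.swap_false hg h1 ?_
  have hzz : z * z = 1 := hz.1.2.2
  rcases F.Y_set h4 hz hz1 hzu (F.norm_Y hbig hg F.u_Y) with e | e | e | e
  · exact absurd (conj_eq_one_iff.1 e) D.u_ne
  · exact absurd e h1
  · exact absurd (mul_left_cancel (mul_right_cancel (e.trans hfix.symm))) (Ne.symm hzu)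
  · rw [e]
    calc g * (z * D.inv2) * g⁻¹ = (g * z * g⁻¹) * (g * D.inv2 * g⁻¹) := by group
      _ = (z * z) * D.inv2 := by rw [hfix, e, mul_assoc]
      _ = D.inv2 := by rw [hzz, one_mul]

theorem core_u_false {R : Subgroup G} (hRS : R ≤ F.S) (hu : D.inv2 ∈ R) (hSn : F.S ≤ normalizer (R : Set G))
    (hwn : D.el3 ∈ normalizer (R : Set G)) {g : G} (hgS : g ∈ normalizer (F.S : Set G))
    (hgn : g * D.el3 * g⁻¹ ∈ normalizer (R : Set G)) (hgP : g ∉ normalizer (F.P : Set G))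
    (hgu : g * D.inv2 * g⁻¹ ≠ D.inv2) : False := by
  classical
  haveI : Fact (Nat.Prime 2) := ⟨Nat.prime_two⟩
  haveI : Fact (Nat.Prime 3) := ⟨Nat.prime_three⟩
  set M := normalizer (R : Set G) with hM
  set R0 := pCoreOf 2 M with hR0def
  have hRR : R ≤ R0 := Fusion.le_pCoreOf le_normalizer le_rfl (F.isPGroup_S.to_le hRS)
  have hR0n : M ≤ normalizer (R0 : Set G) := Fusion.le_normalizer_pCoreOf (p := 2) M
  rcases F.over_core hSn hwn (hRR hu) with h | ⟨hR0P, h168, -, hN, -⟩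
  · -- the two-part would be normalised
    change R0 = F.P at h
    have hle : F.P.map (MulAut.conj g⁻¹).toMonoidHom ≤ F.P := by
      refine F.le_P_of_inv ?_ ?_
      · rintro _ ⟨x, hx, rfl⟩
        simpa using (mem_normalizer_iff.1 (inv_mem hgS) x).1 (F.P_le_S hx)
      · have hc : g * D.el3 * g⁻¹ ∈ normalizer (F.P : Set G) := h ▸ hR0n hgn
        refine mem_normalizer_iff.2 fun x => ?_
        rw [mem_map_equiv, mem_map_equiv]
        simp only [MulAut.conj_symm_apply, inv_inv]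
        rw [show g * (D.el3 * x * D.el3⁻¹) * g⁻¹ = g * D.el3 * g⁻¹ * (g * x * g⁻¹) * (g * D.el3 * g⁻¹)⁻¹ by group]
        exact mem_normalizer_iff.1 hc _
    refine hgP ?_
    have heq := eq_of_le_of_card_ge hle
      (le_of_eq (Nat.card_congr (F.P.equivMapOfInjective _ (MulAut.conj g⁻¹).injective).toEquiv))
    rw [show g = g⁻¹⁻¹ from (inv_inv g).symm]
    refine inv_mem (mem_normalizer_iff.2 fun x => ?_)
    conv_rhs => rw [← heq, mem_map_equiv]
    simp [mul_assoc]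
  change R0 ≤ F.P at hR0P
  change Nat.card M = 168 * Nat.card R0 at h168
  -- the Sylow three-subgroups
  have hS3 : ∀ y : M, orderOf y = 3 → Nat.card (zpowers y) = 3 ^ (Nat.card M).factorization 3 := fun y hy => by
    rw [Nat.card_zpowers, hy, h168, Nat.factorization_mul (by norm_num) Nat.card_pos.ne', Finsupp.add_apply,
      Nat.factorization_eq_zero_of_not_dvd (fun h => F.three_P (h.trans (card_dvd_of_le hR0P))),
      show 168 = 3 * 56 from rfl, Nat.factorization_mul (by norm_num) (by norm_num), Finsupp.add_apply,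
      Nat.Prime.factorization_self Nat.prime_three, Nat.factorization_eq_zero_of_not_dvd (by norm_num : ¬ 3 ∣ 56)]
    rfl
  have hwo : orderOf (⟨D.el3, hwn⟩ : M) = 3 := by rw [← orderOf_coe]; exact D.w_ord
  have hxo : orderOf (⟨g * D.el3 * g⁻¹, hgn⟩ : M) = 3 := by
    rw [← orderOf_coe]
    show orderOf ((MulAut.conj g).toMonoidHom D.el3) = 3
    rw [orderOf_injective _ (MulAut.conj g).injective]; exact D.w_ord
  obtain ⟨m, hm⟩ := MulAction.exists_smul_eq M (Sylow.ofCard _ (hS3 _ hwo)) (Sylow.ofCard _ (hS3 _ hxo))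
  obtain ⟨i, hi⟩ : ∃ i : ℤ, (g * D.el3 * g⁻¹) ^ i = (m : G) * D.el3 * (m : G)⁻¹ := by
    have h : (m * ⟨D.el3, hwn⟩ * m⁻¹ : M) ∈
        ((m • Sylow.ofCard _ (hS3 _ hwo) : Sylow 3 M) : Subgroup M) := ⟨_, mem_zpowers _, rfl⟩
    rw [hm] at h
    obtain ⟨i, hi⟩ := mem_zpowers_iff.1 h
    exact ⟨i, congrArg Subtype.val hi⟩
  -- the image of the involution
  set y := g⁻¹ * ((m : G) * D.inv2 * (m : G)⁻¹) * g with hy
  have hmR : (m : G) * D.inv2 * (m : G)⁻¹ ∈ R0 := (mem_normalizer_iff.1 (hR0n m.2) _).1 (hRR hu)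
  have hyP : y ∈ F.P := by
    refine (show R0.map (MulAut.conj g⁻¹).toMonoidHom ≤ F.P from ?_) ⟨_, hmR, by simp [hy]⟩
    refine F.le_P_of_inv ?_ ?_
    · rintro _ ⟨x, hx, rfl⟩
      simpa using (mem_normalizer_iff.1 (inv_mem hgS) x).1 (F.P_le_S (hR0P hx))
    · refine mem_normalizer_iff.2 fun x => ?_
      rw [mem_map_equiv, mem_map_equiv]
      simp only [MulAut.conj_symm_apply, inv_inv]
      rw [show g * (D.el3 * x * D.el3⁻¹) * g⁻¹ = g * D.el3 * g⁻¹ * (g * x * g⁻¹) * (g * D.el3 * g⁻¹)⁻¹ by group]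
      exact mem_normalizer_iff.1 (hR0n hgn) _
  have hc : Commute y (D.el3 ^ i) := by
    have h1 : Commute ((m : G) * D.inv2 * (m : G)⁻¹) ((m : G) * D.el3 * (m : G)⁻¹) :=
      (show Commute D.inv2 D.el3 from D.comm_uw).map (MulAut.conj (m : G)).toMonoidHom
    rw [← hi, conj_zpow] at h1
    have := congrArg (fun t => g⁻¹ * t * g) h1.eq
    show y * D.el3 ^ i = D.el3 ^ i * y
    simpa [hy, mul_assoc] using this
  have hi3 : ¬ (3 : ℤ) ∣ i := fun hd => by
    obtain ⟨q, rfl⟩ := hd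
    rw [← orderOf_coe] at hxo
    rw [zpow_mul, show (g * D.el3 * g⁻¹) ^ (3 : ℤ) = 1 by
      rw [show ((3 : ℤ)) = ((3 : ℕ) : ℤ) from rfl, zpow_natCast, ← hxo]; exact pow_orderOf_eq_one _, one_zpow] at hi
    exact D.w_ne (conj_eq_one_iff.1 hi.symm)
  have hcw : Commute y D.el3 := by
    have hw3 : D.el3 ^ (3 : ℤ) = 1 := by
      rw [show ((3 : ℤ)) = ((3 : ℕ) : ℤ) from rfl, zpow_natCast, ← D.w_ord]; exact pow_orderOf_eq_one _
    rcases (show i % 3 = 1 ∨ i % 3 = 2 by omega) with h | h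
    · rw [show i = 3 * (i / 3) + 1 by omega, zpow_add_one, zpow_mul, hw3, one_zpow, one_mul] at hc
      exact hc
    · rw [show i = 3 * (i / 3 + 1) + -1 by omega, zpow_add, zpow_mul, hw3, one_zpow, one_mul, zpow_neg_one] at hc
      exact Commute.inv_right_iff.1 hc
  have hyu : (m : G) * D.inv2 * (m : G)⁻¹ = g * D.inv2 * g⁻¹ := by
    rcases F.fix_P hyP hcw.eq with e | e
    · rw [hy] at e
      exfalso
      refine D.u_ne ((conj_eq_one_iff (a := (m : G))).1 ?_)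
      have := congrArg (fun t => g * t * g⁻¹) e
      simpa [mul_assoc] using this
    · rw [hy] at e
      have := congrArg (fun t => g * t * g⁻¹) e
      simpa [mul_assoc] using this
  -- fusion inside
  let SM : Sylow 2 M := F.sylow.subtype hSn
  have hcen : ∀ z : M, (∀ x ∈ F.S, x * (z : G) = (z : G) * x) → z ∈ centralizer ((SM : Subgroup M) : Set M) :=
    fun z hz => mem_centralizer_iff.2 fun x hx => Subtype.ext (hz _ hx)
  have huM : D.inv2 ∈ M := le_normalizer hu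
  obtain ⟨n, hn, hne⟩ := SM.conj_eq_normalizer_conj_of_mem_centralizer ⟨D.inv2, huM⟩ m⁻¹
    (hcen _ fun x hx => D.mem_C.1 (F.S_le_C hx)) (hcen _ fun x hx => by
      show x * ((m : G)⁻¹⁻¹ * D.inv2 * (m : G)⁻¹) = (m : G)⁻¹⁻¹ * D.inv2 * (m : G)⁻¹ * x
      rw [inv_inv, hyu]
      have hx' : g⁻¹ * x * g ∈ F.S := by simpa using (mem_normalizer_iff.1 (inv_mem hgS) x).1 hx
      have := congrArg (fun t => g * t * g⁻¹) (D.mem_C.1 (F.S_le_C hx'))
      simpa [mul_assoc] using this)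
  have hnS : (n : G) ∈ normalizer (F.S : Set G) := by
    refine mem_normalizer_iff.2 fun x => ⟨fun hx => ?_, fun hx => ?_⟩
    · exact mem_subgroupOf.1 ((mem_normalizer_iff.1 hn ⟨x, hSn hx⟩).1 hx)
    · have hxM : x ∈ M := by
        have := mul_mem (mul_mem (inv_mem n.2) (hSn hx)) n.2
        simpa [mul_assoc] using this
      exact mem_subgroupOf.1 ((mem_normalizer_iff.1 hn ⟨x, hxM⟩).2 hx)
  have hnC := D.mem_C.1 (F.S_le_C (hN n n.2 hnS))
  have he : (m : G)⁻¹⁻¹ * D.inv2 * (m : G)⁻¹ = (n : G)⁻¹ * D.inv2 * (n : G) := congrArg Subtype.val hne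
  rw [inv_inv, hyu, mul_assoc (n : G)⁻¹, ← hnC, inv_mul_cancel_left] at he
  exact hgu he

variable {F}

/-- a side read inside a larger group -/
theorem Side.sub {H Q : Subgroup G} (h : F.Side H Q) {L : Subgroup G} (hHL : H ≤ L) :
    let P' := H.subgroupOf L
    let T' := F.S.subgroupOf L
    P' ⊓ centralizer (pCoreOf 2 P' : Set L) ≤ pCoreOf 2 P' ∧
      (∃ S : Sylow 2 ↥P', (S : Subgroup ↥P') = T'.subgroupOf P') ∧
      Nonempty (↥P' ⧸ pCore 2 ↥P' ≃* Equiv.Perm (Fin 3)) ∧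
      ¬ P' ≤ centralizer (omegaOne 2 (T' ⊓ centralizer (T' : Set L)) : Set L) ∧
      Nat.card P' = Nat.card H := by
  classical
  intro P' T'
  haveI : Fact (Nat.Prime 2) := ⟨Nat.prime_two⟩
  have hQL : Q ≤ L := h.hQH.trans hHL
  have hSL : F.S ≤ L := h.hSH.trans hHL
  have hcard : Nat.card P' = Nat.card H := Nat.card_congr (subgroupOfEquivOfLe hHL).toEquiv
  have hcore : pCoreOf 2 P' = Q.subgroupOf L := by
    refine pCoreOf_eq (fun x hx => h.hQH hx) (fun x hx => mem_normalizer_iff.2 fun y => ?_)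
      (h.h2.comap_of_injective L.subtype L.subtype_injective) fun T hT hTn hT2 x hx => ?_
    · exact mem_normalizer_iff.1 (h.hn hx) (y : G)
    · refine h.hmax (T.map L.subtype) ?_ ?_ (hT2.map _) ⟨x, hx, rfl⟩
      · rintro _ ⟨t, ht, rfl⟩; exact hT ht
      · intro m hm
        have hmn := hTn (show (⟨m, hHL hm⟩ : L) ∈ P' from hm)
        refine mem_normalizer_iff.2 fun y => ⟨?_, fun hy => ?_⟩
        · rintro ⟨t, ht, rfl⟩
          exact ⟨_, (mem_normalizer_iff.1 hmn t).1 ht, rfl⟩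
        · obtain ⟨t, ht, hty⟩ := hy
          refine ⟨⟨m, hHL hm⟩⁻¹ * t * ⟨m, hHL hm⟩, ?_, ?_⟩
          · simpa using (mem_normalizer_iff.1 (inv_mem hmn) t).1 ht
          · show m⁻¹ * (t : G) * m = y
            rw [show ((t : L) : G) = m * y * m⁻¹ from hty]; group
  refine ⟨?_, ?_, ?_, ?_, hcard⟩
  · rw [hcore]
    rintro x ⟨hx, hxc⟩
    refine h.hcent ⟨hx, mem_centralizer_iff.2 fun q hq => ?_⟩
    exact congrArg Subtype.val (mem_centralizer_iff.1 hxc ⟨q, hQL hq⟩ hq)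
  · obtain ⟨k, hk⟩ := IsPGroup.iff_card.1 F.isPGroup_S
    have hTP : Nat.card (T'.subgroupOf P') = Nat.card F.S :=
      (Nat.card_congr (subgroupOfEquivOfLe (show T' ≤ P' from fun x hx => h.hSH hx)).toEquiv).trans
        (Nat.card_congr (subgroupOfEquivOfLe hSL).toEquiv)
    refine ⟨Sylow.ofCard (T'.subgroupOf P') ?_, rfl⟩
    rw [hTP, hcard, h.hcard, hk, Nat.factorization_mul (by norm_num) (by positivity), Finsupp.add_apply,
      Nat.factorization_eq_zero_of_not_dvd (by norm_num : ¬ 2 ∣ 3), Nat.Prime.factorization_pow Nat.prime_two,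
      Finsupp.single_eq_same, zero_add]
  · obtain ⟨e⟩ := h.hperm
    set f := (subgroupOfEquivOfLe hHL : P' ≃* H)
    have hmap : (pCore 2 ↥P').map (f : P' →* H) = pCore 2 H := by
      refine le_antisymm ?_ ?_
      · haveI := Normal.map (f := (f : P' →* H)) (inferInstance : (pCore 2 ↥P').Normal) f.surjective
        exact Fusion.le_pCore ((Fusion.isPGroup_pCore 2 ↥P').map _)
      · intro x hx
        refine ⟨f.symm x, ?_, f.apply_symm_apply x⟩
        haveI := Normal.map (f := (f.symm : H →* P')) (inferInstance : (pCore 2 ↥H).Normal) f.symm.surjective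
        exact Fusion.le_pCore ((Fusion.isPGroup_pCore 2 ↥H).map (f.symm : H →* P')) ⟨x, hx, rfl⟩
    exact ⟨(QuotientGroup.congr _ _ f hmap).trans e⟩
  · intro hc
    obtain ⟨x, hx, z, hz, hxz⟩ := h.hact
    have hzS : z ∈ F.S := F.P_le_S hz.1.1
    have hzm : (⟨z, hSL hzS⟩ : L) ∈ omegaOne 2 (T' ⊓ centralizer (T' : Set L)) := by
      refine subset_closure ⟨⟨hzS, mem_centralizer_iff.2 fun y hy => Subtype.ext (F.Y_central hz hy)⟩, ?_⟩
      exact Subtype.ext (by rw [coe_pow, coe_one, pow_two]; exact hz.1.2.2)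
    exact hxz (congrArg Subtype.val (mem_centralizer_iff.1 (hc (show (⟨x, hHL hx⟩ : L) ∈ P' from hx)) _ hzm)).symm

variable (F)

theorem small_centre_false {v : G} (hv : v ∈ F.V) (hvU : v ∉ zpowers D.inv2) (h4 : Nat.card F.Y ≤ 4) : False := by
  classical
  haveI : Fact (Nat.Prime 2) := ⟨Nat.prime_two⟩
  have hbig : ¬ F.P ≤ zpowers D.inv2 := fun h => hvU (h hv.1)
  by_cases hall : ∀ z ∈ F.Y, z ≠ 1 → ∃ n ∈ normalizer (F.S : Set G), n ∈ normalizer (F.P : Set G) ∧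
      n * D.inv2 * n⁻¹ = z
  · exact F.normal_false hv hvU hall
  push Not at hall
  obtain ⟨z, hz, hz1, hzn⟩ := hall
  have hzu : z ≠ D.inv2 := fun h => hzn 1 (one_mem _) (one_mem _) (by rw [h]; group)
  obtain ⟨g, hgS, hgz⟩ := F.exists_norm_conj hz hz1
  have hgP : g ∉ normalizer (F.P : Set G) := fun h => hzn g hgS h hgz
  have hgu : g * D.inv2 * g⁻¹ ≠ D.inv2 := by rw [hgz]; exact hzu
  have hzU : z ∉ zpowers D.inv2 := fun h => (D.mem_zu.1 h).elim hz1 hzu
  set c := (MulAut.conj g).toMonoidHom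
  have hs1 := F.side_H1 hbig hz hzU
  have hs2 := hs1.conj hbig hgS
  set H2 := F.H1.map c with hH2
  set L := F.H1 ⊔ H2 with hL
  have hw2 : g * D.el3 * g⁻¹ ∈ H2 := ⟨D.el3, F.w_H1, rfl⟩
  by_cases hcore : ∃ R : Subgroup G, R ≠ ⊥ ∧ R ≤ F.S ∧ L ≤ normalizer (R : Set G)
  · obtain ⟨R, hR1, hRS, hLn⟩ := hcore
    have hSn : F.S ≤ normalizer (R : Set G) := hs1.hSH.trans (le_sup_left.trans hLn)
    have hwn : D.el3 ∈ normalizer (R : Set G) := hLn (mem_sup_left F.w_H1)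
    have hgn : g * D.el3 * g⁻¹ ∈ normalizer (R : Set G) := hLn (mem_sup_right hw2)
    set R' := R.map (MulAut.conj g⁻¹).toMonoidHom with hR'
    have hmem' : ∀ {x : G}, x ∈ R' ↔ g * x * g⁻¹ ∈ R := fun {x} => by
      rw [hR', mem_map_equiv]; simp
    have hR'S : R' ≤ F.S := fun x hx => (mem_normalizer_iff.1 hgS x).2 (hRS (hmem'.1 hx))
    have hnorm' : ∀ {y : G}, g * y * g⁻¹ ∈ normalizer (R : Set G) → y ∈ normalizer (R' : Set G) := fun {y} hy =>
      mem_normalizer_iff.2 fun x => by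
        rw [hmem', hmem', show g * (y * x * y⁻¹) * g⁻¹ = g * y * g⁻¹ * (g * x * g⁻¹) * (g * y * g⁻¹)⁻¹ by group]
        exact mem_normalizer_iff.1 hy _
    by_cases hu : D.inv2 ∈ R
    · exact F.core_u_false hRS hu hSn hwn hgS hgn hgP hgu
    by_cases hu' : g * D.inv2 * g⁻¹ ∈ R
    · refine F.core_u_false (R := R') (g := g⁻¹) hR'S (hmem'.2 hu')
        (fun s hs => hnorm' (hSn ((mem_normalizer_iff.1 hgS s).1 hs))) (hnorm' hgn) (inv_mem hgS)
        (hnorm' (by rw [show g * (g⁻¹ * D.el3 * g⁻¹⁻¹) * g⁻¹ = D.el3 by group]; exact hwn))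
        (fun h => hgP (by simpa using inv_mem h)) fun h => hgu ?_
      conv_lhs => rw [← h]
      group
    obtain ⟨d, hdR, hd1, hdc⟩ := meet_step F.isPGroup_S (bot_le (a := F.S)) hRS
      (fun x _ => mem_normalizer_iff.2 fun y => by simp) hSn (fun h => hR1 (le_bot_iff.1 h))
    obtain ⟨z0, hz0R, hz0Y, hz01⟩ : ∃ z0 ∈ R, z0 ∈ F.Y ∧ z0 ≠ 1 := by
      obtain ⟨k, hk⟩ := IsPGroup.iff_orderOf.1 F.isPGroup_S ⟨d, hRS hdR⟩
      rw [Subgroup.orderOf_mk] at hk
      have hk0 : k ≠ 0 := by rintro rfl; exact hd1 (mem_bot.2 (orderOf_eq_one_iff.1 (by rw [hk, pow_zero])))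
      obtain ⟨k', rfl⟩ := Nat.exists_eq_succ_of_ne_zero hk0
      refine ⟨d ^ 2 ^ k', pow_mem hdR _, F.central_Y hbig (pow_mem (hRS hdR) _) (fun x hx => ?_) ?_, fun h => ?_⟩
      · exact ((show Commute x d from mul_inv_eq_iff_eq_mul.1 (mul_inv_eq_one.1 (mem_bot.1 (hdc x hx)))).pow_right _).eq
      · rw [← pow_add, ← two_mul, ← pow_succ', ← hk, pow_orderOf_eq_one]
      · have h' := orderOf_dvd_of_pow_eq_one h
        rw [hk] at h'
        have := Nat.le_of_dvd (by positivity) h'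
        have : 2 ^ k' < 2 ^ (k' + 1) := Nat.pow_lt_pow_right one_lt_two (Nat.lt_succ_self k')
        omega
    have hz0u : z0 ≠ D.inv2 := fun h => hu (h ▸ hz0R)
    have hfold : ∀ (T : Subgroup G) (y : G), D.inv2 ∉ T → D.el3 ∈ normalizer (T : Set G) → y ∈ T → y ∈ F.Y →
        y = F.fold (D.el3 * y * D.el3⁻¹) := by
      intro T y hT hwT hy hyY
      refine F.eq_fold hyY ?_
      rcases D.mem_zu.1 (F.triple_mem hyY.1) with e | e
      · exact e
      · refine absurd ?_ hT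
        rw [← e]
        refine mul_mem (mul_mem hy ((mem_normalizer_iff.1 hwT y).1 hy)) ?_
        simpa using (mem_normalizer_iff.1 (inv_mem hwT) y).1 hy
    set z1 := g⁻¹ * z0 * g with hz1def
    have hz1Y : z1 ∈ F.Y := by simpa using F.norm_Y hbig (inv_mem hgS) hz0Y
    have hz1R : z1 ∈ R' := hmem'.2 (by rw [show g * z1 * g⁻¹ = z0 by rw [hz1def]; group]; exact hz0R)
    have e0 := hfold R z0 hu hwn hz0R hz0Y
    have e1 := hfold R' z1 (fun h => hu' (hmem'.1 h)) (hnorm' hgn) hz1R hz1Y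
    have hz11 : z1 ≠ 1 := fun h => hz01 (by
      rw [show z0 = g * z1 * g⁻¹ by rw [hz1def]; group, h]; group)
    have heq : z1 = z0 := by
      rw [e1, e0]
      refine F.fold_unique h4 (F.conj_V F.w_norm hz1Y.1) (F.conj_V F.w_norm hz0Y.1) ?_ ?_
      · rw [← e1]; exact hz11
      · rw [← e0]; exact hz01
    refine F.fix_false hbig h4 hgS hgu hz0Y hz01 hz0u ?_
    calc g * z0 * g⁻¹ = g * z1 * g⁻¹ := by rw [heq]
      _ = z0 := by rw [hz1def]; group
  -- no common normal subgroup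
  push Not at hcore
  have hQne : F.P.map c ≠ F.P := fun h => hgP (mem_normalizer_iff.2 fun x => by
    conv_rhs => rw [← h, mem_map_equiv]
    simp [mul_assoc])
  have hmeet : F.S = F.H1 ⊓ H2 := by
    refine eq_of_le_of_card_ge (le_inf hs1.hSH hs2.hSH) ?_
    obtain ⟨q, hq⟩ := card_dvd_of_le (le_inf hs1.hSH hs2.hSH : F.S ≤ F.H1 ⊓ H2)
    have hd := card_dvd_of_le (inf_le_left : F.H1 ⊓ H2 ≤ F.H1)
    rw [hq, F.card_H1, mul_comm 3] at hd
    rcases (Nat.dvd_prime Nat.prime_three).1 (Nat.dvd_of_mul_dvd_mul_left Nat.card_pos hd) with rfl | rfl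
    · rw [hq, mul_one]
    · refine absurd ?_ hQne
      have h12 : F.H1 = H2 := by
        have e1 : F.H1 ⊓ H2 = F.H1 := eq_of_le_of_card_ge inf_le_left (by rw [hq, F.card_H1, mul_comm])
        refine eq_of_le_of_card_ge (inf_eq_left.1 e1) ?_
        rw [hs2.hcard, F.card_H1]
      rw [← pCoreOf_eq hs2.hQH hs2.hn hs2.h2 hs2.hmax, ← pCoreOf_eq hs1.hQH hs1.hn hs1.h2 hs1.hmax, h12]
  set T := F.S.subgroupOf L
  obtain ⟨a1, b1, c1, d1, k1⟩ := hs1.sub (le_sup_left : F.H1 ≤ L)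
  obtain ⟨a2, b2, c2, d2, k2⟩ := hs2.sub (le_sup_right : H2 ≤ L)
  have hres := S2858.result (F.H1.subgroupOf L) (H2.subgroupOf L)
    (by rw [← subgroupOf_sup le_sup_left le_sup_right, subgroupOf_self]) T
    (by
      ext x
      show (x : G) ∈ F.S ↔ (x : G) ∈ F.H1 ⊓ H2
      rw [← hmeet])
    (by rintro P (rfl | rfl) <;> assumption)
    (by rintro P (rfl | rfl) <;> assumption)
    (fun N hN hNT => by
      by_contra hne
      refine hcore (N.map L.subtype) (fun h => hne ((map_eq_bot_iff_of_injective _ L.subtype_injective).1 h))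
        (fun x hx => by obtain ⟨y, hy, rfl⟩ := hx; exact hNT hy) ?_
      refine (normal_subgroupOf_iff_le_normalizer (map_subtype_le _)).1 ?_
      rw [subgroupOf, comap_map_eq_self_of_injective L.subtype_injective]
      exact hN)
    (by rintro P (rfl | rfl) <;> assumption)
    (by rintro P (rfl | rfl) <;> assumption)
  have hY4 : Nat.card F.Y = 4 := le_antisymm h4 (F.four_le_Y hv hvU)
  have hV8 : Nat.card F.V = 8 := by have := F.card_sq; rw [hY4] at this; omega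
  have hP8 : Nat.card F.P ≤ 8 := by
    have h48 : Nat.card (F.H1.subgroupOf L) ≤ 48 := by
      rcases hres with ⟨⟨e⟩, -⟩ | ⟨⟨e⟩, -⟩
      · rw [Nat.card_congr e.toEquiv, Nat.card_perm, Nat.card_fin]; decide
      · rw [Nat.card_congr e.toEquiv, Nat.card_prod, Nat.card_congr Multiplicative.toAdd, Nat.card_zmod,
          Nat.card_perm, Nat.card_fin]
        decide
    rw [k1, F.card_H1, F.card_S] at h48
    omega
  have hPV : F.V = F.P := eq_of_le_of_card_ge F.V_le_P (hV8 ▸ hP8)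
  have hσ : ∀ {x : G}, x ∈ F.V → F.a⁻¹ * x * F.a = F.a * x * F.a⁻¹ := fun {x} hx => by
    have h := F.asq_comm hx.1
    calc F.a⁻¹ * x * F.a = F.a⁻¹ * (x * (F.a * F.a)) * F.a⁻¹ := by group
      _ = F.a * x * F.a⁻¹ := by rw [← h.eq]; group
  have hcomm : ∀ {x y : G}, x ∈ F.V → y ∈ F.V → Commute x y := fun hx hy => hy.2.1 _ hx.1
  have himage : ∀ x ∈ F.S, ∀ y ∈ F.S, ∃ r ∈ F.V, x * y * x⁻¹ * y⁻¹ = F.fold r := by
    intro x hx y hy
    have hi : ∀ {r : G}, r ∈ F.V → r⁻¹ = r := fun hr => inv_eq_of_mul_eq_one_right hr.2.2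
    by_cases hxP : x ∈ F.P <;> by_cases hyP : y ∈ F.P
    · refine ⟨1, one_mem _, ?_⟩
      rw [← hPV] at hxP hyP
      rw [(hcomm hxP hyP).eq]; simp [fold]
    · obtain ⟨q, hq, rfl⟩ := F.S_coset hy hyP
      rw [← hPV] at hxP hq
      refine ⟨x, hxP, ?_⟩
      have h1 : F.a⁻¹ * x * F.a ∈ F.V := hσ hxP ▸ F.conj_V F.a_norm hxP
      calc x * (q * F.a⁻¹) * x⁻¹ * (q * F.a⁻¹)⁻¹ = x * (q * (F.a⁻¹ * x⁻¹ * F.a) * q⁻¹) := by group
        _ = x * (q * (F.a⁻¹ * x * F.a) * q⁻¹) := by rw [hi hxP]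
        _ = F.fold x := by rw [(hcomm hq h1).eq, mul_inv_cancel_right, hσ hxP]; rfl
    · obtain ⟨p, hp, rfl⟩ := F.S_coset hx hxP
      rw [← hPV] at hp hyP
      refine ⟨y, hyP, ?_⟩
      have h1 : F.a⁻¹ * y * F.a ∈ F.V := hσ hyP ▸ F.conj_V F.a_norm hyP
      calc p * F.a⁻¹ * y * (p * F.a⁻¹)⁻¹ * y⁻¹ = p * (F.a⁻¹ * y * F.a) * p⁻¹ * y⁻¹ := by group
        _ = F.fold y := by
          rw [(hcomm hp h1).eq, mul_inv_cancel_right, hi hyP, (hcomm h1 hyP).eq, hσ hyP]; rfl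
    · obtain ⟨p, hp, rfl⟩ := F.S_coset hx hxP
      obtain ⟨q, hq, rfl⟩ := F.S_coset hy hyP
      rw [← hPV] at hp hq
      refine ⟨p * q, mul_mem hp hq, ?_⟩
      have hqp : q * p ∈ F.V := mul_mem hq hp
      calc p * F.a⁻¹ * (q * F.a⁻¹) * (p * F.a⁻¹)⁻¹ * (q * F.a⁻¹)⁻¹
          = p * (F.a⁻¹ * (q * p⁻¹) * F.a) * q⁻¹ := by group
        _ = p * ((F.a * (q * p) * F.a⁻¹) * q) := by rw [hi hp, hi hq, hσ hqp, mul_assoc]
        _ = p * (q * (F.a * (q * p) * F.a⁻¹)) := by rw [(hcomm (F.conj_V F.a_norm hqp) hq).eq]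
        _ = F.fold (p * q) := by rw [(hcomm hq hp).eq, ← mul_assoc]; rfl
  obtain ⟨r, hr, hr1⟩ := F.fold_exists hv hvU
  have hz0 : F.fold r = r * F.a * r⁻¹ * F.a⁻¹ := by
    rw [inv_eq_of_mul_eq_one_right hr.2.2]
    show r * (F.a * r * F.a⁻¹) = _
    group
  have hrS : r ∈ F.S := F.P_le_S hr.1
  obtain ⟨r', hr', he⟩ := himage (g * r * g⁻¹) ((mem_normalizer_iff.1 hgS r).1 hrS) (g * F.a * g⁻¹)
    ((mem_normalizer_iff.1 hgS _).1 F.a_S)
  have he' : g * F.fold r * g⁻¹ = F.fold r' := by rw [← he, hz0]; group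
  have hne' : F.fold r' ≠ 1 := fun h => hr1 (conj_eq_one_iff.1 (he'.trans h))
  exact F.fix_false hbig h4 hgS hgu (F.fold_mem_Y hr) hr1 (F.fold_ne hr) (he'.trans (F.fold_unique h4 hr' hr hne' hr1))

/-- The centre of the two-part has a single involution. -/
theorem centre_one {v : G} (hv : v ∈ F.V) : v ∈ zpowers D.inv2 := by
  by_contra hvU
  by_cases h8 : 8 ≤ Nat.card F.Y
  · exact F.big_centre_false hv hvU h8
  · refine F.small_centre_false hv hvU ?_
    haveI : Fact (Nat.Prime 2) := ⟨Nat.prime_two⟩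
    obtain ⟨n, hn⟩ := IsPGroup.iff_card.1 (F.isPGroup.to_le (show F.Y ≤ F.P from fun z hz => F.V_le_P hz.1))
    rw [hn] at h8 ⊢
    have : n ≤ 2 := by
      by_contra h
      exact h8 ((show 2 ^ 3 = 8 from rfl) ▸ Nat.pow_le_pow_right two_pos (show 3 ≤ n by omega))
    exact (Nat.pow_le_pow_right two_pos this).trans (le_of_eq rfl)

end SymCtx

end Cfsg.Agent.Char.OrderSix
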