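import Cfsg.Agent.Lib.Char.OrderSix.SymExtra
import Cfsg.Agent.Lib.Char.OrderSix.SymAmalgam
import Cfsg.Agent.Lib.Spor.MTwelve.RealCent
import Cfsg.Agent.S3344

/-!
# Index six: an extraspecial two-part leads to two classes of involutions
-/

set_option autoImplicit false
set_option linter.unusedSectionVars false
set_option linter.style.haveILetI false
set_option maxRecDepth 100000

open Cfsg Subgroup
open scoped Pointwise

namespace Cfsg.Agent.Char.OrderSix

universe u
variable {G : Type u} [Group G] [Finite G]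

/-- Conjugacy of involutions passes to an isomorphic group. -/
theorem one_class_iso {H : Type*} [Group H] (hone : ∀ x y : G, orderOf x = 2 → orderOf y = 2 → IsConj x y)
    (f : G ≃* H) (a b : H) (ha : orderOf a = 2) (hb : orderOf b = 2) : IsConj a b := by
  have h := f.toMonoidHom.map_isConj (hone (f.symm a) (f.symm b)
    (by rw [← ha]; exact orderOf_injective f.symm.toMonoidHom f.symm.injective a)
    (by rw [← hb]; exact orderOf_injective f.symm.toMonoidHom f.symm.injective b))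
  simpa using h

/-- two involutions of different support in the alternating group -/
theorem alt_two_classes {n : ℕ} (c d : Equiv.Perm (Fin n)) (hc : Equiv.Perm.sign c = 1) (hd : Equiv.Perm.sign d = 1)
    (hc2 : c * c = 1 ∧ c ≠ 1) (hd2 : d * d = 1 ∧ d ≠ 1) (hne : c.support.card ≠ d.support.card) :
    ¬ ∀ a b : alternatingGroup (Fin n), orderOf a = 2 → orderOf b = 2 → IsConj a b := by
  intro h
  have hcm : c ∈ alternatingGroup (Fin n) := Equiv.Perm.mem_alternatingGroup.2 hc
  have hdm : d ∈ alternatingGroup (Fin n) := Equiv.Perm.mem_alternatingGroup.2 hd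
  obtain ⟨g, hg⟩ := isConj_iff.1 (h ⟨c, hcm⟩ ⟨d, hdm⟩
    (by rw [Subgroup.orderOf_mk]; exact orderOf_eq_prime (by rw [pow_two]; exact hc2.1) hc2.2)
    (by rw [Subgroup.orderOf_mk]; exact orderOf_eq_prime (by rw [pow_two]; exact hd2.1) hd2.2))
  have hg' : (g : Equiv.Perm (Fin n)) * c * (g : Equiv.Perm (Fin n))⁻¹ = d := congrArg Subtype.val hg
  have h1 := congrArg Multiset.sum (Equiv.Perm.cycleType_conj (σ := c) (τ := (g : Equiv.Perm (Fin n))))
  rw [hg', Equiv.Perm.sum_cycleType, Equiv.Perm.sum_cycleType] at h1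
  exact hne h1.symm

/-- two classes of involutions in the group of degree twelve -/
theorem twelve_two_classes : ¬ ∀ a b : ↥Spor.M12, orderOf a = 2 → orderOf b = 2 → IsConj a b := by
  intro h
  have hz : MTwelve.C0.z0 * MTwelve.C0.z0 = 1 ∧ MTwelve.C0.z0 ≠ 1 := by decide +kernel
  obtain ⟨x, hx2, hx1, hfix⟩ : ∃ x : MTwelve.C0, x * x = 1 ∧ x ≠ 1 ∧ ∀ p, MTwelve.C0.img x p ≠ p := by
    have hex : ∃ i : Fin 192, MTwelve.C0.el i.val * MTwelve.C0.el i.val = 1 ∧ MTwelve.C0.el i.val ≠ 1 ∧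
        ∀ p, MTwelve.C0.img (MTwelve.C0.el i.val) p ≠ p := by decide +kernel
    obtain ⟨i, hi⟩ := hex
    exact ⟨_, hi⟩
  have ho : ∀ z : MTwelve.C0, z * z = 1 → z ≠ 1 → orderOf (MTwelve.embHom z) = 2 := fun z h2 h1 => by
    rw [orderOf_injective _ MTwelve.embHom_injective]
    exact orderOf_eq_prime (by rw [pow_two]; exact h2) h1
  obtain ⟨g, hg⟩ := isConj_iff.1 (h _ _ (ho _ hz.1 hz.2) (ho x hx2 hx1))
  have hgd : ((g : ↥Spor.M12) : Equiv.Perm GolayPt) • Spor.squareDodecad = Spor.squareDodecad := g.2.2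
  have hmem : ((g : ↥Spor.M12) : Equiv.Perm GolayPt) (MTwelve.bpt 0) ∈ Finset.univ.image MTwelve.bpt := by
    rw [MTwelve.bpt_image, ← hgd, ← Equiv.Perm.smul_def]
    exact Finset.smul_mem_smul_finset (MTwelve.bpt_image ▸ Finset.mem_image_of_mem _ (Finset.mem_univ _))
  obtain ⟨j, -, hj⟩ := Finset.mem_image.1 hmem
  have hg' : g * MTwelve.embHom MTwelve.C0.z0 = MTwelve.embHom x * g := mul_inv_eq_iff_eq_mul.1 hg
  have := congrArg (fun k : ↥Spor.M12 => (k : Equiv.Perm GolayPt) (MTwelve.bpt 0)) hg'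
  simp only [Subgroup.coe_mul, Equiv.Perm.mul_apply, MTwelve.embHom, MonoidHom.mk'_apply, MTwelve.emb_bpt,
    (MTwelve.z0_fix 0).2 (by decide), ← hj] at this
  exact hfix j (MTwelve.bpt_injective this.symm)

variable [IsSimpleGroup G]

namespace LineCtx

variable {D : Ctx G} (F : LineCtx D)

include F in
/-- No line is fixed by an inverting element. -/
theorem line_false : False := by
  classical
  haveI : Fact (Nat.Prime 2) := ⟨Nat.prime_two⟩
  haveI : Fact (Nat.Prime 3) := ⟨Nat.prime_three⟩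
  have h32 := F.thirty_two
  have hcC : Nat.card D.C = 6 * Nat.card F.P := by rw [F.hidx, F.hcard, F.W_bot, card_bot, mul_one]
  obtain ⟨K, hPK, hwK, haK, hKn, hKc, ⟨f⟩, hKmax⟩ := three_extension (g := D.el3) (s := F.a) F.isPGroup F.w_norm
    F.a_norm (by rw [show (3 : ℕ) = orderOf D.el3 from D.w_ord.symm, pow_orderOf_eq_one]; exact one_mem _)
    (fun h => F.three_P (by
      have := orderOf_dvd_natCard (⟨_, h⟩ : F.P)
      rwa [Subgroup.orderOf_mk, D.w_ord] at this))
    (F.zu_le F.toSymCtx.asq) F.toSymCtx.a_notP (by rw [F.hinv, inv_mul_cancel]; exact one_mem _)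
  have hK1 : F.toSymCtx.H1 = K := eq_of_le_of_card_ge
    (sup_le (sup_le hPK (zpowers_le.2 hwK)) (zpowers_le.2 haK))
    (by show Nat.card K ≤ Nat.card F.toSymCtx.H1; rw [hKc, F.toSymCtx.card_H1, F.toSymCtx.card_S]; omega)
  have hKC : K = D.C := eq_of_le_of_card_ge (hK1 ▸ F.toSymCtx.H1_le_C) (by rw [hcC, hKc])
  subst hKC
  have hQ : F.P = (pCore 2 D.C).map D.C.subtype := (pCoreOf_eq hPK hKn F.isPGroup hKmax).symm
  have hwD : orderOf (⟨D.el3, D.w_C⟩ : D.C) = 3 := by rw [Subgroup.orderOf_mk, D.w_ord]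
  set X : Sylow 3 D.C := Sylow.ofCard (zpowers (⟨D.el3, D.w_C⟩ : D.C)) (by
    rw [Nat.card_zpowers, hwD, hcC, h32, show 6 * 32 = 3 * 64 from rfl, Nat.factorization_mul (by norm_num) (by norm_num),
      Finsupp.add_apply, Nat.Prime.factorization_self Nat.prime_three,
      Nat.factorization_eq_zero_of_not_dvd (by norm_num : ¬ 3 ∣ 64)]
    rfl)
  have hX : ((X : Subgroup D.C).map D.C.subtype : Subgroup G) = zpowers D.el3 := by
    show (zpowers (⟨D.el3, D.w_C⟩ : D.C)).map D.C.subtype = _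
    rw [MonoidHom.map_zpowers]
    rfl
  have hCQ : F.P ⊓ centralizer (((X : Subgroup D.C).map D.C.subtype : Subgroup G) : Set G) = zpowers D.inv2 := by
    rw [hX]
    refine le_antisymm (fun z hz => ?_) (zpowers_le.2 ⟨F.u_P, mem_centralizer_iff.2 fun v hv => ?_⟩)
    · exact D.mem_zu.2 (F.fix_P hz.1 (mem_centralizer_iff.1 hz.2 D.el3 (mem_zpowers _)).symm)
    · obtain ⟨i, rfl⟩ := mem_zpowers_iff.1 hv
      exact ((show Commute D.el3 D.inv2 from D.comm_uw.symm).zpow_left i).eq
  obtain ⟨g, hg⟩ := D.conj_u (orderOf_eq_prime (by rw [pow_two]; exact F.he2) F.e_ne.1)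
  rcases S3344.result D.inv2 D.u_ord D.C rfl F.P hQ F.extraspecial h32 f X hCQ
      ⟨g, hg ▸ F.e_P, hg ▸ F.e_ne.2⟩ with ⟨N, hN, -, -, hN8, -⟩ | ⟨⟨i⟩⟩ | ⟨⟨i⟩⟩ | hM
  · rcases hN.eq_bot_or_eq_top with rfl | rfl
    · rw [card_bot] at hN8; omega
    · rw [card_top] at hN8
      have := card_le_card_group D.C
      rw [hcC, h32, hN8] at this
      omega
  · exact alt_two_classes (n := 8) (Equiv.swap 0 1 * Equiv.swap 2 3)
      (Equiv.swap 0 1 * Equiv.swap 2 3 * (Equiv.swap 4 5 * Equiv.swap 6 7)) (by decide +kernel) (by decide +kernel)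
      (by decide +kernel) (by decide +kernel) (by decide +kernel) fun a b ha hb => one_class_iso D.hone i a b ha hb
  · exact alt_two_classes (n := 9) (Equiv.swap 0 1 * Equiv.swap 2 3)
      (Equiv.swap 0 1 * Equiv.swap 2 3 * (Equiv.swap 4 5 * Equiv.swap 6 7)) (by decide +kernel) (by decide +kernel)
      (by decide +kernel) (by decide +kernel) (by decide +kernel) fun a b ha hb => one_class_iso D.hone i a b ha hb
  · obtain ⟨i⟩ : Nonempty (G ≃* Spor.M12) := hM
    exact twelve_two_classes fun a b ha hb => one_class_iso D.hone i a b ha hb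

end LineCtx

namespace SymCtx

variable {D : Ctx G} (F : SymCtx D)

/-- The two-part has no second involution central modulo the first. -/
theorem no_line {e₀ : G} (heP : e₀ ∈ F.P) (he2 : e₀ * e₀ = 1) (heU : e₀ ∉ zpowers D.inv2)
    (hec : ∀ x ∈ F.P, x * e₀ * x⁻¹ * e₀⁻¹ ∈ zpowers D.inv2) : False := by
  obtain ⟨F', hP, -, e, he, hee, heU', hae⟩ := F.exists_fixed heP he2 heU hec
  exact LineCtx.line_false
    { toSymCtx := F', e := e, heZ := ⟨hP ▸ he.1, fun x hx => he.2 x (hP ▸ hx)⟩, he2 := hee, heU := heU', hae := hae,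
      hV := fun v hv => F'.centre_one hv }

end SymCtx

end Cfsg.Agent.Char.OrderSix
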