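import Cfsg.Agent.Lib.Char.OrderSix.ThreeB
import Cfsg.Agent.S3189

/-!
# The shape of index three does not occur
-/

set_option autoImplicit false
set_option linter.unusedSectionVars false
set_option linter.style.haveILetI false

open Cfsg Subgroup

namespace Cfsg.Agent.Char.OrderSix

universe u
variable {G : Type u} [Group G] [Finite G] [IsSimpleGroup G]

namespace ThreeCtx

variable {D : Ctx G} (F : ThreeCtx D)

include F in
theorem solvable_C (hnil : Group.IsNilpotent F.N) : Group.IsSolvable D.C := by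
  set N' := F.N.subgroupOf D.C
  haveI : N'.Normal := (normal_subgroupOf_iff_le_normalizer F.hNC).2 F.hnorm
  have hq : Nat.card (D.C ⧸ N') = 3 := by
    have h := N'.card_mul_index
    rw [Nat.card_congr (subgroupOfEquivOfLe F.hNC).toEquiv, F.hidx, mul_comm 3] at h
    exact Nat.eq_of_mul_eq_mul_left Nat.card_pos h
  haveI : Fact (Nat.Prime 3) := ⟨Nat.prime_three⟩
  haveI : IsCyclic (D.C ⧸ N') := isCyclic_of_prime_card hq
  haveI := hnil
  haveI : Group.IsSolvable (D.C ⧸ N') := Group.isSolvable_of_comm (IsCyclic.commGroup (α := D.C ⧸ N')).mul_comm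
  haveI : Group.IsSolvable N' :=
    Group.isSolvable_of_isSolvable_injective (f := (subgroupOfEquivOfLe F.hNC).toMonoidHom) (subgroupOfEquivOfLe F.hNC).injective
  exact Group.isSolvable_of_ker_le_range N'.subtype (QuotientGroup.mk' N') (by simp)

include F in
/-- The shape of index three does not occur. -/
theorem three_case_false (hnil : Group.IsNilpotent F.N) (hna : ¬ IsMulCommutative G) : False := by
  classical
  haveI : Fact (Nat.Prime 2) := ⟨Nat.prime_two⟩
  obtain ⟨S, huS, hSC⟩ := D.exists_sylow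
  have hSP : (S : Subgroup G) = F.P :=
    (S.3 F.isPGroup (F.two_le_P S.2 hSC)).symm
  obtain ⟨e₀, he₀, he₀o, he₀u⟩ := Ctx.exists_other hna S D.inv2
  rw [hSP] at he₀
  have he₀2 : e₀ * e₀ = 1 := by rw [← pow_two, ← he₀o]; exact pow_orderOf_eq_one _
  have he₀U : e₀ ∉ zpowers D.inv2 := fun h => by
    rcases D.mem_zu.1 h with e | e
    · rw [e, orderOf_one] at he₀o; omega
    · exact he₀u e
  by_cases hV : ∀ v ∈ F.P, (∀ x ∈ F.P, x * v = v * x) → v * v = 1 → v ∈ zpowers D.inv2
  · rcases F.bottom with h | ⟨-, h⟩ | ⟨e, heP, he2, heU, hec⟩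
    · exact he₀U (h ▸ he₀)
    · exact he₀U (h e₀ he₀ he₀2)
    · exact F.center_small_false hV heP he2 heU hec
  push Not at hV
  obtain ⟨v, hvP, hvc, hv2, hvU⟩ := hV
  obtain ⟨h8, hsq, -⟩ := F.elementary_eight hvP hvc hv2 hvU
  have hel : Cfsg.IsElementaryAbelian 2 (S : Subgroup G) := by
    rw [hSP]
    refine ⟨⟨⟨fun a b => Subtype.ext ?_⟩⟩, fun a ha => by rw [pow_two]; exact hsq a ha⟩
    have ha := inv_eq_of_mul_eq_one_right (hsq _ a.2)
    have hb := inv_eq_of_mul_eq_one_right (hsq _ b.2)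
    have hab := inv_eq_of_mul_eq_one_right (hsq _ (mul_mem a.2 b.2))
    show (a : G) * b = b * a
    rw [← hab, mul_inv_rev, ha, hb]
  have hsol : ∀ z : G, orderOf z = 2 → Group.IsSolvable (centralizer ({z} : Set G)) := by
    intro z hz
    obtain ⟨g, rfl⟩ := D.conj_u hz
    haveI := F.solvable_C hnil
    let f : centralizer ({g * D.inv2 * g⁻¹} : Set G) →* D.C :=
      ((MulAut.conj g⁻¹).toMonoidHom.comp (centralizer ({g * D.inv2 * g⁻¹} : Set G)).subtype).codRestrict D.C fun x => by
        rw [D.mem_C]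
        have h := congrArg (fun v => g⁻¹ * v * g) (mem_centralizer_singleton_iff.1 x.2)
        simpa [mul_assoc] using h
    exact Group.isSolvable_of_isSolvable_injective (f := f) fun a b h => Subtype.ext ((MulAut.conj g⁻¹).injective (congrArg Subtype.val h))
  have h7 := S3189.result hna S hel (by rw [hSP, h8]) hsol
  rw [hSP] at h7
  set M := normalizer (F.P : Set G)
  set K := (centralizer (F.P : Set G)).subgroupOf M
  haveI : K.Normal := by
    refine ⟨fun x hx m => mem_centralizer_iff.2 fun p hp => ?_⟩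
    have hp' := (mem_normalizer_iff.1 (M.inv_mem m.2) p).1 hp
    have h := congrArg (fun t => (m : G) * t * (m : G)⁻¹) (mem_centralizer_iff.1 (mem_subgroupOf.1 hx) _ hp')
    simpa [mul_assoc] using h
  set w : M := ⟨D.el3, F.C_le_normalizer_P D.w_C⟩
  have hw1 : QuotientGroup.mk' K w = 1 := by
    refine orderOf_eq_one_iff.1 (Nat.eq_one_of_dvd_coprimes (by norm_num : Nat.Coprime 3 7) ?_ ?_)
    · refine (orderOf_map_dvd _ _).trans ?_
      rw [← orderOf_coe]; exact (D.w_ord).dvd
    · exact (show K.index = 7 from h7) ▸ orderOf_dvd_natCard _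
  have hwc := mem_centralizer_iff.1 (mem_subgroupOf.1 ((QuotientGroup.eq_one_iff (N := K) w).1 hw1)) v hvP
  exact hvU (F.three_fix D.w_C D.w_ord hvP hwc.symm)

end ThreeCtx

end Cfsg.Agent.Char.OrderSix
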