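import Cfsg.Agent.Lib.Char.OrderSix.Lifts
import Cfsg.Agent.Lib.Char.OrderSix.FiveShape
import Cfsg.Agent.Lib.Char.OrderSix.ThreeC
import Cfsg.Agent.Lib.Char.OrderSix.SymThirtyTwo
import Cfsg.Agent.Lib.Char.OrderSix.KleinEnd
import Cfsg.Agent.Lib.Char.OrderSix.QuatEnd

/-!
# An element of order six generating its centraliser: the five groups
-/

set_option autoImplicit false
set_option linter.unusedSectionVars false
set_option linter.style.haveILetI false

open Cfsg Subgroup

namespace Cfsg.Agent.Char.OrderSix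

universe u
variable {G : Type u} [Group G] [Finite G] [IsSimpleGroup G]

theorem Ctx.five_groups (D : Ctx G) (hna : ¬ IsMulCommutative G) :
    (∃ (F : Type) (_ : Field F) (_ : Fintype F), (Fintype.card F = 11 ∨ Fintype.card F = 13) ∧
        Nonempty (G ≃* Matrix.ProjectiveSpecialLinearGroup (Fin 2) F)) ∨
      (∃ (F : Type) (_ : Field F) (_ : Fintype F), Fintype.card F = 3 ∧
        Nonempty (G ≃* Matrix.ProjectiveSpecialLinearGroup (Fin 3) F)) ∨
      Cfsg.Spor.IsoM11 G ∨ Cfsg.Spor.IsoJ1 G := by
  classical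
  letI := Fintype.ofFinite G
  rcases D.trichotomy with h | h | h
  · obtain ⟨N, hNC, hnorm, hu, hnil, h3, hidx⟩ := h
    rcases hidx with h3' | ⟨h6, ha⟩
    · obtain ⟨F, rfl⟩ := exists_nilCtx D hNC hnorm hu hnil h3
      exact ((ThreeCtx.mk F h3').three_case_false hnil hna).elim
    · obtain ⟨F, rfl⟩ := exists_symCtx D hNC hnorm hu hnil h3 h6 ha
      rcases F.bottom with hP | ⟨h8, huniq⟩ | ⟨e, he, he2, heU, hec⟩
      · obtain ⟨K, -⟩ := exists_kleinCtx F hna hnil hP
        exact Or.inl (K.klein_case hna)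
      · let Q : QuatCtx D := { toSymCtx := F, hP8 := h8, huniq := huniq }
        rcases Q.quat_case hna with h | h
        · exact Or.inr (Or.inl h)
        · exact Or.inr (Or.inr (Or.inl h))
      · exact (F.no_line he he2 heU hec).elim
  · exact Or.inr (Or.inr (Or.inr (D.five_case hna h)))
  · exact (D.seven_false hna h).elim

end Cfsg.Agent.Char.OrderSix
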