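import Cfsg.Agent.Lib.Char.OrderSix.Cases
import Cfsg.Agent.Lib.Char.OrderSix.Tools
import Cfsg.Agent.Lib.Solv.Engel
import Cfsg.Agent.Lib.Solv.Parts
import Cfsg.Agent.Lib.Solv.UniqueSub
import Cfsg.Agent.Lib.Char.BrauerSuzuki

/-!
# A centraliser with a nilpotent normal subgroup of index three or six
-/

set_option autoImplicit false
set_option linter.unusedSectionVars false
set_option linter.style.haveILetI false

open Cfsg Subgroup
open scoped commutatorElement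

namespace Cfsg.Agent.Char.OrderSix

universe u
variable {G : Type u} [Group G] [Finite G]

/-- an invariant step in a group of two-power order -/
theorem meet_step {P K E : Subgroup G} (hP : IsPGroup 2 P) (hKP : K ≤ P) (hEP : E ≤ P)
    (hKn : P ≤ normalizer (K : Set G)) (hEn : P ≤ normalizer (E : Set G)) (hne : ¬ E ≤ K) :
    ∃ d ∈ E, d ∉ K ∧ ∀ x ∈ P, x * d * x⁻¹ * d⁻¹ ∈ K := by
  haveI : Fact (Nat.Prime 2) := ⟨Nat.prime_two⟩
  set K' := K.subgroupOf P with hK'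
  haveI hKnormal : K'.Normal := (normal_subgroupOf_iff_le_normalizer hKP).2 hKn
  haveI hEnormal : (E.subgroupOf P).Normal := (normal_subgroupOf_iff_le_normalizer hEP).2 hEn
  set π := QuotientGroup.mk' K'
  set M := (E.subgroupOf P).map π with hM
  haveI : M.Normal := hEnormal.map π (QuotientGroup.mk'_surjective K')
  have hQ : IsPGroup 2 (P ⧸ K') := hP.to_quotient K'
  obtain ⟨e, heE, heK⟩ := SetLike.not_le_iff_exists.1 hne
  have hMne : M ≠ ⊥ := fun h => by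
    have : π ⟨e, hEP heE⟩ ∈ M := ⟨_, mem_subgroupOf.2 heE, rfl⟩
    rw [h, mem_bot] at this
    exact heK (mem_subgroupOf.1 ((QuotientGroup.eq_one_iff (N := K') _).1 this))
  obtain ⟨k, hk⟩ := IsPGroup.iff_card.1 (hQ.to_subgroup M)
  have hk0 : k ≠ 0 := fun h0 => hMne (eq_bot_of_card_eq _ (by rw [hk, h0, pow_zero]))
  have hQ' : IsPGroup 2 (ConjAct (P ⧸ K')) := hQ.of_equiv ConjAct.toConjAct
  obtain ⟨b, hb, hb1⟩ := hQ'.exists_fixed_point_of_prime_dvd_card_of_fixed_point ↥M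
    (hk ▸ dvd_pow_self 2 hk0) (a := 1) (fun g => smul_one g)
  obtain ⟨d, hd, hdb⟩ := b.2
  refine ⟨d, mem_subgroupOf.1 hd, fun hdK => hb1 (Subtype.ext ?_), fun x hx => ?_⟩
  · show (1 : P ⧸ K') = b
    rw [← hdb]
    exact ((QuotientGroup.eq_one_iff d).2 hdK).symm
  · have h := congrArg Subtype.val (hb (ConjAct.toConjAct (π ⟨x, hx⟩)))
    change π ⟨x, hx⟩ * (b : P ⧸ K') * (π ⟨x, hx⟩)⁻¹ = b at h
    rw [← hdb, ← mul_inv_eq_one, ← map_inv, ← map_mul, ← map_mul, ← map_inv, ← map_mul] at h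
    exact mem_subgroupOf.1 ((QuotientGroup.eq_one_iff (N := K') _).1 h)

/-- The shape with a nilpotent normal subgroup, with its two parts. -/
structure NilCtx (D : Ctx G) where
  N : Subgroup G
  P : Subgroup G
  W : Subgroup G
  hNC : N ≤ D.C
  hnorm : D.C ≤ normalizer (N : Set G)
  hu : D.inv2 ∈ N
  h3 : ¬ 3 ∣ Nat.card N
  hP : ∀ x : G, x ∈ P ↔ x ∈ N ∧ ∃ k : ℕ, x ^ 2 ^ k = 1
  hW : ∀ x : G, x ∈ W ↔ x ∈ N ∧ Odd (orderOf x)
  hcomm : ∀ p ∈ P, ∀ q ∈ W, p * q = q * p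
  hcard : Nat.card N = Nat.card P * Nat.card W
  hodd : Odd (Nat.card W)

theorem exists_nilCtx (D : Ctx G) {N : Subgroup G} (hNC : N ≤ D.C) (hnorm : D.C ≤ normalizer (N : Set G))
    (hu : D.inv2 ∈ N) (hnil : Group.IsNilpotent N) (h3 : ¬ 3 ∣ Nat.card N) : ∃ F : NilCtx D, F.N = N := by
  classical
  haveI : Fact (Nat.Prime 2) := ⟨Nat.prime_two⟩
  haveI := hnil
  obtain ⟨S⟩ : Nonempty (Sylow 2 N) := inferInstance
  haveI hSn : (S : Subgroup N).Normal := by
    have h := (Group.isNilpotent_of_finite_tfae (G := N)).out 0 3 |>.1 hnil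
    exact h 2 ⟨Nat.prime_two⟩ S
  obtain ⟨K, hK⟩ := exists_right_complement'_of_coprime (N := (S : Subgroup N)) (S.card_coprime_index)
  have hKc : (S : Subgroup N).index = Nat.card K := hK.symm.index_eq_card
  have hKodd : Odd (Nat.card K) := by
    rw [Nat.odd_iff, ← Nat.two_dvd_ne_zero, ← hKc]
    exact S.not_dvd_index
  have hKo : ∀ k ∈ K, Odd (orderOf k) := fun k hk =>
    Odd.of_dvd_nat hKodd (by rw [← Subgroup.orderOf_mk k hk]; exact orderOf_dvd_natCard _)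
  have hSo : ∀ s ∈ (S : Subgroup N), ∃ k, orderOf s = 2 ^ k := fun s hs => by
    obtain ⟨k, hk⟩ := IsPGroup.iff_orderOf.1 S.2 ⟨s, hs⟩
    exact ⟨k, (orderOf_coe (⟨s, hs⟩ : (S : Subgroup N))).trans hk⟩
  have hcomm : ∀ s ∈ (S : Subgroup N), ∀ k ∈ K, Commute s k := fun s hs k hk => by
    obtain ⟨n, hn⟩ := hSo s hs
    exact Cfsg.Agent.Solv.commute_of_coprime_nilpotent hn (Nat.coprime_two_right.2 (hKo k hk))
  have hsplit : ∀ x : N, ∃ s ∈ (S : Subgroup N), ∃ k ∈ K, s * k = x := fun x => by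
    obtain ⟨⟨⟨s, hs⟩, ⟨k, hk⟩⟩, h⟩ := hK.2 x
    exact ⟨s, hs, k, hk, h⟩
  have hval : ∀ x : N, orderOf (x : G) = orderOf x := fun x => orderOf_coe x
  refine ⟨{ N := N, P := (S : Subgroup N).map N.subtype, W := K.map N.subtype, hNC := hNC, hnorm := hnorm,
            hu := hu, h3 := h3, hP := ?_, hW := ?_, hcomm := ?_, hcard := ?_, hodd := ?_ }, rfl⟩
  · intro x
    refine ⟨?_, fun ⟨hx, k, hk⟩ => ⟨⟨x, hx⟩, ?_, rfl⟩⟩
    · rintro ⟨s, hs, rfl⟩
      obtain ⟨k, hk⟩ := hSo s hs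
      exact ⟨s.2, k, by rw [← hk, ← hval]; exact pow_orderOf_eq_one (s : G)⟩
    · obtain ⟨s, hs, q, hq, hsq⟩ := hsplit ⟨x, hx⟩
      have h1 : s * q = ⟨x, hx⟩ := hsq
      have hpow : (s * q) ^ 2 ^ k = 1 := by rw [h1]; exact Subtype.ext hk
      rw [(hcomm s hs q hq).mul_pow] at hpow
      have hq1 : q ^ 2 ^ k ∈ (S : Subgroup N) ⊓ K :=
        ⟨by rw [eq_inv_of_mul_eq_one_right hpow]; exact (S : Subgroup N).inv_mem ((S : Subgroup N).pow_mem hs _), K.pow_mem hq _⟩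
      rw [hK.disjoint.eq_bot, mem_bot] at hq1
      have hq0 : q = 1 := by
        rw [← orderOf_eq_one_iff]
        exact Nat.eq_one_of_dvd_coprimes ((Nat.coprime_two_left.2 (hKo q hq)).pow_left k)
          (orderOf_dvd_of_pow_eq_one hq1) dvd_rfl
      rw [← h1, hq0, mul_one]; exact hs
  · intro x
    refine ⟨?_, fun ⟨hx, ho⟩ => ⟨⟨x, hx⟩, ?_, rfl⟩⟩
    · rintro ⟨q, hq, rfl⟩
      exact ⟨q.2, by rw [show orderOf (N.subtype q) = orderOf q from hval q]; exact hKo q hq⟩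
    · obtain ⟨s, hs, q, hq, hsq⟩ := hsplit ⟨x, hx⟩
      have h1 : s * q = ⟨x, hx⟩ := hsq
      set n := orderOf x
      have hpow : (s * q) ^ n = 1 := by rw [h1]; exact Subtype.ext (pow_orderOf_eq_one x)
      rw [(hcomm s hs q hq).mul_pow] at hpow
      have hs1 : s ^ n ∈ (S : Subgroup N) ⊓ K :=
        ⟨(S : Subgroup N).pow_mem hs _, by rw [eq_inv_of_mul_eq_one_left hpow]; exact K.inv_mem (K.pow_mem hq _)⟩
      rw [hK.disjoint.eq_bot, mem_bot] at hs1
      have hs0 : s = 1 := by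
        obtain ⟨k, hk⟩ := hSo s hs
        rw [← orderOf_eq_one_iff]
        exact Nat.eq_one_of_dvd_coprimes ((Nat.coprime_two_left.2 ho).pow_left k) (by rw [hk])
          (orderOf_dvd_of_pow_eq_one hs1)
      rw [← h1, hs0, one_mul]; exact hq
  · rintro _ ⟨s, hs, rfl⟩ _ ⟨q, hq, rfl⟩
    exact congrArg Subtype.val (hcomm s hs q hq).eq
  · rw [Nat.card_congr ((S : Subgroup N).equivMapOfInjective _ N.subtype_injective).toEquiv.symm,
      Nat.card_congr (K.equivMapOfInjective _ N.subtype_injective).toEquiv.symm, hK.card_mul]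
  · rw [Nat.card_congr (K.equivMapOfInjective _ N.subtype_injective).toEquiv.symm]; exact hKodd

namespace NilCtx

variable {D : Ctx G} (F : NilCtx D)

theorem P_le : F.P ≤ F.N := fun x hx => ((F.hP x).1 hx).1

theorem W_le : F.W ≤ F.N := fun x hx => ((F.hW x).1 hx).1

theorem P_le_C : F.P ≤ D.C := F.P_le.trans F.hNC

theorem W_le_C : F.W ≤ D.C := F.W_le.trans F.hNC

theorem isPGroup : IsPGroup 2 F.P := fun x => by
  obtain ⟨-, k, hk⟩ := (F.hP x).1 x.2
  exact ⟨k, Subtype.ext hk⟩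

theorem u_P : D.inv2 ∈ F.P := (F.hP _).2 ⟨F.hu, 1, by rw [pow_one, pow_two, D.uu]⟩

theorem three_P : ¬ 3 ∣ Nat.card F.P := fun h => F.h3 (h.trans (card_dvd_of_le F.P_le))

theorem three_W : ¬ 3 ∣ Nat.card F.W := fun h => F.h3 (h.trans (card_dvd_of_le F.W_le))

theorem conj_P {c x : G} (hc : c ∈ D.C) (hx : x ∈ F.P) : c * x * c⁻¹ ∈ F.P := by
  obtain ⟨hN, k, hk⟩ := (F.hP x).1 hx
  exact (F.hP _).2 ⟨(mem_normalizer_iff.1 (F.hnorm hc) x).1 hN, k, by rw [conj_pow, hk]; group⟩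

theorem conj_W {c x : G} (hc : c ∈ D.C) (hx : x ∈ F.W) : c * x * c⁻¹ ∈ F.W := by
  obtain ⟨hN, ho⟩ := (F.hW x).1 hx
  refine (F.hW _).2 ⟨(mem_normalizer_iff.1 (F.hnorm hc) x).1 hN, ?_⟩
  rw [show c * x * c⁻¹ = (MulAut.conj c).toMonoidHom x from rfl,
    orderOf_injective _ (MulAut.conj c).injective]
  exact ho

theorem C_le_normalizer_P : D.C ≤ normalizer (F.P : Set G) := fun c hc => mem_normalizer_iff.2 fun x =>
  ⟨fun hx => F.conj_P hc hx, fun hx => by simpa [mul_assoc] using F.conj_P (inv_mem hc) hx⟩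

theorem C_le_normalizer_W : D.C ≤ normalizer (F.W : Set G) := fun c hc => mem_normalizer_iff.2 fun x =>
  ⟨fun hx => F.conj_W hc hx, fun hx => by simpa [mul_assoc] using F.conj_W (inv_mem hc) hx⟩

theorem fix_P {x : G} (hx : x ∈ F.P) (hw : x * D.el3 = D.el3 * x) : x = 1 ∨ x = D.inv2 :=
  D.fix_two (F.P_le_C hx) hw ((F.hP x).1 hx).2

theorem fix_W {x : G} (hx : x ∈ F.W) (hw : x * D.el3 = D.el3 * x) : x = 1 := by
  have hz := D.cent_uw (D.mem_C.1 (F.W_le_C hx)) hw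
  have h6 : orderOf x ∣ 6 := D.ht ▸ orderOf_dvd_of_mem_zpowers hz
  have hc : (orderOf x).Coprime 6 := by
    rw [show (6 : ℕ) = 2 * 3 from rfl]
    refine Nat.Coprime.mul_right (Nat.coprime_two_right.2 ((F.hW x).1 hx).2) ?_
    refine ((Nat.Prime.coprime_iff_not_dvd Nat.prime_three).2 fun h => F.three_W ?_).symm
    exact h.trans (by rw [← Subgroup.orderOf_mk x hx]; exact orderOf_dvd_natCard _)
  exact orderOf_eq_one_iff.1 (Nat.eq_one_of_dvd_coprimes hc dvd_rfl h6)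

/-- fixed cosets inside the two-part -/
theorem fixed_quot_P {K : Subgroup G} (hKP : K ≤ F.P) (hu : D.inv2 ∈ K) (hwK : D.el3 ∈ normalizer (K : Set G))
    {x : G} (hx : x ∈ F.P) (h : x⁻¹ * (D.el3 * x * D.el3⁻¹) ∈ K) : x ∈ K :=
  fixed_quot (by rw [← D.w_ord]; exact pow_orderOf_eq_one _) F.three_P hKP (F.C_le_normalizer_P D.w_C) hwK
    (fun c hc hcw => by
      rcases F.fix_P hc hcw with e | e <;> rw [e]
      · exact one_mem _
      · exact hu) hx h

theorem zu_le : zpowers D.inv2 ≤ F.P := zpowers_le.2 F.u_P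

/-- The bottom of the two-part. -/
theorem bottom : F.P = zpowers D.inv2 ∨ (Nat.card F.P = 8 ∧ ∀ x ∈ F.P, x * x = 1 → x ∈ zpowers D.inv2) ∨
    ∃ e ∈ F.P, e * e = 1 ∧ e ∉ zpowers D.inv2 ∧ ∀ x ∈ F.P, x * e * x⁻¹ * e⁻¹ ∈ zpowers D.inv2 := by
  classical
  haveI : Fact (Nat.Prime 2) := ⟨Nat.prime_two⟩
  set U := zpowers D.inv2 with hU
  have hUc : ∀ z ∈ U, ∀ c ∈ D.C, c * z = z * c := fun z hz c hc => by
    rcases D.mem_zu.1 hz with rfl | rfl
    · simp
    · exact D.mem_C.1 hc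
  let Z : Subgroup G :=
    { carrier := {z | z ∈ F.P ∧ ∀ x ∈ F.P, x * z * x⁻¹ * z⁻¹ ∈ U}
      one_mem' := ⟨one_mem _, fun x _ => by simp⟩
      mul_mem' := fun {a b} ha hb => ⟨mul_mem ha.1 hb.1, fun x hx => by
        have e : x * (a * b) * x⁻¹ * (a * b)⁻¹ =
            (x * a * x⁻¹ * a⁻¹) * (a * (x * b * x⁻¹ * b⁻¹) * a⁻¹) := by group
        rw [e, hUc _ (hb.2 x hx) a (F.P_le_C ha.1), mul_inv_cancel_right]
        exact mul_mem (ha.2 x hx) (hb.2 x hx)⟩
      inv_mem' := fun {a} ha => ⟨inv_mem ha.1, fun x hx => by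
        have e : x * a⁻¹ * x⁻¹ * a⁻¹⁻¹ = a⁻¹ * (x * a * x⁻¹ * a⁻¹)⁻¹ * a := by group
        rw [e, hUc _ (inv_mem (ha.2 x hx)) a⁻¹ (inv_mem (F.P_le_C ha.1)), inv_mul_cancel_right]
        exact inv_mem (ha.2 x hx)⟩ }
  have hZP : Z ≤ F.P := fun z hz => hz.1
  by_cases hinv : ∃ e ∈ Z, e * e = 1 ∧ e ∉ U
  · obtain ⟨e, he, he2, heU⟩ := hinv
    exact Or.inr (Or.inr ⟨e, he.1, he2, heU, he.2⟩)
  push Not at hinv
  by_cases hPU : F.P ≤ U
  · exact Or.inl (le_antisymm hPU F.zu_le)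
  refine Or.inr (Or.inl ?_)
  obtain ⟨d0, hd0, hd0U, hd0c⟩ := meet_step F.isPGroup F.zu_le le_rfl
    (F.P_le_C.trans D.C_le_normalizer) le_normalizer hPU
  have hUZ : U ≤ Z := fun z hz => ⟨F.zu_le hz, fun x hx => by
    rw [hUc z hz x (F.P_le_C hx), mul_inv_cancel_right, mul_inv_cancel]; exact one_mem _⟩
  have hconjZ : ∀ c ∈ D.C, ∀ z ∈ Z, c * z * c⁻¹ ∈ Z := fun c hc z hz => ⟨F.conj_P hc hz.1, fun x hx => by
    have h := hz.2 _ (by simpa using F.conj_P (inv_mem hc) hx : c⁻¹ * x * c ∈ F.P)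
    have e : x * (c * z * c⁻¹) * x⁻¹ * (c * z * c⁻¹)⁻¹ =
        c * ((c⁻¹ * x * c) * z * (c⁻¹ * x * c)⁻¹ * z⁻¹) * c⁻¹ := by group
    rw [e, hUc _ h c hc, mul_inv_cancel_right]; exact h⟩
  have hwZ : D.el3 ∈ normalizer (Z : Set G) := mem_normalizer_iff.2 fun z =>
    ⟨fun hz => hconjZ _ D.w_C z hz, fun hz => by simpa [mul_assoc] using hconjZ _ (inv_mem D.w_C) _ hz⟩
  have hZp : IsPGroup 2 Z := F.isPGroup.to_le hZP
  have hun : Cfsg.Agent.Solv.UniqueOrderP 2 Z := by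
    intro x y hx hy hy1
    have key : ∀ z : Z, z ^ 2 = 1 → z ≠ 1 → (z : G) = D.inv2 := fun z hz hz1 => by
      rcases D.mem_zu.1 (hinv z z.2 (by rw [← pow_two]; exact congrArg Subtype.val hz)) with h | h
      · exact absurd (Subtype.ext h) hz1
      · exact h
    by_cases hx1 : x = 1
    · rw [hx1]; exact one_mem _
    · rw [show x = y from Subtype.ext ((key x hx hx1).trans (key y hy hy1).symm)]
      exact mem_zpowers y
  -- a cyclic group would be centralised by the element of order three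
  have hncyc : ¬ IsCyclic Z := by
    intro hc
    obtain ⟨f, hf⟩ := hc.exists_generator
    set K : Subgroup G := zpowers (f : G) ⊓ Z
    have hgen : ∀ z ∈ Z, ∃ i : ℤ, (f : G) ^ i = z := fun z hz => by
      obtain ⟨i, hi⟩ := mem_zpowers_iff.1 (hf ⟨z, hz⟩)
      exact ⟨i, by rw [← coe_zpow, hi]⟩
    set Z2 : Subgroup G := zpowers ((f : G) * f) with hZ2
    have hfZ : (f : G) ∈ Z := f.2
    have hu2 : D.inv2 ∈ Z2 := by
      obtain ⟨i, hi⟩ := hgen _ (hUZ (mem_zpowers _))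
      rcases Int.even_or_odd i with ⟨j, hj⟩ | ⟨j, hj⟩
      · exact mem_zpowers_iff.2 ⟨j, by rw [← hi, hj, zpow_add, (Commute.refl (f : G)).mul_zpow]⟩
      · exfalso
        apply hd0U
        obtain ⟨i', hi'⟩ := hgen d0 ⟨hd0, hd0c⟩
        have h1 : (f : G) ^ (2 * i) = 1 := by rw [mul_comm, zpow_mul, hi, zpow_two, D.uu]
        obtain ⟨n, hn⟩ := IsPGroup.iff_orderOf.1 hZp f
        have hdvd : (orderOf (f : G) : ℤ) ∣ 2 * i := orderOf_dvd_iff_zpow_eq_one.2 h1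
        rw [orderOf_coe, hn] at hdvd
        have hn1 : n ≤ 1 := by
          by_contra hn1
          have h4 : (4 : ℤ) ∣ 2 * i := (Int.natCast_dvd_natCast.2 (pow_dvd_pow 2 (by omega : 2 ≤ n))).trans hdvd
          omega
        have hf2 : (f : G) ^ (2 : ℤ) = 1 := by
          rw [show ((2 : ℤ)) = ((2 : ℕ) : ℤ) from rfl, zpow_natCast]
          refine orderOf_dvd_iff_pow_eq_one.1 ?_
          rw [orderOf_coe, hn]
          exact (pow_dvd_pow 2 hn1).trans (by norm_num)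
        have hfu : (f : G) = D.inv2 := by
          rw [← hi, hj, zpow_add_one, zpow_mul, hf2, one_zpow, one_mul]
        rw [← hi', hfu]
        exact zpow_mem (mem_zpowers _) _
    have hwZ2 : D.el3 ∈ normalizer (Z2 : Set G) := by
      have key : ∀ c ∈ D.C, ∀ z ∈ Z2, c * z * c⁻¹ ∈ Z2 := by
        intro c hc z hz
        obtain ⟨i, rfl⟩ := mem_zpowers_iff.1 hz
        obtain ⟨j, hj⟩ := hgen _ (hconjZ c hc _ hfZ)
        refine mem_zpowers_iff.2 ⟨j * i, ?_⟩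
        rw [← conj_zpow, show c * ((f : G) * f) * c⁻¹ = c * f * c⁻¹ * (c * f * c⁻¹) by group, ← hj,
          ← (Commute.refl (f : G)).mul_zpow, ← zpow_mul]
      exact mem_normalizer_iff.2 fun z =>
        ⟨fun hz => key _ D.w_C z hz, fun hz => by simpa [mul_assoc] using key _ (inv_mem D.w_C) _ hz⟩
    have hZ2Z : Z2 ≤ Z := zpowers_le.2 (mul_mem hfZ hfZ)
    obtain ⟨j, hj⟩ := hgen _ (hconjZ _ D.w_C _ hfZ)
    have hfmem : (f : G) ∈ Z2 := by
      rcases Int.even_or_odd j with ⟨m, hm⟩ | ⟨m, hm⟩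
      · have h : D.el3 * (f : G) * D.el3⁻¹ ∈ Z2 := mem_zpowers_iff.2 ⟨m, by
          rw [← hj, hm, zpow_add, (Commute.refl (f : G)).mul_zpow]⟩
        exact (mem_normalizer_iff.1 hwZ2 _).2 h
      · refine F.fixed_quot_P (hZ2Z.trans hZP) hu2 hwZ2 hfZ.1 (mem_zpowers_iff.2 ⟨m, ?_⟩)
        rw [← hj, hm, zpow_add_one, ← (Commute.self_zpow (f : G) (2 * m)).eq, inv_mul_cancel_left,
          two_mul, zpow_add, (Commute.refl (f : G)).mul_zpow]
    obtain ⟨i, hi⟩ := mem_zpowers_iff.1 hfmem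
    have hf1 : (f : G) ^ (2 * i - 1) = 1 := by
      rw [zpow_sub_one, two_mul, zpow_add, ← (Commute.refl (f : G)).mul_zpow, hi, mul_inv_cancel]
    obtain ⟨n, hn⟩ := IsPGroup.iff_orderOf.1 hZp f
    have hdvd : (orderOf (f : G) : ℤ) ∣ 2 * i - 1 := orderOf_dvd_iff_zpow_eq_one.2 hf1
    rw [orderOf_coe, hn] at hdvd
    have hn0 : n = 0 := by
      by_contra hn0
      have h2 : (2 : ℤ) ∣ 2 * i - 1 := (Int.natCast_dvd_natCast.2 (dvd_pow_self 2 hn0)).trans hdvd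
      omega
    obtain ⟨i', hi'⟩ := hgen d0 ⟨hd0, hd0c⟩
    apply hd0U
    rw [← hi', show (f : G) = 1 from orderOf_eq_one_iff.1 (by rw [orderOf_coe, hn, hn0, pow_zero]), one_zpow]
    exact one_mem _
  obtain ⟨-, n, ⟨e⟩⟩ := (Cfsg.Agent.Solv.cyclic_or_quaternion hZp hun).resolve_left hncyc
  set A : Z := e.symm (QuaternionGroup.a 1) with hA
  set B : Z := e.symm (QuaternionGroup.xa 0) with hB
  set a : G := (A : G) with ha
  set b : G := (B : G) with hb
  have hcomm : b * a * b⁻¹ * a⁻¹ ∈ U := A.2.2 b B.2.1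
  have hrel : QuaternionGroup.xa 0 * QuaternionGroup.a 1 * (QuaternionGroup.xa 0)⁻¹ * (QuaternionGroup.a 1)⁻¹ =
      (QuaternionGroup.a (-2) : QuaternionGroup (2 ^ n)) := by
    rw [mul_inv_eq_iff_eq_mul, mul_inv_eq_iff_eq_mul, QuaternionGroup.xa_mul_a, QuaternionGroup.a_mul_a,
      QuaternionGroup.a_mul_xa]
    congr 1
    ring
  have hcommZ : B * A * B⁻¹ * A⁻¹ = e.symm (QuaternionGroup.a (-2)) := by
    rw [← hrel, map_mul, map_mul, map_mul, map_inv, map_inv]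
  have hn1 : n = 1 := by
    have hn : n ≠ 0 := by
      rintro rfl
      refine hncyc ?_
      refine isCyclic_of_orderOf_eq_card B ?_
      rw [hB, MulEquiv.orderOf_eq, QuaternionGroup.orderOf_xa, Nat.card_congr e.toEquiv,
        Nat.card_eq_fintype_card, QuaternionGroup.card]
      rfl
    by_contra hn'
    have hn2 : 2 ≤ n := by omega
    have h4 : ((e.symm (QuaternionGroup.a (-2)) : Z) : G) * (e.symm (QuaternionGroup.a (-2)) : Z) = 1 := by
      rw [← hcommZ]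
      rcases D.mem_zu.1 hcomm with h | h
      · show b * a * b⁻¹ * a⁻¹ * (b * a * b⁻¹ * a⁻¹) = 1
        rw [h, one_mul]
      · show b * a * b⁻¹ * a⁻¹ * (b * a * b⁻¹ * a⁻¹) = 1
        rw [h, D.uu]
    rw [← coe_mul, OneMemClass.coe_eq_one, ← map_mul, e.symm.map_eq_one_iff, QuaternionGroup.a_mul_a,
      ← QuaternionGroup.a_zero, QuaternionGroup.a.injEq,
      show (-2 + -2 : ZMod (2 * 2 ^ n)) = -((4 : ℕ) : ZMod (2 * 2 ^ n)) by push_cast; ring, neg_eq_zero,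
      ZMod.natCast_eq_zero_iff] at h4
    have h2 : 2 ^ 2 ≤ 2 ^ n := Nat.pow_le_pow_right two_pos hn2
    have := Nat.le_of_dvd (by norm_num) h4
    omega
  subst hn1
  have hZ8 : Nat.card Z = 8 := by
    rw [Nat.card_congr e.toEquiv, Nat.card_eq_fintype_card, QuaternionGroup.card]; rfl
  -- the commutator map with two generators
  have hlin : ∀ z ∈ Z, ∀ x ∈ F.P, ∀ y ∈ F.P,
      x * y * z * (x * y)⁻¹ * z⁻¹ = x * z * x⁻¹ * z⁻¹ * (y * z * y⁻¹ * z⁻¹) := by
    intro z hz x hx y hy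
    have h1 := hUc _ (hz.2 y hy) x (F.P_le_C hx)
    have hcx : x * z * x⁻¹ * z⁻¹ ∈ D.C := F.P_le_C (F.zu_le (hz.2 x hx))
    calc x * y * z * (x * y)⁻¹ * z⁻¹ = x * (y * z * y⁻¹ * z⁻¹) * x⁻¹ * (x * z * x⁻¹ * z⁻¹) := by group
      _ = y * z * y⁻¹ * z⁻¹ * (x * z * x⁻¹ * z⁻¹) := by rw [h1, mul_inv_cancel_right]
      _ = _ := (hUc _ (hz.2 y hy) _ hcx).symm
  let κ : F.P →* G × G :=
    { toFun := fun x => ((x : G) * a * (x : G)⁻¹ * a⁻¹, (x : G) * b * (x : G)⁻¹ * b⁻¹)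
      map_one' := by simp
      map_mul' := fun x y => Prod.ext (hlin a A.2 x x.2 y y.2) (hlin b B.2 x x.2 y y.2) }
  have hκr : κ.range ≤ U.prod U := by
    rintro _ ⟨x, rfl⟩
    exact ⟨A.2.2 x x.2, B.2.2 x x.2⟩
  set E : Subgroup G := κ.ker.map F.P.subtype with hE
  have hEP : E ≤ F.P := map_subtype_le _
  have hmemE : ∀ x, x ∈ E ↔ x ∈ F.P ∧ x * a = a * x ∧ x * b = b * x := by
    intro x
    constructor
    · rintro ⟨y, hy, rfl⟩
      exact ⟨y.2, mul_inv_eq_iff_eq_mul.1 (mul_inv_eq_one.1 (congrArg Prod.fst hy)),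
        mul_inv_eq_iff_eq_mul.1 (mul_inv_eq_one.1 (congrArg Prod.snd hy))⟩
    · rintro ⟨hx, h1, h2⟩
      refine ⟨⟨x, hx⟩, Prod.ext ?_ ?_, rfl⟩
      · show x * a * x⁻¹ * a⁻¹ = 1
        rw [h1, mul_inv_cancel_right, mul_inv_cancel]
      · show x * b * x⁻¹ * b⁻¹ = 1
        rw [h2, mul_inv_cancel_right, mul_inv_cancel]
  have hgenZ : ∀ z ∈ Z, z ∈ closure ({a, b} : Set G) := by
    intro z hz
    obtain ⟨q, hq⟩ : ∃ q, e.symm q = ⟨z, hz⟩ := ⟨e ⟨z, hz⟩, e.symm_apply_apply _⟩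
    have hqc : q ∈ closure ({QuaternionGroup.a 1, QuaternionGroup.xa 0} : Set (QuaternionGroup (2 ^ 1))) := by
      have hai : ∀ i : ZMod (2 * 2 ^ 1), QuaternionGroup.a i ∈
          closure ({QuaternionGroup.a 1, QuaternionGroup.xa 0} : Set (QuaternionGroup (2 ^ 1))) := fun i => by
        rw [← ZMod.natCast_zmod_val i, ← QuaternionGroup.a_one_pow]
        exact pow_mem (subset_closure (Set.mem_insert _ _)) _
      rcases q with i | i
      · exact hai i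
      · rw [show QuaternionGroup.xa i = QuaternionGroup.xa 0 * QuaternionGroup.a i by
          rw [QuaternionGroup.xa_mul_a, zero_add]]
        exact mul_mem (subset_closure (Set.mem_insert_of_mem _ rfl)) (hai i)
    have h := mem_map_of_mem (Z.subtype.comp e.symm.toMonoidHom) hqc
    rw [MonoidHom.map_closure, Set.image_insert_eq, Set.image_singleton] at h
    change ((e.symm q : Z) : G) ∈ closure ({a, b} : Set G) at h
    rwa [hq] at h
  have hEcomm : ∀ x ∈ E, ∀ z ∈ Z, x * z = z * x := fun x hx z hz => by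
    obtain ⟨-, h1, h2⟩ := (hmemE x).1 hx
    have hle : closure ({a, b} : Set G) ≤ centralizer ({x} : Set G) := by
      refine (closure_le _).2 ?_
      rintro v (rfl | rfl)
      · exact mem_centralizer_singleton_iff.2 h1.symm
      · exact mem_centralizer_singleton_iff.2 h2.symm
    exact (mem_centralizer_singleton_iff.1 (hle (hgenZ z hz))).symm
  -- the kernel lies in the involution
  have hEU : E ≤ U := by
    by_contra hne
    have hEn : F.P ≤ normalizer (E : Set G) := by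
      rw [← normal_subgroupOf_iff_le_normalizer hEP, hE, subgroupOf, comap_map_eq_self_of_injective F.P.subtype_injective]
      infer_instance
    obtain ⟨d, hdE, hdU, hdc⟩ := meet_step F.isPGroup F.zu_le hEP (F.P_le_C.trans D.C_le_normalizer) hEn hne
    have hdZ : d ∈ Z := ⟨hEP hdE, hdc⟩
    refine hdU (hinv d hdZ ?_)
    have h2 := Cfsg.Agent.Char.quat_center (N := 2 ^ 1) (q := e ⟨d, hdZ⟩) le_rfl (fun r => by
      obtain ⟨z, rfl⟩ := e.surjective r
      rw [← map_mul, ← map_mul]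
      exact congrArg e (Subtype.ext (hEcomm d hdE z z.2)))
    rw [← map_mul, e.map_eq_one_iff] at h2
    exact congrArg Subtype.val h2
  have hcardP : Nat.card F.P ≤ 8 := by
    have h := κ.ker.card_mul_index
    rw [index_ker] at h
    have hU2 : Nat.card U = 2 := by rw [hU, Nat.card_zpowers, D.u_ord]
    rw [← h, Nat.card_congr (κ.ker.equivMapOfInjective _ F.P.subtype_injective).toEquiv]
    calc Nat.card E * Nat.card κ.range ≤ 2 * Nat.card (U.prod U) :=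
          Nat.mul_le_mul ((card_le_of_le hEU).trans hU2.le) (card_le_of_le hκr)
      _ = 8 := by rw [Nat.card_congr (prodEquiv _ _).toEquiv, Nat.card_prod, hU2]
  have hPZ : Z = F.P := eq_of_le_of_card_ge hZP (by rw [hZ8]; exact hcardP)
  exact ⟨hPZ ▸ hZ8, fun x hx hxx => hinv x (hPZ.symm ▸ hx) hxx⟩

end NilCtx

end Cfsg.Agent.Char.OrderSix
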