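import Cfsg.Agent.Lib.Char.OrderSix.SymBase
import Cfsg.Agent.Lib.Char.OrderSix.SymExtra
import Cfsg.Agent.Lib.Lead.GLTwoThree.Table
import Cfsg.Agent.S3304

/-!
# Index six with a quaternion two-part: the quotient GL(2,3)
-/

set_option autoImplicit false
set_option linter.unusedSectionVars false
set_option linter.style.haveILetI false

open Cfsg Subgroup

namespace Cfsg.Agent.Char.OrderSix

universe u
variable {G : Type u} [Group G] [Finite G]

/-- The shape of index six with a quaternion two-part. -/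
structure QuatCtx (D : Ctx G) extends SymCtx D where
  hP8 : Nat.card P = 8
  huniq : ∀ x ∈ P, x * x = 1 → x ∈ zpowers D.inv2

namespace QuatCtx

variable {D : Ctx G} (F : QuatCtx D)

theorem P_W {x : G} (hP : x ∈ F.P) (hW : x ∈ F.W) : x = 1 := by
  obtain ⟨k, hk⟩ := ((F.hP x).1 hP).2
  exact orderOf_eq_one_iff.1 (Nat.eq_one_of_dvd_coprimes
    (Nat.Coprime.pow_left k (Nat.coprime_two_left.2 ((F.hW x).1 hW).2)) (orderOf_dvd_of_pow_eq_one hk) dvd_rfl)

/-- a power of the element of order three fixing a two-element -/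
theorem pow_fix {i : ℕ} (hi : D.el3 ^ i ≠ 1) {p : G} (hp : p ∈ F.P) (h : Commute (D.el3 ^ i) p) :
    p ∈ zpowers D.inv2 := by
  have hcop : (orderOf D.el3).Coprime i := by
    rw [D.w_ord, Nat.Prime.coprime_iff_not_dvd Nat.prime_three]
    intro hd
    exact hi (orderOf_dvd_iff_pow_eq_one.1 (by rwa [D.w_ord]))
  obtain ⟨k, hk⟩ := exists_pow_eq_self_of_coprime hcop.symm
  rcases F.fix_P hp (hk ▸ (h.pow_left k)).symm.eq with e | e <;> rw [e]
  · exact one_mem _
  · exact mem_zpowers _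

theorem P_big : ∃ p ∈ F.P, p ∉ zpowers D.inv2 := by
  by_contra! h
  have := card_le_of_le (show F.P ≤ zpowers D.inv2 from h)
  rw [F.hP8, Nat.card_zpowers, D.u_ord] at this
  omega

theorem cent_P_low {n : G} (hn : n ∈ F.N) {i : ℕ} (h : ∀ y ∈ F.P, Commute (n * D.el3 ^ i) y) :
    D.el3 ^ i = 1 := by
  by_contra hi
  obtain ⟨p, hp, q, hq, rfl⟩ := F.toSymCtx.N_split hn
  have hq' : ∀ y ∈ F.P, Commute q y := fun y hy => (F.hcomm y hy q hq).symm
  have h1 : ∀ y ∈ F.P, Commute (p * D.el3 ^ i) y := fun y hy => by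
    have := (hq' y hy).inv_left.mul_left (h y hy)
    rwa [show q⁻¹ * (p * q * D.el3 ^ i) = p * D.el3 ^ i by rw [F.hcomm p hp q hq]; group] at this
  have hpw : Commute (D.el3 ^ i) p := by
    have := (Commute.refl p).inv_left.mul_left (h1 p hp)
    rwa [inv_mul_cancel_left] at this
  have hpu := F.pow_fix hi hp hpw
  obtain ⟨y, hy, hyu⟩ := F.P_big
  refine hyu (F.pow_fix hi hy ?_)
  have hpy : Commute p y := by
    rcases D.mem_zu.1 hpu with e | e <;> rw [e]
    · exact Commute.one_left y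
    · exact ((show Commute y D.inv2 from D.mem_C.1 (F.P_le_C hy))).symm
  have := hpy.inv_left.mul_left (h1 y hy)
  rwa [inv_mul_cancel_left] at this

/-- the centraliser of the two-part lies in the nilpotent part -/
theorem cent_P_N {x : G} (hx : x ∈ D.C) (h : ∀ y ∈ F.P, Commute x y) : x ∈ F.N := by
  obtain ⟨n, hn, i, j, hj, rfl⟩ := F.toSymCtx.C_cases hx
  interval_cases j
  · rw [pow_zero, mul_one] at h ⊢
    rw [F.cent_P_low hn h, mul_one]; exact hn
  · exfalso
    rw [pow_one] at h hx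
    set x := n * (D.el3 ^ i * F.a) with hxdef
    have hwx : ∀ y ∈ F.P, Commute (D.el3 * x * D.el3⁻¹) y := fun y hy => by
      have hy' : D.el3⁻¹ * y * D.el3 ∈ F.P := by simpa using F.conj_P (inv_mem D.w_C) hy
      have := congrArg (fun v => D.el3 * v * D.el3⁻¹) (h _ hy').eq
      show D.el3 * x * D.el3⁻¹ * y = y * (D.el3 * x * D.el3⁻¹)
      simpa [mul_assoc] using this
    have hy2 : ∀ y ∈ F.P, Commute (D.el3 * x * D.el3⁻¹ * x⁻¹) y := fun y hy =>
      (hwx y hy).mul_left (h y hy).inv_left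
    have hn' : D.el3 * n * D.el3⁻¹ * (D.el3 ^ 2 * n⁻¹ * (D.el3 ^ 2)⁻¹) ∈ F.N :=
      mul_mem ((mem_normalizer_iff.1 (F.hnorm D.w_C) n).1 hn)
        ((mem_normalizer_iff.1 (F.hnorm (pow_mem D.w_C 2)) _).1 (inv_mem hn))
    have e : D.el3 * x * D.el3⁻¹ * x⁻¹ =
        D.el3 * n * D.el3⁻¹ * (D.el3 ^ 2 * n⁻¹ * (D.el3 ^ 2)⁻¹) * D.el3 ^ 2 := by
      have ha : F.a * D.el3⁻¹ * F.a⁻¹ = D.el3 := by
        rw [show F.a * D.el3⁻¹ * F.a⁻¹ = (F.a * D.el3 * F.a⁻¹)⁻¹ by group, F.hinv, inv_inv]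
      calc D.el3 * x * D.el3⁻¹ * x⁻¹ = D.el3 * n * D.el3 ^ i * (F.a * D.el3⁻¹ * F.a⁻¹) * (D.el3 ^ i)⁻¹ * n⁻¹ := by
            rw [hxdef]; group
        _ = D.el3 * n * (D.el3 ^ i * D.el3) * (D.el3 ^ i)⁻¹ * n⁻¹ := by rw [ha]; group
        _ = _ := by rw [← pow_succ, pow_succ']; group
    have := F.cent_P_low hn' (i := 2) (fun y hy => e ▸ hy2 y hy)
    have hd := orderOf_dvd_of_pow_eq_one this
    rw [D.w_ord] at hd
    omega

theorem exists_quat : Nonempty (F.P ≃* QuaternionGroup 2) := by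
  haveI : Fact (Nat.Prime 2) := ⟨Nat.prime_two⟩
  have hP : IsPGroup 2 F.P := F.isPGroup
  have hun : Cfsg.Agent.Solv.UniqueOrderP 2 F.P := by
    intro x y hx hy hy1
    have key : ∀ z : F.P, z ^ 2 = 1 → z ≠ 1 → (z : G) = D.inv2 := fun z hz hz1 => by
      rcases D.mem_zu.1 (F.huniq z z.2 (by rw [← pow_two]; exact congrArg Subtype.val hz)) with e | e
      · exact absurd (Subtype.ext e) hz1
      · exact e
    by_cases hx1 : x = 1
    · rw [hx1]; exact one_mem _
    · rw [show x = y from Subtype.ext ((key x hx hx1).trans (key y hy hy1).symm)]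
      exact mem_zpowers y
  have hncyc : ¬ IsCyclic F.P := by
    intro hc
    obtain ⟨f, hf⟩ := hc.exists_generator
    let c : F.P → F.P := fun v => ⟨D.el3 * v * D.el3⁻¹, F.conj_P D.w_C v.2⟩
    obtain ⟨j, hj⟩ := (mem_powers_iff_mem_zpowers (x := f)).2 (hf (c f))
    have hj' : D.el3 * (f : G) * D.el3⁻¹ = (f : G) ^ j := by
      have := congrArg Subtype.val hj
      simpa [c] using this.symm
    have hfo : orderOf (f : G) = 8 := by
      rw [orderOf_coe, orderOf_eq_card_of_forall_mem_zpowers hf, F.hP8]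
    have hw3 : D.el3 ^ 3 = 1 := D.w_ord ▸ pow_orderOf_eq_one D.el3
    have h3 : (f : G) ^ (j * j * j) = f := by
      have e1 : ∀ k : ℕ, D.el3 * ((f : G) ^ k) * D.el3⁻¹ = (f : G) ^ (j * k) := fun k => by
        rw [← conj_pow, hj', ← pow_mul]
      calc (f : G) ^ (j * j * j) = D.el3 * (D.el3 * (D.el3 * f * D.el3⁻¹) * D.el3⁻¹) * D.el3⁻¹ := by
            rw [hj', e1, e1, mul_assoc]
        _ = D.el3 ^ 3 * f * (D.el3 ^ 3)⁻¹ := by simp only [pow_succ, pow_zero, one_mul]; group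
        _ = f := by rw [hw3, one_mul, inv_one, mul_one]
    have hm : j * j * j % 8 = 1 := by
      have h1 : (f : G) ^ (j * j * j) = (f : G) ^ 1 := by rw [h3, pow_one]
      have := pow_eq_pow_iff_modEq.1 h1
      rw [hfo] at this
      exact this
    have hj8 : j % 8 = 1 := by
      have := Nat.mod_lt j (show 0 < 8 by norm_num)
      rw [Nat.mul_mod, Nat.mul_mod j j] at hm
      generalize j % 8 = r at hm this ⊢
      interval_cases r <;> simp_all
    have hfix : (f : G) * D.el3 = D.el3 * f := by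
      rw [← pow_mod_orderOf, hfo, hj8, pow_one] at hj'
      exact (mul_inv_eq_iff_eq_mul.1 hj').symm
    rcases F.fix_P f.2 hfix with e | e <;> rw [e] at hfo
    · rw [orderOf_one] at hfo; omega
    · rw [D.u_ord] at hfo; omega
  obtain ⟨-, n, ⟨e⟩⟩ := (Cfsg.Agent.Solv.cyclic_or_quaternion hP hun).resolve_left hncyc
  have hn : n = 1 := by
    haveI : NeZero (2 ^ n) := ⟨pow_ne_zero n two_ne_zero⟩
    have h := Nat.card_congr e.toEquiv
    rw [F.hP8, Nat.card_eq_fintype_card, QuaternionGroup.card] at h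
    have : 2 ^ n = 2 ^ 1 := by rw [pow_one]; omega
    exact Nat.pow_right_injective le_rfl this
  subst hn
  exact ⟨e⟩

theorem card_C48 : Nat.card D.C = 48 * Nat.card F.W := by
  rw [F.hidx, F.hcard, F.hP8]; ring

/-- The quotient by the odd part is GL(2,3), given an involution outside the two-part. -/
theorem exists_cover {e : G} (heS : e ∈ F.S) (heP : e ∉ F.P) (he2 : orderOf e = 2) :
    ∃ φ : ↥(centralizer ({D.inv2} : Set G)) →* Lead.GLTwoThree.GLT,
      Function.Surjective φ ∧ φ.ker = F.W.subgroupOf (centralizer ({D.inv2} : Set G)) := by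
  show ∃ φ : D.C →* Lead.GLTwoThree.GLT, Function.Surjective φ ∧ φ.ker = F.W.subgroupOf D.C
  set W' := F.W.subgroupOf D.C with hW'
  haveI : W'.Normal := (normal_subgroupOf_iff_le_normalizer F.W_le_C).2 F.C_le_normalizer_W
  set π := QuotientGroup.mk' W' with hπ
  have hK : Nat.card (D.C ⧸ W') = 48 := by
    have h := W'.card_mul_index
    rw [Nat.card_congr (subgroupOfEquivOfLe F.W_le_C).toEquiv, F.card_C48, mul_comm 48] at h
    exact Nat.eq_of_mul_eq_mul_left Nat.card_pos h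
  let f : F.P →* D.C ⧸ W' := π.comp (Subgroup.inclusion F.P_le_C)
  have hf : Function.Injective f := by
    rw [injective_iff_map_eq_one]
    intro x hx
    exact Subtype.ext (F.P_W x.2 (mem_subgroupOf.1 ((QuotientGroup.eq_one_iff (N := W') _).1 hx)))
  obtain ⟨eq⟩ := F.exists_quat
  haveI : f.range.Normal := ⟨by
    rintro _ ⟨p, rfl⟩ g
    obtain ⟨c, rfl⟩ := QuotientGroup.mk'_surjective W' g
    refine ⟨⟨(c : G) * p * (c : G)⁻¹, F.conj_P c.2 p.2⟩, ?_⟩
    show π _ = π c * π _ * (π c)⁻¹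
    rw [← map_inv, ← map_mul, ← map_mul]
    exact congrArg π (Subtype.ext rfl)⟩
  have hC : centralizer (f.range : Set (D.C ⧸ W')) ≤ f.range := by
    intro q hq
    obtain ⟨x, rfl⟩ := QuotientGroup.mk'_surjective W' q
    have hcP : ∀ y ∈ F.P, Commute (x : G) y := fun y hy => by
      have h1 := mem_centralizer_iff.1 hq (f ⟨y, hy⟩) ⟨_, rfl⟩
      have h2 : π (x * ⟨y, F.P_le_C hy⟩ * x⁻¹ * (⟨y, F.P_le_C hy⟩ : D.C)⁻¹) = 1 := by
        rw [map_mul, map_mul, map_mul, map_inv, map_inv,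
          show π (⟨y, F.P_le_C hy⟩ : D.C) = f ⟨y, hy⟩ from rfl, ← h1, mul_inv_cancel_right, mul_inv_cancel]
      have hWm : (x : G) * y * (x : G)⁻¹ * y⁻¹ ∈ F.W := by
        simpa using mem_subgroupOf.1 ((QuotientGroup.eq_one_iff (N := W') _).1 h2)
      exact mul_inv_eq_iff_eq_mul.1 (mul_inv_eq_one.1
        (F.P_W (mul_mem (F.conj_P x.2 hy) (inv_mem hy)) hWm))
    obtain ⟨p, hp, r, hr, hx⟩ := F.toSymCtx.N_split (F.cent_P_N x.2 hcP)
    refine ⟨⟨p, hp⟩, ?_⟩
    have hx' : x = (⟨p, F.P_le_C hp⟩ : D.C) * ⟨r, F.W_le_C hr⟩ := Subtype.ext hx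
    show π _ = π x
    rw [hx', map_mul, show π (⟨r, F.W_le_C hr⟩ : D.C) = 1 from
      (QuotientGroup.eq_one_iff (N := W') _).2 (mem_subgroupOf.2 hr), mul_one]
    rfl
  set e' : D.C := ⟨e, F.S_le_C heS⟩ with he'
  have hee : e * e = 1 := by rw [← pow_two, ← he2]; exact pow_orderOf_eq_one e
  have htQ : π e' ∉ f.range := by
    rintro ⟨p, hp⟩
    have h1 : π ((Subgroup.inclusion F.P_le_C p)⁻¹ * e') = 1 := by
      rw [map_mul, map_inv, show π (Subgroup.inclusion F.P_le_C p) = f p from rfl, hp, inv_mul_cancel]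
    have hm : (p : G)⁻¹ * e ∈ F.W := by
      simpa using mem_subgroupOf.1 ((QuotientGroup.eq_one_iff (N := W') _).1 h1)
    have hN : e ∈ F.N := by
      rw [show e = (p : G) * ((p : G)⁻¹ * e) by group]
      exact mul_mem (F.P_le p.2) (F.W_le hm)
    exact heP ((F.hP e).2 ⟨hN, 1, by rw [pow_one, pow_two, hee]⟩)
  have hto : orderOf (π e') = 2 := by
    haveI : Fact (Nat.Prime 2) := ⟨Nat.prime_two⟩
    refine orderOf_eq_prime (by rw [pow_two, ← map_mul, show e' * e' = 1 from Subtype.ext hee, map_one]) fun h => ?_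
    exact htQ (h ▸ one_mem _)
  obtain ⟨iso⟩ := S3304.gl_iso hK f.range (eq.symm.trans (MonoidHom.ofInjective hf)) hC hto htQ
  refine ⟨iso.toMonoidHom.comp π, iso.surjective.comp (QuotientGroup.mk'_surjective W'), ?_⟩
  ext x
  rw [MonoidHom.mem_ker, MonoidHom.comp_apply, MulEquiv.toMonoidHom_eq_coe, MonoidHom.coe_coe, iso.map_eq_one_iff]
  exact QuotientGroup.eq_one_iff x

end QuatCtx

end Cfsg.Agent.Char.OrderSix
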