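import Cfsg.Agent.S3331
import Cfsg.Agent.S0204
import Cfsg.Agent.Lib.Fusion.BurnsideFusion

/-!
# An element of order six with centraliser the cyclic group it generates: basic facts
-/

set_option autoImplicit false
set_option linter.unusedSectionVars false
set_option linter.style.haveILetI false

open Cfsg Subgroup

namespace Cfsg.Agent.Char.OrderSix

universe u

/-- An element of order six generating its centraliser, in a group with one class of involutions. -/
structure Ctx (G : Type u) [Group G] where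
  t : G
  ht : orderOf t = 6
  hC : centralizer ({t} : Set G) = zpowers t
  hone : ∀ x y : G, orderOf x = 2 → orderOf y = 2 → IsConj x y

variable {G : Type u} [Group G] [Finite G]

namespace Ctx

variable (D : Ctx G)

/-- the involution -/
def inv2 : G := D.t ^ 3
/-- the element of order three -/
def el3 : G := D.t ^ 4
/-- the centraliser of the involution -/
def C : Subgroup G := centralizer ({D.inv2} : Set G)

theorem u_ord : orderOf D.inv2 = 2 := by
  rw [inv2, orderOf_pow' _ three_ne_zero, D.ht]; rfl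

theorem w_ord : orderOf D.el3 = 3 := by
  rw [el3, orderOf_pow' _ (by norm_num), D.ht]; rfl

theorem u_ne : D.inv2 ≠ 1 := fun h => by have := D.u_ord; rw [h, orderOf_one] at this; omega

theorem w_ne : D.el3 ≠ 1 := fun h => by have := D.w_ord; rw [h, orderOf_one] at this; omega

theorem uu : D.inv2 * D.inv2 = 1 := by
  have := pow_orderOf_eq_one D.inv2
  rwa [D.u_ord, pow_two] at this

theorem uw : D.inv2 * D.el3 = D.t := by
  rw [inv2, el3, ← pow_add, show 3 + 4 = 6 + 1 from rfl, pow_succ, ← D.ht, pow_orderOf_eq_one, one_mul]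

theorem comm_uw : D.inv2 * D.el3 = D.el3 * D.inv2 := (Commute.pow_pow_self D.t 3 4).eq

theorem mem_C {y : G} : y ∈ D.C ↔ y * D.inv2 = D.inv2 * y := mem_centralizer_singleton_iff

theorem u_C : D.inv2 ∈ D.C := D.mem_C.2 rfl

theorem w_C : D.el3 ∈ D.C := D.mem_C.2 D.comm_uw.symm

/-- what commutes with both parts is in the cyclic group -/
theorem cent_uw {y : G} (hu : y * D.inv2 = D.inv2 * y) (hw : y * D.el3 = D.el3 * y) : y ∈ zpowers D.t := by
  rw [← D.hC, mem_centralizer_singleton_iff]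
  rw [← D.uw, ← mul_assoc, hu, mul_assoc, hw, ← mul_assoc]

theorem zp_pow {y : G} (hy : y ∈ zpowers D.t) : ∃ i : ℕ, i < 6 ∧ y = D.t ^ i := by
  obtain ⟨i, rfl⟩ := (mem_powers_iff_mem_zpowers (x := D.t)).2 hy
  exact ⟨i % 6, Nat.mod_lt _ (by norm_num), by
    show D.t ^ i = _
    rw [← D.ht, pow_mod_orderOf]⟩

/-- an element of two-power order in the cyclic group -/
theorem zp_two {y : G} (hy : y ∈ zpowers D.t) (h2 : ∃ k : ℕ, y ^ 2 ^ k = 1) : y = 1 ∨ y = D.inv2 := by
  obtain ⟨i, hi, rfl⟩ := D.zp_pow hy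
  obtain ⟨k, hk⟩ := h2
  rw [← pow_mul] at hk
  have h6 := orderOf_dvd_of_pow_eq_one hk
  rw [D.ht] at h6
  have h3 : 3 ∣ i := ((Nat.Coprime.pow_right k (by norm_num : Nat.Coprime 3 2)).dvd_of_dvd_mul_right
    ((dvd_trans (by norm_num) h6)))
  obtain ⟨j, rfl⟩ := h3
  have : j < 2 := by omega
  interval_cases j
  · exact Or.inl (pow_zero _)
  · exact Or.inr rfl

theorem fix_two {y : G} (hy : y ∈ D.C) (hw : y * D.el3 = D.el3 * y) (h2 : ∃ k : ℕ, y ^ 2 ^ k = 1) :
    y = 1 ∨ y = D.inv2 := D.zp_two (D.cent_uw (D.mem_C.1 hy) hw) h2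

/-- every involution is conjugate to the given one -/
theorem conj_u {z : G} (hz : orderOf z = 2) : ∃ g : G, g * D.inv2 * g⁻¹ = z :=
  isConj_iff.1 (D.hone _ _ D.u_ord hz)

theorem card_cent {z : G} (hz : orderOf z = 2) :
    Nat.card (centralizer ({z} : Set G)) = Nat.card D.C := by
  obtain ⟨g, rfl⟩ := D.conj_u hz
  refine Nat.card_congr (Equiv.subtypeEquiv (MulAut.conj g).symm.toEquiv fun x => ?_)
  show x ∈ centralizer _ ↔ g⁻¹ * x * g ∈ D.C
  rw [mem_centralizer_singleton_iff, D.mem_C]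
  constructor <;> intro h
  · have := congrArg (fun v => g⁻¹ * v * g) h
    simpa [mul_assoc] using this
  · have := congrArg (fun v => g * v * g⁻¹) h
    simpa [mul_assoc] using this

theorem C_le_normalizer : D.C ≤ normalizer ((zpowers D.inv2 : Subgroup G) : Set G) := by
  intro c hc
  rw [mem_normalizer_iff]
  have key : ∀ d ∈ D.C, ∀ x ∈ zpowers D.inv2, d * x * d⁻¹ = x := fun d hd x hx => by
    obtain ⟨i, rfl⟩ := mem_zpowers_iff.1 hx
    rw [((show Commute d D.inv2 from D.mem_C.1 hd).zpow_right i).eq, mul_inv_cancel_right]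
  refine fun x => ⟨fun hx => (key c hc x hx).symm ▸ hx, fun hx => ?_⟩
  have := key c⁻¹ (inv_mem hc) _ hx
  rw [inv_inv] at this
  rw [← this] at hx
  simpa [mul_assoc] using hx

theorem mem_zu {x : G} : x ∈ zpowers D.inv2 ↔ x = 1 ∨ x = D.inv2 := by
  refine ⟨fun hx => ?_, ?_⟩
  · obtain ⟨i, rfl⟩ := mem_zpowers_iff.1 hx
    rw [← zpow_mod_orderOf, D.u_ord]
    rcases Int.emod_two_eq i with h | h <;>
      rw [show ((2 : ℕ) : ℤ) = 2 from rfl, h] <;> simp
  · rintro (rfl | rfl)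
    · exact one_mem _
    · exact mem_zpowers _

variable [IsSimpleGroup G]

/-- some Sylow 2-subgroup has the involution in its centre -/
theorem exists_sylow : ∃ S : Sylow 2 G, D.inv2 ∈ (S : Subgroup G) ∧ (S : Subgroup G) ≤ D.C := by
  haveI : Fact (Nat.Prime 2) := ⟨Nat.prime_two⟩
  obtain ⟨S⟩ : Nonempty (Sylow 2 G) := inferInstance
  have h2 : 2 ∣ Nat.card G := D.u_ord ▸ orderOf_dvd_natCard D.inv2
  haveI : Nontrivial (S : Subgroup G) := Finite.one_lt_card_iff_nontrivial.1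
    (lt_of_lt_of_le one_lt_two (Nat.le_of_dvd Nat.card_pos (S.dvd_card_of_dvd_card h2)))
  haveI := S.2.center_nontrivial
  obtain ⟨z, hz⟩ := exists_prime_orderOf_dvd_card' (G := center (S : Subgroup G)) 2
    ((S.2.to_subgroup (center (S : Subgroup G))).card_eq_or_dvd.resolve_left (Finite.one_lt_card).ne')
  have hzS : ((z : (S : Subgroup G)) : G) ∈ (S : Subgroup G) := SetLike.coe_mem _
  have hzo : orderOf ((z : (S : Subgroup G)) : G) = 2 := by rw [orderOf_coe, orderOf_coe, hz]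
  obtain ⟨g, hg⟩ := D.conj_u hzo
  refine ⟨g⁻¹ • S, ?_, fun x hx => ?_⟩
  · exact ⟨_, hzS, show g⁻¹ * _ * g⁻¹⁻¹ = D.inv2 by rw [← hg]; group⟩
  · obtain ⟨y, hy, rfl⟩ := hx
    have hcomm : y * ((z : (S : Subgroup G)) : G) = ((z : (S : Subgroup G)) : G) * y :=
      congrArg Subtype.val (mem_center_iff.1 z.2 ⟨y, hy⟩)
    rw [D.mem_C]
    show g⁻¹ * y * g⁻¹⁻¹ * D.inv2 = D.inv2 * (g⁻¹ * y * g⁻¹⁻¹)
    rw [← hg] at hcomm
    have := congrArg (fun v => g⁻¹ * v * g) hcomm
    simpa [mul_assoc] using this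

theorem card_sylow_dvd {P : Subgroup G} (hP : IsPGroup 2 P) (S : Sylow 2 G) :
    Nat.card P ∣ Nat.card (S : Subgroup G) := by
  haveI : Fact (Nat.Prime 2) := ⟨Nat.prime_two⟩
  obtain ⟨Q, hQ⟩ := hP.exists_le_sylow
  rw [Nat.card_congr (S.equiv Q).toEquiv]
  exact card_dvd_of_le hQ

/-- no Sylow 2-subgroup has a single involution -/
theorem exists_other (hna : ¬ IsMulCommutative G) (S : Sylow 2 G) (z : G) :
    ∃ e ∈ (S : Subgroup G), orderOf e = 2 ∧ e ≠ z := by
  haveI : Fact (Nat.Prime 2) := ⟨Nat.prime_two⟩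
  obtain ⟨V, hV⟩ := S0204.result (G := G) fun h => hna ⟨⟨fun a b => (IsCyclic.commGroup (α := G)).mul_comm a b⟩⟩
  have hV4 : Nat.card V = 2 ^ 2 := hV.card_four
  obtain ⟨Q, hQ⟩ := (IsPGroup.of_card hV4).exists_le_sylow
  obtain ⟨g, hg⟩ := MulAction.exists_smul_eq G Q S
  obtain ⟨e, heV, he1, hez⟩ : ∃ e ∈ V, e ≠ 1 ∧ g * e * g⁻¹ ≠ z := by
    by_contra! h
    have hsub : (V : Set G) ⊆ {1, g⁻¹ * z * g} := fun e he => by
      by_cases he1 : e = 1
      · exact Or.inl he1
      · exact Or.inr (show e = g⁻¹ * z * g by rw [← h e he he1]; group)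
    have := (Set.ncard_le_ncard hsub (Set.toFinite _)).trans (Set.ncard_insert_le _ _)
    rw [Set.ncard_singleton, ← Nat.card_coe_set_eq] at this
    exact absurd (hV4 ▸ this : 2 ^ 2 ≤ 1 + 1) (by norm_num)
  refine ⟨g * e * g⁻¹, hg ▸ ⟨e, hQ heV, rfl⟩, ?_, hez⟩
  have he2 : orderOf e = 2 := by
    haveI := hV
    rw [← Subgroup.orderOf_mk e heV]
    refine orderOf_eq_prime ?_ fun h => he1 (congrArg Subtype.val h)
    rw [← hV.exponent_two]
    exact Monoid.pow_exponent_eq_one _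
  exact (orderOf_injective (MulAut.conj g).toMonoidHom (MulAut.conj g).injective e).trans he2

end Ctx

end Cfsg.Agent.Char.OrderSix
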