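import Cfsg.Agent.Lib.Char.OrderSix.NilBase

/-!
# Index six: an element inverting the element of order three
-/

set_option autoImplicit false
set_option linter.unusedSectionVars false
set_option linter.style.haveILetI false

open Cfsg Subgroup

namespace Cfsg.Agent.Char.OrderSix

universe u
variable {G : Type u} [Group G] [Finite G]

/-- The shape of index six. -/
structure SymCtx (D : Ctx G) extends NilCtx D where
  hidx : Nat.card D.C = 6 * Nat.card N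
  a : G
  haC : a ∈ D.C
  ha2 : ∃ k : ℕ, a ^ 2 ^ k = 1
  hinv : a * D.el3 * a⁻¹ = D.el3⁻¹

theorem exists_symCtx (D : Ctx G) {N : Subgroup G} (hNC : N ≤ D.C) (hnorm : D.C ≤ normalizer (N : Set G))
    (hu : D.inv2 ∈ N) (hnil : Group.IsNilpotent N) (h3 : ¬ 3 ∣ Nat.card N) (hidx : Nat.card D.C = 6 * Nat.card N)
    (ha : ∃ a ∈ D.C, (∃ k : ℕ, a ^ 2 ^ k = 1) ∧ a * D.el3 * a⁻¹ = D.el3⁻¹) : ∃ F : SymCtx D, F.N = N := by
  obtain ⟨F, hF⟩ := exists_nilCtx D hNC hnorm hu hnil h3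
  obtain ⟨a, haC, ha2, hinv⟩ := ha
  exact ⟨{ toNilCtx := F, hidx := by rw [hF]; exact hidx, a := a, haC := haC, ha2 := ha2, hinv := hinv }, hF⟩

namespace SymCtx

variable {D : Ctx G} (F : SymCtx D)

theorem asq : F.a * F.a ∈ zpowers D.inv2 := by
  obtain ⟨k, hk⟩ := F.ha2
  refine D.mem_zu.2 (D.fix_two (mul_mem F.haC F.haC) ?_ ⟨k, ?_⟩)
  · rw [← mul_inv_eq_iff_eq_mul]
    calc F.a * F.a * D.el3 * (F.a * F.a)⁻¹ = F.a * (F.a * D.el3 * F.a⁻¹) * F.a⁻¹ := by group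
      _ = F.a * D.el3⁻¹ * F.a⁻¹ := by rw [F.hinv]
      _ = (F.a * D.el3 * F.a⁻¹)⁻¹ := by group
      _ = D.el3 := by rw [F.hinv, inv_inv]
  · rw [← pow_two, ← pow_mul, mul_comm, pow_mul, hk, one_pow]

theorem a_notN : F.a ∉ F.N := fun h => by
  have h1 : D.el3 * F.a⁻¹ * D.el3⁻¹ ∈ F.N := (mem_normalizer_iff.1 (F.hnorm D.w_C) _).1 (inv_mem h)
  have h2 : D.el3⁻¹ * D.el3⁻¹ ∈ F.N := by
    have := mul_mem h h1
    rwa [show F.a * (D.el3 * F.a⁻¹ * D.el3⁻¹) = F.a * D.el3 * F.a⁻¹ * D.el3⁻¹ by group, F.hinv] at this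
  have hd : 3 ∣ Nat.card F.N := by
    have h' : orderOf (D.el3⁻¹ * D.el3⁻¹) ∣ Nat.card F.N := by
      have := orderOf_dvd_natCard (⟨_, h2⟩ : F.N)
      rwa [← orderOf_coe] at this
    rwa [← mul_inv_rev, orderOf_inv, ← pow_two, orderOf_pow' _ two_ne_zero, D.w_ord,
      show 3 / Nat.gcd 3 2 = 3 from rfl] at h'
  exact F.h3 hd

theorem a_notP : F.a ∉ F.P := fun h => F.a_notN (F.P_le h)

/-- the quotient by the nilpotent part -/
theorem C_cases {x : G} (hx : x ∈ D.C) :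
    ∃ n ∈ F.N, ∃ i j : ℕ, j < 2 ∧ x = n * (D.el3 ^ i * F.a ^ j) := by
  classical
  set N' := F.N.subgroupOf D.C
  haveI : N'.Normal := (normal_subgroupOf_iff_le_normalizer F.hNC).2 F.hnorm
  set π := QuotientGroup.mk' N'
  have hq : Nat.card (D.C ⧸ N') = 6 := by
    have h := N'.card_mul_index
    rw [Nat.card_congr (subgroupOfEquivOfLe F.hNC).toEquiv, F.hidx, mul_comm 6] at h
    exact Nat.eq_of_mul_eq_mul_left Nat.card_pos h
  set w' : D.C := ⟨D.el3, D.w_C⟩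
  set a' : D.C := ⟨F.a, F.haC⟩
  have hw3 : π w' ^ 3 = 1 := by
    rw [← map_pow, show w' ^ 3 = 1 from Subtype.ext (D.w_ord ▸ pow_orderOf_eq_one D.el3), map_one]
  have hwne : π w' ≠ 1 := fun h => by
    have h' : D.el3 ∈ F.N := mem_subgroupOf.1 ((QuotientGroup.eq_one_iff (N := N') w').1 h)
    have := orderOf_dvd_natCard (⟨_, h'⟩ : F.N)
    rw [Subgroup.orderOf_mk, D.w_ord] at this
    exact F.h3 this
  have hwo : orderOf (π w') = 3 := by
    haveI : Fact (Nat.Prime 3) := ⟨Nat.prime_three⟩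
    exact orderOf_eq_prime hw3 hwne
  have hane : π a' ∉ zpowers (π w') := fun h => by
    obtain ⟨i, hi⟩ := mem_zpowers_iff.1 h
    have hc : π a' * π w' * (π a')⁻¹ = π w' := by
      rw [← hi, ((Commute.refl (π w')).zpow_left i).eq, mul_inv_cancel_right]
    have hc' : π a' * π w' * (π a')⁻¹ = (π w')⁻¹ := by
      rw [← map_mul, ← map_inv, ← map_mul, ← map_inv]
      exact congrArg π (Subtype.ext F.hinv)
    have h2 : π w' ^ 2 = 1 := by rw [pow_two]; exact (eq_inv_iff_mul_eq_one).1 (hc.symm.trans hc')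
    have := orderOf_dvd_of_pow_eq_one h2
    rw [hwo] at this; omega
  set f : Fin 3 × Fin 2 → D.C ⧸ N' := fun p => π w' ^ (p.1 : ℕ) * π a' ^ (p.2 : ℕ)
  have hinj : Function.Injective f := by
    intro p q h
    have hw : ∀ i : ℕ, π w' ^ i ∈ zpowers (π w') := fun i => pow_mem (mem_zpowers _) i
    have key : ∀ (i i' : ℕ), π w' ^ i ≠ π w' ^ i' * π a' := fun i i' hh => hane (by
      rw [show π a' = (π w' ^ i')⁻¹ * π w' ^ i by rw [hh, inv_mul_cancel_left]]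
      exact mul_mem (inv_mem (hw _)) (hw _))
    have h2 : (p.2 : ℕ) = q.2 := by
      have hp := p.2.isLt
      have hq' := q.2.isLt
      by_contra hne
      rcases (show ((p.2 : ℕ) = 0 ∧ (q.2 : ℕ) = 1) ∨ ((p.2 : ℕ) = 1 ∧ (q.2 : ℕ) = 0) by omega) with ⟨e1, e2⟩ | ⟨e1, e2⟩
      · exact key p.1 q.1 (by simpa [f, e1, e2] using h)
      · exact key q.1 p.1 (by simpa [f, e1, e2] using h.symm)
    have h1 : π w' ^ (p.1 : ℕ) = π w' ^ (q.1 : ℕ) := mul_right_cancel (by simpa only [f, h2] using h)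
    exact Prod.ext (Fin.ext (pow_injOn_Iio_orderOf (by rw [hwo]; exact p.1.isLt) (by rw [hwo]; exact q.1.isLt) h1))
      (Fin.ext h2)
  have hsurj : Function.Surjective f :=
    ((Nat.bijective_iff_injective_and_card f).2 ⟨hinj, by rw [hq]; simp⟩).2
  obtain ⟨p, hp⟩ := hsurj (π ⟨x, hx⟩)
  set y : D.C := w' ^ (p.1 : ℕ) * a' ^ (p.2 : ℕ)
  have hmem : (⟨x, hx⟩ : D.C) * y⁻¹ ∈ N' := by
    rw [← QuotientGroup.eq_one_iff]
    show π (⟨x, hx⟩ * y⁻¹) = 1
    rw [map_mul, map_inv, ← hp, show π y = f p by simp [y, f], mul_inv_cancel]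
  refine ⟨x * (y : G)⁻¹, by simpa using mem_subgroupOf.1 hmem, p.1, p.2, p.2.isLt, ?_⟩
  rw [show (y : G) = D.el3 ^ (p.1 : ℕ) * F.a ^ (p.2 : ℕ) by simp [y, w', a']]
  group

/-- The Sylow subgroup. -/
def S : Subgroup G where
  carrier := {x | x ∈ F.P ∨ x * F.a ∈ F.P}
  one_mem' := Or.inl (one_mem _)
  mul_mem' := by
    intro x y hx hy
    have ha : ∀ {z : G}, z ∈ F.P → F.a⁻¹ * z * F.a ∈ F.P := fun hz => by
      simpa using F.conj_P (inv_mem F.haC) hz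
    have haa : (F.a * F.a)⁻¹ ∈ F.P := inv_mem (F.zu_le F.asq)
    rcases hx with hx | hx <;> rcases hy with hy | hy
    · exact Or.inl (mul_mem hx hy)
    · exact Or.inr (by rw [mul_assoc]; exact mul_mem hx hy)
    · refine Or.inr ?_
      rw [show x * y * F.a = (x * F.a) * (F.a⁻¹ * y * F.a) by group]
      exact mul_mem hx (ha hy)
    · refine Or.inl ?_
      rw [show x * y = (x * F.a) * ((F.a⁻¹ * (y * F.a) * F.a) * (F.a * F.a)⁻¹) by group]
      exact mul_mem hx (mul_mem (ha hy) haa)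
  inv_mem' := by
    intro x hx
    rcases hx with hx | hx
    · exact Or.inl (inv_mem hx)
    · refine Or.inr ?_
      rw [show x⁻¹ * F.a = F.a * (x * F.a)⁻¹ * F.a⁻¹ * (F.a * F.a) by group]
      exact mul_mem (F.conj_P F.haC (inv_mem hx)) (F.zu_le F.asq)

theorem mem_S {x : G} : x ∈ F.S ↔ x ∈ F.P ∨ x * F.a ∈ F.P := Iff.rfl

theorem P_le_S : F.P ≤ F.S := fun _ hx => Or.inl hx

theorem a_S : F.a ∈ F.S := Or.inr (F.zu_le F.asq)

theorem S_le_C : F.S ≤ D.C := by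
  rintro x (hx | hx)
  · exact F.P_le_C hx
  · rw [show x = x * F.a * F.a⁻¹ by group]; exact mul_mem (F.P_le_C hx) (inv_mem F.haC)

theorem S_coset {x : G} (hx : x ∈ F.S) (hxP : x ∉ F.P) : ∃ p ∈ F.P, x = p * F.a⁻¹ :=
  ⟨x * F.a, hx.resolve_left hxP, by group⟩

theorem card_S : Nat.card F.S = 2 * Nat.card F.P := by
  have hset : (F.S : Set G) = (F.P : Set G) ∪ (fun p => p * F.a⁻¹) '' (F.P : Set G) := by
    ext x
    constructor
    · rintro (hx | hx)
      · exact Or.inl hx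
      · exact Or.inr ⟨_, hx, by group⟩
    · rintro (hx | ⟨p, hp, rfl⟩)
      · exact Or.inl hx
      · exact Or.inr (show p * F.a⁻¹ * F.a ∈ F.P by rw [inv_mul_cancel_right]; exact hp)
  have hd : Disjoint (F.P : Set G) ((fun p => p * F.a⁻¹) '' (F.P : Set G)) := by
    rw [Set.disjoint_left]
    rintro x hx ⟨p, hp, rfl⟩
    exact F.a_notP (by simpa using inv_mem (mul_mem (inv_mem hp) hx))
  rw [← SetLike.coe_sort_coe, Nat.card_coe_set_eq, hset, Set.ncard_union_eq hd,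
    Set.ncard_image_of_injective _ (mul_left_injective _), ← Nat.card_coe_set_eq, two_mul]
  rfl

theorem two_card {T : Subgroup G} (hT : IsPGroup 2 T) (hTC : T ≤ D.C) : Nat.card T ≤ 2 * Nat.card F.P := by
  haveI : Fact (Nat.Prime 2) := ⟨Nat.prime_two⟩
  obtain ⟨k, hk⟩ := IsPGroup.iff_card.1 hT
  have h : Nat.card T ∣ (2 * Nat.card F.P) * (3 * Nat.card F.W) := by
    rw [show 2 * Nat.card F.P * (3 * Nat.card F.W) = 6 * (Nat.card F.P * Nat.card F.W) by ring, ← F.hcard, ← F.hidx]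
    exact card_dvd_of_le hTC
  refine Nat.le_of_dvd (Nat.mul_pos two_pos Nat.card_pos) (Nat.Coprime.dvd_of_dvd_mul_right ?_ h)
  rw [hk]
  exact (Nat.coprime_two_left.2 (Odd.mul (by decide) F.hodd)).pow_left k

theorem isPGroup_S : IsPGroup 2 F.S := by
  haveI : Fact (Nat.Prime 2) := ⟨Nat.prime_two⟩
  obtain ⟨k, hk⟩ := IsPGroup.iff_card.1 F.isPGroup
  exact IsPGroup.of_card (n := k + 1) (by rw [F.card_S, hk, pow_succ, mul_comm])

theorem sylow_card [IsSimpleGroup G] (T : Sylow 2 G) : Nat.card (T : Subgroup G) = Nat.card F.S := by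
  haveI : Fact (Nat.Prime 2) := ⟨Nat.prime_two⟩
  obtain ⟨T0, -, hT0⟩ := D.exists_sylow
  rw [Nat.card_congr (T.equiv T0).toEquiv]
  exact le_antisymm (F.card_S.symm ▸ F.two_card T0.2 hT0)
    (Nat.le_of_dvd Nat.card_pos (Ctx.card_sylow_dvd F.isPGroup_S T0))

/-- the Sylow subgroup as such -/
def sylow [IsSimpleGroup G] : Sylow 2 G where
  toSubgroup := F.S
  isPGroup' := F.isPGroup_S
  is_maximal' := fun {Q} hQ hle => by
    haveI : Fact (Nat.Prime 2) := ⟨Nat.prime_two⟩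
    obtain ⟨T⟩ : Nonempty (Sylow 2 G) := inferInstance
    exact (eq_of_le_of_card_ge hle (F.sylow_card T ▸ Nat.le_of_dvd Nat.card_pos (Ctx.card_sylow_dvd hQ T))).symm

/-- a coset of the nilpotent part moved by the element of order three -/
theorem a_conj_notN : D.el3 * F.a⁻¹ * D.el3⁻¹ ∉ F.N ∧ D.el3 * F.a⁻¹ * D.el3⁻¹ * F.a ∉ F.N := by
  constructor
  · intro h
    exact F.a_notN (by simpa using inv_mem ((mem_normalizer_iff.1 (F.hnorm D.w_C) _).2 h))
  · intro h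
    rw [show D.el3 * F.a⁻¹ * D.el3⁻¹ * F.a = D.el3 * (F.a⁻¹ * D.el3⁻¹ * F.a) by group] at h
    have e : F.a⁻¹ * D.el3⁻¹ * F.a = D.el3 := by rw [← F.hinv]; group
    rw [e] at h
    have h' := orderOf_dvd_natCard (⟨_, h⟩ : F.N)
    rw [Subgroup.orderOf_mk, ← pow_two, orderOf_pow' _ two_ne_zero, D.w_ord] at h'
    exact F.h3 h'

theorem mem_P_of_both {x : G} (hx : x ∈ F.S) (hwx : D.el3 * x * D.el3⁻¹ ∈ F.S) : x ∈ F.P := by
  by_contra hxP
  obtain ⟨p, hp, rfl⟩ := F.S_coset hx hxP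
  have h1 : D.el3 * F.a⁻¹ * D.el3⁻¹ ∈ F.S := by
    have := mul_mem (inv_mem (F.P_le_S (F.conj_P D.w_C hp))) hwx
    rwa [show (D.el3 * p * D.el3⁻¹)⁻¹ * (D.el3 * (p * F.a⁻¹) * D.el3⁻¹) = D.el3 * F.a⁻¹ * D.el3⁻¹ by group] at this
  rcases h1 with h | h
  · exact F.a_conj_notN.1 (F.P_le h)
  · exact F.a_conj_notN.2 (F.P_le h)

theorem le_P_of_inv {R : Subgroup G} (hR : R ≤ F.S) (hw : D.el3 ∈ normalizer (R : Set G)) : R ≤ F.P :=
  fun x hx => F.mem_P_of_both (hR hx) (hR ((mem_normalizer_iff.1 hw x).1 hx))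

include F in
theorem three_sylow {x : G} (hx : x ∈ D.C) (h3 : orderOf x = 3) :
    ∃ c ∈ D.C, c * D.el3 * c⁻¹ = x ∨ c * D.el3 * c⁻¹ = x⁻¹ := by
  haveI : Fact (Nat.Prime 3) := ⟨Nat.prime_three⟩
  have h6 : Nat.factorization 6 3 = 1 := by
    rw [show (6 : ℕ) = 3 * 2 from rfl, Nat.factorization_mul (by norm_num) (by norm_num), Finsupp.add_apply,
      Nat.Prime.factorization_self Nat.prime_three, Nat.factorization_eq_zero_of_not_dvd (by norm_num : ¬ 3 ∣ 2)]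
  have hS : ∀ y : D.C, orderOf y = 3 → Nat.card (zpowers y) = 3 ^ (Nat.card D.C).factorization 3 := fun y hy => by
    rw [Nat.card_zpowers, hy, F.hidx, Nat.factorization_mul (by norm_num) Nat.card_pos.ne', Finsupp.add_apply,
      h6, Nat.factorization_eq_zero_of_not_dvd F.h3]
    rfl
  have hwo : orderOf (⟨D.el3, D.w_C⟩ : D.C) = 3 := by rw [← orderOf_coe]; exact D.w_ord
  have hxo : orderOf (⟨x, hx⟩ : D.C) = 3 := by rw [← orderOf_coe]; exact h3
  obtain ⟨c, hc⟩ := MulAction.exists_smul_eq D.C (Sylow.ofCard _ (hS _ hwo)) (Sylow.ofCard _ (hS _ hxo))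
  have hmem : (⟨(c : G) * D.el3 * (c : G)⁻¹, mul_mem (mul_mem c.2 D.w_C) (inv_mem c.2)⟩ : D.C) ∈
      zpowers (⟨x, hx⟩ : D.C) := by
    have : (c * ⟨D.el3, D.w_C⟩ * c⁻¹ : D.C) ∈ ((c • Sylow.ofCard _ (hS _ hwo) : Sylow 3 D.C) : Subgroup D.C) :=
      ⟨⟨D.el3, D.w_C⟩, mem_zpowers _, rfl⟩
    rw [hc] at this
    exact this
  obtain ⟨i, hi⟩ := mem_zpowers_iff.1 hmem
  have hi' : x ^ i = (c : G) * D.el3 * (c : G)⁻¹ := congrArg Subtype.val hi
  rw [← zpow_mod_orderOf, h3] at hi'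
  have h0 := Int.emod_nonneg i (show ((3 : ℕ) : ℤ) ≠ 0 by norm_num)
  have h1 := Int.emod_lt_of_pos i (show (0 : ℤ) < ((3 : ℕ) : ℤ) by norm_num)
  refine ⟨c, c.2, ?_⟩
  generalize i % ((3 : ℕ) : ℤ) = j at hi' h0 h1
  interval_cases j
  · rw [zpow_zero] at hi'
    exact absurd (conj_eq_one_iff.1 hi'.symm) D.w_ne
  · exact Or.inl (by rw [← hi', zpow_one])
  · refine Or.inr (hi'.symm.trans (eq_inv_of_mul_eq_one_left ?_))
    rw [← zpow_add_one, show (2 : ℤ) + 1 = (orderOf x : ℤ) by rw [h3]; rfl, zpow_natCast, pow_orderOf_eq_one]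

include F in
/-- no element of order three of the centraliser fixes more of the two-part -/
theorem three_fix {x z : G} (hx : x ∈ D.C) (h3 : orderOf x = 3) (hz : z ∈ F.P) (hxz : x * z = z * x) :
    z ∈ zpowers D.inv2 := by
  obtain ⟨c, hc, hcw⟩ := F.three_sylow hx h3
  have hcz : Commute (c⁻¹ * z * c) D.el3 := by
    have h : Commute z (c * D.el3 * c⁻¹) := by
      rcases hcw with e | e <;> rw [e]
      · exact hxz.symm
      · exact (show Commute z x from hxz.symm).inv_right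
    have := congrArg (fun v => c⁻¹ * v * c) h.eq
    show c⁻¹ * z * c * D.el3 = D.el3 * (c⁻¹ * z * c)
    simpa [mul_assoc] using this
  have hmem : c⁻¹ * z * c ∈ F.P := by simpa using F.conj_P (inv_mem hc) hz
  rcases F.fix_P hmem hcz.eq with e | e
  · rw [show z = c * (c⁻¹ * z * c) * c⁻¹ by group, e]; simp
  · rw [show z = c * (c⁻¹ * z * c) * c⁻¹ by group, e, D.mem_C.1 hc, mul_inv_cancel_right]
    exact mem_zpowers _

/-- what an outer element and its conjugate fix -/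
theorem outside {z x : G} (hz : z ∈ F.S) (hzP : z ∉ F.P) (hx : x ∈ F.P) (h1 : x * z = z * x)
    (h2 : x * (D.el3 * z * D.el3⁻¹) = D.el3 * z * D.el3⁻¹ * x) : x ∈ zpowers D.inv2 := by
  haveI : Fact (Nat.Prime 3) := ⟨Nat.prime_three⟩
  set y := D.el3 * z * D.el3⁻¹ * z⁻¹ with hy
  have hyC : y ∈ D.C :=
    mul_mem (mul_mem (mul_mem D.w_C (F.S_le_C hz)) (inv_mem D.w_C)) (inv_mem (F.S_le_C hz))
  have hyN : y ∉ F.N := by
    obtain ⟨p, hp, rfl⟩ := F.S_coset hz hzP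
    intro h
    refine F.a_conj_notN.2 ?_
    rw [show D.el3 * F.a⁻¹ * D.el3⁻¹ * F.a = (D.el3 * p * D.el3⁻¹)⁻¹ * (y * p) by rw [hy]; group]
    exact mul_mem (inv_mem (F.P_le (F.conj_P D.w_C hp))) (mul_mem h (F.P_le hp))
  -- modulo the nilpotent part it has order three
  set N' := F.N.subgroupOf D.C
  haveI : N'.Normal := (normal_subgroupOf_iff_le_normalizer F.hNC).2 F.hnorm
  set π := QuotientGroup.mk' N'
  have hπ : π ⟨y, hyC⟩ ^ 3 = 1 := by
    have hsq : z * z ∈ F.N := by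
      obtain ⟨p, hp, rfl⟩ := F.S_coset hz hzP
      rw [show p * F.a⁻¹ * (p * F.a⁻¹) = p * (F.a⁻¹ * p * F.a) * (F.a * F.a)⁻¹ by group]
      exact F.P_le (mul_mem (mul_mem hp (by simpa using F.conj_P (inv_mem F.haC) hp)) (inv_mem (F.zu_le F.asq)))
    have hw3 : D.el3 ^ 3 = 1 := D.w_ord ▸ pow_orderOf_eq_one D.el3
    have hπn : ∀ c : D.C, (c : G) ∈ F.N → π c = 1 := fun c hc => (QuotientGroup.eq_one_iff c).2 (mem_subgroupOf.2 hc)
    set W' : D.C := ⟨D.el3, D.w_C⟩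
    set Z' : D.C := ⟨z, F.S_le_C hz⟩
    have hZ2 : π Z' * π Z' = 1 := by rw [← map_mul]; exact hπn _ hsq
    obtain ⟨p, hp, hpe⟩ := F.S_coset hz hzP
    set A' : D.C := ⟨F.a, F.haC⟩
    have hA : π Z' = π A'⁻¹ := by
      rw [show Z' = ⟨p, F.P_le_C hp⟩ * A'⁻¹ from Subtype.ext hpe, map_mul,
        hπn ⟨p, F.P_le_C hp⟩ (F.P_le hp), one_mul]
    have hinv : π Z' * π W' * (π Z')⁻¹ = (π W')⁻¹ := by
      have e : π A' = π Z' := by
        have h2 : π A' * π A' = 1 := by rw [← map_mul]; exact hπn _ (F.P_le (F.zu_le F.asq))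
        rw [hA, map_inv]
        exact eq_inv_of_mul_eq_one_left h2
      rw [← e, ← map_mul, ← map_inv, ← map_mul, ← map_inv]
      exact congrArg π (Subtype.ext F.hinv)
    have hy' : π ⟨y, hyC⟩ = π W' * π W' := by
      rw [show (⟨y, hyC⟩ : D.C) = W' * Z' * W'⁻¹ * Z'⁻¹ from Subtype.ext hy, map_mul, map_mul, map_mul, map_inv,
        map_inv, ← hinv]
      calc π W' * π Z' * (π Z' * π W' * (π Z')⁻¹) * (π Z')⁻¹
          = π W' * (π Z' * π Z') * π W' * (π Z' * π Z')⁻¹ := by group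
        _ = π W' * π W' := by rw [hZ2, mul_one, inv_one, mul_one]
    rw [hy', ← map_mul, ← map_pow, show (W' * W') ^ 3 = 1 from Subtype.ext (show (D.el3 * D.el3) ^ 3 = 1 by
      rw [← pow_two, ← pow_mul, mul_comm, pow_mul, hw3, one_pow]), map_one]
  -- the part of order three
  have h3d : 3 ∣ orderOf y := by
    have h : orderOf (π ⟨y, hyC⟩) = 3 := orderOf_eq_prime hπ fun h => hyN (mem_subgroupOf.1
      ((QuotientGroup.eq_one_iff _).1 h))
    rw [← h, ← Subgroup.orderOf_mk y hyC]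
    exact orderOf_map_dvd _ _
  obtain ⟨m, hm⟩ := h3d
  have hm0 : m ≠ 0 := fun h => (orderOf_pos y).ne' (by rw [hm, h, mul_zero])
  have hy3 : orderOf (y ^ m) = 3 := by
    rw [orderOf_pow' _ hm0, hm, Nat.gcd_eq_right (dvd_mul_left m 3), Nat.mul_div_cancel _ (Nat.pos_of_ne_zero hm0)]
  refine F.three_fix (pow_mem hyC m) hy3 hx ?_
  exact (((show Commute x (D.el3 * z * D.el3⁻¹) from h2).mul_right
    (show Commute x z from h1).inv_right).pow_right m).symm.eq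

end SymCtx

end Cfsg.Agent.Char.OrderSix
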