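import Cfsg.Agent.Lib.Char.OrderSix.SymBase

/-!
# Index six: involutions in the centre of the two-part
-/

set_option autoImplicit false
set_option linter.unusedSectionVars false
set_option linter.style.haveILetI false

open Cfsg Subgroup

namespace Cfsg.Agent.Char.OrderSix

universe u
variable {G : Type u} [Group G] [Finite G]

namespace SymCtx

variable {D : Ctx G} (F : SymCtx D)

/-- the central involutions of the two-part -/
def V : Subgroup G where
  carrier := {z | z ∈ F.P ∧ (∀ x ∈ F.P, x * z = z * x) ∧ z * z = 1}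
  one_mem' := ⟨one_mem _, fun x _ => by simp, one_mul 1⟩
  mul_mem' := fun {a b} ha hb => ⟨mul_mem ha.1 hb.1,
    fun x hx => ((show Commute x a from ha.2.1 x hx).mul_right (hb.2.1 x hx)).eq, by
    rw [(show Commute b a from ha.2.1 b hb.1).mul_mul_mul_comm, ha.2.2, hb.2.2, one_mul]⟩
  inv_mem' := fun {a} ha => ⟨inv_mem ha.1, fun x hx => ((show Commute x a from ha.2.1 x hx).inv_right).eq,
    by rw [← mul_inv_rev, ha.2.2, inv_one]⟩

theorem mem_V {z : G} : z ∈ F.V ↔ z ∈ F.P ∧ (∀ x ∈ F.P, x * z = z * x) ∧ z * z = 1 := Iff.rfl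

theorem V_le_P : F.V ≤ F.P := fun _ hz => hz.1

theorem u_V : D.inv2 ∈ F.V := ⟨F.u_P, fun _ hx => D.mem_C.1 (F.P_le_C hx), D.uu⟩

theorem conj_V {m z : G} (hm : m ∈ normalizer (F.P : Set G)) (hz : z ∈ F.V) : m * z * m⁻¹ ∈ F.V := by
  refine ⟨(mem_normalizer_iff.1 hm z).1 hz.1, fun x hx => ?_, by
    rw [show m * z * m⁻¹ * (m * z * m⁻¹) = m * (z * z) * m⁻¹ by group, hz.2.2]; group⟩
  have hx' := (mem_normalizer_iff.1 (inv_mem hm) x).1 hx
  have := congrArg (fun t => m * t * m⁻¹) (hz.2.1 _ hx')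
  simpa [mul_assoc] using this

theorem a_norm : F.a ∈ normalizer (F.P : Set G) := F.C_le_normalizer_P F.haC

theorem w_norm : D.el3 ∈ normalizer (F.P : Set G) := F.C_le_normalizer_P D.w_C

/-- the part fixed by the inverting element -/
def Y : Subgroup G := F.V ⊓ centralizer ({F.a} : Set G)

theorem mem_Y {z : G} : z ∈ F.Y ↔ z ∈ F.V ∧ F.a * z = z * F.a :=
  and_congr Iff.rfl (mem_centralizer_singleton_iff.trans eq_comm)

theorem u_Y : D.inv2 ∈ F.Y := F.mem_Y.2 ⟨F.u_V, D.mem_C.1 F.haC⟩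

theorem Y_central {z : G} (hz : z ∈ F.Y) {x : G} (hx : x ∈ F.S) : x * z = z * x := by
  obtain ⟨hzV, hza⟩ := F.mem_Y.1 hz
  by_cases hxP : x ∈ F.P
  · exact hzV.2.1 x hxP
  · obtain ⟨p, hp, rfl⟩ := F.S_coset hx hxP
    exact ((show Commute p z from hzV.2.1 p hp).mul_left (show Commute F.a z from hza).inv_left).eq

theorem central_Y (hbig : ¬ F.P ≤ zpowers D.inv2) {z : G} (hz : z ∈ F.S) (hc : ∀ x ∈ F.S, x * z = z * x)
    (hz2 : z * z = 1) : z ∈ F.Y := by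
  by_cases hzP : z ∈ F.P
  · exact F.mem_Y.2 ⟨⟨hzP, fun x hx => hc x (F.P_le_S hx), hz2⟩, hc _ F.a_S⟩
  refine absurd (fun x hx => F.outside hz hzP hx (hc x (F.P_le_S hx)) ?_) hbig
  have hx' : D.el3⁻¹ * x * D.el3 ∈ F.P := by simpa using F.conj_P (inv_mem D.w_C) hx
  have := congrArg (fun t => D.el3 * t * D.el3⁻¹) (hc _ (F.P_le_S hx'))
  simpa [mul_assoc] using this

theorem card_sq : 2 * Nat.card F.V = Nat.card F.Y * Nat.card F.Y := by
  classical
  have hcomm : ∀ x y : F.V, (x : G) * y = y * x := fun x y => y.2.2.1 x x.2.1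
  have hwV : ∀ x : F.V, D.el3 * (x : G) * D.el3⁻¹ ∈ F.V := fun x => F.conj_V F.w_norm x.2
  have hwV' : ∀ x : F.V, D.el3⁻¹ * (x : G) * D.el3 ∈ F.V := fun x => by
    simpa using F.conj_V (inv_mem F.w_norm) x.2
  have haV : ∀ x : F.V, F.a * (x : G) * F.a⁻¹ ∈ F.V := fun x => F.conj_V F.a_norm x.2
  have hcV : ∀ {x y : G}, x ∈ F.V → y ∈ F.V → Commute x y := fun hx hy => hy.2.1 _ hx.1
  let φ : F.V →* G :=
    { toFun := fun x => (x : G) * (F.a * x * F.a⁻¹)
      map_one' := by simp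
      map_mul' := fun x y => by
        have h : Commute (F.a * (x : G) * F.a⁻¹) y := hcV (haV x) y.2
        calc ((x * y : F.V) : G) * (F.a * ((x * y : F.V) : G) * F.a⁻¹)
            = (x : G) * (y * (F.a * x * F.a⁻¹)) * (F.a * y * F.a⁻¹) := by rw [coe_mul]; group
          _ = (x : G) * ((F.a * x * F.a⁻¹) * y) * (F.a * y * F.a⁻¹) := by rw [h.eq]
          _ = _ := by group }
  let ν : F.V →* G :=
    { toFun := fun x => (x : G) * (D.el3 * x * D.el3⁻¹) * (D.el3⁻¹ * x * D.el3)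
      map_one' := by simp
      map_mul' := fun x y => by
        have h1 : Commute (D.el3 * (x : G) * D.el3⁻¹) y := hcV (hwV x) y.2
        have h2 : Commute (D.el3⁻¹ * (x : G) * D.el3) ((y : G) * (D.el3 * y * D.el3⁻¹)) :=
          hcV (hwV' x) (mul_mem y.2 (hwV y))
        calc ((x * y : F.V) : G) * (D.el3 * ((x * y : F.V) : G) * D.el3⁻¹) * (D.el3⁻¹ * ((x * y : F.V) : G) * D.el3)
            = (x : G) * (y * (D.el3 * x * D.el3⁻¹)) * (D.el3 * y * D.el3⁻¹) *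
                ((D.el3⁻¹ * x * D.el3) * (D.el3⁻¹ * y * D.el3)) := by rw [coe_mul]; group
          _ = (x : G) * ((D.el3 * x * D.el3⁻¹) * y) * (D.el3 * y * D.el3⁻¹) *
                ((D.el3⁻¹ * x * D.el3) * (D.el3⁻¹ * y * D.el3)) := by rw [h1.eq]
          _ = (x : G) * (D.el3 * x * D.el3⁻¹) * (((y : G) * (D.el3 * y * D.el3⁻¹)) * (D.el3⁻¹ * x * D.el3)) *
                (D.el3⁻¹ * y * D.el3) := by group
          _ = _ := by rw [← h2.eq]; group }
  have hw3 : D.el3 * D.el3 * D.el3 = 1 := by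
    rw [← pow_two, ← pow_succ, show 2 + 1 = orderOf D.el3 from D.w_ord.symm]; exact pow_orderOf_eq_one _
  have hνU : ∀ x, ν x ∈ zpowers D.inv2 := fun x => by
    have hm : ν x ∈ F.V := mul_mem (mul_mem x.2 (hwV x)) (hwV' x)
    refine D.mem_zu.2 (F.fix_P hm.1 ?_)
    have e : D.el3 * ν x * D.el3⁻¹ = ν x := by
      show D.el3 * ((x : G) * (D.el3 * x * D.el3⁻¹) * (D.el3⁻¹ * x * D.el3)) * D.el3⁻¹ =
        (x : G) * (D.el3 * x * D.el3⁻¹) * (D.el3⁻¹ * x * D.el3)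
      have hsq : D.el3 * D.el3 = D.el3⁻¹ := (inv_eq_of_mul_eq_one_left hw3).symm
      calc _ = (D.el3 * x * D.el3⁻¹) * ((D.el3 * D.el3) * x * (D.el3 * D.el3)⁻¹) * x := by group
        _ = (D.el3 * x * D.el3⁻¹) * (D.el3⁻¹ * x * D.el3) * x := by rw [hsq, inv_inv]
        _ = _ := by rw [(hcV (mul_mem (hwV x) (hwV' x)) x.2).eq]; group
    exact (mul_inv_eq_iff_eq_mul.1 e).symm
  -- kernel and image of the first map
  have hker : φ.ker = F.Y.subgroupOf F.V := by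
    ext x
    rw [MonoidHom.mem_ker, mem_subgroupOf, F.mem_Y]
    show (x : G) * (F.a * x * F.a⁻¹) = 1 ↔ _
    constructor
    · intro h
      refine ⟨x.2, ?_⟩
      have := eq_inv_of_mul_eq_one_right h
      rw [inv_eq_of_mul_eq_one_right x.2.2.2] at this
      exact mul_inv_eq_iff_eq_mul.1 this
    · rintro ⟨-, h⟩
      rw [h, mul_inv_cancel_right, x.2.2.2]
  have hYV : F.Y ≤ F.V := inf_le_left
  have hrange : φ.range = F.Y ⊓ ν.ker.map F.V.subtype := by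
    refine le_antisymm ?_ ?_
    · rintro _ ⟨x, rfl⟩
      have hm : φ x ∈ F.V := mul_mem x.2 (haV x)
      refine ⟨F.mem_Y.2 ⟨hm, ?_⟩, ⟨⟨_, hm⟩, ?_, rfl⟩⟩
      · show F.a * ((x : G) * (F.a * x * F.a⁻¹)) = (x : G) * (F.a * x * F.a⁻¹) * F.a
        have h2 : Commute (F.a * F.a) (x : G) := by
          rcases D.mem_zu.1 F.asq with e | e <;> rw [e]
          · exact Commute.one_left _
          · exact (show Commute (x : G) D.inv2 from D.mem_C.1 (F.P_le_C x.2.1)).symm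
        calc F.a * ((x : G) * (F.a * x * F.a⁻¹)) = (F.a * x * F.a⁻¹) * ((F.a * F.a) * x) * F.a⁻¹ := by group
          _ = (F.a * x * F.a⁻¹) * x * F.a := by rw [h2.eq]; group
          _ = _ := by rw [(hcV (haV x) x.2).eq]
      · show ν ⟨φ x, hm⟩ = 1
        have e : ν ⟨φ x, hm⟩ = ν x * ν ⟨_, haV x⟩ := by rw [← map_mul]; rfl
        rw [e]
        have e' : ν ⟨_, haV x⟩ = ν x := by
          have hswap : ∀ y : G, F.a * (D.el3 * y * D.el3⁻¹) * F.a⁻¹ = D.el3⁻¹ * (F.a * y * F.a⁻¹) * D.el3 := fun y => by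
            calc F.a * (D.el3 * y * D.el3⁻¹) * F.a⁻¹
                = (F.a * D.el3 * F.a⁻¹) * (F.a * y * F.a⁻¹) * (F.a * D.el3 * F.a⁻¹)⁻¹ := by group
              _ = _ := by rw [F.hinv, inv_inv]
          have hfix : F.a * ν x * F.a⁻¹ = ν x := by
            rcases D.mem_zu.1 (hνU x) with e | e <;> rw [e]
            · group
            · rw [D.mem_C.1 F.haC, mul_inv_cancel_right]
          conv_rhs => rw [← hfix]
          show F.a * (x : G) * F.a⁻¹ * (D.el3 * (F.a * x * F.a⁻¹) * D.el3⁻¹) * (D.el3⁻¹ * (F.a * x * F.a⁻¹) * D.el3) =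
            F.a * ((x : G) * (D.el3 * x * D.el3⁻¹) * (D.el3⁻¹ * x * D.el3)) * F.a⁻¹
          have hswap2 : F.a * (D.el3⁻¹ * (x : G) * D.el3) * F.a⁻¹ = D.el3 * (F.a * x * F.a⁻¹) * D.el3⁻¹ := by
            calc F.a * (D.el3⁻¹ * (x : G) * D.el3) * F.a⁻¹
                = (F.a * D.el3 * F.a⁻¹)⁻¹ * (F.a * x * F.a⁻¹) * (F.a * D.el3 * F.a⁻¹) := by group
              _ = _ := by rw [F.hinv, inv_inv]
          rw [show F.a * ((x : G) * (D.el3 * x * D.el3⁻¹) * (D.el3⁻¹ * x * D.el3)) * F.a⁻¹ =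
            (F.a * x * F.a⁻¹) * (F.a * (D.el3 * x * D.el3⁻¹) * F.a⁻¹) * (F.a * (D.el3⁻¹ * x * D.el3) * F.a⁻¹) by group,
            hswap, hswap2, mul_assoc (F.a * (x : G) * F.a⁻¹),
            (hcV (hwV ⟨_, haV x⟩) (hwV' ⟨_, haV x⟩)).eq, ← mul_assoc]
        rw [e']
        rcases D.mem_zu.1 (hνU x) with h | h <;> rw [h]
        · rw [one_mul]
        · exact D.uu
    · rintro z ⟨hzY, ⟨z', hz', rfl⟩⟩
      refine ⟨⟨_, hwV z'⟩, ?_⟩
      have hz1 : (z' : G) * (D.el3 * z' * D.el3⁻¹) * (D.el3⁻¹ * z' * D.el3) = 1 := hz'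
      have haz : F.a * (z' : G) = z' * F.a := (F.mem_Y.1 hzY).2
      show D.el3 * (z' : G) * D.el3⁻¹ * (F.a * (D.el3 * z' * D.el3⁻¹) * F.a⁻¹) = (z' : G)
      have e1 : F.a * (D.el3 * (z' : G) * D.el3⁻¹) * F.a⁻¹ = D.el3⁻¹ * z' * D.el3 := by
        calc F.a * (D.el3 * (z' : G) * D.el3⁻¹) * F.a⁻¹
            = (F.a * D.el3 * F.a⁻¹) * (F.a * z' * F.a⁻¹) * (F.a * D.el3 * F.a⁻¹)⁻¹ := by group
          _ = _ := by rw [F.hinv, haz, mul_inv_cancel_right, inv_inv]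
      rw [e1]
      calc D.el3 * (z' : G) * D.el3⁻¹ * (D.el3⁻¹ * z' * D.el3)
          = (z' : G)⁻¹ * ((z' : G) * (D.el3 * z' * D.el3⁻¹) * (D.el3⁻¹ * z' * D.el3)) := by group
        _ = (z' : G) := by rw [hz1, mul_one, inv_eq_of_mul_eq_one_right z'.2.2.2]
  have h1 := φ.ker.card_mul_index
  rw [index_ker, hker, Nat.card_congr (subgroupOfEquivOfLe hYV).toEquiv] at h1
  -- the second map on the fixed part
  set ν' := ν.comp (inclusion hYV)
  have hν' : ν'.range = zpowers D.inv2 := by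
    refine le_antisymm ?_ (zpowers_le.2 ⟨⟨_, F.u_Y⟩, ?_⟩)
    · rintro _ ⟨x, rfl⟩; exact hνU _
    · show D.inv2 * (D.el3 * D.inv2 * D.el3⁻¹) * (D.el3⁻¹ * D.inv2 * D.el3) = D.inv2
      rw [D.mem_C.1 D.w_C, mul_inv_cancel_right, mul_assoc D.el3⁻¹, D.comm_uw, inv_mul_cancel_left, D.uu, one_mul]
  have hk : Nat.card ν'.ker = Nat.card φ.range := by
    rw [hrange]
    refine Nat.card_congr ⟨fun x => ⟨((x : F.Y) : G), (x : F.Y).2, ⟨_, x.2, rfl⟩⟩,
      fun y => ⟨⟨y, y.2.1⟩, ?_⟩, fun x => rfl, fun y => rfl⟩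
    obtain ⟨z, hz, hzy⟩ := y.2.2
    show ν ⟨(y : G), _⟩ = 1
    rw [show (⟨(y : G), hYV y.2.1⟩ : F.V) = z from Subtype.ext hzy.symm]
    exact hz
  have h2 := ν'.ker.card_mul_index
  rw [index_ker, hν', Nat.card_zpowers, D.u_ord, hk] at h2
  rw [← h1, ← mul_assoc, mul_comm 2, mul_assoc, mul_comm 2, h2]

theorem four_le_Y {v : G} (hv : v ∈ F.V) (hvU : v ∉ zpowers D.inv2) : 4 ≤ Nat.card F.Y := by
  have h := F.card_sq
  have h4 : 3 ≤ Nat.card F.V := by
    have hsub : ({1, D.inv2, v} : Set G) ⊆ (F.V : Set G) := by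
      rintro z (rfl | rfl | rfl)
      · exact one_mem _
      · exact F.u_V
      · exact hv
    have h3 : ({1, D.inv2, v} : Set G).ncard = 3 := by
      rw [Set.ncard_insert_of_notMem, Set.ncard_pair]
      · exact fun h => hvU (h ▸ mem_zpowers _)
      · rintro (h | h)
        · exact D.u_ne h.symm
        · exact hvU (by rw [← show (1 : G) = v from h]; exact one_mem _)
    have := Set.ncard_le_ncard hsub (Set.toFinite _)
    rwa [h3, ← Nat.card_coe_set_eq] at this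
  haveI : Fact (Nat.Prime 2) := ⟨Nat.prime_two⟩
  obtain ⟨n, hn⟩ := IsPGroup.iff_card.1 (F.isPGroup.to_le (show F.Y ≤ F.P from fun z hz => F.V_le_P hz.1))
  rw [hn] at h ⊢
  match n, h with
  | 0, h => simp at h; try omega
  | 1, h => simp at h; try omega
  | n + 2, _ => exact (show 2 ^ 2 ≤ 2 ^ (n + 2) from Nat.pow_le_pow_right two_pos (by omega))

end SymCtx

end Cfsg.Agent.Char.OrderSix
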