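import Cfsg.Agent.Lib.Char.OrderSix.SymCenter

/-!
# Index six: a centre of order two
-/

set_option autoImplicit false
set_option linter.unusedSectionVars false
set_option linter.style.haveILetI false

open Cfsg Subgroup

namespace Cfsg.Agent.Char.OrderSix

universe u
variable {G : Type u} [Group G] [Finite G]

namespace SymCtx

variable {D : Ctx G} (F : SymCtx D)

/-- central elements of the two-part -/
theorem centre_sq {z : G} (hz : z ∈ F.P) (hzc : ∀ x ∈ F.P, x * z = z * x)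
    (hV : ∀ v ∈ F.V, v ∈ zpowers D.inv2) : z ∈ zpowers D.inv2 := by
  obtain ⟨-, k, hk⟩ := (F.hP z).1 hz
  induction k generalizing z with
  | zero => rw [pow_zero, pow_one] at hk; rw [hk]; exact one_mem _
  | succ k ih =>
    have hsq : z * z ∈ zpowers D.inv2 := ih (mul_mem hz hz) (fun x hx => by
      exact ((show Commute x z from hzc x hx).mul_right (hzc x hx)).eq) (by
      rw [← pow_two, ← pow_mul, ← pow_succ']; exact hk)
    set z' := z⁻¹ * (D.el3 * z * D.el3⁻¹) with hz'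
    have hcz : ∀ x ∈ F.P, x * (D.el3 * z * D.el3⁻¹) = D.el3 * z * D.el3⁻¹ * x := fun x hx => by
      have hx' : D.el3⁻¹ * x * D.el3 ∈ F.P := by simpa using F.conj_P (inv_mem D.w_C) hx
      have := congrArg (fun v => D.el3 * v * D.el3⁻¹) (hzc _ hx')
      simpa [mul_assoc] using this
    have h1 : z' ∈ F.P := mul_mem (inv_mem hz) (F.conj_P D.w_C hz)
    have h2 : ∀ x ∈ F.P, x * z' = z' * x := fun x hx =>
      ((show Commute x z from hzc x hx).inv_right.mul_right (hcz x hx)).eq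
    have h3 : z' * z' = 1 := by
      have hc : Commute (D.el3 * z * D.el3⁻¹) z⁻¹ := (show Commute _ z from hzc _ (F.conj_P D.w_C hz)).inv_right
      rw [hz', hc.mul_mul_mul_comm,
        show D.el3 * z * D.el3⁻¹ * (D.el3 * z * D.el3⁻¹) = D.el3 * (z * z) * D.el3⁻¹ by group]
      rcases D.mem_zu.1 hsq with e | e
      · rw [e, ← mul_inv_rev, e]; group
      · rw [e, ← mul_inv_rev, e, D.mem_C.1 D.w_C, mul_inv_cancel_right, inv_mul_cancel]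
    exact F.fixed_quot_P F.zu_le (mem_zpowers _) (D.C_le_normalizer D.w_C) hz (hV z' ⟨h1, h2, h3⟩)

/-- central modulo the involution -/
def Zc : Subgroup G where
  carrier := {z | z ∈ F.P ∧ ∀ x ∈ F.P, x * z * x⁻¹ * z⁻¹ ∈ zpowers D.inv2}
  one_mem' := ⟨one_mem _, fun x _ => by simp⟩
  mul_mem' := fun {a b} ha hb => ⟨mul_mem ha.1 hb.1, fun x hx => by
    have e : x * (a * b) * x⁻¹ * (a * b)⁻¹ =
        (x * a * x⁻¹ * a⁻¹) * (a * (x * b * x⁻¹ * b⁻¹) * a⁻¹) := by group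
    rw [e]
    exact mul_mem (ha.2 x hx) ((mem_normalizer_iff.1 (D.C_le_normalizer (F.P_le_C ha.1)) _).1 (hb.2 x hx))⟩
  inv_mem' := fun {a} ha => ⟨inv_mem ha.1, fun x hx => by
    have e : x * a⁻¹ * x⁻¹ * a⁻¹⁻¹ = a⁻¹ * (x * a * x⁻¹ * a⁻¹)⁻¹ * a⁻¹⁻¹ := by group
    rw [e]
    exact (mem_normalizer_iff.1 (D.C_le_normalizer (F.P_le_C (inv_mem ha.1))) _).1 (inv_mem (ha.2 x hx))⟩

theorem mem_Zc {z : G} : z ∈ F.Zc ↔ z ∈ F.P ∧ ∀ x ∈ F.P, x * z * x⁻¹ * z⁻¹ ∈ zpowers D.inv2 := Iff.rfl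

theorem conj_Zc {m z : G} (hm : m ∈ D.C) (hz : z ∈ F.Zc) : m * z * m⁻¹ ∈ F.Zc := by
  refine ⟨F.conj_P hm hz.1, fun x hx => ?_⟩
  have h := hz.2 _ (by simpa using F.conj_P (inv_mem hm) hx : m⁻¹ * x * m ∈ F.P)
  rw [show x * (m * z * m⁻¹) * x⁻¹ * (m * z * m⁻¹)⁻¹ =
    m * ((m⁻¹ * x * m) * z * (m⁻¹ * x * m)⁻¹ * z⁻¹) * m⁻¹ by group]
  exact (mem_normalizer_iff.1 (D.C_le_normalizer hm) _).1 h

include F in
theorem U_comm {z c : G} (hz : z ∈ zpowers D.inv2) (hc : c ∈ D.C) : Commute z c := by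
  rcases D.mem_zu.1 hz with rfl | rfl
  · exact Commute.one_left _
  · exact (show Commute c D.inv2 from D.mem_C.1 hc).symm

/-- The product of the three conjugates lies in the involution. -/
theorem triple_Zc {z : G} (hz : z ∈ F.Zc) :
    z * (D.el3 * z * D.el3⁻¹) * (D.el3⁻¹ * z * D.el3) ∈ zpowers D.inv2 := by
  set z1 := D.el3 * z * D.el3⁻¹ with h1
  set z2 := D.el3⁻¹ * z * D.el3 with h2
  have hz1 : z1 ∈ F.Zc := F.conj_Zc D.w_C hz
  have hz2 : z2 ∈ F.Zc := by simpa [h2] using F.conj_Zc (inv_mem D.w_C) hz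
  refine F.fixed_quot_P F.zu_le (mem_zpowers _) (D.C_le_normalizer D.w_C) (mul_mem (mul_mem hz hz1) hz2).1 ?_
  have hw3 : D.el3 * D.el3 * D.el3 = 1 := by
    rw [← pow_two, ← pow_succ, show 2 + 1 = orderOf D.el3 from D.w_ord.symm]; exact pow_orderOf_eq_one _
  have hsq : D.el3 * D.el3 = D.el3⁻¹ := (inv_eq_of_mul_eq_one_left hw3).symm
  have e : D.el3 * (z * z1 * z2) * D.el3⁻¹ = z1 * z2 * z := by
    calc D.el3 * (z * z1 * z2) * D.el3⁻¹
        = (D.el3 * z * D.el3⁻¹) * ((D.el3 * D.el3) * z * (D.el3 * D.el3)⁻¹) * z := by rw [h1, h2]; group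
      _ = z1 * z2 * z := by rw [hsq, inv_inv]
  rw [e, show (z * z1 * z2)⁻¹ * (z1 * z2 * z) = (z1 * z2)⁻¹ * (z⁻¹ * ((z1 * z2) * z * (z1 * z2)⁻¹ * z⁻¹) * z) * (z1 * z2) by group]
  have h := hz.2 (z1 * z2) (mul_mem hz1 hz2).1
  rw [(F.U_comm h (F.P_le_C hz.1)).symm.inv_left.eq, inv_mul_cancel_right,
    (F.U_comm h (F.P_le_C (mul_mem hz1 hz2).1)).symm.inv_left.eq, inv_mul_cancel_right]
  exact h

/-- the conjugates commute -/
theorem comm_conj {e : G} (he : e ∈ F.Zc) (he2 : e * e = 1) : Commute e (D.el3 * e * D.el3⁻¹) := by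
  set e1 := D.el3 * e * D.el3⁻¹ with h1
  set e2 := D.el3⁻¹ * e * D.el3 with h2
  have ht := F.triple_Zc he
  set z := e * e1 * e2 with hz
  have he2i : e2⁻¹ = e2 := inv_eq_of_mul_eq_one_right (by
    rw [h2, show D.el3⁻¹ * e * D.el3 * (D.el3⁻¹ * e * D.el3) = D.el3⁻¹ * (e * e) * D.el3 by group, he2]
    group)
  have hx : e * e1 = z * e2 := by
    rw [hz, mul_assoc _ e2, show e2 * e2 = 1 by nth_rewrite 1 [← he2i]; exact inv_mul_cancel _, mul_one]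
  have hze : Commute z e2 := F.U_comm ht (F.P_le_C (by simpa [h2] using (F.conj_Zc (inv_mem D.w_C) he).1))
  have hzz : z * z = 1 := by
    rcases D.mem_zu.1 ht with h | h <;> rw [h]
    · rw [one_mul]
    · exact D.uu
  have hsq : (e * e1) * (e * e1) = 1 := by
    rw [hx, hze.symm.mul_mul_mul_comm, hzz, one_mul]
    nth_rewrite 1 [← he2i]
    exact inv_mul_cancel _
  have hei : e⁻¹ = e := inv_eq_of_mul_eq_one_right he2
  have he1i : e1⁻¹ = e1 := by rw [h1, conj_inv, hei]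
  show e * e1 = e1 * e
  rw [← inv_eq_of_mul_eq_one_right hsq, mul_inv_rev, hei, he1i]

/-- the inverting element twisted by the element of order three -/
theorem twist_data (j : ℕ) : D.el3 ^ j * F.a ∈ D.C ∧ (∃ k : ℕ, (D.el3 ^ j * F.a) ^ 2 ^ k = 1) ∧
    (D.el3 ^ j * F.a) * D.el3 * (D.el3 ^ j * F.a)⁻¹ = D.el3⁻¹ ∧
    (D.el3 ^ j * F.a) * (D.el3 ^ j * F.a) = F.a * F.a := by
  have hinv : D.el3 ^ j * F.a * D.el3 * (D.el3 ^ j * F.a)⁻¹ = D.el3⁻¹ := by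
    rw [show D.el3 ^ j * F.a * D.el3 * (D.el3 ^ j * F.a)⁻¹ = D.el3 ^ j * (F.a * D.el3 * F.a⁻¹) * (D.el3 ^ j)⁻¹ by group,
      F.hinv, ((Commute.refl D.el3).inv_right.pow_left j).eq, mul_inv_cancel_right]
  have hsq : (D.el3 ^ j * F.a) * (D.el3 ^ j * F.a) = F.a * F.a := by
    have h : F.a * D.el3 ^ j * F.a⁻¹ = (D.el3 ^ j)⁻¹ := by rw [← conj_pow, F.hinv, inv_pow]
    calc (D.el3 ^ j * F.a) * (D.el3 ^ j * F.a) = D.el3 ^ j * (F.a * D.el3 ^ j * F.a⁻¹) * (F.a * F.a) := by group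
      _ = F.a * F.a := by rw [h, mul_inv_cancel, one_mul]
  refine ⟨mul_mem (pow_mem D.w_C j) F.haC, ⟨2, ?_⟩, hinv, hsq⟩
  rw [show (2 : ℕ) ^ 2 = 2 * 2 from rfl, pow_mul, pow_two (D.el3 ^ j * F.a), hsq, pow_two]
  rcases D.mem_zu.1 F.asq with h | h <;> rw [h]
  · rw [one_mul]
  · exact D.uu

/-- An involution whose line is fixed by an inverting element. -/
theorem exists_fixed {e₀ : G} (heP : e₀ ∈ F.P) (he2 : e₀ * e₀ = 1) (heU : e₀ ∉ zpowers D.inv2)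
    (hec : ∀ x ∈ F.P, x * e₀ * x⁻¹ * e₀⁻¹ ∈ zpowers D.inv2) :
    ∃ F' : SymCtx D, F'.P = F.P ∧ F'.toNilCtx = F.toNilCtx ∧ ∃ e ∈ F.Zc, e * e = 1 ∧ e ∉ zpowers D.inv2 ∧
      F'.a * e * F'.a⁻¹ * e⁻¹ ∈ zpowers D.inv2 := by
  have he : e₀ ∈ F.Zc := ⟨heP, hec⟩
  set e1 := D.el3 * e₀ * D.el3⁻¹ with h1
  set e2 := D.el3⁻¹ * e₀ * D.el3 with h2
  set f := F.a * e₀ * F.a⁻¹ with hf
  have hfZ : f ∈ F.Zc := F.conj_Zc F.haC he
  have he1 : e1 ∈ F.Zc := F.conj_Zc D.w_C he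
  have he2Z : e2 ∈ F.Zc := by simpa [h2] using F.conj_Zc (inv_mem D.w_C) he
  have hei : e₀⁻¹ = e₀ := inv_eq_of_mul_eq_one_right he2
  -- the commutators with the three conjugates multiply to one
  have hU : ∀ {x y : G}, x ∈ F.P → y ∈ F.Zc → x * y * x⁻¹ = y ∨ x * y * x⁻¹ = y * D.inv2 := by
    intro x y hx hy
    rcases D.mem_zu.1 (hy.2 x hx) with h | h
    · exact Or.inl (mul_inv_eq_one.1 h)
    · exact Or.inr (by rw [mul_inv_eq_iff_eq_mul.1 h, D.mem_C.1 (F.P_le_C hy.1)])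
  obtain ⟨j, hj⟩ : ∃ j : ℕ, Commute (D.el3 ^ j * f * (D.el3 ^ j)⁻¹) e₀ := by
    have hT : Commute f (e₀ * e1 * e2) := (F.U_comm (F.triple_Zc he) (F.P_le_C hfZ.1)).symm
    have hw2 : D.el3 ^ 2 = D.el3⁻¹ := eq_inv_of_mul_eq_one_left (by
      rw [← pow_succ, show 2 + 1 = orderOf D.el3 from D.w_ord.symm]; exact pow_orderOf_eq_one _)
    rcases hU hfZ.1 he with a0 | a0
    · exact ⟨0, by simpa using (show Commute f e₀ from mul_inv_eq_iff_eq_mul.1 a0)⟩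
    rcases hU hfZ.1 he1 with a1 | a1
    · refine ⟨2, ?_⟩
      have := congrArg (fun t => D.el3⁻¹ * t * D.el3) (mul_inv_eq_iff_eq_mul.1 a1)
      rw [hw2, inv_inv]
      show D.el3⁻¹ * f * D.el3 * e₀ = e₀ * (D.el3⁻¹ * f * D.el3)
      simpa [h1, mul_assoc] using this
    rcases hU hfZ.1 he2Z with a2 | a2
    · refine ⟨1, ?_⟩
      have := congrArg (fun t => D.el3 * t * D.el3⁻¹) (mul_inv_eq_iff_eq_mul.1 a2)
      rw [pow_one]
      show D.el3 * f * D.el3⁻¹ * e₀ = e₀ * (D.el3 * f * D.el3⁻¹)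
      simpa [h2, mul_assoc] using this
    exfalso
    refine D.u_ne ?_
    have hc := mul_inv_eq_iff_eq_mul.2 hT.eq
    rw [show f * (e₀ * e1 * e2) * f⁻¹ = (f * e₀ * f⁻¹) * (f * e1 * f⁻¹) * (f * e2 * f⁻¹) by group, a0, a1, a2] at hc
    have hu : ∀ {y : G}, y ∈ F.Zc → Commute D.inv2 y := fun hy =>
      (show Commute _ D.inv2 from D.mem_C.1 (F.P_le_C hy.1)).symm
    have : e₀ * D.inv2 * (e1 * D.inv2) * (e2 * D.inv2) = e₀ * e1 * e2 * D.inv2 := by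
      calc e₀ * D.inv2 * (e1 * D.inv2) * (e2 * D.inv2)
          = e₀ * (D.inv2 * e1) * (D.inv2 * e2) * D.inv2 := by group
        _ = e₀ * e1 * (D.inv2 * D.inv2) * e2 * D.inv2 := by rw [(hu he1).eq]; group
        _ = _ := by rw [D.uu, mul_one]
    rw [this] at hc
    exact mul_eq_left.1 hc
  obtain ⟨hb1, hb2, hb3, hb4⟩ := F.twist_data j
  set b := D.el3 ^ j * F.a with hb
  set f' := b * e₀ * b⁻¹ with hf'
  have hc : Commute f' e₀ := by
    rwa [hf', hb, show D.el3 ^ j * F.a * e₀ * (D.el3 ^ j * F.a)⁻¹ = D.el3 ^ j * f * (D.el3 ^ j)⁻¹ by rw [hf]; group]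
  refine ⟨{ toNilCtx := F.toNilCtx, hidx := F.hidx, a := b, haC := hb1, ha2 := hb2, hinv := hb3 }, rfl, rfl, ?_⟩
  have hf'Z : f' ∈ F.Zc := F.conj_Zc hb1 he
  by_cases hmem : f' * e₀⁻¹ ∈ zpowers D.inv2
  · exact ⟨e₀, he, he2, heU, hmem⟩
  refine ⟨e₀ * f', mul_mem he hf'Z, ?_, by rwa [hei, hc.eq] at hmem, ?_⟩
  · have hf2 : f' * f' = 1 := by
      rw [hf', show b * e₀ * b⁻¹ * (b * e₀ * b⁻¹) = b * (e₀ * e₀) * b⁻¹ by group, he2]; group
    rw [hc.mul_mul_mul_comm, he2, hf2, one_mul]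
  · have hbb : b * b * e₀ * (b * b)⁻¹ = e₀ := by
      rw [hb4, (F.U_comm F.asq (F.P_le_C heP)).eq, mul_inv_cancel_right]
    show b * (e₀ * f') * b⁻¹ * (e₀ * f')⁻¹ ∈ zpowers D.inv2
    rw [show b * (e₀ * f') * b⁻¹ = (b * e₀ * b⁻¹) * (b * b * e₀ * (b * b)⁻¹) by rw [hf']; group, hbb, ← hf', hc.eq,
      mul_inv_cancel]
    exact one_mem _

end SymCtx

end Cfsg.Agent.Char.OrderSix
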