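import Cfsg.Agent.Lib.Char.OrderSix.SymCenter

/-!
# Index six: products of a central involution with its twist
-/

set_option autoImplicit false
set_option linter.unusedSectionVars false
set_option linter.style.haveILetI false

open Cfsg Subgroup

namespace Cfsg.Agent.Char.OrderSix

universe u
variable {G : Type u} [Group G] [Finite G]

namespace SymCtx

variable {D : Ctx G} (F : SymCtx D)

/-- a central involution times its twist -/
def fold (z : G) : G := z * (F.a * z * F.a⁻¹)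

theorem asq_comm {v : G} (hv : v ∈ F.P) : Commute (F.a * F.a) v := by
  rcases D.mem_zu.1 F.asq with e | e <;> rw [e]
  · exact Commute.one_left _
  · exact (show Commute v D.inv2 from D.mem_C.1 (F.P_le_C hv)).symm

theorem fold_mem_Y {v : G} (hv : v ∈ F.V) : F.fold v ∈ F.Y := by
  have hav := F.conj_V F.a_norm hv
  refine F.mem_Y.2 ⟨mul_mem hv hav, ?_⟩
  show F.a * (v * (F.a * v * F.a⁻¹)) = v * (F.a * v * F.a⁻¹) * F.a
  calc F.a * (v * (F.a * v * F.a⁻¹)) = (F.a * v * F.a⁻¹) * ((F.a * F.a) * v) * F.a⁻¹ := by group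
    _ = (F.a * v * F.a⁻¹) * v * F.a := by rw [(F.asq_comm hv.1).eq]; group
    _ = _ := by rw [(show Commute (F.a * v * F.a⁻¹) v from hv.2.1 _ hav.1).eq]

theorem fold_mul {x y : G} (hx : x ∈ F.V) (hy : y ∈ F.V) : F.fold x * F.fold y = F.fold (x * y) := by
  have h : Commute (F.a * x * F.a⁻¹) y := hy.2.1 _ (F.conj_V F.a_norm hx).1
  show x * (F.a * x * F.a⁻¹) * (y * (F.a * y * F.a⁻¹)) = x * y * (F.a * (x * y) * F.a⁻¹)
  calc x * (F.a * x * F.a⁻¹) * (y * (F.a * y * F.a⁻¹)) = x * ((F.a * x * F.a⁻¹) * y) * (F.a * y * F.a⁻¹) := by group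
    _ = x * (y * (F.a * x * F.a⁻¹)) * (F.a * y * F.a⁻¹) := by rw [h.eq]
    _ = _ := by group

/-- the product of the three conjugates -/
theorem triple_mem {z : G} (hz : z ∈ F.V) :
    z * (D.el3 * z * D.el3⁻¹) * (D.el3⁻¹ * z * D.el3) ∈ zpowers D.inv2 := by
  have h1 := F.conj_V F.w_norm hz
  have h2 : D.el3⁻¹ * z * D.el3 ∈ F.V := by simpa using F.conj_V (inv_mem F.w_norm) hz
  have hm := mul_mem (mul_mem hz h1) h2
  refine D.mem_zu.2 (F.fix_P hm.1 ?_)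
  have hw3 : D.el3 * D.el3 * D.el3 = 1 := by
    rw [← pow_two, ← pow_succ, show 2 + 1 = orderOf D.el3 from D.w_ord.symm]; exact pow_orderOf_eq_one _
  have hsq : D.el3 * D.el3 = D.el3⁻¹ := (inv_eq_of_mul_eq_one_left hw3).symm
  have e : D.el3 * (z * (D.el3 * z * D.el3⁻¹) * (D.el3⁻¹ * z * D.el3)) * D.el3⁻¹ =
      z * (D.el3 * z * D.el3⁻¹) * (D.el3⁻¹ * z * D.el3) := by
    calc _ = (D.el3 * z * D.el3⁻¹) * ((D.el3 * D.el3) * z * (D.el3 * D.el3)⁻¹) * z := by group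
      _ = (D.el3 * z * D.el3⁻¹) * (D.el3⁻¹ * z * D.el3) * z := by rw [hsq, inv_inv]
      _ = _ := by rw [(show Commute _ z from hz.2.1 _ (mul_mem h1 h2).1).eq]; group
  exact (mul_inv_eq_iff_eq_mul.1 e).symm

/-- the involution is no such product -/
theorem fold_ne {v : G} (hv : v ∈ F.V) : F.fold v ≠ D.inv2 := by
  intro h
  set σ := fun x : G => F.a * x * F.a⁻¹
  have hvi : v⁻¹ = v := inv_eq_of_mul_eq_one_right hv.2.2
  have hσ : F.a * v * F.a⁻¹ = v * D.inv2 := by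
    calc F.a * v * F.a⁻¹ = v⁻¹ * F.fold v := by simp [fold]
      _ = v * D.inv2 := by rw [h, hvi]
  have hu : ∀ c ∈ D.C, c * D.inv2 * c⁻¹ = D.inv2 := fun c hc => by rw [D.mem_C.1 hc, mul_inv_cancel_right]
  have e1 : F.a * (D.el3 * v * D.el3⁻¹) * F.a⁻¹ = (D.el3⁻¹ * v * D.el3) * D.inv2 := by
    calc F.a * (D.el3 * v * D.el3⁻¹) * F.a⁻¹
        = (F.a * D.el3 * F.a⁻¹) * (F.a * v * F.a⁻¹) * (F.a * D.el3 * F.a⁻¹)⁻¹ := by group
      _ = D.el3⁻¹ * v * (D.inv2 * D.el3) := by rw [F.hinv, hσ, inv_inv]; group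
      _ = _ := by rw [D.comm_uw]; group
  have e2 : F.a * (D.el3⁻¹ * v * D.el3) * F.a⁻¹ = (D.el3 * v * D.el3⁻¹) * D.inv2 := by
    calc F.a * (D.el3⁻¹ * v * D.el3) * F.a⁻¹
        = (F.a * D.el3 * F.a⁻¹)⁻¹ * (F.a * v * F.a⁻¹) * (F.a * D.el3 * F.a⁻¹) := by group
      _ = D.el3 * v * (D.inv2 * D.el3⁻¹) := by rw [F.hinv, hσ, inv_inv]; group
      _ = _ := by rw [(show Commute D.inv2 D.el3 from D.comm_uw).inv_right.eq]; group
  have h1 := F.conj_V F.w_norm hv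
  have h2 : D.el3⁻¹ * v * D.el3 ∈ F.V := by simpa using F.conj_V (inv_mem F.w_norm) hv
  have huV : ∀ {x : G}, x ∈ F.V → Commute x D.inv2 := fun hx => D.mem_C.1 (F.P_le_C hx.1)
  have hfix : F.a * (v * (D.el3 * v * D.el3⁻¹) * (D.el3⁻¹ * v * D.el3)) * F.a⁻¹ =
      v * (D.el3 * v * D.el3⁻¹) * (D.el3⁻¹ * v * D.el3) := by
    rcases D.mem_zu.1 (F.triple_mem hv) with e | e <;> rw [e]
    · group
    · exact hu _ F.haC
  refine D.u_ne (mul_eq_left.1 (show v * (D.el3 * v * D.el3⁻¹) * (D.el3⁻¹ * v * D.el3) * D.inv2 = _ from ?_))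
  conv_rhs => rw [← hfix]
  rw [show F.a * (v * (D.el3 * v * D.el3⁻¹) * (D.el3⁻¹ * v * D.el3)) * F.a⁻¹ =
    (F.a * v * F.a⁻¹) * (F.a * (D.el3 * v * D.el3⁻¹) * F.a⁻¹) * (F.a * (D.el3⁻¹ * v * D.el3) * F.a⁻¹) by group,
    hσ, e1, e2]
  symm
  calc v * D.inv2 * (D.el3⁻¹ * v * D.el3 * D.inv2) * (D.el3 * v * D.el3⁻¹ * D.inv2)
      = v * (D.inv2 * (D.el3⁻¹ * v * D.el3)) * (D.inv2 * (D.el3 * v * D.el3⁻¹)) * D.inv2 := by group
    _ = v * (D.el3⁻¹ * v * D.el3) * ((D.inv2 * D.inv2) * (D.el3 * v * D.el3⁻¹)) * D.inv2 := by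
      rw [(huV h2).symm.eq]; group
    _ = v * ((D.el3⁻¹ * v * D.el3) * (D.el3 * v * D.el3⁻¹)) * D.inv2 := by rw [D.uu, one_mul]; group
    _ = _ := by rw [(show Commute (D.el3⁻¹ * v * D.el3) (D.el3 * v * D.el3⁻¹) from h1.2.1 _ h2.1).eq]; group

/-- at most one nontrivial such product when four elements are fixed -/
theorem fold_unique (h4 : Nat.card F.Y ≤ 4) {x y : G} (hx : x ∈ F.V) (hy : y ∈ F.V) (hx1 : F.fold x ≠ 1)
    (hy1 : F.fold y ≠ 1) : F.fold x = F.fold y := by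
  by_contra hne
  have hxy : F.fold x * F.fold y ≠ 1 := fun h => hne (by
    rw [eq_inv_of_mul_eq_one_left h, inv_eq_of_mul_eq_one_right (F.fold_mem_Y hy).1.2.2])
  have hsub : ({1, D.inv2, F.fold x, F.fold y, F.fold x * F.fold y} : Set G) ⊆ (F.Y : Set G) := by
    rintro z (rfl | rfl | rfl | rfl | rfl)
    · exact one_mem _
    · exact F.u_Y
    · exact F.fold_mem_Y hx
    · exact F.fold_mem_Y hy
    · exact mul_mem (F.fold_mem_Y hx) (F.fold_mem_Y hy)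
  have h5 : ({1, D.inv2, F.fold x, F.fold y, F.fold x * F.fold y} : Set G).ncard = 5 := by
    rw [Set.ncard_insert_of_notMem, Set.ncard_insert_of_notMem, Set.ncard_insert_of_notMem, Set.ncard_pair]
    · exact fun h => hx1 (mul_eq_right.1 h.symm)
    · rintro (h | h)
      · exact hne h
      · exact hy1 (mul_eq_left.1 (show F.fold x * F.fold y = F.fold x from h.symm))
    · rintro (h | h | h)
      · exact F.fold_ne hx h.symm
      · exact F.fold_ne hy h.symm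
      · exact F.fold_ne (mul_mem hx hy) (by rw [← F.fold_mul hx hy]; exact Eq.symm h)
    · rintro (h | h | h | h)
      · exact D.u_ne h.symm
      · exact hx1 h.symm
      · exact hy1 h.symm
      · exact hxy h.symm
  have := Set.ncard_le_ncard hsub (Set.toFinite _)
  rw [h5, ← Nat.card_coe_set_eq] at this
  exact absurd (this.trans h4) (by norm_num)

theorem eq_fold {z : G} (hz : z ∈ F.Y) (h : z * (D.el3 * z * D.el3⁻¹) * (D.el3⁻¹ * z * D.el3) = 1) :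
    z = F.fold (D.el3 * z * D.el3⁻¹) := by
  obtain ⟨hzV, hza⟩ := F.mem_Y.1 hz
  have e1 : F.a * (D.el3 * z * D.el3⁻¹) * F.a⁻¹ = D.el3⁻¹ * z * D.el3 := by
    calc F.a * (D.el3 * z * D.el3⁻¹) * F.a⁻¹
        = (F.a * D.el3 * F.a⁻¹) * (F.a * z * F.a⁻¹) * (F.a * D.el3 * F.a⁻¹)⁻¹ := by group
      _ = _ := by rw [F.hinv, hza, mul_inv_cancel_right, inv_inv]
  show z = D.el3 * z * D.el3⁻¹ * (F.a * (D.el3 * z * D.el3⁻¹) * F.a⁻¹)
  rw [e1]
  symm
  calc D.el3 * z * D.el3⁻¹ * (D.el3⁻¹ * z * D.el3) = z⁻¹ * (z * (D.el3 * z * D.el3⁻¹) * (D.el3⁻¹ * z * D.el3)) := by group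
    _ = z := by rw [h, mul_one, inv_eq_of_mul_eq_one_right hzV.2.2]

theorem fold_exists {v : G} (hv : v ∈ F.V) (hvU : v ∉ zpowers D.inv2) : ∃ x ∈ F.V, F.fold x ≠ 1 := by
  by_contra! h
  have hw : ∀ x ∈ F.V, F.a * x * F.a⁻¹ = x := fun x hx => by
    have := eq_inv_of_mul_eq_one_right (h x hx)
    rwa [inv_eq_of_mul_eq_one_right hx.2.2] at this
  have h1 := F.conj_V F.w_norm hv
  have e : F.a * (D.el3 * v * D.el3⁻¹) * F.a⁻¹ = D.el3⁻¹ * v * D.el3 := by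
    calc F.a * (D.el3 * v * D.el3⁻¹) * F.a⁻¹
        = (F.a * D.el3 * F.a⁻¹) * (F.a * v * F.a⁻¹) * (F.a * D.el3 * F.a⁻¹)⁻¹ := by group
      _ = _ := by rw [F.hinv, hw v hv, inv_inv]
  rw [hw _ h1] at e
  have hc : Commute (D.el3 * D.el3) v := by
    show D.el3 * D.el3 * v = v * (D.el3 * D.el3)
    calc D.el3 * D.el3 * v = D.el3 * (D.el3 * v * D.el3⁻¹) * D.el3 := by group
      _ = v * (D.el3 * D.el3) := by rw [e]; group
  have hw4 : (D.el3 * D.el3) * (D.el3 * D.el3) = D.el3 := by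
    have hw3 : D.el3 * D.el3 * D.el3 = 1 := by
      rw [← pow_two, ← pow_succ, show 2 + 1 = orderOf D.el3 from D.w_ord.symm]; exact pow_orderOf_eq_one _
    rw [← mul_assoc, hw3, one_mul]
  refine hvU (D.mem_zu.2 (F.fix_P hv.1 ?_))
  have := hc.mul_left hc
  rw [hw4] at this
  exact this.symm.eq

end SymCtx

end Cfsg.Agent.Char.OrderSix
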