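import Cfsg.Agent.Lib.Char.OrderSix.SymNormal
import Cfsg.Agent.Lib.Char.OrderSix.SymFold
import Cfsg.Agent.Lib.Fusion.WeakClosureFunctor

/-!
# Index six: a large centre
-/

set_option autoImplicit false
set_option linter.unusedSectionVars false
set_option linter.style.haveILetI false

open Cfsg Subgroup
open scoped Pointwise

namespace Cfsg.Agent.Char.OrderSix

universe u
variable {G : Type u} [Group G] [Finite G] [IsSimpleGroup G]

namespace SymCtx

variable {D : Ctx G} (F : SymCtx D)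

/-- fusion of central involutions of the Sylow subgroup -/
theorem exists_norm_conj {z : G} (hz : z ∈ F.Y) (hz1 : z ≠ 1) :
    ∃ n ∈ normalizer (F.S : Set G), n * D.inv2 * n⁻¹ = z := by
  haveI : Fact (Nat.Prime 2) := ⟨Nat.prime_two⟩
  obtain ⟨g, hg⟩ := D.conj_u (orderOf_eq_prime (by rw [pow_two]; exact (F.mem_Y.1 hz).1.2.2) hz1)
  have hc : ∀ y ∈ F.Y, y ∈ centralizer (F.S : Set G) := fun y hy =>
    mem_centralizer_iff.2 fun x hx => F.Y_central hy hx
  obtain ⟨n, hn, he⟩ := F.sylow.conj_eq_normalizer_conj_of_mem_centralizer D.inv2 g⁻¹ (hc _ F.u_Y)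
    (by rw [inv_inv, hg]; exact hc _ hz)
  refine ⟨n⁻¹, inv_mem hn, ?_⟩
  rw [inv_inv] at he ⊢
  rw [← he, hg]

/-- the core of a group above the Sylow subgroup -/
theorem over_core {M : Subgroup G} (hSM : F.S ≤ M) (hwM : D.el3 ∈ M) (hu : D.inv2 ∈ pCoreOf 2 M) :
    pCoreOf 2 M = F.P ∨ (pCoreOf 2 M ≤ F.P ∧ Nat.card M = 168 * Nat.card (pCoreOf 2 M) ∧
      Nat.card F.P = 4 * Nat.card (pCoreOf 2 M) ∧ (∀ n ∈ M, n ∈ normalizer (F.S : Set G) → n ∈ F.S) ∧
      ∀ K : Subgroup G, pCoreOf 2 M ≤ K → K ≤ M → Nat.card M ≤ 3 * Nat.card K → K = M) := by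
  haveI : Fact (Nat.Prime 2) := ⟨Nat.prime_two⟩
  exact F.over_sylow hSM hwM (map_subtype_le _) (Fusion.le_normalizer_pCoreOf M)
    (Fusion.pCoreOf_isPGroup M) hu fun T hT hn h2 => Fusion.le_pCoreOf hT hn h2

theorem big_centre_false {v : G} (hv : v ∈ F.V) (hvU : v ∉ zpowers D.inv2) (h8 : 8 ≤ Nat.card F.Y) : False := by
  classical
  haveI : Fact (Nat.Prime 2) := ⟨Nat.prime_two⟩
  let El : Subgroup G → Prop := fun A => A ≤ F.S ∧ ∀ x ∈ A, x * x = 1
  obtain ⟨A0, hA0, hA0max⟩ : ∃ A0, El A0 ∧ ∀ B, El B → Nat.card B ≤ Nat.card A0 := by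
    exact Set.exists_max_image {A : Subgroup G | El A} (fun A => Nat.card A) (Set.toFinite _)
      ⟨⊥, bot_le, fun x hx => by rw [mem_bot.1 hx, one_mul]⟩
  have hcomm : ∀ {A : Subgroup G}, (∀ x ∈ A, x * x = 1) → ∀ x ∈ A, ∀ y ∈ A, Commute x y := fun hA x hx y hy => by
    have h1 := inv_eq_of_mul_eq_one_right (hA _ hx)
    have h2 := inv_eq_of_mul_eq_one_right (hA _ hy)
    have h3 := inv_eq_of_mul_eq_one_right (hA _ (mul_mem hx hy))
    show x * y = y * x
    rw [← h3, mul_inv_rev, h1, h2]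
  -- joining the central involutions
  have hjoin : ∀ A : Subgroup G, A ≤ F.P → (∀ x ∈ A, x * x = 1) →
      El (A ⊔ F.V) ∧ Nat.card ↥(A ⊔ F.V) * Nat.card ↥(A ⊓ F.V) = Nat.card A * Nat.card F.V := by
    intro A hA hA2
    have hn : F.V ≤ normalizer (A : Set G) := fun x hx => mem_normalizer_iff.2 fun y => by
      have hc : ∀ y ∈ A, x * y * x⁻¹ = y := fun y hy => by rw [← hx.2.1 y (hA hy), mul_inv_cancel_right]
      refine ⟨fun hy => by rw [hc y hy]; exact hy, fun hy => ?_⟩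
      have := hx.2.1 _ (hA hy)
      rw [inv_mul_cancel_right] at this
      exact (mul_left_cancel this).symm ▸ hy
    refine ⟨⟨sup_le (hA.trans F.P_le_S) (F.V_le_P.trans F.P_le_S), fun z hz => ?_⟩,
      Cfsg.Agent.Solv.card_sup_mul_card_inf' A F.V hn⟩
    have hz' : z ∈ (A : Set G) * (F.V : Set G) := by
      rw [← coe_mul_of_right_le_normalizer_left A F.V hn]; exact hz
    obtain ⟨p, hp, q, hq, rfl⟩ := hz'
    show p * q * (p * q) = 1
    rw [(show Commute q p from (hq.2.1 p (hA hp)).symm).mul_mul_mul_comm, hA2 p hp, hq.2.2, one_mul]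
  -- the maximal ones lie in the two-part
  have hmaxP : ∀ A, El A → (∀ B, El B → Nat.card B ≤ Nat.card A) → A ≤ F.P := by
    intro A hA hmax
    by_contra hne
    obtain ⟨z, hz, hzP⟩ := SetLike.not_le_iff_exists.1 hne
    set A1 := A ⊓ F.P
    obtain ⟨h1, h2⟩ := hjoin A1 inf_le_right fun x hx => hA.2 x hx.1
    have hmeet : Nat.card ↥(A1 ⊓ F.V) ≤ Nat.card F.Y := by
      refine card_le_of_le fun x hx => F.mem_Y.2 ⟨hx.2, ?_⟩
      obtain ⟨p, hp, hpe⟩ := F.S_coset (hA.1 hz) hzP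
      have hxz : Commute x z := hcomm hA.2 x hx.1.1 z hz
      have hxa : Commute x (p⁻¹ * z) := (show Commute p x from hx.2.2.1 p hp).symm.inv_right.mul_right hxz
      rw [hpe, inv_mul_cancel_left] at hxa
      exact (Commute.inv_right_iff.1 hxa).eq.symm
    have hA1 : Nat.card A ≤ 2 * Nat.card A1 := by
      have hsub : (A : Set G) ⊆ (A1 : Set G) ∪ (fun q => q * z) '' (A1 : Set G) := by
        intro x hx
        by_cases hxP : x ∈ F.P
        · exact Or.inl ⟨hx, hxP⟩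
        · refine Or.inr ⟨x * z⁻¹, ⟨A.mul_mem hx (A.inv_mem hz), ?_⟩, inv_mul_cancel_right x z⟩
          obtain ⟨p, hp, hpe⟩ := F.S_coset (hA.1 hz) hzP
          obtain ⟨q, hq, hqe⟩ := F.S_coset (hA.1 hx) hxP
          rw [hpe, hqe, show q * F.a⁻¹ * (p * F.a⁻¹)⁻¹ = q * p⁻¹ by group]
          exact F.P.mul_mem hq (F.P.inv_mem hp)
      have h := (Set.ncard_le_ncard hsub (Set.toFinite _)).trans (Set.ncard_union_le _ _)
      rw [Set.ncard_image_of_injective _ (mul_left_injective z), ← Nat.card_coe_set_eq, ← Nat.card_coe_set_eq,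
        ← two_mul] at h
      exact h
    have h3 := hmax _ h1
    have hsq := F.card_sq
    have hA1pos : 0 < Nat.card A1 := Nat.card_pos
    have h4 : Nat.card A1 * (Nat.card F.Y * Nat.card F.Y) ≤ Nat.card A1 * (4 * Nat.card F.Y) :=
      calc Nat.card A1 * (Nat.card F.Y * Nat.card F.Y) = 2 * (Nat.card A1 * Nat.card F.V) := by rw [← hsq]; ring
        _ ≤ 2 * (Nat.card A * Nat.card F.Y) := by rw [← h2]; exact Nat.mul_le_mul_left 2 (Nat.mul_le_mul h3 hmeet)
        _ ≤ 2 * (2 * Nat.card A1 * Nat.card F.Y) := by gcongr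
        _ = _ := by ring
    have h5 := Nat.le_of_mul_le_mul_right (Nat.le_of_mul_le_mul_left h4 hA1pos) Nat.card_pos
    omega
  have hVle : ∀ A, El A → (∀ B, El B → Nat.card B ≤ Nat.card A) → F.V ≤ A := by
    intro A hA hmax
    have h := eq_of_le_of_card_ge (le_sup_left : A ≤ A ⊔ F.V) (hmax _ (hjoin A (hmaxP A hA hmax) hA.2).1)
    exact h.symm ▸ le_sup_right
  set J : Subgroup G := ⨆ A : {A : Subgroup G // El A ∧ ∀ B, El B → Nat.card B ≤ Nat.card A}, A.1 with hJ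
  have hJP : J ≤ F.P := iSup_le fun A => hmaxP A.1 A.2.1 A.2.2
  have huJ : D.inv2 ∈ J := le_iSup (fun A : {A : Subgroup G // El A ∧ ∀ B, El B → Nat.card B ≤ Nat.card A} => A.1)
    ⟨A0, hA0, hA0max⟩ (hVle A0 hA0 hA0max F.u_V)
  have hJn : ∀ m : G, (∀ x ∈ F.P, m * x * m⁻¹ ∈ F.S) → ∀ x ∈ J, m * x * m⁻¹ ∈ J := by
    intro m hm
    have h : J.map (MulAut.conj m).toMonoidHom ≤ J := by
      rw [hJ, Subgroup.map_iSup]
      refine iSup_le fun A => le_iSup_of_le ⟨A.1.map (MulAut.conj m).toMonoidHom, ⟨?_, ?_⟩, ?_⟩ le_rfl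
      · rintro _ ⟨x, hx, rfl⟩
        exact hm x (hmaxP A.1 A.2.1 A.2.2 hx)
      · rintro _ ⟨x, hx, rfl⟩
        rw [← map_mul, A.2.1.2 x hx, map_one]
      · intro B hB
        rw [Nat.card_congr (A.1.equivMapOfInjective _ (MulAut.conj m).injective).toEquiv.symm]
        exact A.2.2 B hB
    exact fun x hx => h ⟨x, hx, rfl⟩
  set M := normalizer (J : Set G) with hM
  have hnorm : ∀ m : G, m ∈ normalizer (F.S : Set G) ∨ m ∈ normalizer (F.P : Set G) → m ∈ M := by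
    have key : ∀ m : G, m ∈ normalizer (F.S : Set G) ∨ m ∈ normalizer (F.P : Set G) → ∀ x ∈ J, m * x * m⁻¹ ∈ J := by
      rintro m (hm | hm) <;> refine hJn m fun x hx => ?_
      · exact (mem_normalizer_iff.1 hm x).1 (F.P_le_S hx)
      · exact F.P_le_S ((mem_normalizer_iff.1 hm x).1 hx)
    intro m hm
    refine mem_normalizer_iff.2 fun x => ⟨key m hm x, fun hx => ?_⟩
    have := key m⁻¹ (hm.imp inv_mem inv_mem) _ hx
    simpa [mul_assoc] using this
  have hSM : F.S ≤ M := fun s hs => hnorm s (Or.inl (le_normalizer hs))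
  have hJR : J ≤ pCoreOf 2 M := Fusion.le_pCoreOf le_normalizer le_rfl (F.isPGroup.to_le hJP)
  rcases F.over_core hSM (hnorm _ (Or.inr F.w_norm)) (hJR huJ) with h | ⟨-, -, -, h, -⟩
  · refine F.normal_false hv hvU fun z hz hz1 => ?_
    obtain ⟨n, hn, he⟩ := F.exists_norm_conj hz hz1
    refine ⟨n, hn, ?_, he⟩
    have := Fusion.le_normalizer_pCoreOf (p := 2) M (hnorm n (Or.inl hn))
    rwa [h] at this
  · obtain ⟨x, hx, hx1⟩ := F.fold_exists hv hvU
    obtain ⟨n, hn, he⟩ := F.exists_norm_conj (F.fold_mem_Y hx) hx1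
    refine F.fold_ne hx ?_
    rw [← he, D.mem_C.1 (F.S_le_C (h n (hnorm n (Or.inl hn)) hn)), mul_inv_cancel_right]

end SymCtx

end Cfsg.Agent.Char.OrderSix
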