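import Cfsg.Agent.Lib.Char.OrderSix.SymCenter
import Cfsg.Agent.Lib.Lie.PSpFourThreeAmalgam.Seven
import Cfsg.Agent.S3331
import Cfsg.Agent.S1004

/-!
# Index six: groups over the Sylow subgroup
-/

set_option autoImplicit false
set_option linter.unusedSectionVars false
set_option linter.style.haveILetI false

open Cfsg Subgroup
open scoped Pointwise

namespace Cfsg.Agent.Char.OrderSix

universe u
variable {G : Type u} [Group G] [Finite G]

namespace SymCtx

variable {D : Ctx G} (F : SymCtx D)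

include F in
/-- an element commuting with the element of order three modulo a two-group -/
theorem lift_commute {R : Subgroup G} (hRP : R ≤ F.P) (hu : D.inv2 ∈ R) (hw : D.el3 ∈ normalizer (R : Set G))
    {x : G} (hx : x ∈ normalizer (R : Set G)) (hxw : x⁻¹ * D.el3 * x * D.el3⁻¹ ∈ R) :
    ∃ r ∈ R, x * r ∈ zpowers D.t := by
  classical
  haveI : Fact (Nat.Prime 3) := ⟨Nat.prime_three⟩
  have hR3 : ¬ 3 ∣ Nat.card R := fun h => F.three_P (h.trans (card_dvd_of_le hRP))
  have hwn : zpowers D.el3 ≤ normalizer (R : Set G) := zpowers_le.2 hw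
  set K := R ⊔ zpowers D.el3 with hK
  set w1 := x⁻¹ * D.el3 * x with hw1
  have hw1K : w1 ∈ K := by
    rw [show w1 = (w1 * D.el3⁻¹) * D.el3 by group]
    exact mul_mem (mem_sup_left hxw) (mem_sup_right (mem_zpowers _))
  have hb : R ⊓ zpowers D.el3 = ⊥ := (disjoint_of_coprime_natCard (by
    rw [Nat.card_zpowers, D.w_ord]; exact ((Nat.Prime.coprime_iff_not_dvd Nat.prime_three).2 hR3).symm)).eq_bot
  have hcard : Nat.card K = Nat.card R * 3 := by
    have h := Cfsg.Agent.Solv.card_sup_mul_card_inf' R (zpowers D.el3) hwn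
    rw [hb, card_bot, mul_one, Nat.card_zpowers, D.w_ord] at h
    exact h
  have hS : ∀ y : K, orderOf y = 3 → Nat.card (zpowers y) = 3 ^ (Nat.card K).factorization 3 := fun y hy => by
    rw [Nat.card_zpowers, hy, hcard, Nat.factorization_mul Nat.card_pos.ne' (by norm_num), Finsupp.add_apply,
      Nat.Prime.factorization_self Nat.prime_three, Nat.factorization_eq_zero_of_not_dvd hR3]
    rfl
  have hwo : orderOf (⟨D.el3, mem_sup_right (mem_zpowers _)⟩ : K) = 3 := by rw [← orderOf_coe]; exact D.w_ord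
  have h1o : orderOf (⟨w1, hw1K⟩ : K) = 3 := by
    rw [← orderOf_coe]
    have : w1 = (MulAut.conj x⁻¹).toMonoidHom D.el3 := by simp [hw1]
    show orderOf w1 = 3
    rw [this, orderOf_injective _ (MulAut.conj x⁻¹).injective]; exact D.w_ord
  obtain ⟨k, hk⟩ := MulAction.exists_smul_eq K (Sylow.ofCard _ (hS _ hwo)) (Sylow.ofCard _ (hS _ h1o))
  have hmem : ∃ i : ℤ, w1 ^ i = (k : G) * D.el3 * (k : G)⁻¹ := by
    have h : (k * ⟨D.el3, mem_sup_right (mem_zpowers _)⟩ * k⁻¹ : K) ∈
        ((k • Sylow.ofCard _ (hS _ hwo) : Sylow 3 K) : Subgroup K) := ⟨_, mem_zpowers _, rfl⟩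
    rw [hk] at h
    obtain ⟨i, hi⟩ := mem_zpowers_iff.1 h
    exact ⟨i, congrArg Subtype.val hi⟩
  obtain ⟨i, hi⟩ := hmem
  have hkmem : (k : G) ∈ (R : Set G) * (zpowers D.el3 : Set G) := by
    rw [← coe_mul_of_right_le_normalizer_left R (zpowers D.el3) hwn]; exact k.2
  obtain ⟨r, hr, g, hg, hkg⟩ := hkmem
  change r * g = (k : G) at hkg
  obtain ⟨j, rfl⟩ := mem_zpowers_iff.1 hg
  have hrw : r * D.el3 * r⁻¹ = w1 ^ i := by
    rw [hi, ← hkg]
    calc r * D.el3 * r⁻¹ = r * (D.el3 ^ j * D.el3 * (D.el3 ^ j)⁻¹) * r⁻¹ := by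
          rw [((Commute.refl D.el3).zpow_left j).eq, mul_inv_cancel_right]
      _ = _ := by group
  -- the exponent is one
  have hw1i : w1 ^ i = w1 := by
    set N := normalizer (R : Set G)
    set R' := R.subgroupOf N
    haveI : R'.Normal := normal_in_normalizer
    set π := QuotientGroup.mk' R'
    have hrN : r ∈ N := le_normalizer hr
    have hw1N : w1 ∈ N := mul_mem (mul_mem (inv_mem hx) hw) hx
    have e1 : π ⟨w1, hw1N⟩ = π ⟨D.el3, hw⟩ :=
      (QuotientGroup.eq_iff_div_mem (N := R')).2 (mem_subgroupOf.2 (by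
        show w1 / D.el3 ∈ R
        rw [div_eq_mul_inv]; exact hxw))
    have e2 : π ⟨D.el3, hw⟩ ^ i = π ⟨D.el3, hw⟩ := by
      have h := congrArg π (show (⟨r, hrN⟩ * ⟨D.el3, hw⟩ * ⟨r, hrN⟩⁻¹ : N) = ⟨w1, hw1N⟩ ^ i from
        Subtype.ext hrw)
      have hr1 : π ⟨r, hrN⟩ = 1 := (QuotientGroup.eq_one_iff _).2 (mem_subgroupOf.2 hr)
      rw [map_mul, map_mul, map_inv, hr1, one_mul, inv_one, mul_one, map_zpow, e1] at h
      exact h.symm
    have ho : orderOf (π ⟨D.el3, hw⟩) = 3 := by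
      refine orderOf_eq_prime ?_ fun h => ?_
      · rw [← map_pow, show (⟨D.el3, hw⟩ : N) ^ 3 = 1 from Subtype.ext (D.w_ord ▸ pow_orderOf_eq_one D.el3), map_one]
      · have := orderOf_dvd_natCard (⟨D.el3, mem_subgroupOf.1 ((QuotientGroup.eq_one_iff _).1 h)⟩ : R)
        rw [Subgroup.orderOf_mk, D.w_ord] at this
        exact hR3 this
    have h3 : (3 : ℤ) ∣ i - 1 := by
      have := orderOf_dvd_iff_zpow_eq_one.2 (show π ⟨D.el3, hw⟩ ^ (i - 1) = 1 by rw [zpow_sub_one, e2, mul_inv_cancel])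
      rwa [ho] at this
    obtain ⟨q, hq⟩ := h3
    rw [← orderOf_coe] at h1o
    have h13 : w1 ^ (3 : ℤ) = 1 := by
      rw [show ((3 : ℤ)) = ((3 : ℕ) : ℤ) from rfl, zpow_natCast, ← h1o]; exact pow_orderOf_eq_one _
    rw [show i = 3 * q + 1 by omega, zpow_add_one, zpow_mul, h13, one_zpow, one_mul]
  rw [hw1i] at hrw
  refine ⟨r, hr, ?_⟩
  have hyw : x * r * D.el3 = D.el3 * (x * r) := by
    calc x * r * D.el3 = x * (r * D.el3 * r⁻¹) * r := by group
      _ = D.el3 * (x * r) := by rw [hrw, hw1]; group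
  refine D.cent_uw ?_ hyw
  have hyu : x * r * D.inv2 * (x * r)⁻¹ ∈ R := (mem_normalizer_iff.1 (mul_mem hx (le_normalizer hr)) _).1 hu
  have hc : x * r * D.inv2 * (x * r)⁻¹ * D.el3 = D.el3 * (x * r * D.inv2 * (x * r)⁻¹) :=
    (((show Commute D.el3 (x * r) from hyw.symm).mul_right D.comm_uw.symm).mul_right
      (show Commute D.el3 (x * r) from hyw.symm).inv_right).eq.symm
  rcases F.fix_P (hRP hyu) hc with e | e
  · exact absurd (conj_eq_one_iff.1 e) D.u_ne
  · exact mul_inv_eq_iff_eq_mul.1 e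

include F in
/-- modulo the two-group the element of order three generates its centraliser -/
theorem quot_centralizer {M R : Subgroup G} (hwM : D.el3 ∈ M) (hRM : R ≤ M) (hMn : M ≤ normalizer (R : Set G))
    (hRP : R ≤ F.P) (hu : D.inv2 ∈ R) [(R.subgroupOf M).Normal] :
    centralizer ((zpowers (QuotientGroup.mk' (R.subgroupOf M) ⟨D.el3, hwM⟩) : Subgroup (M ⧸ R.subgroupOf M)) :
      Set (M ⧸ R.subgroupOf M)) = zpowers (QuotientGroup.mk' (R.subgroupOf M) ⟨D.el3, hwM⟩) := by
  classical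
  set R' := R.subgroupOf M with hR'
  set π := QuotientGroup.mk' R'
  have hmem : ∀ z : M, π z = 1 ↔ (z : G) ∈ R := fun z => QuotientGroup.eq_one_iff z
  set w' : M := ⟨D.el3, hwM⟩
  refine le_antisymm (fun q hq => ?_) (fun q hq => mem_centralizer_iff.2 fun t ht => ?_)
  · obtain ⟨x, rfl⟩ := QuotientGroup.mk'_surjective R' q
    have hc := mem_centralizer_iff.1 hq _ (mem_zpowers _)
    have hxw : (x : G)⁻¹ * D.el3 * x * D.el3⁻¹ ∈ R := by
      have : π (x⁻¹ * w' * x * w'⁻¹) = 1 := by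
        rw [map_mul, map_mul, map_mul, map_inv, map_inv, mul_assoc (π x)⁻¹, hc, inv_mul_cancel_left, mul_inv_cancel]
      exact (hmem _).1 this
    obtain ⟨r, hr, hxr⟩ := F.lift_commute hRP hu (hMn hwM) (hMn x.2) hxw
    obtain ⟨i, -, hi⟩ := D.zp_pow hxr
    have e : π x = π w' ^ i := by
      have h1 : π x = π (x * ⟨r, hRM hr⟩) := by rw [map_mul, (hmem ⟨r, _⟩).2 hr, mul_one]
      have h2 : (x * ⟨r, hRM hr⟩ : M) = ⟨D.inv2, hRM hu⟩ ^ i * w' ^ i := Subtype.ext (by
        show (x : G) * r = _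
        rw [hi, ← D.uw, (show Commute D.inv2 D.el3 from D.comm_uw).mul_pow]
        simp [w'])
      rw [h1, h2, map_mul, map_pow, map_pow, (hmem ⟨D.inv2, hRM hu⟩).2 hu, one_pow, one_mul]
    rw [e]; exact pow_mem (mem_zpowers _) i
  · obtain ⟨i, rfl⟩ := mem_zpowers_iff.1 ht
    obtain ⟨j, rfl⟩ := mem_zpowers_iff.1 hq
    exact (Commute.zpow_zpow_self _ i j).eq

/-- a simple group of order above six has no proper subgroup of index at most three -/
theorem small_index_eq {M : Subgroup G} {Q : Type*} [Group Q] [Finite Q] [IsSimpleGroup Q] (π : M →* Q)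
    (hπ : Function.Surjective π) (h6 : 6 < Nat.card Q) {K : Subgroup G} (hker : π.ker ≤ K.subgroupOf M) (hKM : K ≤ M)
    (h3 : Nat.card M ≤ 3 * Nat.card K) : K = M := by
  classical
  set K' := (K.subgroupOf M).map π with hK'
  have hcomap : K'.comap π = K.subgroupOf M := by rw [hK', comap_map_eq_self hker]
  have hidx : K'.index = (K.subgroupOf M).index := by rw [← hcomap, index_comap_of_surjective _ hπ]
  have hle : K'.index ≤ 3 := by
    have h := (K.subgroupOf M).card_mul_index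
    rw [Nat.card_congr (subgroupOfEquivOfLe hKM).toEquiv] at h
    rw [hidx]
    exact Nat.le_of_mul_le_mul_left (h.trans_le (h3.trans (le_of_eq (mul_comm _ _)))) Nat.card_pos
  have htop : K' = ⊤ := by
    rcases (K'.normalCore_normal).eq_bot_or_eq_top with hb | ht
    · exfalso
      have hinj : Function.Injective (MulAction.toPermHom Q (Q ⧸ K')) :=
        (MonoidHom.ker_eq_bot_iff _).1 (by rw [← normalCore_eq_ker]; exact hb)
      have hc := Nat.card_le_card_of_injective _ hinj
      rw [Nat.card_perm, ← index_eq_card] at hc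
      have hf : Nat.factorial K'.index ≤ 6 := (Nat.factorial_le hle).trans (le_of_eq rfl)
      omega
    · exact top_le_iff.1 (ht ▸ normalCore_le K')
  refine le_antisymm hKM fun x hx => ?_
  have : (⟨x, hx⟩ : M) ∈ K'.comap π := by rw [htop]; exact mem_top _
  rw [hcomap] at this
  exact this

variable [IsSimpleGroup G]

include F in
/-- A group over the Sylow subgroup and the element of order three. -/
theorem over_sylow {M R : Subgroup G} (hSM : F.S ≤ M) (hwM : D.el3 ∈ M) (hRM : R ≤ M)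
    (hMn : M ≤ normalizer (R : Set G)) (hR2 : IsPGroup 2 R) (hu : D.inv2 ∈ R)
    (hmax : ∀ T : Subgroup G, T ≤ M → M ≤ normalizer (T : Set G) → IsPGroup 2 T → T ≤ R) :
    R = F.P ∨ (R ≤ F.P ∧ Nat.card M = 168 * Nat.card R ∧ Nat.card F.P = 4 * Nat.card R ∧
      (∀ n ∈ M, n ∈ normalizer (F.S : Set G) → n ∈ F.S) ∧
      ∀ K : Subgroup G, R ≤ K → K ≤ M → Nat.card M ≤ 3 * Nat.card K → K = M) := by
  classical
  haveI : Fact (Nat.Prime 2) := ⟨Nat.prime_two⟩
  haveI : Fact (Nat.Prime 3) := ⟨Nat.prime_three⟩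
  have hRS : R ≤ F.S := by
    have h : IsPGroup 2 (F.S ⊔ R : Subgroup G) := F.isPGroup_S.to_sup_of_normal_right' hR2 (hSM.trans hMn)
    exact le_sup_right.trans (F.sylow.3 h le_sup_left).le
  have hRP : R ≤ F.P := F.le_P_of_inv hRS (hMn hwM)
  have hSRn : F.S ≤ normalizer (R : Set G) := hSM.trans hMn
  set R' := R.subgroupOf M with hR'
  haveI : R'.Normal := (normal_subgroupOf_iff_le_normalizer hRM).2 hMn
  set π := QuotientGroup.mk' R'
  have hmem : ∀ z : M, π z = 1 ↔ (z : G) ∈ R := fun z => QuotientGroup.eq_one_iff z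
  have hR'card : Nat.card R' = Nat.card R := Nat.card_congr (subgroupOfEquivOfLe hRM).toEquiv
  -- the self-centralising element of order three
  set w' : M := ⟨D.el3, hwM⟩
  have hwR : D.el3 ∉ R := fun h => by
    have := orderOf_dvd_natCard (⟨_, hRP h⟩ : F.P)
    rw [Subgroup.orderOf_mk, D.w_ord] at this
    exact F.three_P this
  have hπw : orderOf (π w') = 3 := orderOf_eq_prime
    (by rw [← map_pow, show w' ^ 3 = 1 from Subtype.ext (D.w_ord ▸ pow_orderOf_eq_one D.el3), map_one])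
    (fun h => hwR ((hmem w').1 h))
  have hX : Nat.card (zpowers (π w')) = 3 := by rw [Nat.card_zpowers, hπw]
  have hCX := F.quot_centralizer hwM hRM hMn hRP hu
  -- no normal two-subgroup
  have hO : ∀ E : Subgroup (M ⧸ R'), E.Normal → IsPGroup 2 E → E = ⊥ := by
    intro E hE hE2
    have hker : π.ker = R' := QuotientGroup.ker_mk' R'
    have hpre : IsPGroup 2 (E.comap π) := hE2.comap_of_ker_isPGroup π (by
      rw [hker]; exact hR2.comap_of_injective M.subtype M.subtype_injective)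
    set T := (E.comap π).map M.subtype with hT
    have hTn : M ≤ normalizer (T : Set G) := by
      rw [hT]
      refine (normal_subgroupOf_iff_le_normalizer (map_subtype_le _)).1 ?_
      rw [subgroupOf, comap_map_eq_self_of_injective M.subtype_injective]
      exact hE.comap π
    have hTR := hmax T (map_subtype_le _) hTn (hpre.map _)
    refine eq_bot_iff.2 fun q hq => ?_
    obtain ⟨x, rfl⟩ := QuotientGroup.mk'_surjective R' q
    exact mem_bot.2 ((hmem x).2 (hTR ⟨x, hq, rfl⟩))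
  -- the image of the Sylow subgroup
  set Sb := (F.S.subgroupOf M).map π with hSb
  have hSb_card : Nat.card Sb * Nat.card R = 2 * Nat.card F.P := by
    rw [← F.card_S, ← Nat.card_congr (subgroupOfEquivOfLe hSM).toEquiv]
    have h := (π.subgroupMap (F.S.subgroupOf M)).ker.card_mul_index
    rw [index_ker, MonoidHom.range_eq_top.2 (MonoidHom.subgroupMap_surjective π _), card_top] at h
    rw [← h, mul_comm]
    congr 1
    refine Nat.card_congr ⟨fun x => ⟨⟨⟨x, hRM x.2⟩, hRS x.2⟩, Subtype.ext ((hmem ⟨x, hRM x.2⟩).2 x.2)⟩,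
      fun y => ⟨((y : F.S.subgroupOf M) : M), (hmem _).1 (congrArg Subtype.val y.2)⟩, fun x => rfl, fun y => rfl⟩
  have hSb2 : IsPGroup 2 Sb := ((F.isPGroup_S).comap_of_injective M.subtype M.subtype_injective).map π
  obtain ⟨e, he⟩ := IsPGroup.iff_card.1 hSb2
  -- small images
  have small : Nat.card Sb ≤ 4 → R = F.P := by
    intro h4
    refine eq_of_le_of_card_ge hRP ?_
    by_contra hlt
    obtain ⟨b, hb⟩ := IsPGroup.iff_card.1 F.isPGroup
    obtain ⟨c, hc⟩ := IsPGroup.iff_card.1 hR2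
    have h2 : Nat.card F.P = 2 * Nat.card R := by
      have h := card_dvd_of_le hRP
      obtain ⟨m, hm⟩ := h
      rw [hm] at hSb_card hlt ⊢
      have hm2 : Nat.card Sb = 2 * m := Nat.eq_of_mul_eq_mul_right (Nat.card_pos (α := R)) (by rw [hSb_card]; ring)
      have hm1 : 1 < m := by
        by_contra hm1
        exact hlt (Nat.mul_le_mul_left (Nat.card R) (show m ≤ 1 by omega) |>.trans (by rw [mul_one]))
      rw [show m = 2 by omega, mul_comm]
    obtain ⟨p, hp, hpR⟩ := SetLike.not_le_iff_exists.1 (show ¬ F.P ≤ R from fun h => hlt (card_le_of_le h))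
    refine hpR (F.fixed_quot_P hRP hu (hMn hwM) hp ?_)
    -- both lie in the nontrivial coset
    set Q := R.subgroupOf F.P
    have hQ : Q.index = 2 := by
      have h := Q.card_mul_index
      rw [Nat.card_congr (subgroupOfEquivOfLe hRP).toEquiv, h2, mul_comm 2] at h
      exact Nat.eq_of_mul_eq_mul_left Nat.card_pos h
    have hp' : D.el3 * p * D.el3⁻¹ ∈ F.P := F.conj_P D.w_C hp
    have := (mul_mem_iff_of_index_two hQ (a := (⟨p, hp⟩ : F.P)⁻¹) (b := ⟨_, hp'⟩)).2
      (by
        simp only [inv_mem_iff, Q, mem_subgroupOf]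
        exact iff_of_false hpR fun h => hpR ((mem_normalizer_iff.1 (hMn hwM) p).2 h))
    exact mem_subgroupOf.1 this
  rcases S3331.result (zpowers (π w')) hX hCX with ⟨N', hN', hnil, hcop, hq⟩ | ⟨E, hE, hEc, hE2, ⟨f⟩⟩ | ⟨⟨f⟩⟩
  · haveI := hN'
    refine Or.inl (small ?_)
    haveI := hnil
    obtain ⟨T⟩ : Nonempty (Sylow 2 N') := inferInstance
    haveI hTn : (T : Subgroup N').Normal := by
      have h := (Group.isNilpotent_of_finite_tfae (G := N')).out 0 3 |>.1 hnil
      exact h 2 ⟨Nat.prime_two⟩ T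
    haveI : (T : Subgroup N').Characteristic := T.characteristic_of_normal hTn
    have hT1 : (T : Subgroup N').map N'.subtype = ⊥ :=
      hO _ (inferInstance) (T.2.map _)
    have hodd : ¬ 2 ∣ Nat.card N' := by
      intro h
      have := T.dvd_card_of_dvd_card h
      rw [(map_eq_bot_iff_of_injective _ N'.subtype_injective).1 hT1, card_bot] at this
      norm_num at this
    have hi : Nat.card ((M ⧸ R') ⧸ N') ∣ 6 := by
      rcases hq with hq | ⟨⟨g⟩⟩
      · rw [hq]; norm_num
      · rw [Nat.card_congr g.toEquiv, Nat.card_perm, Nat.card_fin]; decide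
    have hd : Nat.card Sb ∣ 6 * Nat.card N' := by
      refine (card_subgroup_dvd_card Sb).trans ?_
      rw [card_eq_card_quotient_mul_card_subgroup N']
      exact Nat.mul_dvd_mul_right hi _
    rw [he] at hd ⊢
    by_contra hgt
    have he3 : 3 ≤ e := by
      by_contra h3
      exact hgt ((Nat.pow_le_pow_right two_pos (show e ≤ 2 by omega)).trans (by norm_num))
    have h8 : (2 : ℕ) ^ 3 ∣ 6 * Nat.card N' := (pow_dvd_pow 2 he3).trans hd
    obtain ⟨l, hl⟩ := h8
    exact hodd ⟨2 * l - Nat.card N', by omega⟩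
  · haveI := hE
    refine Or.inl (small ?_)
    have hE1 : E = ⊥ := hO E hE (fun x => ⟨1, Subtype.ext (by rw [pow_one, coe_pow, coe_one]; exact hE2 _ x.2)⟩)
    have hc : Nat.card (M ⧸ R') = 60 := by
      rw [card_eq_card_quotient_mul_card_subgroup E, hE1, card_bot, mul_one, ← hE1, Nat.card_congr f.toEquiv,
        Nat.card_eq_fintype_card]
      rfl
    have hd : Nat.card Sb ∣ 60 := hc ▸ card_subgroup_dvd_card Sb
    rw [he] at hd ⊢
    by_contra hgt
    have he3 : 3 ≤ e := by
      by_contra h3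
      exact hgt ((Nat.pow_le_pow_right two_pos (show e ≤ 2 by omega)).trans (by norm_num))
    have : (2 : ℕ) ^ 3 ∣ 60 := (pow_dvd_pow 2 he3).trans hd
    omega
  · have h168 : Nat.card (M ⧸ R') = 168 := by
      rw [Nat.card_congr f.toEquiv]; exact Lie.PSpFourThreeAmalgam.card_psl_seven
    have hd : Nat.card Sb ∣ 168 := h168 ▸ card_subgroup_dvd_card Sb
    by_cases h4 : Nat.card Sb ≤ 4
    · exact Or.inl (small h4)
    have he8 : Nat.card Sb = 8 := by
      rw [he] at hd h4 ⊢
      have he3 : 3 ≤ e := by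
        by_contra h3
        exact h4 ((Nat.pow_le_pow_right two_pos (show e ≤ 2 by omega)).trans (by norm_num))
      have he3' : e ≤ 3 := by
        by_contra h3
        have : (2 : ℕ) ^ 4 ∣ 168 := (pow_dvd_pow 2 (show 4 ≤ e by omega)).trans hd
        omega
      rw [show e = 3 by omega]; rfl
    refine Or.inr ⟨hRP, ?_, ?_, fun n hnM hn => ?_, fun K hRK hKM h3 => ?_⟩
    · rw [card_eq_card_quotient_mul_card_subgroup R', h168, hR'card]
    · rw [he8] at hSb_card; omega
    rotate_left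
    · haveI : Fact (Nat.Prime 7) := ⟨by norm_num⟩
      haveI : IsSimpleGroup (Matrix.ProjectiveSpecialLinearGroup (Fin 2) (ZMod 7)) :=
        Matrix.ProjectiveSpecialLinearGroup.rank_two_simple (by rw [Nat.card_eq_fintype_card, ZMod.card]; norm_num)
      haveI : Nontrivial (M ⧸ R') := Finite.one_lt_card_iff_nontrivial.1 (by rw [h168]; norm_num)
      haveI : IsSimpleGroup (M ⧸ R') := f.isSimpleGroup
      refine small_index_eq π (QuotientGroup.mk'_surjective R') (by rw [h168]; norm_num) ?_ hKM h3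
      intro x hx
      exact mem_subgroupOf.2 (hRK ((hmem x).1 (MonoidHom.mem_ker.1 hx)))
    haveI : Fact (Nat.Prime 7) := ⟨by norm_num⟩
    haveI : IsSimpleGroup (Matrix.ProjectiveSpecialLinearGroup (Fin 2) (ZMod 7)) :=
      Matrix.ProjectiveSpecialLinearGroup.rank_two_simple (by rw [Nat.card_eq_fintype_card, ZMod.card]; norm_num)
    haveI : Nontrivial (M ⧸ R') := Finite.one_lt_card_iff_nontrivial.1 (by rw [h168]; norm_num)
    haveI : IsSimpleGroup (M ⧸ R') := f.isSimpleGroup
    have hfac : (Nat.card (M ⧸ R')).factorization 2 = 3 := by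
      rw [h168, show 168 = 2 ^ 3 * 21 by norm_num, Nat.factorization_mul (by norm_num) (by norm_num), Finsupp.add_apply,
        Nat.Prime.factorization_pow Nat.prime_two, Finsupp.single_eq_same,
        Nat.factorization_eq_zero_of_not_dvd (by norm_num : ¬ 2 ∣ 21)]
    set T : Sylow 2 (M ⧸ R') := Sylow.ofCard Sb (by rw [he8, hfac]; rfl)
    have hnorm := (S1004.result h168 T).2.1
    have hmap : ∀ m : M, (∀ s ∈ F.S, (m : G) * s * (m : G)⁻¹ ∈ F.S) → ∀ q ∈ Sb, π m * q * (π m)⁻¹ ∈ Sb := by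
      rintro m hm _ ⟨s, hs, rfl⟩
      exact ⟨m * s * m⁻¹, mem_subgroupOf.2 (hm _ (mem_subgroupOf.1 hs)), by rw [map_mul, map_mul, map_inv]⟩
    have hnn : π ⟨n, hnM⟩ ∈ normalizer (Sb : Set (M ⧸ R')) := by
      refine mem_normalizer_iff.2 fun q => ⟨hmap ⟨n, hnM⟩ (fun s hs => (mem_normalizer_iff.1 hn s).1 hs) q, fun hq => ?_⟩
      have h := hmap ⟨n, hnM⟩⁻¹ (fun s hs => by
        simpa using (mem_normalizer_iff.1 (inv_mem hn) s).1 hs) _ hq
      simpa [mul_assoc] using h
    rw [show (Sb : Set (M ⧸ R')) = ((T : Subgroup (M ⧸ R')) : Set (M ⧸ R')) from rfl, hnorm] at hnn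
    obtain ⟨s, hs, hsn⟩ := hnn
    have hr : ((s⁻¹ * ⟨n, hnM⟩ : M) : G) ∈ R := (hmem _).1 (by rw [map_mul, map_inv, hsn, inv_mul_cancel])
    have := mul_mem (mem_subgroupOf.1 hs) (hRS hr)
    simpa using this

end SymCtx

end Cfsg.Agent.Char.OrderSix
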