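import Cfsg.Agent.Lib.Char.OrderSix.SymFix
import Cfsg.Agent.Lib.Char.OrderSix.SymOver

/-!
# Index six: the local group at a fixed line
-/

set_option autoImplicit false
set_option linter.unusedSectionVars false
set_option linter.style.haveILetI false

open Cfsg Subgroup
open scoped Pointwise

namespace Cfsg.Agent.Char.OrderSix

universe u
variable {G : Type u} [Group G] [Finite G]

/-- The shape of index six with a line fixed by the inverting element. -/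
structure LineCtx (D : Ctx G) extends SymCtx D where
  e : G
  heZ : e ∈ toSymCtx.Zc
  he2 : e * e = 1
  heU : e ∉ zpowers D.inv2
  hae : a * e * a⁻¹ * e⁻¹ ∈ zpowers D.inv2
  hV : ∀ v ∈ toSymCtx.V, v ∈ zpowers D.inv2

namespace LineCtx

variable {D : Ctx G} (F : LineCtx D)

theorem e_P : F.e ∈ F.P := F.heZ.1

theorem e_ne : F.e ≠ 1 ∧ F.e ≠ D.inv2 :=
  ⟨fun h => F.heU (h ▸ one_mem _), fun h => F.heU (h ▸ mem_zpowers _)⟩

theorem eu_comm : Commute F.e D.inv2 := D.mem_C.1 (F.P_le_C F.e_P)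

theorem eu_sq : F.e * D.inv2 * (F.e * D.inv2) = 1 := by
  rw [F.eu_comm.symm.mul_mul_mul_comm, F.he2, D.uu, one_mul]

theorem conj_e {x : G} (hx : x ∈ F.S) : x * F.e * x⁻¹ = F.e ∨ x * F.e * x⁻¹ = F.e * D.inv2 := by
  have hcase : ∀ {y : G}, y * F.e * y⁻¹ * F.e⁻¹ ∈ zpowers D.inv2 →
      y * F.e * y⁻¹ = F.e ∨ y * F.e * y⁻¹ = F.e * D.inv2 := fun {y} hy => by
    rcases D.mem_zu.1 hy with h | h
    · exact Or.inl (mul_inv_eq_one.1 h)
    · exact Or.inr (by rw [mul_inv_eq_iff_eq_mul.1 h, F.eu_comm.eq])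
  have hP : ∀ {p : G}, p ∈ F.P → p * F.e * p⁻¹ = F.e ∨ p * F.e * p⁻¹ = F.e * D.inv2 := fun hp =>
    hcase (F.heZ.2 _ hp)
  by_cases hxP : x ∈ F.P
  · exact hP hxP
  obtain ⟨p, hp, rfl⟩ := F.S_coset hx hxP
  have hu : ∀ {c : G}, c ∈ D.C → c * (F.e * D.inv2) * c⁻¹ = c * F.e * c⁻¹ * D.inv2 := fun {c} hc => by
    calc c * (F.e * D.inv2) * c⁻¹ = c * F.e * c⁻¹ * (c * D.inv2 * c⁻¹) := by group
      _ = _ := by rw [D.mem_C.1 hc, mul_inv_cancel_right]
  have hflip : F.a⁻¹ * F.e * F.a = F.a * F.e * F.a⁻¹ := by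
    calc F.a⁻¹ * F.e * F.a = F.a * ((F.a * F.a)⁻¹ * (F.e * (F.a * F.a))) * F.a⁻¹ := by group
      _ = F.a * F.e * F.a⁻¹ := by rw [(F.U_comm F.asq (F.P_le_C F.e_P)).symm.eq, inv_mul_cancel_left]
  have hcomp : F.a⁻¹ * F.e * F.a = F.e ∨ F.a⁻¹ * F.e * F.a = F.e * D.inv2 := by
    rw [hflip]; exact hcase F.hae
  have hrw : p * F.a⁻¹ * F.e * (p * F.a⁻¹)⁻¹ = p * (F.a⁻¹ * F.e * F.a) * p⁻¹ := by group
  rw [hrw]
  rcases hcomp with h | h <;> rw [h]
  · exact hP hp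
  · rw [hu (F.P_le_C hp)]
    rcases hP hp with h' | h' <;> rw [h']
    · exact Or.inr rfl
    · exact Or.inl (by rw [mul_assoc, D.uu, mul_one])

theorem exists_mover : ∃ s ∈ F.P, s * F.e * s⁻¹ = F.e * D.inv2 := by
  by_contra! hno
  refine F.heU (F.hV F.e ⟨F.e_P, fun x hx => ?_, F.he2⟩)
  exact mul_inv_eq_iff_eq_mul.1 ((F.conj_e (F.P_le_S hx)).resolve_right (hno x hx))

/-- the fixer of the line in the Sylow subgroup -/
def T : Subgroup G := F.S ⊓ centralizer ({F.e} : Set G)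

theorem mem_T {x : G} : x ∈ F.T ↔ x ∈ F.S ∧ x * F.e = F.e * x :=
  and_congr Iff.rfl mem_centralizer_singleton_iff

theorem T_le_S : F.T ≤ F.S := inf_le_left

theorem e_T : F.e ∈ F.T := F.mem_T.2 ⟨F.P_le_S F.e_P, rfl⟩

theorem u_T : D.inv2 ∈ F.T := F.mem_T.2 ⟨F.P_le_S F.u_P, F.eu_comm.symm.eq⟩

theorem T_of_fix {x : G} (hx : x ∈ F.S) (h : x * F.e * x⁻¹ = F.e) : x ∈ F.T :=
  F.mem_T.2 ⟨hx, mul_inv_eq_iff_eq_mul.1 h⟩

theorem T_coset {s : G} (hs : s ∈ F.S) (hse : s * F.e * s⁻¹ = F.e * D.inv2) {x : G} (hx : x ∈ F.S) :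
    x ∈ F.T ∨ s⁻¹ * x ∈ F.T := by
  rcases F.conj_e hx with h | h
  · exact Or.inl (F.T_of_fix hx h)
  · refine Or.inr (F.T_of_fix (mul_mem (inv_mem hs) hx) ?_)
    calc s⁻¹ * x * F.e * (s⁻¹ * x)⁻¹ = s⁻¹ * (x * F.e * x⁻¹) * s := by group
      _ = F.e := by rw [h, ← hse]; group

theorem T_normal {x t : G} (hx : x ∈ F.S) (ht : t ∈ F.T) : x * t * x⁻¹ ∈ F.T := by
  have htS := F.T_le_S ht
  refine F.T_of_fix (mul_mem (mul_mem hx htS) (inv_mem hx)) ?_
  have h := F.conj_e (inv_mem hx)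
  rw [inv_inv] at h
  have hte : Commute t F.e := (F.mem_T.1 ht).2
  have ht' : t * (x⁻¹ * F.e * x) * t⁻¹ = x⁻¹ * F.e * x := by
    rcases h with h | h <;> rw [h]
    · rw [hte.eq, mul_inv_cancel_right]
    · rw [(hte.mul_right (D.mem_C.1 (F.S_le_C htS))).eq, mul_inv_cancel_right]
  calc x * t * x⁻¹ * F.e * (x * t * x⁻¹)⁻¹ = x * (t * (x⁻¹ * F.e * x) * t⁻¹) * x⁻¹ := by group
    _ = F.e := by rw [ht']; group

theorem S_le_normalizer_T : F.S ≤ normalizer (F.T : Set G) := fun x hx => mem_normalizer_iff.2 fun t =>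
  ⟨fun ht => F.T_normal hx ht, fun ht => by simpa [mul_assoc] using F.T_normal (inv_mem hx) ht⟩

theorem mover_notT {s : G} (hse : s * F.e * s⁻¹ = F.e * D.inv2) : s ∉ F.T := fun h => by
  have h' := mul_inv_eq_iff_eq_mul.2 (F.mem_T.1 h).2
  exact D.u_ne (mul_eq_left.1 (hse.symm.trans h'))

theorem card_T : Nat.card F.S = 2 * Nat.card F.T := by
  classical
  obtain ⟨s, hs, hse⟩ := F.exists_mover
  have hset : (F.S : Set G) = (F.T : Set G) ∪ (fun t => s * t) '' (F.T : Set G) := by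
    ext x
    constructor
    · intro hx
      rcases F.T_coset (F.P_le_S hs) hse hx with h | h
      · exact Or.inl h
      · exact Or.inr ⟨_, h, by group⟩
    · rintro (hx | ⟨t, ht, rfl⟩)
      · exact F.T_le_S hx
      · exact mul_mem (F.P_le_S hs) (F.T_le_S ht)
  have hd : Disjoint (F.T : Set G) ((fun t => s * t) '' (F.T : Set G)) := by
    rw [Set.disjoint_left]
    rintro x hx ⟨t, ht, rfl⟩
    exact F.mover_notT hse (by simpa using mul_mem hx (inv_mem ht))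
  rw [← SetLike.coe_sort_coe, Nat.card_coe_set_eq, hset, Set.ncard_union_eq hd,
    Set.ncard_image_of_injective _ (mul_right_injective s), ← Nat.card_coe_set_eq, two_mul]
  rfl

theorem exists_T_notP : ∃ t ∈ F.T, t ∉ F.P := by
  obtain ⟨s, hs, hse⟩ := F.exists_mover
  rcases F.T_coset (F.P_le_S hs) hse F.a_S with h | h
  · exact ⟨_, h, F.a_notP⟩
  · exact ⟨_, h, fun hh => F.a_notP (by simpa using mul_mem hs hh)⟩

/-- the two-part is not tiny -/
theorem sixteen : ¬ Nat.card F.P ≤ 8 := by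
  classical
  intro h8
  set e1 := D.el3 * F.e * D.el3⁻¹ with h1
  have he1 : e1 ∈ F.P := F.conj_P D.w_C F.e_P
  have hc : Commute F.e e1 := F.comm_conj F.heZ F.he2
  set L := centralizer ({F.e} : Set G) ⊓ F.P
  have hsub : ({1, D.inv2, F.e, F.e * D.inv2, e1} : Set G) ⊆ (L : Set G) := by
    have hL : ∀ {x : G}, x ∈ F.P → Commute x F.e → x ∈ L := fun hx hc => ⟨mem_centralizer_singleton_iff.2 hc.eq, hx⟩
    rintro z (rfl | rfl | rfl | rfl | rfl)
    · exact one_mem _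
    · exact hL F.u_P F.eu_comm.symm
    · exact hL F.e_P (Commute.refl _)
    · exact hL (mul_mem F.e_P F.u_P) ((Commute.refl _).mul_left F.eu_comm.symm)
    · exact hL he1 hc.symm
  have hfix : ∀ z ∈ zpowers D.inv2, e1 ≠ F.e * z := fun z hz h => F.heU (F.fixed_quot_P F.zu_le (mem_zpowers _)
    (D.C_le_normalizer D.w_C) F.e_P (by rw [← h1, h, inv_mul_cancel_left]; exact hz))
  have hne : F.e * D.inv2 ≠ 1 := fun h => F.e_ne.2
    ((eq_inv_of_mul_eq_one_left h).trans (inv_eq_of_mul_eq_one_right D.uu))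
  have h5 : ({1, D.inv2, F.e, F.e * D.inv2, e1} : Set G).ncard = 5 := by
    rw [Set.ncard_insert_of_notMem, Set.ncard_insert_of_notMem, Set.ncard_insert_of_notMem, Set.ncard_pair]
    · exact fun h => hfix D.inv2 (mem_zpowers _) h.symm
    · rintro (h | h)
      · exact D.u_ne (mul_eq_left.1 h.symm)
      · exact hfix 1 (one_mem _) (by rw [mul_one]; exact Eq.symm h)
    · rintro (h | h | h)
      · exact F.e_ne.2 h.symm
      · exact F.e_ne.1 (mul_eq_right.1 (show F.e * D.inv2 = D.inv2 from h.symm))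
      · refine F.e_ne.2 ?_
        calc F.e = D.el3⁻¹ * e1 * D.el3 := by rw [h1]; group
          _ = D.inv2 := by
            rw [show e1 = D.inv2 from Eq.symm h, mul_assoc, D.comm_uw, inv_mul_cancel_left]
    · rintro (h | h | h | h)
      · exact D.u_ne h.symm
      · exact F.e_ne.1 h.symm
      · exact hne h.symm
      · exact F.e_ne.1 (conj_eq_one_iff.1 (show e1 = 1 from Eq.symm h))
  haveI : Fact (Nat.Prime 2) := ⟨Nat.prime_two⟩
  have hL5 := Set.ncard_le_ncard hsub (Set.toFinite _)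
  rw [h5, ← Nat.card_coe_set_eq] at hL5
  obtain ⟨n, hn⟩ := IsPGroup.iff_card.1 (F.isPGroup.to_le (inf_le_right : L ≤ F.P))
  have hL8 : 8 ≤ Nat.card L := by
    have hn3 : 3 ≤ n := by
      by_contra h
      have : Nat.card L ≤ 4 := hn ▸ (Nat.pow_le_pow_right two_pos (show n ≤ 2 by omega))
      exact absurd ((le_of_eq rfl).trans (hL5.trans this)) (by norm_num)
    rw [hn]; exact (show 2 ^ 3 ≤ 2 ^ n from Nat.pow_le_pow_right two_pos hn3)
  obtain ⟨s, hs, hse⟩ := F.exists_mover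
  have hLP : L = F.P := eq_of_le_of_card_ge inf_le_right (h8.trans hL8)
  rw [← hLP] at hs
  exact D.u_ne (mul_eq_left.1 (hse.symm.trans (mul_inv_eq_iff_eq_mul.2 (mem_centralizer_singleton_iff.1 hs.1))))

/-- involutions central in the fixer -/
theorem Om_cases {z : G} (hz : z ∈ F.T) (hzc : ∀ x ∈ F.T, x * z = z * x) (hz2 : z * z = 1) :
    z = 1 ∨ z = D.inv2 ∨ z = F.e ∨ z = F.e * D.inv2 := by
  classical
  obtain ⟨s, hsP, hse⟩ := F.exists_mover
  have hsS := F.P_le_S hsP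
  set I := F.T ⊓ F.P
  have hcosP : ∀ x ∈ F.P, x ∈ I ∨ s⁻¹ * x ∈ I := fun x hx =>
    (F.T_coset hsS hse (F.P_le_S hx)).imp (fun h => ⟨h, hx⟩) fun h => ⟨h, F.P.mul_mem (F.P.inv_mem hsP) hx⟩
  have hPT : ∀ {y : G}, y ∈ F.T → (∀ x ∈ F.T, x * y = y * x) → y * y = 1 → y ∈ F.P := by
    intro y hy hyc hy2
    by_contra hyP
    -- such an element would make the two-part tiny
    set I' := I.map (MulAut.conj D.el3).toMonoidHom with hI'
    have hI'P : I' ≤ F.P := by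
      rintro _ ⟨x, hx, rfl⟩
      exact F.conj_P D.w_C hx.2
    have hJ : I ⊓ I' ≤ zpowers D.inv2 := by
      rintro x ⟨hxI, hxI'⟩
      obtain ⟨x', hx', rfl⟩ := hxI'
      refine F.outside (F.T_le_S hy) hyP (F.conj_P D.w_C hx'.2) (hyc _ hxI.1) ?_
      have := congrArg (fun t => D.el3 * t * D.el3⁻¹) (hyc _ hx'.1)
      simpa [mul_assoc] using this
    refine F.sixteen ?_
    have hidx : Nat.card F.P ≤ 2 * Nat.card I := by
      have hsub : (F.P : Set G) ⊆ (I : Set G) ∪ (fun t => s * t) '' (I : Set G) := fun x hx => by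
        rcases hcosP x hx with h | h
        · exact Or.inl h
        · exact Or.inr ⟨_, h, by group⟩
      have h := (Set.ncard_le_ncard hsub (Set.toFinite _)).trans (Set.ncard_union_le _ _)
      rw [Set.ncard_image_of_injective _ (mul_right_injective s), ← Nat.card_coe_set_eq, ← Nat.card_coe_set_eq,
        ← two_mul] at h
      exact h
    set P1 := I.subgroupOf F.P
    set P2 := I'.subgroupOf F.P
    have hi1 : P1.index ≤ 2 := by
      have h := P1.card_mul_index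
      rw [Nat.card_congr (subgroupOfEquivOfLe (inf_le_right : I ≤ F.P)).toEquiv] at h
      exact Nat.le_of_mul_le_mul_left (h ▸ hidx.trans (le_of_eq (mul_comm _ _))) Nat.card_pos
    have hi2 : P2.index ≤ 2 := by
      have h := P2.card_mul_index
      rw [Nat.card_congr (subgroupOfEquivOfLe hI'P).toEquiv,
        Nat.card_congr (I.equivMapOfInjective _ (MulAut.conj D.el3).injective).toEquiv.symm] at h
      exact Nat.le_of_mul_le_mul_left (h ▸ hidx.trans (le_of_eq (mul_comm _ _))) Nat.card_pos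
    have h12 := index_inf_le (H := P1) (K := P2)
    have hcard := (P1 ⊓ P2).card_mul_index
    have h2 : Nat.card ↥(P1 ⊓ P2) ≤ 2 := by
      rw [show P1 ⊓ P2 = (I ⊓ I').subgroupOf F.P from rfl,
        Nat.card_congr (subgroupOfEquivOfLe (show I ⊓ I' ≤ F.P from fun x hx => hx.1.2)).toEquiv]
      exact (card_le_of_le hJ).trans (le_of_eq (by rw [Nat.card_zpowers, D.u_ord]))
    rw [← hcard]
    exact (Nat.mul_le_mul h2 (h12.trans (Nat.mul_le_mul hi1 hi2))).trans (le_of_eq rfl)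
  have key : ∀ y ∈ F.T, (∀ x ∈ F.T, x * y = y * x) → y * y = 1 → s * y * s⁻¹ = y → y = 1 ∨ y = D.inv2 := by
    intro y hy hyc hy2 hsy
    refine D.mem_zu.1 (F.hV y ⟨hPT hy hyc hy2, fun x hx => ?_, hy2⟩)
    rcases hcosP x hx with h | h
    · exact hyc x h.1
    · rw [show x = s * (s⁻¹ * x) by group]
      exact ((show Commute s y from mul_inv_eq_iff_eq_mul.1 hsy).mul_left (hyc _ h.1)).eq
  have hcentT : ∀ {y : G}, y ∈ F.T → (∀ x ∈ F.T, x * y = y * x) → ∀ x ∈ F.T, x * (s * y * s⁻¹) = s * y * s⁻¹ * x := by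
    intro y hy hyc x hx
    have hx' : s⁻¹ * x * s ∈ F.T := by simpa using F.T_normal (inv_mem hsS) hx
    have := congrArg (fun v => s * v * s⁻¹) (hyc _ hx')
    simpa [mul_assoc] using this
  have hz' := F.T_normal hsS hz
  have hcz : Commute (s * z * s⁻¹) z := hzc _ hz'
  have hz'2 : s * z * s⁻¹ * (s * z * s⁻¹) = 1 := by
    rw [show s * z * s⁻¹ * (s * z * s⁻¹) = s * (z * z) * s⁻¹ by group, hz2]; group
  have hss : s * s ∈ F.T := by
    rcases F.T_coset hsS hse (mul_mem hsS hsS) with h | h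
    · exact h
    · exact absurd (by simpa using h : s ∈ F.T) (F.mover_notT hse)
  set y := z * (s * z * s⁻¹) with hy
  have hyfix : s * y * s⁻¹ = y := by
    have h2 : s * (s * z * s⁻¹) * s⁻¹ = z := by
      calc s * (s * z * s⁻¹) * s⁻¹ = (s * s) * z * (s * s)⁻¹ := by group
        _ = z := by rw [hzc _ hss, mul_inv_cancel_right]
    calc s * y * s⁻¹ = (s * z * s⁻¹) * (s * (s * z * s⁻¹) * s⁻¹) := by rw [hy]; group
      _ = y := by rw [h2, hy]; exact hcz.eq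
  rcases key y (mul_mem hz hz') (fun x hx => ((show Commute x z from hzc x hx).mul_right (hcentT hz hzc x hx)).eq)
      (by rw [hy, hcz.mul_mul_mul_comm, hz2, hz'2, one_mul]) hyfix with h | h
  · have hzz : s * z * s⁻¹ = z := by
      rw [eq_inv_of_mul_eq_one_right h]
      exact inv_eq_of_mul_eq_one_right hz2
    exact (key z hz hzc hz2 hzz).imp id Or.inl
  · have hzs : s * z * s⁻¹ = z * D.inv2 := by
      calc s * z * s⁻¹ = (z * z) * (s * z * s⁻¹) := by rw [hz2, one_mul]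
        _ = z * D.inv2 := by rw [mul_assoc, ← hy, h]
    have hfix : s * (z * F.e) * s⁻¹ = z * F.e := by
      calc s * (z * F.e) * s⁻¹ = (s * z * s⁻¹) * (s * F.e * s⁻¹) := by group
        _ = z * (D.inv2 * F.e) * D.inv2 := by rw [hzs, hse]; group
        _ = z * F.e := by rw [← F.eu_comm.eq, mul_assoc, mul_assoc, D.uu, mul_one]
    have hze : Commute z F.e := (F.mem_T.1 hz).2
    rcases key (z * F.e) (mul_mem hz F.e_T)
        (fun x hx => ((show Commute x z from hzc x hx).mul_right (F.mem_T.1 hx).2).eq)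
        (by rw [hze.symm.mul_mul_mul_comm, hz2, F.he2, one_mul]) hfix with h' | h'
    · exact Or.inr (Or.inr (Or.inl ((eq_inv_of_mul_eq_one_left h').trans (inv_eq_of_mul_eq_one_right F.he2))))
    · refine Or.inr (Or.inr (Or.inr ?_))
      calc z = z * (F.e * F.e) := by rw [F.he2, mul_one]
        _ = D.inv2 * F.e := by rw [← mul_assoc, h']
        _ = F.e * D.inv2 := F.eu_comm.symm.eq

variable [IsSimpleGroup G]

theorem exists_cycle : ∃ s g : G, s ∈ F.P ∧ s * F.e * s⁻¹ = F.e * D.inv2 ∧ g ∈ normalizer (F.T : Set G) ∧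
    g * D.inv2 * g⁻¹ ≠ D.inv2 ∧ (g * D.inv2 * g⁻¹ = F.e ∨ g * D.inv2 * g⁻¹ = F.e * D.inv2) ∧
    g ^ 3 ∈ F.T ∧ s * g * s⁻¹ * g ∈ F.T := by
  classical
  haveI : Fact (Nat.Prime 2) := ⟨Nat.prime_two⟩
  haveI : Fact (Nat.Prime 3) := ⟨Nat.prime_three⟩
  obtain ⟨s, hsP, hse⟩ := F.exists_mover
  have hsS := F.P_le_S hsP
  obtain ⟨g1, hg1⟩ := D.conj_u (orderOf_eq_prime (by rw [pow_two]; exact F.he2) F.e_ne.1)
  -- a Sylow subgroup of the conjugate centraliser
  set T1 := F.T.map (MulAut.conj g1⁻¹).toMonoidHom with hT1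
  have hT1C : T1 ≤ D.C := by
    rintro _ ⟨t, ht, rfl⟩
    have h := congrArg (fun v => g1⁻¹ * v * g1) (F.mem_T.1 ht).2
    rw [D.mem_C]
    show g1⁻¹ * t * g1⁻¹⁻¹ * D.inv2 = D.inv2 * (g1⁻¹ * t * g1⁻¹⁻¹)
    rw [← hg1] at h
    simpa [mul_assoc] using h
  let SC : Sylow 2 D.C := F.toSymCtx.sylow.subtype F.S_le_C
  obtain ⟨Q, hQ⟩ := (((F.isPGroup_S.to_le F.T_le_S).map (MulAut.conj g1⁻¹).toMonoidHom).comap_of_injective
    D.C.subtype D.C.subtype_injective : IsPGroup 2 (T1.comap D.C.subtype)).exists_le_sylow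
  obtain ⟨c, hc⟩ := MulAction.exists_smul_eq D.C SC Q
  set h := g1 * (c : G) with hh
  have hhu : h * D.inv2 * h⁻¹ = F.e := by
    calc h * D.inv2 * h⁻¹ = g1 * ((c : G) * D.inv2 * (c : G)⁻¹) * g1⁻¹ := by rw [hh]; group
      _ = F.e := by rw [D.mem_C.1 c.2, mul_inv_cancel_right, hg1]
  set Se := F.S.map (MulAut.conj h).toMonoidHom with hSe
  have hTSe : F.T ≤ Se := by
    intro t ht
    have h1 : (⟨g1⁻¹ * t * g1, hT1C ⟨t, ht, by simp⟩⟩ : D.C) ∈ ((c • SC : Sylow 2 D.C) : Subgroup D.C) := by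
      rw [hc]; exact hQ ⟨t, ht, by simp⟩
    obtain ⟨x, hx, hxe⟩ := h1
    have hxe' : (c : G) * (x : G) * (c : G)⁻¹ = g1⁻¹ * t * g1 := congrArg Subtype.val hxe
    refine ⟨x, hx, ?_⟩
    show h * (x : G) * h⁻¹ = t
    calc h * (x : G) * h⁻¹ = g1 * ((c : G) * x * (c : G)⁻¹) * g1⁻¹ := by rw [hh]; group
      _ = t := by rw [hxe']; group
  have hSecard : Nat.card Se = Nat.card F.S :=
    (Nat.card_congr (F.S.equivMapOfInjective _ (MulAut.conj h).injective).toEquiv).symm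
  have hSee : ∀ x ∈ Se, x * F.e = F.e * x := by
    rintro _ ⟨x, hx, rfl⟩
    have := congrArg (fun v => h * v * h⁻¹) (D.mem_C.1 (F.S_le_C hx))
    show h * x * h⁻¹ * F.e = F.e * (h * x * h⁻¹)
    rw [← hhu]
    simpa [mul_assoc] using this
  have hTn : ∀ x ∈ Se, x ∈ normalizer (F.T : Set G) := by
    intro x hx
    have hidx : (F.T.subgroupOf Se).index = 2 := by
      have h2 := (F.T.subgroupOf Se).card_mul_index
      rw [Nat.card_congr (subgroupOfEquivOfLe hTSe).toEquiv, hSecard, F.card_T, mul_comm 2] at h2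
      exact Nat.eq_of_mul_eq_mul_left Nat.card_pos h2
    haveI := normal_of_index_eq_two hidx
    exact (normal_subgroupOf_iff_le_normalizer hTSe).1 inferInstance hx
  obtain ⟨s', hs'P, hs'u⟩ : ∃ s' ∈ Se, s' * D.inv2 ≠ D.inv2 * s' := by
    by_contra! hno
    have hC : Se ≤ D.C := fun x hx => D.mem_C.2 (hno x hx)
    let SQ : Sylow 2 D.C := Sylow.ofCard (Se.subgroupOf D.C) (by
      rw [Nat.card_congr (subgroupOfEquivOfLe hC).toEquiv, hSecard,
        ← Nat.card_congr (subgroupOfEquivOfLe F.S_le_C).toEquiv]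
      exact SC.card_eq_multiplicity)
    obtain ⟨d, hd⟩ := MulAction.exists_smul_eq D.C SC SQ
    refine F.mover_notT hse (F.mem_T.2 ⟨hsS, hSee s ?_⟩)
    have hs' : (d : G)⁻¹ * s * (d : G) ∈ F.P := by simpa using F.conj_P (inv_mem d.2) hsP
    have h1 : (d * ⟨(d : G)⁻¹ * s * (d : G), F.P_le_C hs'⟩ * d⁻¹ : D.C) ∈ ((d • SC : Sylow 2 D.C) : Subgroup D.C) :=
      ⟨⟨_, F.P_le_C hs'⟩, F.P_le_S hs', rfl⟩
    rw [hd] at h1
    have := mem_subgroupOf.1 (show (d * ⟨(d : G)⁻¹ * s * (d : G), F.P_le_C hs'⟩ * d⁻¹ : D.C) ∈ Se.subgroupOf D.C from h1)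
    simpa [mul_assoc] using this
  have hs'e : s' * F.e * s'⁻¹ = F.e := mul_inv_eq_iff_eq_mul.2 (hSee s' hs'P)
  have hs'T : s' ∉ F.T := fun h' => hs'u (D.mem_C.1 (F.S_le_C (F.T_le_S h')))
  have hs's' : s' * s' ∈ F.T := by
    have hidx : (F.T.subgroupOf Se).index = 2 := by
      have h2 := (F.T.subgroupOf Se).card_mul_index
      rw [Nat.card_congr (subgroupOfEquivOfLe hTSe).toEquiv, hSecard, F.card_T, mul_comm 2] at h2
      exact Nat.eq_of_mul_eq_mul_left Nat.card_pos h2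
    exact mul_self_mem_of_index_two hidx (⟨s', hs'P⟩ : Se)
  have hs'uT : s' * D.inv2 * s'⁻¹ = F.e * D.inv2 := by
    have hN := mem_normalizer_iff.1 (hTn s' hs'P)
    have hmem : s' * D.inv2 * s'⁻¹ ∈ F.T := (hN _).1 F.u_T
    have hcen : ∀ x ∈ F.T, x * (s' * D.inv2 * s'⁻¹) = s' * D.inv2 * s'⁻¹ * x := fun x hx => by
      have hx' : s'⁻¹ * x * s' ∈ F.T := by simpa using (mem_normalizer_iff.1 (inv_mem (hTn s' hs'P)) x).1 hx
      have := congrArg (fun v => s' * v * s'⁻¹) (D.mem_C.1 (F.S_le_C (F.T_le_S hx')))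
      simpa [mul_assoc] using this
    rcases F.Om_cases hmem hcen (by
      rw [show s' * D.inv2 * s'⁻¹ * (s' * D.inv2 * s'⁻¹) = s' * (D.inv2 * D.inv2) * s'⁻¹ by group, D.uu]; group) with h' | h' | h' | h'
    · exact absurd (conj_eq_one_iff.1 h') D.u_ne
    · exact absurd (mul_inv_eq_iff_eq_mul.1 h') hs'u
    · exact absurd (h'.trans hs'e.symm) fun hh => F.e_ne.2 (mul_left_cancel (mul_right_cancel hh)).symm
    · exact h'
  set y := s * s' with hy
  have hsu : s * D.inv2 * s⁻¹ = D.inv2 := mul_inv_eq_iff_eq_mul.2 (D.mem_C.1 (F.P_le_C hsP))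
  have hyu : y * D.inv2 * y⁻¹ = F.e := by
    calc y * D.inv2 * y⁻¹ = s * (s' * D.inv2 * s'⁻¹) * s⁻¹ := by rw [hy]; group
      _ = (s * F.e * s⁻¹) * (s * D.inv2 * s⁻¹) := by rw [hs'uT]; group
      _ = F.e := by rw [hse, hsu, mul_assoc, D.uu, mul_one]
  have hye : y * F.e * y⁻¹ = F.e * D.inv2 := by
    calc y * F.e * y⁻¹ = s * (s' * F.e * s'⁻¹) * s⁻¹ := by rw [hy]; group
      _ = F.e * D.inv2 := by rw [hs'e, hse]
  have hyeu : y * (F.e * D.inv2) * y⁻¹ = D.inv2 := by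
    calc y * (F.e * D.inv2) * y⁻¹ = (y * F.e * y⁻¹) * (y * D.inv2 * y⁻¹) := by group
      _ = F.e * (D.inv2 * F.e) := by rw [hye, hyu, mul_assoc]
      _ = D.inv2 := by rw [← F.eu_comm.eq, ← mul_assoc, F.he2, one_mul]
  -- modulo the fixer
  set M := normalizer (F.T : Set G) with hM
  set T' := F.T.subgroupOf M
  haveI : T'.Normal := normal_in_normalizer
  set π := QuotientGroup.mk' T'
  have hmemT : ∀ z : M, π z = 1 ↔ (z : G) ∈ F.T := fun z => QuotientGroup.eq_one_iff z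
  have hsM : s ∈ M := F.S_le_normalizer_T hsS
  have hss : s * s ∈ F.T := by
    rcases F.T_coset hsS hse (mul_mem hsS hsS) with h | h
    · exact h
    · exact absurd (by simpa using h : s ∈ F.T) (F.mover_notT hse)
  set a1 : M := ⟨s, hsM⟩
  set b1 : M := ⟨s', hTn s' hs'P⟩
  have ha1 : (π a1)⁻¹ = π a1 := inv_eq_of_mul_eq_one_right (by rw [← map_mul]; exact (hmemT _).2 hss)
  have hb1 : (π b1)⁻¹ = π b1 := inv_eq_of_mul_eq_one_right (by rw [← map_mul]; exact (hmemT _).2 hs's')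
  obtain ⟨k, m, hm3, hord⟩ : ∃ k m, ¬ 3 ∣ m ∧ orderOf (π (a1 * b1)) = 3 ^ k * m :=
    let ⟨k, m, h1, h2⟩ := Nat.exists_eq_pow_mul_and_not_dvd (orderOf_pos (π (a1 * b1))).ne' 3 (by norm_num)
    ⟨k, m, h1, h2⟩
  have hinvπ : π a1 * π (a1 * b1) * (π a1)⁻¹ = (π (a1 * b1))⁻¹ := by
    rw [map_mul, mul_inv_rev, ha1, hb1]
    have h1 : π a1 * π a1 = 1 := by rw [← map_mul]; exact (hmemT _).2 hss
    rw [← mul_assoc, h1, one_mul]
  set g : M := (a1 * b1) ^ m with hgdef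
  have hgG : (g : G) = y ^ m := by simp [g, a1, b1, hy]
  have hyq : ∀ q : ℕ, (y ^ 3) ^ q * D.inv2 * ((y ^ 3) ^ q)⁻¹ = D.inv2 := by
    intro q
    have c1 : Commute (y ^ 3) D.inv2 := mul_inv_eq_iff_eq_mul.1 (by
      calc y ^ 3 * D.inv2 * (y ^ 3)⁻¹ = y * (y * (y * D.inv2 * y⁻¹) * y⁻¹) * y⁻¹ := by simp [pow_succ, mul_assoc]
        _ = D.inv2 := by rw [hyu, hye, hyeu])
    exact mul_inv_eq_iff_eq_mul.2 (c1.pow_left q).eq
  have hgu : (g : G) * D.inv2 * (g : G)⁻¹ = F.e ∨ (g : G) * D.inv2 * (g : G)⁻¹ = F.e * D.inv2 := by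
    obtain ⟨q, r, hr, hmqr⟩ : ∃ q r, (r = 1 ∨ r = 2) ∧ m = 3 * q + r :=
      ⟨m / 3, m % 3, by omega, (Nat.div_add_mod m 3).symm⟩
    have e1 : (g : G) * D.inv2 * (g : G)⁻¹ = y ^ r * D.inv2 * (y ^ r)⁻¹ := by
      rw [hgG, hmqr, add_comm, pow_add, pow_mul]
      calc y ^ r * (y ^ 3) ^ q * D.inv2 * (y ^ r * (y ^ 3) ^ q)⁻¹
          = y ^ r * ((y ^ 3) ^ q * D.inv2 * ((y ^ 3) ^ q)⁻¹) * (y ^ r)⁻¹ := by group
        _ = _ := by rw [hyq q]
    rw [e1]
    rcases hr with rfl | rfl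
    · left; rw [pow_one]; exact hyu
    · right
      calc y ^ 2 * D.inv2 * (y ^ 2)⁻¹ = y * (y * D.inv2 * y⁻¹) * y⁻¹ := by simp [pow_two, mul_assoc]
        _ = _ := by rw [hyu, hye]
  refine ⟨s, g, hsP, hse, g.2, ?_, hgu, ?_, ?_⟩
  · rcases hgu with h' | h' <;> rw [h']
    · exact F.e_ne.2
    · exact fun hh => F.e_ne.1 (mul_eq_right.1 hh)
  · -- the cube lies in the fixer
    have hgk : π g ^ 3 ^ k = 1 := by
      rw [hgdef, map_pow, ← pow_mul, mul_comm, ← hord, pow_orderOf_eq_one]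
    refine (hmemT (g ^ 3)).1 (orderOf_eq_one_iff.1 ?_)
    set Ce := M ⊓ (D.C ⊓ centralizer ({F.e} : Set G)) with hCe
    have hCe3 : ¬ 3 ∣ Nat.card Ce := fun h3 => by
      obtain ⟨x, hx⟩ := exists_prime_orderOf_dvd_card' 3 h3
      exact F.heU (F.three_fix x.2.2.1 (by rw [orderOf_coe, hx]) F.e_P (mem_centralizer_singleton_iff.1 x.2.2.2))
    have hg3 : ((g ^ 3 : M) : G) ∈ Ce := by
      refine ⟨(g ^ 3).2, D.mem_C.2 ?_, mem_centralizer_singleton_iff.2 ?_⟩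
      · rw [coe_pow, hgG, ← pow_mul, mul_comm, pow_mul]
        exact mul_inv_eq_iff_eq_mul.1 (hyq m)
      · have c2 : Commute (y ^ 3) F.e := mul_inv_eq_iff_eq_mul.1 (by
          calc y ^ 3 * F.e * (y ^ 3)⁻¹ = y * (y * (y * F.e * y⁻¹) * y⁻¹) * y⁻¹ := by simp [pow_succ, mul_assoc]
            _ = F.e := by rw [hye, hyeu, hyu])
        rw [coe_pow, hgG, ← pow_mul, mul_comm, pow_mul]
        exact (c2.pow_left m).eq
    refine Nat.eq_one_of_dvd_coprimes ((Nat.Prime.coprime_iff_not_dvd Nat.prime_three).2 hCe3 |>.pow_left k) ?_ ?_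
    · refine orderOf_dvd_of_pow_eq_one ?_
      rw [map_pow, ← pow_mul, mul_comm, pow_mul, hgk, one_pow]
    · refine (orderOf_map_dvd _ _).trans ?_
      rw [← orderOf_coe, ← Subgroup.orderOf_mk ((g ^ 3 : M) : G) hg3]
      exact orderOf_dvd_natCard _
  · refine (hmemT (a1 * g * a1⁻¹ * g)).1 ?_
    rw [map_mul, map_mul, map_mul, map_inv, hgdef, map_pow, ← conj_pow, hinvπ, inv_pow, inv_mul_cancel]

end LineCtx

end Cfsg.Agent.Char.OrderSix
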