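import Cfsg.Agent.Lib.Char.OrderSix.SymJ
import Cfsg.Agent.S1545

/-!
# Index six: a local group with a quotient of order 168
-/

set_option autoImplicit false
set_option linter.unusedSectionVars false
set_option linter.style.haveILetI false

open Cfsg Subgroup
open scoped Pointwise

namespace Cfsg.Agent.Char.OrderSix

universe u
variable {G : Type u} [Group G] [Finite G]

/-- a group of order a prime, moved by an element of order another prime -/
theorem zpowers_fpf {y w : G} (h7 : (orderOf y).Prime) (h3 : (orderOf w).Prime) (hne : w * y ≠ y * w) :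
    ∀ e ∈ zpowers w, e ≠ 1 → ∀ x ∈ zpowers y, e * x = x * e → x = 1 := by
  intro e he he1 x hx hex
  by_contra hx1
  have hgen : ∀ {a b : G}, (orderOf a).Prime → b ∈ zpowers a → b ≠ 1 → a ∈ zpowers b := fun {a b} ha hb hb1 => by
    haveI : Fact (orderOf a).Prime := ⟨ha⟩
    exact mem_zpowers_iff.2 (by
      obtain ⟨k, hk⟩ := mem_zpowers_iff.1 (mem_zpowers_of_prime_card (p := orderOf a) (Nat.card_zpowers a)
        (g := (⟨b, hb⟩ : zpowers a)) (g' := ⟨a, mem_zpowers a⟩) (fun h => hb1 (congrArg Subtype.val h)))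
      exact ⟨k, congrArg Subtype.val hk⟩)
  obtain ⟨i, hi⟩ := mem_zpowers_iff.1 (hgen h3 he he1)
  obtain ⟨j, hj⟩ := mem_zpowers_iff.1 (hgen h7 hx hx1)
  exact hne (hi ▸ hj ▸ ((show Commute e x from hex).zpow_zpow i j).eq)

variable [IsSimpleGroup G]

namespace SymCtx

variable {D : Ctx G} (F : SymCtx D)

include F in
/-- The two-part has order thirty-two if a local group has a quotient of order 168. -/
theorem seven_card {R : Subgroup G} (hRS : R ≤ F.S) (hu : D.inv2 ∈ R) (hSn : F.S ≤ normalizer (R : Set G))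
    (hwn : D.el3 ∈ normalizer (R : Set G)) {g : G} (hgn : g ∈ normalizer (R : Set G))
    (hgu : g * D.inv2 * g⁻¹ ≠ D.inv2) (hgP : g ∉ normalizer (F.P : Set G)) : Nat.card F.P = 32 := by
  classical
  haveI : Fact (Nat.Prime 2) := ⟨Nat.prime_two⟩
  haveI : Fact (Nat.Prime 3) := ⟨Nat.prime_three⟩
  haveI : Fact (Nat.Prime 7) := ⟨by norm_num⟩
  set M := normalizer (R : Set G) with hM
  set R0 := pCoreOf 2 M with hR0
  have huR0 : D.inv2 ∈ R0 := Fusion.le_pCoreOf le_normalizer le_rfl (F.isPGroup_S.to_le hRS) hu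
  have hR0n : M ≤ normalizer (R0 : Set G) := Fusion.le_normalizer_pCoreOf (p := 2) M
  have hR0M : R0 ≤ M := map_subtype_le _
  rcases F.over_core hSn hwn huR0 with h | ⟨hR0P, h168, hP4, -, hK⟩
  · exact absurd ((show R0 = F.P from h) ▸ hR0n hgn) hgP
  change R0 ≤ F.P at hR0P
  change Nat.card M = 168 * Nat.card R0 at h168
  change Nat.card F.P = 4 * Nat.card R0 at hP4
  change ∀ K : Subgroup G, R0 ≤ K → K ≤ M → Nat.card M ≤ 3 * Nat.card K → K = M at hK
  have hR0S : R0 ≤ F.S := hR0P.trans F.P_le_S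
  obtain ⟨b, hb⟩ := IsPGroup.iff_card.1 (F.isPGroup.to_le hR0P)
  have hpos : 0 < Nat.card R0 := Nat.card_pos
  -- the stabiliser of the involution
  set C' := M ⊓ D.C with hC'
  have hSC' : F.S ≤ C' := le_inf hSn F.S_le_C
  have hC'card : Nat.card C' = 24 * Nat.card R0 := by
    have h3 : 3 ∣ Nat.card C' := by
      have := card_dvd_of_le (zpowers_le.2 (show D.el3 ∈ C' from mem_inf.2 ⟨hwn, D.w_C⟩))
      rwa [Nat.card_zpowers, D.w_ord] at this
    have h8 : 8 * Nat.card R0 ∣ Nat.card C' := by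
      have := card_dvd_of_le hSC'
      rwa [F.card_S, hP4, ← mul_assoc] at this
    have h24 : 24 * Nat.card R0 ∣ Nat.card C' := by
      rw [show 24 * Nat.card R0 = 3 * (8 * Nat.card R0) by ring]
      refine Nat.Coprime.mul_dvd_of_dvd_of_dvd ?_ h3 h8
      rw [hb, show 8 * 2 ^ b = 2 ^ (3 + b) by rw [pow_add]; rfl]
      exact Nat.Coprime.pow_right _ (by norm_num)
    obtain ⟨q, hq⟩ := h24
    have hd := card_dvd_of_le (inf_le_left : C' ≤ M)
    rw [hq, h168, show 168 * Nat.card R0 = 24 * Nat.card R0 * 7 by ring] at hd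
    rcases (Nat.dvd_prime (by norm_num : Nat.Prime 7)).1 (Nat.dvd_of_mul_dvd_mul_left (by positivity) hd) with rfl | rfl
    · rw [hq, mul_one]
    · exfalso
      have hCM : C' = M := eq_of_le_of_card_ge inf_le_left (le_of_eq (by rw [hq, h168]; ring))
      exact hgu (by rw [D.mem_C.1 (inf_eq_left.1 hCM hgn), mul_inv_cancel_right])
  have h7C : ¬ 7 ∣ Nat.card C' := by
    rw [hC'card, hb]
    intro h
    rcases (Nat.Prime.dvd_mul (by norm_num)).1 h with h | h
    · norm_num at h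
    · have := Nat.Prime.dvd_of_dvd_pow (by norm_num) h
      norm_num at this
  -- an element of order seven
  obtain ⟨y0, hy0⟩ := exists_prime_orderOf_dvd_card' (G := M) 7 (by rw [h168]; exact Dvd.dvd.mul_right (by norm_num) _)
  set y : G := (y0 : G) with hydef
  have hyM : y ∈ M := y0.2
  have hy : orderOf y = 7 := by rw [hydef, orderOf_coe, hy0]
  have hymove : ∀ m ∈ M, ¬ Commute y (m * D.inv2 * m⁻¹) := fun m hm hc => h7C (by
    have hmem : m⁻¹ * y * m ∈ C' := by
      refine mem_inf.2 ⟨mul_mem (mul_mem (inv_mem hm) hyM) hm, D.mem_C.2 ?_⟩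
      have := congrArg (fun t => m⁻¹ * t * m) hc.eq
      simpa [mul_assoc] using this
    have := orderOf_dvd_natCard (⟨_, hmem⟩ : C')
    rw [Subgroup.orderOf_mk, show m⁻¹ * y * m = (MulAut.conj m⁻¹).toMonoidHom y by simp,
      orderOf_injective _ (MulAut.conj m⁻¹).injective, hy] at this
    exact this)
  -- an element of order three in its normaliser
  have hYc : Nat.card (zpowers y0) = 7 ^ (Nat.card M).factorization 7 := by
    rw [Nat.card_zpowers, hy0, h168, Nat.factorization_mul (by norm_num) hpos.ne', Finsupp.add_apply,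
      show 168 = 7 * 24 from rfl, Nat.factorization_mul (by norm_num) (by norm_num), Finsupp.add_apply,
      Nat.Prime.factorization_self (by norm_num), Nat.factorization_eq_zero_of_not_dvd (by norm_num : ¬ 7 ∣ 24),
      Nat.factorization_eq_zero_of_not_dvd (n := Nat.card R0)]
    · rfl
    · intro h
      rw [hb] at h
      have := Nat.Prime.dvd_of_dvd_pow (by norm_num) h
      norm_num at this
  set Y0 : Sylow 7 M := Sylow.ofCard _ hYc
  set N := normalizer ((Y0 : Subgroup M) : Set M) with hN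
  have h3N : 3 ∣ Nat.card N := by
    by_contra h3
    have hidx := N.card_mul_index
    have hYN : 7 ∣ Nat.card N := by
      have := card_dvd_of_le (le_normalizer (H := (Y0 : Subgroup M)))
      rwa [show Nat.card (Y0 : Subgroup M) = 7 by rw [Sylow.coe_ofCard, Nat.card_zpowers, hy0]] at this
    have hmod : Nat.card (Sylow 7 M) ≡ 1 [MOD 7] := card_sylow_modEq_one 7 M
    rw [Y0.card_eq_index_normalizer] at hmod
    change N.index ≡ 1 [MOD 7] at hmod
    rw [h168] at hidx
    obtain ⟨q, hq⟩ := hYN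
    have h3i : 3 ∣ N.index := by
      refine (Nat.Coprime.dvd_mul_left ?_).1 (show 3 ∣ Nat.card N * N.index from hidx ▸ Dvd.dvd.mul_right (by norm_num) _)
      exact (Nat.Prime.coprime_iff_not_dvd Nat.prime_three).2 h3
    obtain ⟨i, hi⟩ := h3i
    rw [hq, hi, hb, show 168 * 2 ^ b = 7 * (3 * 2 ^ (b + 3)) by rw [pow_add]; ring] at hidx
    have h8 : q * i = 2 ^ (b + 3) := by
      have := Nat.eq_of_mul_eq_mul_left (by norm_num : 0 < 21)
        (show 21 * (q * i) = 21 * 2 ^ (b + 3) by linarith)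
      exact this
    obtain ⟨j, -, rfl⟩ := (Nat.dvd_prime_pow Nat.prime_two).1 (Dvd.intro_left q h8)
    rw [hi] at hmod
    have hcyc : 2 ^ j % 7 = 2 ^ (j % 3) % 7 := by
      conv_lhs => rw [← Nat.div_add_mod j 3, pow_add, pow_mul, Nat.mul_mod, Nat.pow_mod]
      norm_num
    have : j % 3 < 3 := Nat.mod_lt _ (by norm_num)
    unfold Nat.ModEq at hmod
    rw [Nat.mul_mod, hcyc] at hmod
    interval_cases hj : j % 3 <;> norm_num at hmod
  obtain ⟨w0, hw0⟩ := exists_prime_orderOf_dvd_card' (G := N) 3 h3N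
  set w' : G := ((w0 : M) : G) with hw'def
  have hw'M : w' ∈ M := (w0 : M).2
  have hw' : orderOf w' = 3 := by rw [hw'def, orderOf_coe, orderOf_coe, hw0]
  have hS3 : ∀ z : M, orderOf z = 3 → Nat.card (zpowers z) = 3 ^ (Nat.card M).factorization 3 := fun z hz => by
    rw [Nat.card_zpowers, hz, h168, Nat.factorization_mul (by norm_num) hpos.ne', Finsupp.add_apply,
      Nat.factorization_eq_zero_of_not_dvd (fun h => F.three_P (h.trans (card_dvd_of_le hR0P))),
      show 168 = 3 * 56 from rfl, Nat.factorization_mul (by norm_num) (by norm_num), Finsupp.add_apply,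
      Nat.Prime.factorization_self Nat.prime_three, Nat.factorization_eq_zero_of_not_dvd (by norm_num : ¬ 3 ∣ 56)]
    rfl
  obtain ⟨m, hm⟩ := MulAction.exists_smul_eq M
    (Sylow.ofCard _ (hS3 ⟨D.el3, hwn⟩ (by rw [← orderOf_coe]; exact D.w_ord)))
    (Sylow.ofCard _ (hS3 (w0 : M) (by rw [← orderOf_coe]; exact hw')))
  obtain ⟨i, hi⟩ : ∃ i : ℤ, w' ^ i = (m : G) * D.el3 * (m : G)⁻¹ := by
    have h : (m * ⟨D.el3, hwn⟩ * m⁻¹ : M) ∈
        ((m • Sylow.ofCard _ (hS3 ⟨D.el3, hwn⟩ (by rw [← orderOf_coe]; exact D.w_ord)) : Sylow 3 M) : Subgroup M) :=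
      ⟨_, mem_zpowers _, rfl⟩
    rw [hm] at h
    obtain ⟨i, hi⟩ := mem_zpowers_iff.1 h
    exact ⟨i, congrArg Subtype.val hi⟩
  set u' : G := (m : G) * D.inv2 * (m : G)⁻¹ with hu'
  have hw'in : w' ∈ zpowers ((m : G) * D.el3 * (m : G)⁻¹) := by
    have h1 : zpowers ((m : G) * D.el3 * (m : G)⁻¹) ≤ zpowers w' := zpowers_le.2 (mem_zpowers_iff.2 ⟨i, hi⟩)
    rw [eq_of_le_of_card_ge h1 (le_of_eq (by
      rw [Nat.card_zpowers, Nat.card_zpowers, hw',
        show (m : G) * D.el3 * (m : G)⁻¹ = (MulAut.conj (m : G)).toMonoidHom D.el3 from rfl,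
        orderOf_injective _ (MulAut.conj (m : G)).injective, D.w_ord]))]
    exact mem_zpowers _
  have hconjw : ∀ {x : G}, Commute x w' → Commute ((m : G)⁻¹ * x * m) D.el3 := fun {x} hx => by
    have h1 : Commute x ((m : G) * D.el3 * (m : G)⁻¹) := hi ▸ hx.zpow_right i
    have := congrArg (fun t => (m : G)⁻¹ * t * m) h1.eq
    show (m : G)⁻¹ * x * m * D.el3 = D.el3 * ((m : G)⁻¹ * x * m)
    simpa [mul_assoc] using this
  have hu'R0 : u' ∈ R0 := (mem_normalizer_iff.1 (hR0n m.2) _).1 huR0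
  have hcw' : Commute w' u' := by
    obtain ⟨j, hj⟩ := mem_zpowers_iff.1 hw'in
    have h1 : Commute ((m : G) * D.el3 * (m : G)⁻¹) u' :=
      (show Commute D.el3 D.inv2 from D.comm_uw.symm).map (MulAut.conj (m : G)).toMonoidHom
    exact hj ▸ h1.zpow_left j
  have hfixw : ∀ x ∈ R0, Commute x w' → x = 1 ∨ x = u' := by
    intro x hx hc
    have hx' : (m : G)⁻¹ * x * m ∈ R0 := by simpa using (mem_normalizer_iff.1 (inv_mem (hR0n m.2)) x).1 hx
    rcases F.fix_P (hR0P hx') (hconjw hc).eq with e | e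
    · exact Or.inl (by rw [show x = (m : G) * ((m : G)⁻¹ * x * m) * (m : G)⁻¹ by group, e]; group)
    · exact Or.inr (by rw [hu', ← e]; group)
  have hwy : w' * y ≠ y * w' := by
    intro hc
    set x := (m : G)⁻¹ * y * m with hx
    have hxM : x ∈ M := mul_mem (mul_mem (inv_mem m.2) hyM) m.2
    have hxw : x⁻¹ * D.el3 * x * D.el3⁻¹ ∈ R0 := by
      rw [mul_assoc x⁻¹, ← (hconjw (show Commute y w' from hc.symm)).eq, inv_mul_cancel_left, mul_inv_cancel]
      exact one_mem _
    obtain ⟨r, hr, hxr⟩ := F.lift_commute hR0P huR0 (hR0n hwn) (hR0n hxM) hxw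
    obtain ⟨k, -, hk⟩ := D.zp_pow hxr
    have htC : D.t ∈ D.C := D.mem_C.2 (by
      rw [← D.uw]
      exact ((Commute.refl D.inv2).mul_left (show Commute D.el3 D.inv2 from D.comm_uw.symm)).eq)
    have hxC : x * r ∈ D.C := hk ▸ pow_mem htC k
    have := mul_mem hxC (inv_mem (F.P_le_C (hR0P hr)))
    rw [mul_inv_cancel_right] at this
    have h7 := orderOf_dvd_natCard (⟨x, mem_inf.2 ⟨hxM, this⟩⟩ : C')
    rw [Subgroup.orderOf_mk, hx, show (m : G)⁻¹ * y * m = (MulAut.conj (m : G)⁻¹).toMonoidHom y by simp,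
      orderOf_injective _ (MulAut.conj (m : G)⁻¹).injective, hy] at h7
    exact h7C h7
  -- the seven conjugates
  have hprod : ∀ x ∈ M, ∃ k : ℤ, ∃ c ∈ C', x = y ^ k * c := by
    set f : zpowers y × C' → M := fun t => ⟨(t.1 : G) * t.2, mul_mem (zpowers_le.2 hyM t.1.2) t.2.2.1⟩
    have hinj : Function.Injective f := fun p q h => by
      have h' : (p.1 : G) * p.2 = q.1 * q.2 := congrArg Subtype.val h
      have hb : zpowers y ⊓ C' = ⊥ := (disjoint_of_coprime_natCard (by
        rw [Nat.card_zpowers, hy]; exact (Nat.Prime.coprime_iff_not_dvd (by norm_num)).2 h7C)).eq_bot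
      have h1 : (q.1 : G)⁻¹ * p.1 = q.2 * (p.2 : G)⁻¹ := by
        rw [inv_mul_eq_iff_eq_mul, ← mul_assoc, eq_mul_inv_iff_mul_eq]; exact h'
      have hz : (q.1 : G)⁻¹ * p.1 = 1 := mem_bot.1 (hb ▸ mem_inf.2
        ⟨mul_mem (inv_mem q.1.2) p.1.2, h1 ▸ mul_mem q.2.2 (inv_mem p.2.2)⟩)
      refine Prod.ext (Subtype.ext (inv_mul_eq_one.1 hz).symm) (Subtype.ext ?_)
      rw [hz] at h1
      exact (mul_inv_eq_one.1 h1.symm).symm
    have hbij := (Nat.bijective_iff_injective_and_card f).2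
      ⟨hinj, by rw [Nat.card_prod, Nat.card_zpowers, hy, hC'card, h168]; ring⟩
    intro x hx
    obtain ⟨⟨p, c⟩, hpc⟩ := hbij.2 ⟨x, hx⟩
    obtain ⟨k, hk⟩ := mem_zpowers_iff.1 p.2
    exact ⟨k, c, c.2, by rw [hk]; exact (congrArg Subtype.val hpc).symm⟩
  have horb : ∀ x ∈ M, ∃ k : ℤ, x * D.inv2 * x⁻¹ = y ^ k * D.inv2 * (y ^ k)⁻¹ := fun x hx => by
    obtain ⟨k, c, hc, rfl⟩ := hprod x hx
    refine ⟨k, ?_⟩
    calc y ^ k * c * D.inv2 * (y ^ k * c)⁻¹ = y ^ k * (c * D.inv2 * c⁻¹) * (y ^ k)⁻¹ := by group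
      _ = _ := by rw [D.mem_C.1 hc.2, mul_inv_cancel_right]
  -- the elementary abelian group they generate
  set O : Set G := {z | ∃ x ∈ M, x * D.inv2 * x⁻¹ = z} with hO
  set A := closure O with hA
  have hcentral : ∀ x ∈ M, ∀ r ∈ R0, Commute (x * D.inv2 * x⁻¹) r := fun x hx r hr => by
    have hr' : x⁻¹ * r * x ∈ R0 := by simpa using (mem_normalizer_iff.1 (inv_mem (hR0n hx)) r).1 hr
    have := congrArg (fun t => x * t * x⁻¹) (D.mem_C.1 (F.P_le_C (hR0P hr')))
    show x * D.inv2 * x⁻¹ * r = r * (x * D.inv2 * x⁻¹)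
    simpa [mul_assoc] using this.symm
  have hAR : A ≤ R0 := (closure_le _).2 (by
    rintro _ ⟨x, hx, rfl⟩; exact (mem_normalizer_iff.1 (hR0n hx) _).1 huR0)
  have hAcen : ∀ z ∈ A, ∀ r ∈ R0, Commute z r := fun z hz r hr => by
    have : A ≤ centralizer ({r} : Set G) := (closure_le _).2 (by
      rintro _ ⟨x, hx, rfl⟩; exact mem_centralizer_singleton_iff.2 (hcentral x hx r hr).eq)
    exact mem_centralizer_singleton_iff.1 (this hz)
  have hA2 : ∀ z ∈ A, z * z = 1 := by
    intro z hz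
    refine closure_induction (p := fun z _ => z * z = 1) ?_ (one_mul 1) ?_ ?_ hz
    · rintro _ ⟨x, -, rfl⟩
      rw [show x * D.inv2 * x⁻¹ * (x * D.inv2 * x⁻¹) = x * (D.inv2 * D.inv2) * x⁻¹ by group, D.uu]; group
    · intro p q hp hq hp2 hq2
      rw [(hAcen q hq p (hAR hp)).mul_mul_mul_comm, hp2, hq2, one_mul]
    · intro p _ hp2
      rw [← mul_inv_rev, hp2, inv_one]
  have hMA : M ≤ normalizer (A : Set G) := by
    have key : ∀ x ∈ M, ∀ z ∈ A, x * z * x⁻¹ ∈ A := fun x hx z hz => by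
      have h : A.map (MulAut.conj x).toMonoidHom ≤ A := by
        rw [hA, MonoidHom.map_closure]
        refine (closure_le _).2 ?_
        rintro _ ⟨_, ⟨x', hx', rfl⟩, rfl⟩
        exact subset_closure ⟨x * x', mul_mem hx hx', by simp [mul_assoc]⟩
      exact h ⟨z, hz, rfl⟩
    intro x hx
    exact mem_normalizer_iff.2 fun z => ⟨key x hx z, fun hz => by
      simpa [mul_assoc] using key x⁻¹ (inv_mem hx) _ hz⟩
  have huA : D.inv2 ∈ A := subset_closure ⟨1, one_mem _, by group⟩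
  have hu'A : u' ∈ A := subset_closure ⟨m, m.2, rfl⟩
  -- the fixed-point formula
  have hyw : ∀ e ∈ zpowers w', ∀ x ∈ zpowers y, e * x * e⁻¹ ∈ zpowers y := by
    intro e he x hx
    obtain ⟨k, rfl⟩ := mem_zpowers_iff.1 he
    have hN' : ((w0 : M) ^ k) ∈ N := zpow_mem w0.2 k
    obtain ⟨j, rfl⟩ := mem_zpowers_iff.1 hx
    have := (mem_normalizer_iff.1 hN' (y0 ^ j)).1 (zpow_mem (mem_zpowers y0) j)
    obtain ⟨l, hl⟩ := mem_zpowers_iff.1 this
    exact mem_zpowers_iff.2 ⟨l, congrArg Subtype.val hl⟩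
  have h21 : Nat.card ↥(zpowers y ⊔ zpowers w' : Subgroup G) ∣ 21 := by
    have hn : zpowers w' ≤ normalizer (zpowers y : Set G) := fun e he => mem_normalizer_iff.2 fun x =>
      ⟨hyw e he x, fun hx => by simpa [mul_assoc] using hyw e⁻¹ (inv_mem he) _ hx⟩
    have h := Cfsg.Agent.Solv.card_sup_mul_card_inf' (zpowers y) (zpowers w') hn
    rw [Nat.card_zpowers, Nat.card_zpowers, hy, hw'] at h
    exact Dvd.intro _ h
  have hformula : ∀ H : Subgroup G, H ≤ R0 → u' ∈ H → M ≤ normalizer (H : Set G) →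
      Nat.card H = 8 * Nat.card ↥(H ⊓ centralizer (zpowers y : Set G)) ∧
      H ⊓ centralizer ((zpowers y ⊔ zpowers w' : Subgroup G) : Set G) = ⊥ := by
    intro H hH hu'H hHn
    have hXM : zpowers y ⊔ zpowers w' ≤ M := sup_le (zpowers_le.2 hyM) (zpowers_le.2 hw'M)
    have hcop : Nat.Coprime (Nat.card H) (Nat.card ↥(zpowers y ⊔ zpowers w' : Subgroup G)) := by
      obtain ⟨k, hk⟩ := IsPGroup.iff_card.1 (F.isPGroup.to_le (hH.trans hR0P))
      rw [hk]
      exact Nat.Coprime.coprime_dvd_right h21 (Nat.Coprime.pow_left k (by norm_num))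
    haveI : Group.IsNilpotent H := (F.isPGroup.to_le (hH.trans hR0P)).isNilpotent
    have hbot : H ⊓ centralizer ((zpowers y ⊔ zpowers w' : Subgroup G) : Set G) = ⊥ := by
      refine eq_bot_iff.2 fun z hz => mem_bot.2 ?_
      rcases hfixw z (hH hz.1) (mem_centralizer_iff.1 hz.2 w' (mem_sup_right (mem_zpowers _))).symm with e | e
      · exact e
      · refine absurd ?_ (hymove m m.2)
        have h := mem_centralizer_iff.1 hz.2 y (mem_sup_left (mem_zpowers _))
        rw [e] at h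
        exact h
    have hE2 : H ⊓ centralizer (zpowers w' : Set G) = zpowers u' := by
      refine le_antisymm (fun z hz => ?_) (zpowers_le.2 ⟨hu'H, mem_centralizer_iff.2 fun e he => ?_⟩)
      · rcases hfixw z (hH hz.1) (mem_centralizer_iff.1 hz.2 w' (mem_zpowers _)).symm with e | e
        · exact e ▸ one_mem _
        · exact e ▸ mem_zpowers _
      · obtain ⟨k, rfl⟩ := mem_zpowers_iff.1 he
        exact (hcw'.zpow_left k).eq
    have hu'2 : orderOf u' = 2 := by
      rw [hu', show (m : G) * D.inv2 * (m : G)⁻¹ = (MulAut.conj (m : G)).toMonoidHom D.inv2 from rfl,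
        orderOf_injective _ (MulAut.conj (m : G)).injective, D.u_ord]
    have h := S1545.result (zpowers y) (zpowers w') H
      (fun h => by have := congrArg (fun K : Subgroup G => Nat.card K) h
                   simp [Nat.card_zpowers, hy] at this)
      (fun h => by have := congrArg (fun K : Subgroup G => Nat.card K) h
                   simp [Nat.card_zpowers, hw'] at this)
      (disjoint_of_coprime_natCard (by rw [Nat.card_zpowers, Nat.card_zpowers, hy, hw']; norm_num)).eq_bot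
      hyw (zpowers_fpf (hy ▸ by norm_num) (hw' ▸ by norm_num) hwy)
      (fun x hx h hh => (mem_normalizer_iff.1 (hHn (hXM hx)) h).1 hh)
      (disjoint_of_coprime_natCard hcop).eq_bot inferInstance hcop
    rw [hbot, hE2, card_bot, one_pow, one_mul, Nat.card_zpowers, hu'2, Nat.card_zpowers, hw'] at h
    exact ⟨by rw [h]; norm_num, hbot⟩
  obtain ⟨hAc, hAbot⟩ := hformula A hAR hu'A hMA
  -- no fixed points in the abelian group
  set CA := A ⊓ centralizer (zpowers y : Set G) with hCA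
  have hCA1 : CA = ⊥ := by
    have hcomm : ∀ {z : G}, z ∈ A → Commute y z → z ∈ CA := fun {z} hz hc => ⟨hz, mem_centralizer_iff.2 fun e he => by
      obtain ⟨k, rfl⟩ := mem_zpowers_iff.1 he
      exact (hc.zpow_left k).eq⟩
    have hAy : ∀ z ∈ A, y * z * y⁻¹ ∈ A := fun z hz => (mem_normalizer_iff.1 (hMA hyM) z).1 hz
    let φ : A →* A :=
      { toFun := fun z => ⟨y * z * y⁻¹ * z, mul_mem (hAy z z.2) z.2⟩
        map_one' := Subtype.ext (by simp)
        map_mul' := fun p q => Subtype.ext (by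
          show y * ((p : G) * q) * y⁻¹ * (p * q) = y * p * y⁻¹ * p * (y * q * y⁻¹ * q)
          rw [(hAcen _ p.2 _ (hAR (hAy q q.2))).mul_mul_mul_comm]
          group) }
    have hker : Nat.card φ.ker = Nat.card CA := by
      refine Nat.card_congr ⟨fun z => ⟨((z : A) : G), hcomm (z : A).2 (mul_inv_eq_iff_eq_mul.1 ?_)⟩,
        fun z => ⟨⟨z, z.2.1⟩, Subtype.ext ?_⟩, fun z => rfl, fun z => rfl⟩
      · have h := congrArg Subtype.val z.2
        change y * ((z : A) : G) * y⁻¹ * (z : A) = 1 at h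
        rw [eq_inv_of_mul_eq_one_left h]
        exact inv_eq_of_mul_eq_one_right (hA2 _ (z : A).2)
      · show y * (z : G) * y⁻¹ * z = 1
        rw [mul_inv_eq_iff_eq_mul.2 (mem_centralizer_iff.1 z.2.2 y (mem_zpowers _)), hA2 _ z.2.1]
    set I := φ.range.map A.subtype with hI
    have hIA : I ≤ A := map_subtype_le _
    have hIy : ∀ z ∈ I, y * z * y⁻¹ ∈ I := by
      rintro _ ⟨_, ⟨p, rfl⟩, rfl⟩
      refine ⟨φ ⟨y * p * y⁻¹, hAy p p.2⟩, ⟨_, rfl⟩, ?_⟩
      show y * (y * p * y⁻¹) * y⁻¹ * (y * p * y⁻¹) = y * (y * p * y⁻¹ * p) * y⁻¹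
      group
    have hstep : ∀ k : ℕ, D.inv2 * (y ^ k * D.inv2 * (y ^ k)⁻¹) ∈ I := by
      intro k
      induction k with
      | zero => simp [D.uu]
      | succ k ih =>
        set v := y ^ k * D.inv2 * (y ^ k)⁻¹ with hv
        have hvA : v ∈ A := subset_closure ⟨y ^ k, pow_mem hyM k, rfl⟩
        have h2 : y * v * y⁻¹ * v ∈ I := ⟨φ ⟨v, hvA⟩, ⟨_, rfl⟩, rfl⟩
        have h3 := mul_mem ih h2
        rw [← (hAcen v hvA _ (hAR (hAy v hvA))).eq, ← mul_assoc, mul_assoc D.inv2 v v, hA2 v hvA, mul_one] at h3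
        rwa [pow_succ', show y * y ^ k * D.inv2 * (y * y ^ k)⁻¹ = y * v * y⁻¹ by rw [hv]; group]
    have hgen : A ≤ I ⊔ zpowers D.inv2 := by
      rw [hA]
      refine (closure_le _).2 ?_
      rintro _ ⟨x, hx, rfl⟩
      obtain ⟨k, hk⟩ := horb x hx
      obtain ⟨n, hn⟩ : ∃ n : ℕ, y ^ k = y ^ n :=
        ((mem_powers_iff_mem_zpowers (x := y)).2 (zpow_mem (mem_zpowers y) k)).imp fun n hn => hn.symm
      rw [hk, hn]
      have := mul_mem (mem_sup_right (mem_zpowers D.inv2) : D.inv2 ∈ I ⊔ zpowers D.inv2) (mem_sup_left (hstep n))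
      rwa [← mul_assoc, D.uu, one_mul] at this
    have hle2 : Nat.card CA ≤ 2 := by
      have hn : zpowers D.inv2 ≤ normalizer (I : Set G) := zpowers_le.2 (mem_normalizer_iff.2 fun z => by
        refine ⟨fun hz => ?_, fun hz => ?_⟩
        · rw [← (hAcen z (hIA hz) _ huR0).eq, mul_inv_cancel_right]; exact hz
        · have hh := (hAcen _ (hIA hz) _ huR0).eq
          rw [inv_mul_cancel_right] at hh
          exact (mul_left_cancel hh.symm) ▸ hz)
      have h := Cfsg.Agent.Solv.card_sup_mul_card_inf' I (zpowers D.inv2) hn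
      rw [Nat.card_zpowers, D.u_ord] at h
      have hI2 : Nat.card A ≤ Nat.card I * 2 :=
        (card_le_of_le hgen).trans ((Nat.le_mul_of_pos_right _ Nat.card_pos).trans h.le)
      have hA' := φ.ker.card_mul_index
      rw [index_ker, hker, show Nat.card φ.range = Nat.card I from
        Nat.card_congr (φ.range.equivMapOfInjective _ A.subtype_injective).toEquiv] at hA'
      rw [← hA', mul_comm] at hI2
      exact Nat.le_of_mul_le_mul_left hI2 Nat.card_pos
    refine eq_bot_iff.2 fun z hz => mem_bot.2 (by_contra fun hz1 => ?_)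
    have hzw : w' * z * w'⁻¹ ∈ CA := by
      refine hcomm ((mem_normalizer_iff.1 (hMA hw'M) z).1 hz.1) ?_
      have hx := hyw w'⁻¹ (inv_mem (mem_zpowers _)) y (mem_zpowers _)
      have := congrArg (fun t => w' * t * w'⁻¹) (mem_centralizer_iff.1 hz.2 _ hx)
      show y * (w' * z * w'⁻¹) = w' * z * w'⁻¹ * y
      simpa [mul_assoc] using this
    have heq : w' * z * w'⁻¹ = z := by
      by_contra hne
      have hsub : ({1, z, w' * z * w'⁻¹} : Set G) ⊆ (CA : Set G) := by
        rintro _ (rfl | rfl | rfl)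
        exacts [one_mem _, hz, hzw]
      have := Set.ncard_le_ncard hsub (Set.toFinite _)
      rw [Set.ncard_insert_of_notMem (by
          rintro (h | h)
          · exact hz1 h.symm
          · exact hz1 (conj_eq_one_iff.1 (show w' * z * w'⁻¹ = 1 from (Set.mem_singleton_iff.1 h).symm))),
        Set.ncard_pair (Ne.symm hne), ← Nat.card_coe_set_eq] at this
      exact absurd (this.trans hle2) (by norm_num)
    refine hz1 (mem_bot.1 (hAbot ▸ mem_inf.2 ⟨hz.1, ?_⟩))
    have hsup : zpowers y ⊔ zpowers w' ≤ centralizer ({z} : Set G) :=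
      sup_le (zpowers_le.2 (mem_centralizer_singleton_iff.2 (mem_centralizer_iff.1 hz.2 y (mem_zpowers _))))
        (zpowers_le.2 (mem_centralizer_singleton_iff.2 (mul_inv_eq_iff_eq_mul.1 heq)))
    exact mem_centralizer_iff.2 fun e he => mem_centralizer_singleton_iff.1 (hsup he)
  have hA8 : Nat.card A = 8 := by rw [hAc, hCA1, card_bot]
  -- nothing above it
  have hR0A : R0 ≤ A := by
    by_contra hne
    obtain ⟨hRc, -⟩ := hformula R0 le_rfl hu'R0 hR0n
    set CR := R0 ⊓ centralizer (zpowers y : Set G)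
    have hsplit : ∀ r ∈ R0, y * r * y⁻¹ * r⁻¹ ∈ A := by
      intro r hr
      have hn : A ≤ normalizer (CR : Set G) := fun x hx => mem_normalizer_iff.2 fun z => by
        refine ⟨fun hz => ?_, fun hz => ?_⟩
        · rw [(hAcen x hx z hz.1).eq, mul_inv_cancel_right]; exact hz
        · have hh := (hAcen x hx _ hz.1).eq
          rw [inv_mul_cancel_right] at hh
          exact (mul_left_cancel hh) ▸ hz
      have h := Cfsg.Agent.Solv.card_sup_mul_card_inf' CR A hn
      have hinf : CR ⊓ A = ⊥ := eq_bot_iff.2 fun z hz => hCA1 ▸ mem_inf.2 ⟨hz.2, hz.1.2⟩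
      rw [hinf, card_bot, mul_one, hA8, mul_comm (Nat.card CR), ← hRc] at h
      have htop : CR ⊔ A = R0 := eq_of_le_of_card_ge (sup_le inf_le_left hAR) h.ge
      have hr' : r ∈ (CR : Set G) * (A : Set G) := by
        rw [← coe_mul_of_right_le_normalizer_left CR A hn, htop]; exact hr
      obtain ⟨c, hc, a, ha, rfl⟩ := hr'
      show y * (c * a) * y⁻¹ * (c * a)⁻¹ ∈ A
      rw [show y * (c * a) * y⁻¹ * (c * a)⁻¹ = (y * c * y⁻¹ * c⁻¹) * (c * (y * a * y⁻¹ * a⁻¹) * c⁻¹) by group,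
        mul_inv_eq_iff_eq_mul.2 (mem_centralizer_iff.1 hc.2 y (mem_zpowers _)), mul_inv_cancel, one_mul]
      exact (mem_normalizer_iff.1 (hMA (hR0M hc.1)) _).1
        (mul_mem ((mem_normalizer_iff.1 (hMA hyM) a).1 ha) (inv_mem ha))
    obtain ⟨d, hd, hdA, hdS⟩ := meet_step F.isPGroup_S (hAR.trans hR0S) hR0S
      (hSn.trans hMA) (hSn.trans hR0n) hne
    let K : Subgroup G :=
      { carrier := {x | x ∈ M ∧ x * d * x⁻¹ * d⁻¹ ∈ A}
        one_mem' := ⟨one_mem _, by simp⟩
        mul_mem' := fun {p q} hp hq => ⟨mul_mem hp.1 hq.1, by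
          rw [show p * q * d * (p * q)⁻¹ * d⁻¹ = (p * (q * d * q⁻¹ * d⁻¹) * p⁻¹) * (p * d * p⁻¹ * d⁻¹) by group]
          exact mul_mem ((mem_normalizer_iff.1 (hMA hp.1) _).1 hq.2) hp.2⟩
        inv_mem' := fun {p} hp => ⟨inv_mem hp.1, by
          rw [show p⁻¹ * d * p⁻¹⁻¹ * d⁻¹ = p⁻¹ * (p * d * p⁻¹ * d⁻¹)⁻¹ * p⁻¹⁻¹ by group]
          exact (mem_normalizer_iff.1 (hMA (inv_mem hp.1)) _).1 (inv_mem hp.2)⟩ }
    have hSK : F.S ≤ K := fun x hx => ⟨hSn hx, hdS x hx⟩
    have hyK : y ∈ K := ⟨hyM, hsplit d hd⟩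
    have h56 : 56 * Nat.card R0 ∣ Nat.card K := by
      rw [show 56 * Nat.card R0 = 7 * (8 * Nat.card R0) by ring]
      refine Nat.Coprime.mul_dvd_of_dvd_of_dvd ?_ ?_ ?_
      · rw [hb, show 8 * 2 ^ b = 2 ^ (3 + b) by rw [pow_add]; rfl]
        exact Nat.Coprime.pow_right _ (by norm_num)
      · have := card_dvd_of_le (zpowers_le.2 hyK)
        rwa [Nat.card_zpowers, hy] at this
      · have := card_dvd_of_le hSK
        rwa [F.card_S, hP4, ← mul_assoc] at this
    have hKM := hK K (hR0S.trans hSK) (fun x hx => hx.1) (by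
      rw [h168]
      have := Nat.le_of_dvd Nat.card_pos h56
      omega)
    have hwK : D.el3 ∈ K := hKM.symm ▸ hwn
    refine hdA (F.fixed_quot_P (hAR.trans hR0P) huA (hMA hwn) (hR0P hd) ?_)
    have := (mem_normalizer_iff.1 (hMA (inv_mem (hR0M hd))) _).1 hwK.2
    simpa [mul_assoc] using this
  rw [hP4, eq_of_le_of_card_ge hAR (card_le_of_le hR0A) |>.symm, hA8]

end SymCtx

end Cfsg.Agent.Char.OrderSix
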