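import Cfsg.Agent.Lib.Char.OrderSix.SymTop
import Cfsg.Agent.Lib.Char.OrderSix.SymLine
import Cfsg.Agent.Lib.Char.OrderSix.SymSeven
import Cfsg.Agent.S2751

/-!
# Index six: the two-part has order thirty-two
-/

set_option autoImplicit false
set_option linter.unusedSectionVars false
set_option linter.style.haveILetI false

open Cfsg Subgroup
open scoped Pointwise

namespace Cfsg.Agent.Char.OrderSix

universe u
variable {G : Type u} [Group G] [Finite G]

/-- an extension of a two-group by the symmetric group of degree three -/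
theorem three_extension {T : Subgroup G} (hT : IsPGroup 2 T) {g s : G} (hg : g ∈ normalizer (T : Set G))
    (hs : s ∈ normalizer (T : Set G)) (hg3 : g ^ 3 ∈ T) (hgT : g ∉ T) (hs2 : s * s ∈ T) (hsT : s ∉ T)
    (hsg : s * g * s⁻¹ * g ∈ T) :
    ∃ K : Subgroup G, T ≤ K ∧ g ∈ K ∧ s ∈ K ∧ K ≤ normalizer (T : Set G) ∧ Nat.card K = 6 * Nat.card T ∧
      Nonempty (K ⧸ pCore 2 K ≃* Equiv.Perm (Fin 3)) ∧
      ∀ U : Subgroup G, U ≤ K → K ≤ normalizer (U : Set G) → IsPGroup 2 U → U ≤ T := by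
  classical
  haveI : Fact (Nat.Prime 2) := ⟨Nat.prime_two⟩
  haveI : Fact (Nat.Prime 3) := ⟨Nat.prime_three⟩
  set N := normalizer (T : Set G) with hN
  set T' := T.subgroupOf N
  haveI : T'.Normal := normal_in_normalizer
  set π := QuotientGroup.mk' T'
  have hmem : ∀ z : N, π z = 1 ↔ (z : G) ∈ T := fun z => QuotientGroup.eq_one_iff z
  set x := π ⟨g, hg⟩ with hxdef
  set y := π ⟨s, hs⟩ with hydef
  have hx : orderOf x = 3 := orderOf_eq_prime (by rw [hxdef, ← map_pow]; exact (hmem _).2 hg3)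
    fun h => hgT ((hmem _).1 h)
  have hy : orderOf y = 2 := orderOf_eq_prime (by rw [pow_two, hydef, ← map_mul]; exact (hmem _).2 hs2)
    fun h => hsT ((hmem _).1 h)
  have hxy : y * x * y⁻¹ = x⁻¹ := by
    refine eq_inv_of_mul_eq_one_left ?_
    rw [hxdef, hydef, ← map_inv, ← map_mul, ← map_mul, ← map_mul]
    exact (hmem _).2 hsg
  have hxy' : y⁻¹ * x * y⁻¹⁻¹ = x⁻¹ := by
    rw [show y⁻¹ = y from inv_eq_of_mul_eq_one_right (by rw [← pow_two, ← hy, pow_orderOf_eq_one])]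
    exact hxy
  set Q := zpowers x ⊔ zpowers y with hQ
  have hyn : zpowers y ≤ normalizer (zpowers x : Set (N ⧸ T')) := by
    refine zpowers_le.2 (mem_normalizer_iff.2 fun z => ⟨fun hz => ?_, fun hz => ?_⟩)
    · obtain ⟨i, rfl⟩ := mem_zpowers_iff.1 hz
      rw [← conj_zpow, hxy]; exact zpow_mem (inv_mem (mem_zpowers _)) i
    · obtain ⟨i, hi⟩ := mem_zpowers_iff.1 hz
      have e : z = (y⁻¹ * x * y⁻¹⁻¹) ^ i := by rw [conj_zpow, hi]; group
      rw [e, hxy']; exact zpow_mem (inv_mem (mem_zpowers _)) i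
  have hQ6 : Nat.card Q = 6 := by
    have h := Cfsg.Agent.Solv.card_sup_mul_card_inf' (zpowers x) (zpowers y) hyn
    rw [(disjoint_of_coprime_natCard (by rw [Nat.card_zpowers, Nat.card_zpowers, hx, hy]; norm_num)).eq_bot,
      card_bot, mul_one, Nat.card_zpowers, Nat.card_zpowers, hx, hy] at h
    exact h
  set K := (Q.comap π).map N.subtype with hK
  have hKN : K ≤ N := map_subtype_le _
  have hinK : ∀ z : N, π z ∈ Q → (z : G) ∈ K := fun z hz => ⟨z, hz, rfl⟩
  have hTK : T ≤ K := fun t ht => hinK ⟨t, le_normalizer ht⟩ (by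
    rw [(hmem ⟨t, le_normalizer ht⟩).2 ht]; exact one_mem _)
  have hgK : g ∈ K := hinK ⟨g, hg⟩ (mem_sup_left (mem_zpowers _))
  have hsK : s ∈ K := hinK ⟨s, hs⟩ (mem_sup_right (mem_zpowers _))
  set f : K →* N ⧸ T' := π.comp (inclusion hKN) with hf
  have hker : f.ker = T.subgroupOf K := by
    ext z
    rw [MonoidHom.mem_ker, mem_subgroupOf]
    exact hmem _
  have hrange : f.range = Q := by
    ext q
    refine ⟨?_, fun hq => ?_⟩
    · rintro ⟨⟨z, hz⟩, rfl⟩
      obtain ⟨z', hz', hzz⟩ := hz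
      show π ⟨z, _⟩ ∈ Q
      rw [show (⟨z, hKN ⟨z', hz', hzz⟩⟩ : N) = z' from Subtype.ext hzz.symm]
      exact hz'
    · obtain ⟨z, rfl⟩ := QuotientGroup.mk'_surjective T' q
      exact ⟨⟨z, hinK z hq⟩, rfl⟩
  have hcard : Nat.card K = 6 * Nat.card T := by
    have h := f.ker.card_mul_index
    rw [index_ker, hrange, hQ6, hker, Nat.card_congr (subgroupOfEquivOfLe hTK).toEquiv, mul_comm] at h
    exact h.symm
  have hmax : ∀ U : Subgroup G, U ≤ K → K ≤ normalizer (U : Set G) → IsPGroup 2 U → U ≤ T := by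
    intro U hUK hUn hU
    set E := (U.subgroupOf K).map f with hE
    have hEc : ∀ k : K, ∀ q ∈ E, f k * q * (f k)⁻¹ ∈ E := by
      rintro k _ ⟨z, hz, rfl⟩
      refine ⟨k * z * k⁻¹, ?_, by rw [map_mul, map_mul, map_inv]⟩
      exact mem_subgroupOf.2 ((mem_normalizer_iff.1 (hUn k.2) _).1 (mem_subgroupOf.1 hz))
    have hEQ : E ≤ Q := hrange ▸ map_le_range f _
    have hfy : f ⟨s, hsK⟩ = y := rfl
    have hfx : f ⟨g, hgK⟩ = x := rfl
    have hy2 : IsPGroup 2 (zpowers y) := IsPGroup.of_card (n := 1) (by rw [Nat.card_zpowers, hy, pow_one])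
    have hyE : zpowers y ≤ normalizer (E : Set (N ⧸ T')) := zpowers_le.2 (mem_normalizer_iff.2 fun q =>
      ⟨fun hq => hfy ▸ hEc _ q hq, fun hq => by
        have := hEc (⟨s, hsK⟩ : K)⁻¹ _ hq
        rw [map_inv, hfy] at this
        simpa [mul_assoc] using this⟩)
    have h2 : IsPGroup 2 (zpowers y ⊔ E : Subgroup (N ⧸ T')) :=
      hy2.to_sup_of_normal_right' ((hU.comap_of_injective K.subtype K.subtype_injective).map f) hyE
    obtain ⟨k, hk⟩ := IsPGroup.iff_card.1 h2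
    have hd : Nat.card ↥(zpowers y ⊔ E) ∣ 6 := hQ6 ▸ card_dvd_of_le (sup_le le_sup_right hEQ)
    rw [hk] at hd
    have hk1 : k ≤ 1 := by
      by_contra h
      have : (2 : ℕ) ^ 2 ∣ 6 := (pow_dvd_pow 2 (by omega : 2 ≤ k)).trans hd
      norm_num at this
    have hEy : E ≤ zpowers y := by
      have heq : zpowers y = zpowers y ⊔ E := eq_of_le_of_card_ge le_sup_left (by
        rw [hk, Nat.card_zpowers, hy]; exact (Nat.pow_le_pow_right two_pos hk1).trans (le_of_eq rfl))
      exact heq ▸ le_sup_right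
    intro t ht
    by_contra htT
    have hset : ∀ q ∈ zpowers y, q = 1 ∨ q = y := fun q hq => by
      obtain ⟨i, rfl⟩ := mem_zpowers_iff.1 hq
      rw [← zpow_mod_orderOf, hy]
      rcases Int.emod_two_eq i with h | h <;> rw [show ((2 : ℕ) : ℤ) = 2 from rfl, h] <;> simp
    have hty : f ⟨t, hUK ht⟩ = y := by
      refine (hset _ (hEy ⟨⟨t, hUK ht⟩, mem_subgroupOf.2 ht, rfl⟩)).resolve_left fun h => htT ?_
      exact mem_subgroupOf.1 (hker ▸ MonoidHom.mem_ker.2 h)
    have h3 := hEy (hEc ⟨g, hgK⟩ _ ⟨⟨t, hUK ht⟩, mem_subgroupOf.2 ht, rfl⟩)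
    rw [hfx, hty] at h3
    rcases hset _ h3 with h | h
    · rw [conj_eq_one_iff] at h
      rw [h, orderOf_one] at hy
      omega
    · have hc : y * x = x * y := (mul_inv_eq_iff_eq_mul.1 h).symm
      rw [hc, mul_inv_cancel_right] at hxy
      have h2 : x ^ 2 = 1 := by rw [pow_two]; exact eq_inv_iff_mul_eq_one.1 hxy
      have := orderOf_dvd_of_pow_eq_one h2
      rw [hx] at this; omega
  have hcore : pCore 2 K = f.ker := by
    rw [hker]
    have h := pCoreOf_eq hTK hKN hT hmax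
    rw [subgroupOf, ← h]
    exact (comap_map_eq_self_of_injective K.subtype_injective _).symm
  refine ⟨K, hTK, hgK, hsK, hKN, hcard, ?_, hmax⟩
  obtain ⟨e⟩ := iso_perm_three (Q := Q) hQ6 (x := ⟨x, mem_sup_left (mem_zpowers _)⟩)
    (y := ⟨y, mem_sup_right (mem_zpowers _)⟩) (by rw [Subgroup.orderOf_mk, hx]) (by rw [Subgroup.orderOf_mk, hy])
    (Subtype.ext hxy)
  exact ⟨(QuotientGroup.quotientMulEquivOfEq hcore).trans
    ((QuotientGroup.quotientKerEquivRange f).trans ((MulEquiv.subgroupCongr hrange).trans e))⟩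

variable [IsSimpleGroup G]

namespace SymCtx

variable {D : Ctx G} (F : SymCtx D)

/-- the two-part is free over the involution for the element of order three -/
theorem card_P_mod : Nat.card F.P % 3 = 2 := by
  classical
  haveI : Fact (Nat.Prime 3) := ⟨Nat.prime_three⟩
  letI : Fintype F.P := Fintype.ofFinite _
  let f : F.P → F.P := fun v => ⟨D.el3 * v * D.el3⁻¹, F.conj_P D.w_C v.2⟩
  have hw3 : D.el3 * D.el3 * D.el3 = 1 := by
    have h := pow_orderOf_eq_one D.el3
    rw [D.w_ord] at h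
    simpa [pow_succ, mul_assoc] using h
  have hf : ∀ v : G, D.el3 * (D.el3 * (D.el3 * v * D.el3⁻¹) * D.el3⁻¹) * D.el3⁻¹ = v := fun v => by
    calc _ = D.el3 * D.el3 * D.el3 * v * (D.el3 * D.el3 * D.el3)⁻¹ := by group
      _ = v := by rw [hw3]; group
  let e : Equiv.Perm F.P := ⟨f, fun v => f (f v), fun v => Subtype.ext (hf v), fun v => Subtype.ext (hf v)⟩
  have hpow : e ^ 3 ^ 1 = 1 := Equiv.ext fun v => Subtype.ext (hf v)
  have hfix := Equiv.Perm.card_compl_support_modEq (p := 3) (n := 1) hpow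
  rw [← Nat.card_eq_fintype_card] at hfix
  have h1 : e.supportᶜ = {1, ⟨D.inv2, F.u_P⟩} := by
    ext v
    rw [Finset.mem_compl, Equiv.Perm.notMem_support, Finset.mem_insert, Finset.mem_singleton]
    refine ⟨fun h => ?_, ?_⟩
    · rcases F.fix_P v.2 (mul_inv_eq_iff_eq_mul.1 (congrArg Subtype.val h)).symm with h | h
      · exact Or.inl (Subtype.ext h)
      · exact Or.inr (Subtype.ext h)
    · rintro (rfl | rfl)
      · exact Subtype.ext (by show D.el3 * 1 * D.el3⁻¹ = 1; group)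
      · exact Subtype.ext (by show D.el3 * D.inv2 * D.el3⁻¹ = D.inv2; rw [← D.comm_uw, mul_inv_cancel_right])
  rw [h1, Finset.card_pair (fun h => D.u_ne (congrArg Subtype.val h).symm)] at hfix
  exact hfix.symm

end SymCtx

namespace LineCtx

variable {D : Ctx G} (F : LineCtx D)

/-- The two-part has order thirty-two. -/
theorem thirty_two : Nat.card F.P = 32 := by
  classical
  haveI : Fact (Nat.Prime 2) := ⟨Nat.prime_two⟩
  obtain ⟨s, g, hsP, hse, hgT, hgu, -, hg3, hsg⟩ := F.exists_cycle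
  have hsS := F.P_le_S hsP
  have hsT : s ∉ F.T := F.mover_notT hse
  have hgnT : g ∉ F.T := fun h => hgu (by rw [D.mem_C.1 (F.S_le_C (F.T_le_S h)), mul_inv_cancel_right])
  have hss : s * s ∈ F.T := (F.T_coset hsS hse (mul_mem hsS hsS)).resolve_right fun h => hsT (by simpa using h)
  -- an element normalising the two-part centralises the involution
  have hgP : g ∉ normalizer (F.P : Set G) := fun h => hgu (by
    have hgP' := (mem_normalizer_iff.1 h _).1 F.u_P
    refine ((D.mem_zu.1 (F.hV _ ⟨hgP', fun x hx => ?_, ?_⟩)).resolve_left fun e => D.u_ne (conj_eq_one_iff.1 e))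
    · have hx' : g⁻¹ * x * g ∈ F.P := by simpa using (mem_normalizer_iff.1 (inv_mem h) x).1 hx
      have := congrArg (fun t => g * t * g⁻¹) (D.mem_C.1 (F.P_le_C hx'))
      simpa [mul_assoc] using this
    · rw [show g * D.inv2 * g⁻¹ * (g * D.inv2 * g⁻¹) = g * (D.inv2 * D.inv2) * g⁻¹ by group, D.uu]; group)
  obtain ⟨K1, hP1, hw1, ha1, -, hc1, hb1, hm1⟩ := three_extension (g := D.el3) (s := F.a) F.isPGroup F.w_norm
    F.a_norm (by rw [show (3 : ℕ) = orderOf D.el3 from D.w_ord.symm, pow_orderOf_eq_one]; exact one_mem _)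
    (fun h => F.three_P (by
      have := orderOf_dvd_natCard (⟨_, h⟩ : F.P)
      rwa [Subgroup.orderOf_mk, D.w_ord] at this))
    (F.zu_le F.asq) F.a_notP (by rw [F.hinv, inv_mul_cancel]; exact one_mem _)
  obtain ⟨K2, hT2, hg2, hs2, -, hc2, hb2, hm2⟩ := three_extension (F.isPGroup_S.to_le F.T_le_S) hgT
    (F.S_le_normalizer_T hsS) hg3 hgnT hss hsT hsg
  have hK1 : K1 = F.H1 := by
    refine (eq_of_le_of_card_ge (sup_le (sup_le hP1 (zpowers_le.2 hw1)) (zpowers_le.2 ha1)) ?_).symm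
    rw [hc1]
    show _ ≤ Nat.card F.H1
    rw [F.card_H1, F.card_S]; omega
  have hS2 : F.S ≤ K2 := fun x hx => by
    rcases F.T_coset hsS hse hx with h | h
    · exact hT2 h
    · rw [show x = s * (s⁻¹ * x) by group]; exact mul_mem hs2 (hT2 h)
  have hS1 : F.S ≤ K1 := hK1.symm ▸ F.S_le_H1
  have hc1' : Nat.card K1 = 3 * Nat.card F.S := by rw [hc1, F.card_S]; ring
  have hc2' : Nat.card K2 = 3 * Nat.card F.S := by rw [hc2, F.card_T]; ring
  have hmeet : K1 ⊓ K2 = F.S := by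
    refine (eq_of_le_of_card_ge (le_inf hS1 hS2) ?_).symm
    obtain ⟨q, hq⟩ := card_dvd_of_le (le_inf hS1 hS2)
    have hd := card_dvd_of_le (inf_le_right : K1 ⊓ K2 ≤ K2)
    rw [hq, hc2', mul_comm 3] at hd
    rcases (Nat.dvd_prime Nat.prime_three).1 (Nat.dvd_of_mul_dvd_mul_left Nat.card_pos hd) with rfl | rfl
    · rw [hq, mul_one]
    · exfalso
      have e : K1 ⊓ K2 = K2 := eq_of_le_of_card_ge inf_le_right (le_of_eq (by rw [hq, hc2', mul_comm]))
      exact hgu (by rw [D.mem_C.1 (F.H1_le_C (hK1 ▸ inf_eq_right.1 e hg2)), mul_inv_cancel_right])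
  by_cases hcore : ∃ R : Subgroup G, R ≠ ⊥ ∧ R ≤ F.S ∧ K1 ≤ normalizer (R : Set G) ∧ K2 ≤ normalizer (R : Set G)
  · obtain ⟨R, hR1, hRS, hn1, hn2⟩ := hcore
    have hRP : R ≤ F.P := hm1 R (hRS.trans hS1) hn1 (F.isPGroup_S.to_le hRS)
    obtain ⟨d, hdR, hd1, hdc⟩ := meet_step F.isPGroup_S (bot_le (a := F.S)) hRS
      (fun x _ => mem_normalizer_iff.2 fun y => by simp) (hS1.trans hn1) (fun h => hR1 (le_bot_iff.1 h))
    have hu : D.inv2 ∈ R := by
      obtain ⟨k, hk⟩ := IsPGroup.iff_orderOf.1 F.isPGroup_S ⟨d, hRS hdR⟩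
      rw [Subgroup.orderOf_mk] at hk
      have hk0 : k ≠ 0 := by rintro rfl; exact hd1 (mem_bot.2 (orderOf_eq_one_iff.1 (by rw [hk, pow_zero])))
      obtain ⟨k', rfl⟩ := Nat.exists_eq_succ_of_ne_zero hk0
      have hne : d ^ 2 ^ k' ≠ 1 := fun h => by
        have h' := orderOf_dvd_of_pow_eq_one h
        rw [hk] at h'
        have := Nat.le_of_dvd (by positivity) h'
        have : 2 ^ k' < 2 ^ (k' + 1) := Nat.pow_lt_pow_right one_lt_two (Nat.lt_succ_self k')
        omega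
      have hcen : ∀ x ∈ F.P, x * d ^ 2 ^ k' = d ^ 2 ^ k' * x := fun x hx =>
        ((show Commute x d from mul_inv_eq_iff_eq_mul.1
          (mul_inv_eq_one.1 (mem_bot.1 (hdc x (F.P_le_S hx))))).pow_right _).eq
      have hsq : d ^ 2 ^ k' * d ^ 2 ^ k' = 1 := by
        rw [← pow_add, ← two_mul, ← pow_succ', ← hk, pow_orderOf_eq_one]
      rcases D.mem_zu.1 (F.hV (d ^ 2 ^ k') ⟨hRP (pow_mem hdR _), hcen, hsq⟩) with e | e
      · exact absurd e hne
      · exact e ▸ pow_mem hdR _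
    exact F.toSymCtx.seven_card hRS hu (hS1.trans hn1) (hn1 hw1) (hn2 hg2) hgu hgP
  push Not at hcore
  have hsyl : ∀ K : Subgroup G, F.S ≤ K → Nat.card K = 3 * Nat.card F.S →
      ∃ P : Sylow 2 K, (P : Subgroup K) = F.S.subgroupOf K := by
    intro K hSK hK
    refine ⟨Sylow.ofCard (F.S.subgroupOf K) ?_, rfl⟩
    obtain ⟨k, hk⟩ := IsPGroup.iff_card.1 F.isPGroup_S
    rw [Nat.card_congr (subgroupOfEquivOfLe hSK).toEquiv, hK, hk, Nat.factorization_mul (by norm_num) (by positivity),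
      Finsupp.add_apply, Nat.factorization_eq_zero_of_not_dvd (by norm_num : ¬ 2 ∣ 3),
      Nat.Prime.factorization_pow Nat.prime_two, Finsupp.single_eq_same, zero_add]
  have h128 := S2751.result K1 K2 (by rw [hmeet]; exact hsyl K1 hS1 hc1') (by rw [hmeet]; exact hsyl K2 hS2 hc2')
    hb1 hb2 fun N hN h1 h2 => by
      by_contra hne
      rw [hmeet] at hN
      exact hcore N hne hN ((normal_subgroupOf_iff_le_normalizer (hN.trans hS1)).1 h1)
        ((normal_subgroupOf_iff_le_normalizer (hN.trans hS2)).1 h2)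
  rw [hmeet, F.card_S] at h128
  have hmod := F.toSymCtx.card_P_mod
  have h16 := F.sixteen
  obtain ⟨k, hk⟩ := IsPGroup.iff_card.1 F.isPGroup
  have hk6 : k ≤ 6 := by
    by_contra h
    have : 2 ^ 7 ≤ Nat.card F.P := hk ▸ Nat.pow_le_pow_right two_pos (show 7 ≤ k by omega)
    omega
  rw [hk] at hmod h16 ⊢
  interval_cases k <;> omega

end LineCtx

end Cfsg.Agent.Char.OrderSix
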