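import Cfsg.Agent.Lib.Char.OrderSix.SymOver
import Cfsg.Agent.S1545

/-!
# Index six: the two-part is not normal above the Sylow normaliser
-/

set_option autoImplicit false
set_option linter.unusedSectionVars false
set_option linter.style.haveILetI false

open Cfsg Subgroup
open scoped Pointwise

namespace Cfsg.Agent.Char.OrderSix

universe u
variable {G : Type u} [Group G] [Finite G] [IsSimpleGroup G]

namespace SymCtx

variable {D : Ctx G} (F : SymCtx D)

set_option maxHeartbeats 1000000 in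
theorem normal_false {v : G} (hv : v ∈ F.V) (hvU : v ∉ zpowers D.inv2)
    (htr : ∀ z ∈ F.Y, z ≠ 1 → ∃ n ∈ normalizer (F.S : Set G), n ∈ normalizer (F.P : Set G) ∧
      n * D.inv2 * n⁻¹ = z) : False := by
  classical
  haveI : Fact (Nat.Prime 2) := ⟨Nat.prime_two⟩
  haveI : Fact (Nat.Prime 3) := ⟨Nat.prime_three⟩
  set M := normalizer (F.P : Set G) with hM
  have hCM : D.C ≤ M := F.C_le_normalizer_P
  have hPM : F.P ≤ M := le_normalizer
  set P' := F.P.subgroupOf M with hP'
  haveI : P'.Normal := normal_in_normalizer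
  set π := QuotientGroup.mk' P'
  have hmem : ∀ z : M, π z = 1 ↔ (z : G) ∈ F.P := fun z => QuotientGroup.eq_one_iff z
  have hP'card : Nat.card P' = Nat.card F.P := Nat.card_congr (subgroupOfEquivOfLe hPM).toEquiv
  have hMcard : Nat.card M = Nat.card (M ⧸ P') * Nat.card F.P := by
    rw [card_eq_card_quotient_mul_card_subgroup P', hP'card]
  set w' : M := ⟨D.el3, hCM D.w_C⟩
  set a' : M := ⟨F.a, hCM F.haC⟩
  have hwP : D.el3 ∉ F.P := fun h => by
    have := orderOf_dvd_natCard (⟨_, h⟩ : F.P)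
    rw [Subgroup.orderOf_mk, D.w_ord] at this
    exact F.three_P this
  have hw1 : π w' ≠ 1 := fun h => hwP ((hmem w').1 h)
  have hπw : orderOf (π w') = 3 := orderOf_eq_prime
    (by rw [← map_pow, show w' ^ 3 = 1 from Subtype.ext (D.w_ord ▸ pow_orderOf_eq_one D.el3), map_one]) hw1
  have ha1 : π a' ≠ 1 := fun h => F.a_notP ((hmem a').1 h)
  have hπa : orderOf (π a') = 2 := orderOf_eq_prime
    (by rw [pow_two, ← map_mul]; exact (hmem _).2 (F.zu_le F.asq)) ha1
  have hinv : π a' * π w' * (π a')⁻¹ = (π w')⁻¹ := by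
    rw [← map_mul, ← map_inv, ← map_mul, ← map_inv]
    exact congrArg π (Subtype.ext F.hinv)
  -- the two-part of the quotient
  have h4 : ¬ 4 ∣ Nat.card (M ⧸ P') := by
    intro h
    obtain ⟨b, hb⟩ := IsPGroup.iff_card.1 F.isPGroup
    have hd : 2 ^ (b + 2) ∣ Nat.card G := by
      refine dvd_trans ?_ (card_subgroup_dvd_card M)
      rw [hMcard, pow_add, hb, mul_comm]
      exact Nat.mul_dvd_mul_right h _
    obtain ⟨K, hK⟩ := Sylow.exists_subgroup_card_pow_prime (G := G) 2 hd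
    have h2 := Nat.le_of_dvd Nat.card_pos (Ctx.card_sylow_dvd (IsPGroup.of_card hK) F.sylow)
    rw [hK, show Nat.card (F.sylow : Subgroup G) = Nat.card F.S from rfl, F.card_S, hb, pow_add] at h2
    have : 0 < 2 ^ b := by positivity
    omega
  obtain ⟨N', hN', hnil, hN3, hNi⟩ : ∃ N' : Subgroup (M ⧸ P'), N'.Normal ∧ Group.IsNilpotent N' ∧
      (Nat.card N').Coprime 3 ∧ N'.index = 6 := by
    rcases S3331.result (zpowers (π w')) (by rw [Nat.card_zpowers, hπw])
      (F.quot_centralizer (hCM D.w_C) hPM le_rfl le_rfl F.u_P) with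
      ⟨N', hN', hnil, hcop, hq⟩ | ⟨E, hE, -, -, ⟨f⟩⟩ | ⟨⟨f⟩⟩
    · refine ⟨N', hN', hnil, hcop, ?_⟩
      rcases hq with hq | ⟨⟨g⟩⟩
      · exfalso
        haveI := hN'
        haveI : IsCyclic ((M ⧸ P') ⧸ N') := isCyclic_of_prime_card hq
        have h := congrArg (QuotientGroup.mk' N') hinv
        rw [map_mul, map_mul, map_inv, map_inv,
          (IsCyclic.commGroup (α := (M ⧸ P') ⧸ N')).mul_comm (QuotientGroup.mk' N' (π a')),
          mul_inv_cancel_right, eq_inv_iff_mul_eq_one, ← map_mul] at h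
        have hm : π w' * π w' ∈ N' := (QuotientGroup.eq_one_iff _).1 h
        have h3 := orderOf_dvd_natCard (⟨_, hm⟩ : N')
        rw [Subgroup.orderOf_mk, ← pow_two, orderOf_pow' _ two_ne_zero, hπw] at h3
        exact Nat.not_coprime_of_dvd_of_dvd (by norm_num) h3 dvd_rfl hcop
      · rw [index, Nat.card_congr g.toEquiv, Nat.card_perm, Nat.card_fin]; rfl
    · refine absurd ?_ h4
      rw [card_eq_card_quotient_mul_card_subgroup E, Nat.card_congr f.toEquiv,
        Nat.card_eq_fintype_card (α := alternatingGroup (Fin 5)),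
        show Fintype.card (alternatingGroup (Fin 5)) = 60 from rfl]
      exact Dvd.dvd.mul_right (by norm_num) _
    · refine absurd ?_ h4
      rw [Nat.card_congr f.toEquiv, Lie.PSpFourThreeAmalgam.card_psl_seven]
      norm_num
  haveI := hN'
  haveI := hnil
  have hq6 : Nat.card (M ⧸ P') = Nat.card N' * 6 := by rw [← N'.card_mul_index, hNi]
  have hodd : Odd (Nat.card N') := by
    rw [Nat.odd_iff, ← Nat.two_dvd_ne_zero]
    exact fun h => h4 (hq6 ▸ (show 4 ∣ Nat.card N' * 6 by obtain ⟨l, hl⟩ := h; exact ⟨l * 3, by rw [hl]; ring⟩))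
  have h6 : (Nat.card N').Coprime 6 := by
    rw [show (6 : ℕ) = 2 * 3 from rfl]
    exact (Nat.coprime_two_right.2 hodd).mul_right hN3
  -- the dihedral group of order six
  set X := zpowers (π w') with hX
  set E := zpowers (π a') with hE
  have hEset : ∀ e ∈ E, e = 1 ∨ e = π a' := fun e he => by
    obtain ⟨i, rfl⟩ := mem_zpowers_iff.1 he
    rw [← zpow_mod_orderOf, hπa]
    rcases Int.emod_two_eq i with h | h <;> rw [show ((2 : ℕ) : ℤ) = 2 from rfl, h] <;> simp
  have hXE : X ⊓ E = ⊥ := (disjoint_of_coprime_natCard (by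
    rw [hX, hE, Nat.card_zpowers, Nat.card_zpowers, hπw, hπa]; decide)).eq_bot
  have hXn : ∀ e ∈ E, ∀ x ∈ X, e * x * e⁻¹ ∈ X := by
    intro e he x hx
    obtain ⟨i, rfl⟩ := mem_zpowers_iff.1 hx
    rcases hEset e he with rfl | rfl
    · rw [one_mul, inv_one, mul_one]; exact zpow_mem (mem_zpowers (π w')) i
    · rw [← conj_zpow, hinv]; exact zpow_mem (inv_mem (mem_zpowers _)) i
  have hEn : E ≤ normalizer (X : Set (M ⧸ P')) := fun e he => mem_normalizer_iff.2 fun x =>
    ⟨fun hx => hXn e he x hx, fun hx => by simpa [mul_assoc] using hXn _ (inv_mem he) _ hx⟩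
  have hfpf : ∀ e ∈ E, e ≠ 1 → ∀ x ∈ X, e * x = x * e → x = 1 := by
    intro e he he1 x hx hex
    obtain rfl := (hEset e he).resolve_left he1
    obtain ⟨i, rfl⟩ := mem_zpowers_iff.1 hx
    have h : π a' * π w' ^ i * (π a')⁻¹ = π w' ^ i := mul_inv_eq_iff_eq_mul.2 hex
    rw [← conj_zpow, hinv, inv_zpow, inv_eq_iff_mul_eq_one, ← zpow_add] at h
    have hd := orderOf_dvd_iff_zpow_eq_one.2 h
    rw [hπw] at hd
    exact orderOf_dvd_iff_zpow_eq_one.1 (by rw [hπw]; omega)
  have hsupcard : Nat.card ↥(X ⊔ E) = 6 := by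
    have h := Cfsg.Agent.Solv.card_sup_mul_card_inf' X E hEn
    rw [hXE, card_bot, mul_one, hX, hE, Nat.card_zpowers, Nat.card_zpowers, hπw, hπa] at h
    exact h
  -- the fixed point formula
  have formula : ∀ H : Subgroup (M ⧸ P'), H ≤ N' → (∀ x ∈ X ⊔ E, ∀ h ∈ H, x * h * x⁻¹ ∈ H) →
      Nat.card H = Nat.card ↥(H ⊓ centralizer (E : Set (M ⧸ P'))) ^ 2 := by
    intro H hH hHn
    have hcop : (Nat.card H).Coprime (Nat.card ↥(X ⊔ E)) := by
      rw [hsupcard]; exact Nat.Coprime.coprime_dvd_left (card_dvd_of_le hH) h6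
    haveI : Group.IsNilpotent H := Group.nilpotent_of_mulEquiv (subgroupOfEquivOfLe hH)
    have hf := S1545.result X E H (fun h => hw1 (zpowers_eq_bot.1 h)) (fun h => ha1 (zpowers_eq_bot.1 h)) hXE hXn hfpf
      hHn (disjoint_of_coprime_natCard hcop).eq_bot inferInstance hcop
    have hb : H ⊓ centralizer (X : Set (M ⧸ P')) = ⊥ := by
      rw [hX, F.quot_centralizer (hCM D.w_C) hPM le_rfl le_rfl F.u_P]
      exact (disjoint_of_coprime_natCard (by
        rw [Nat.card_zpowers, hπw]; exact Nat.Coprime.coprime_dvd_left (card_dvd_of_le hH) hN3)).eq_bot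
    have hb2 : H ⊓ centralizer ((X ⊔ E : Subgroup (M ⧸ P')) : Set (M ⧸ P')) = ⊥ :=
      le_bot_iff.1 (hb ▸ inf_le_inf_left H (centralizer_le (le_sup_left : X ≤ X ⊔ E)))
    rw [hb, hb2, card_bot, one_pow, one_mul, mul_one, hE, Nat.card_zpowers (π a'), hπa] at hf
    rw [hf, hE]
  set c := Nat.card ↥(N' ⊓ centralizer (E : Set (M ⧸ P')))
  have hN'c : Nat.card N' = c ^ 2 := formula N' le_rfl fun x _ h hh => hN'.conj_mem h hh x
  -- the odd part of the centraliser
  set Wb := (F.W.subgroupOf M).map π with hWb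
  have hWM : F.W ≤ M := F.W_le_C.trans hCM
  have hWP : ∀ x ∈ F.W, x ∈ F.P → x = 1 := fun x hx hxP => by
    obtain ⟨-, k, hk⟩ := (F.hP x).1 hxP
    exact orderOf_eq_one_iff.1 (Nat.eq_one_of_dvd_coprimes
      ((Nat.coprime_two_left.2 ((F.hW x).1 hx).2).pow_left k) (orderOf_dvd_of_pow_eq_one hk) dvd_rfl)
  have hWinj : ∀ x y : F.W, π ⟨x, hWM x.2⟩ = π ⟨y, hWM y.2⟩ → x = y := fun x y h => by
    have hm : ((x : G)⁻¹ * y) ∈ F.P := mem_subgroupOf.1 (QuotientGroup.eq.1 h)
    exact Subtype.ext (inv_mul_eq_one.1 (hWP _ (mul_mem (inv_mem x.2) y.2) hm))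
  have hWN : Wb ≤ N' := by
    rintro _ ⟨x, hx, rfl⟩
    rw [← QuotientGroup.eq_one_iff]
    show QuotientGroup.mk' N' (π x) = 1
    refine orderOf_eq_one_iff.1 (Nat.eq_one_of_dvd_coprimes (show (Nat.card F.W).Coprime 6 by
      rw [show (6 : ℕ) = 2 * 3 from rfl]
      exact (Nat.coprime_two_right.2 F.hodd).mul_right
        ((Nat.Prime.coprime_iff_not_dvd Nat.prime_three).2 F.three_W).symm) ?_ ?_)
    · refine (orderOf_map_dvd _ _).trans ((orderOf_map_dvd _ _).trans ?_)
      rw [← orderOf_coe, ← Subgroup.orderOf_mk (x : G) (mem_subgroupOf.1 hx)]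
      exact orderOf_dvd_natCard _
    · have h := orderOf_dvd_natCard (QuotientGroup.mk' N' (π x))
      rwa [show Nat.card ((M ⧸ P') ⧸ N') = 6 from hNi] at h
  have hWn : ∀ x ∈ X ⊔ E, ∀ h ∈ Wb, x * h * x⁻¹ ∈ Wb := by
    have key : ∀ m : M, (m : G) ∈ D.C → π m ∈ normalizer (Wb : Set (M ⧸ P')) := by
      intro m hm
      have h1 : ∀ m : M, (m : G) ∈ D.C → ∀ h ∈ Wb, π m * h * (π m)⁻¹ ∈ Wb := by
        rintro m hm _ ⟨x, hx, rfl⟩
        exact ⟨m * x * m⁻¹, mem_subgroupOf.2 (F.conj_W hm (mem_subgroupOf.1 hx)), by rw [map_mul, map_mul, map_inv]⟩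
      refine mem_normalizer_iff.2 fun h => ⟨h1 m hm h, fun hh => ?_⟩
      have := h1 m⁻¹ (by simpa using inv_mem hm) _ hh
      simpa [mul_assoc] using this
    intro x hx h hh
    exact (mem_normalizer_iff.1 ((sup_le (zpowers_le.2 (key w' D.w_C)) (zpowers_le.2 (key a' F.haC))) hx) h).1 hh
  set Wa := F.W ⊓ centralizer ({F.a} : Set G) with hWa
  have hWbcard : Nat.card Wb = Nat.card F.W := by
    refine (Nat.card_congr (Equiv.ofBijective (fun x : F.W => (⟨π ⟨x, hWM x.2⟩, ⟨x, hWM x.2⟩, x.2, rfl⟩ : Wb))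
      ⟨fun x y h => hWinj x y (congrArg Subtype.val h), ?_⟩)).symm
    rintro ⟨_, x, hx, rfl⟩
    exact ⟨⟨x, mem_subgroupOf.1 hx⟩, rfl⟩
  have hWa_le : Nat.card ↥(Wb ⊓ centralizer (E : Set (M ⧸ P'))) ≤ Nat.card Wa := by
    refine Nat.card_le_card_of_surjective
      (fun x : Wa => (⟨π ⟨x, hWM x.2.1⟩, ⟨⟨x, hWM x.2.1⟩, x.2.1, rfl⟩, mem_centralizer_iff.2 fun e he => ?_⟩ :
        ↥(Wb ⊓ centralizer (E : Set (M ⧸ P'))))) ?_
    · rcases hEset e he with rfl | rfl
      · simp
      · rw [← map_mul, ← map_mul]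
        exact congrArg π (Subtype.ext (mem_centralizer_singleton_iff.1 x.2.2).symm)
    · rintro ⟨_, ⟨x, hx, rfl⟩, hxc⟩
      have h := mem_centralizer_iff.1 hxc (π a') (mem_zpowers _)
      have hxW := mem_subgroupOf.1 hx
      have hb := hWinj ⟨_, F.conj_W F.haC hxW⟩ ⟨_, hxW⟩ (by
        show π (a' * x * a'⁻¹) = π x
        rw [map_mul, map_mul, map_inv, h, mul_inv_cancel_right])
      exact ⟨⟨x, hxW, mem_centralizer_singleton_iff.2 (mul_inv_eq_iff_eq_mul.1 (congrArg Subtype.val hb)).symm⟩, rfl⟩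
  have hW2 : Nat.card F.W ≤ Nat.card Wa ^ 2 := by
    rw [← hWbcard, formula Wb hWN hWn]; exact Nat.pow_le_pow_left hWa_le 2
  -- the orbit of the involution
  letI : MulAction M G := MulAction.compHom G (ConjAct.toConjAct.toMonoidHom.comp M.subtype)
  have hsmul : ∀ (m : M) (z : G), m • z = (m : G) * z * (m : G)⁻¹ := fun m z => rfl
  set r := (MulAction.orbit M D.inv2).ncard with hr
  have hrM : Nat.card M = r * Nat.card D.C := by
    rw [← Nat.card_congr (MulAction.orbitProdStabilizerEquivGroup M D.inv2), Nat.card_prod, Nat.card_coe_set_eq]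
    congr 1
    refine Nat.card_congr
      ⟨fun m => ⟨((m : M) : G), D.mem_C.2 (mul_inv_eq_iff_eq_mul.1 m.2)⟩,
        fun c => ⟨⟨c, hCM c.2⟩, show (c : G) * D.inv2 * (c : G)⁻¹ = D.inv2 by
          rw [D.mem_C.1 c.2, mul_inv_cancel_right]⟩, fun m => rfl, fun c => rfl⟩
  have hrV : r + 1 ≤ Nat.card F.V := by
    have hsub : MulAction.orbit M D.inv2 ⊆ (F.V : Set G) \ {1} := by
      rintro _ ⟨m, rfl⟩
      refine ⟨F.conj_V m.2 F.u_V, fun h => D.u_ne ((conj_eq_one_iff (a := (m : G))).1 ((hsmul m D.inv2).symm.trans h))⟩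
    have h := Set.ncard_le_ncard hsub (Set.toFinite _)
    have h' := Set.ncard_sdiff_singleton_add_one (SetLike.mem_coe.2 (one_mem F.V)) (Set.toFinite _)
    rw [← Nat.card_coe_set_eq (F.V : Set G)] at h'
    show r + 1 ≤ Nat.card ((F.V : Set G) : Set G)
    rw [← h']; exact Nat.add_le_add_right h 1
  -- the normaliser of the Sylow subgroup inside
  set Nn := M ⊓ normalizer (F.S : Set G) with hNn
  set Nn' := Nn.subgroupOf M with hNn'
  have hNn_le : Nat.card Nn ≤ Nat.card F.P * (2 * c) := by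
    have hcent : ∀ m : M, (m : G) ∈ Nn → π m ∈ centralizer (E : Set (M ⧸ P')) := by
      intro m hm
      have hmem' : (m : G) * F.a * (m : G)⁻¹ ∈ F.S := (mem_normalizer_iff.1 hm.2 _).1 F.a_S
      have hnot : (m : G) * F.a * (m : G)⁻¹ ∉ F.P := fun h => F.a_notP ((mem_normalizer_iff.1 hm.1 _).2 h)
      obtain ⟨p, hp, hpe⟩ := F.S_coset hmem' hnot
      have he : π m * π a' * (π m)⁻¹ = (π a')⁻¹ := by
        rw [← map_mul, ← map_inv, ← map_mul, ← map_inv, show m * a' * m⁻¹ = ⟨p, hPM hp⟩ * a'⁻¹ from Subtype.ext hpe,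
          map_mul, (hmem ⟨p, _⟩).2 hp, one_mul]
      have hai : (π a')⁻¹ = π a' := inv_eq_of_mul_eq_one_right (by
        rw [← map_mul]; exact (hmem _).2 (F.zu_le F.asq))
      refine mem_centralizer_iff.2 fun e he' => ?_
      rcases hEset e he' with rfl | rfl
      · simp
      · exact (mul_inv_eq_iff_eq_mul.1 (he.trans hai)).symm
    have hle : Nn' ≤ (centralizer (E : Set (M ⧸ P'))).comap π := fun m hm => hcent m (mem_subgroupOf.1 hm)
    have hCE : Nat.card (centralizer (E : Set (M ⧸ P'))) ≤ 2 * c := by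
      set CE := centralizer (E : Set (M ⧸ P'))
      set ψ := (QuotientGroup.mk' N').comp CE.subtype
      have h := ψ.ker.card_mul_index
      rw [index_ker] at h
      have hk : Nat.card ψ.ker = c := Nat.card_congr
        ⟨fun x => ⟨((x : CE) : M ⧸ P'), (QuotientGroup.eq_one_iff _).1 x.2, (x : CE).2⟩,
          fun y => ⟨⟨y, y.2.2⟩, (QuotientGroup.eq_one_iff _).2 y.2.1⟩, fun x => rfl, fun y => rfl⟩
      rw [← h, hk, mul_comm]
      refine Nat.mul_le_mul_right _ ?_
      by_contra hgt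
      have hd : Nat.card ψ.range ∣ 6 := by
        have := card_subgroup_dvd_card ψ.range
        rwa [show Nat.card ((M ⧸ P') ⧸ N') = 6 from hNi] at this
      have h2 : 2 ∣ Nat.card ψ.range := by
        have hac : π a' ∈ CE := mem_centralizer_iff.2 fun e he => by
          rcases hEset e he with rfl | rfl <;> simp
        have ho : orderOf (ψ ⟨_, hac⟩) = 2 := by
          refine orderOf_eq_prime ?_ fun hh => ?_
          · rw [← map_pow, show (⟨π a', hac⟩ : CE) ^ 2 = 1 from Subtype.ext (hπa ▸ pow_orderOf_eq_one (π a')), map_one]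
          · have hm : π a' ∈ N' := (QuotientGroup.eq_one_iff _).1 hh
            have h' := orderOf_dvd_natCard (⟨_, hm⟩ : N')
            rw [Subgroup.orderOf_mk, hπa] at h'
            exact Nat.two_dvd_ne_zero.2 (Nat.odd_iff.1 hodd) h'
        have h' := orderOf_dvd_natCard (⟨ψ ⟨_, hac⟩, _, rfl⟩ : ψ.range)
        rw [← orderOf_coe] at h'
        exact (dvd_of_eq ho.symm).trans h'
      have h6' : Nat.card ψ.range = 6 := by
        have := Nat.le_of_dvd (by norm_num) hd
        interval_cases (Nat.card ψ.range) <;> omega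
      have htop : ψ.range = ⊤ := eq_top_of_card_eq _ (by rw [h6']; exact hNi.symm)
      obtain ⟨q, hq⟩ : QuotientGroup.mk' N' (π w') ∈ ψ.range := htop ▸ mem_top _
      have hc : QuotientGroup.mk' N' (π a') * QuotientGroup.mk' N' (π w') =
          QuotientGroup.mk' N' (π w') * QuotientGroup.mk' N' (π a') := by
        rw [← hq]
        show QuotientGroup.mk' N' (π a') * QuotientGroup.mk' N' q = QuotientGroup.mk' N' q * QuotientGroup.mk' N' (π a')
        rw [← map_mul, ← map_mul, mem_centralizer_iff.1 q.2 _ (mem_zpowers _)]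
      have h' := congrArg (QuotientGroup.mk' N') hinv
      rw [map_mul, map_mul, map_inv, map_inv, hc, mul_inv_cancel_right, eq_inv_iff_mul_eq_one, ← map_mul] at h'
      have hm : π w' * π w' ∈ N' := (QuotientGroup.eq_one_iff _).1 h'
      have h3 := orderOf_dvd_natCard (⟨_, hm⟩ : N')
      rw [Subgroup.orderOf_mk, ← pow_two, orderOf_pow' _ two_ne_zero, hπw] at h3
      exact Nat.not_coprime_of_dvd_of_dvd (by norm_num) h3 dvd_rfl hN3
    have hcard : Nat.card ((centralizer (E : Set (M ⧸ P'))).comap π) =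
        Nat.card F.P * Nat.card (centralizer (E : Set (M ⧸ P'))) := by
      set CE := centralizer (E : Set (M ⧸ P'))
      have h1 := (CE.comap π).card_mul_index
      rw [index_comap_of_surjective _ (QuotientGroup.mk'_surjective P'), hMcard, ← CE.card_mul_index] at h1
      exact Nat.eq_of_mul_eq_mul_right (Nat.pos_of_ne_zero CE.index_ne_zero_of_finite) (h1.trans (by ring))
    rw [← Nat.card_congr (subgroupOfEquivOfLe (inf_le_left : Nn ≤ M)).toEquiv]
    exact (card_le_of_le hle).trans (hcard ▸ Nat.mul_le_mul_left _ hCE)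
  letI : MulAction Nn G := MulAction.compHom G (ConjAct.toConjAct.toMonoidHom.comp Nn.subtype)
  have hρ : Nat.card F.Y - 1 ≤ (MulAction.orbit Nn D.inv2).ncard := by
    have hsub : (F.Y : Set G) \ {1} ⊆ MulAction.orbit Nn D.inv2 := by
      rintro z ⟨hz, hz1⟩
      obtain ⟨n, hnS, hnP, hn⟩ := htr z hz hz1
      exact ⟨⟨n, hnP, hnS⟩, hn⟩
    have h := Set.ncard_le_ncard hsub (Set.toFinite _)
    have h' := Set.ncard_sdiff_singleton_add_one (SetLike.mem_coe.2 (one_mem F.Y)) (Set.toFinite _)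
    rw [← Nat.card_coe_set_eq (F.Y : Set G)] at h'
    show Nat.card ((F.Y : Set G) : Set G) - 1 ≤ _
    omega
  have hstab : Nat.card F.S * Nat.card Wa ≤ Nat.card (MulAction.stabilizer Nn D.inv2) := by
    refine Nat.le_of_dvd Nat.card_pos (Nat.Coprime.mul_dvd_of_dvd_of_dvd ?_ ?_ ?_)
    · obtain ⟨k, hk⟩ := IsPGroup.iff_card.1 F.isPGroup_S
      rw [hk]
      exact (Nat.coprime_two_left.2 (Odd.of_dvd_nat F.hodd (card_dvd_of_le inf_le_left))).pow_left k
    · let f : F.S →* MulAction.stabilizer Nn D.inv2 :=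
        { toFun := fun s => ⟨⟨s, hCM (F.S_le_C s.2), le_normalizer s.2⟩,
            show (s : G) * D.inv2 * (s : G)⁻¹ = D.inv2 by rw [D.mem_C.1 (F.S_le_C s.2), mul_inv_cancel_right]⟩
          map_one' := rfl
          map_mul' := fun _ _ => rfl }
      exact card_dvd_of_injective f fun x y h =>
        Subtype.ext (congrArg (fun z : MulAction.stabilizer Nn D.inv2 => ((z : Nn) : G)) h)
    · have hS : ∀ x ∈ Wa, x ∈ normalizer (F.S : Set G) := fun x hx => by
        have hcs : ∀ s ∈ F.S, s * x = x * s := fun s hs => by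
          by_cases hsP : s ∈ F.P
          · exact F.hcomm s hsP x hx.1
          · obtain ⟨p, hp, rfl⟩ := F.S_coset hs hsP
            exact ((show Commute p x from F.hcomm p hp x hx.1).mul_left
              (show Commute x F.a from mem_centralizer_singleton_iff.1 hx.2).symm.inv_left).eq
        refine mem_normalizer_iff.2 fun s => ⟨fun hs => by rw [← hcs s hs, mul_inv_cancel_right]; exact hs, fun hs => ?_⟩
        have := hcs _ hs
        rw [inv_mul_cancel_right] at this
        exact (mul_left_cancel this).symm ▸ hs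
      let f : Wa →* MulAction.stabilizer Nn D.inv2 :=
        { toFun := fun s => ⟨⟨s, hWM s.2.1, hS s s.2⟩,
            show (s : G) * D.inv2 * (s : G)⁻¹ = D.inv2 by rw [D.mem_C.1 (F.W_le_C s.2.1), mul_inv_cancel_right]⟩
          map_one' := rfl
          map_mul' := fun _ _ => rfl }
      exact card_dvd_of_injective f fun x y h =>
        Subtype.ext (congrArg (fun z : MulAction.stabilizer Nn D.inv2 => ((z : Nn) : G)) h)
  have hNnprod : Nat.card Nn = (MulAction.orbit Nn D.inv2).ncard * Nat.card (MulAction.stabilizer Nn D.inv2) := by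
    rw [← Nat.card_congr (MulAction.orbitProdStabilizerEquivGroup Nn D.inv2), Nat.card_prod, Nat.card_coe_set_eq]
  -- the counting
  set y := Nat.card F.Y
  set vv := Nat.card Wa
  set p := Nat.card F.P
  have hp : 0 < p := Nat.card_pos
  have hvv : 0 < vv := Nat.card_pos
  have hA : (y - 1) * vv ≤ c := by
    refine Nat.le_of_mul_le_mul_left ?_ (Nat.mul_pos two_pos hp)
    calc 2 * p * ((y - 1) * vv) = (y - 1) * (2 * p * vv) := by ring
      _ ≤ (MulAction.orbit Nn D.inv2).ncard * Nat.card (MulAction.stabilizer Nn D.inv2) :=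
          Nat.mul_le_mul hρ (by rw [← F.card_S]; exact hstab)
      _ ≤ 2 * p * c := by rw [← hNnprod]; exact hNn_le.trans (le_of_eq (by ring))
  have hB : c ^ 2 ≤ r * vv ^ 2 := by
    have h1 : c ^ 2 * 6 * p = r * (6 * (p * Nat.card F.W)) := by rw [← F.hcard, ← F.hidx, ← hrM, hMcard, hq6, hN'c]
    refine Nat.le_of_mul_le_mul_left ?_ (Nat.mul_pos (show 0 < 6 by norm_num) hp)
    calc 6 * p * c ^ 2 = r * (6 * (p * Nat.card F.W)) := by rw [← h1]; ring
      _ ≤ r * (6 * (p * vv ^ 2)) := by gcongr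
      _ = 6 * p * (r * vv ^ 2) := by ring
  have hC : (y - 1) ^ 2 ≤ r := by
    refine Nat.le_of_mul_le_mul_right ?_ (pow_pos hvv 2)
    calc (y - 1) ^ 2 * vv ^ 2 = ((y - 1) * vv) ^ 2 := by ring
      _ ≤ c ^ 2 := Nat.pow_le_pow_left hA 2
      _ ≤ _ := hB
  have hy := F.four_le_Y hv hvU
  have hsq := F.card_sq
  obtain ⟨y', hy'⟩ : ∃ y', y = y' + 4 := ⟨y - 4, by omega⟩
  rw [show y - 1 = y' + 3 by omega] at hC
  rw [show Nat.card F.Y = y' + 4 from hy'] at hsq
  nlinarith

end SymCtx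

end Cfsg.Agent.Char.OrderSix
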