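import Cfsg.Agent.Lib.Char.OrderSix.SymJ

/-!
# Index six: the group generated by the Sylow subgroup and the element of order three
-/

set_option autoImplicit false
set_option linter.unusedSectionVars false
set_option linter.style.haveILetI false

open Cfsg Subgroup
open scoped Pointwise

namespace Cfsg.Agent.Char.OrderSix

universe u v

/-- the only group of order six with an inverted element of order three -/
theorem iso_perm_three {Q : Type*} [Group Q] [Finite Q] (h6 : Nat.card Q = 6) {x y : Q} (hx : orderOf x = 3)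
    (hy : orderOf y = 2) (hxy : y * x * y⁻¹ = x⁻¹) : Nonempty (Q ≃* Equiv.Perm (Fin 3)) := by
  classical
  have h3 : Nat.card (Q ⧸ zpowers y) = 3 := by
    have h := card_eq_card_quotient_mul_card_subgroup (zpowers y)
    rw [h6, Nat.card_zpowers, hy] at h
    omega
  set f := MulAction.toPermHom Q (Q ⧸ zpowers y)
  have hker : f.ker = ⊥ := by
    rw [eq_bot_iff]
    intro k hk
    by_contra hk1
    have hle : ∀ z ∈ f.ker, z ∈ zpowers y := fun z hz => by
      have h : f z ((1 : Q) : Q ⧸ zpowers y) = ((1 : Q) : Q ⧸ zpowers y) := by rw [MonoidHom.mem_ker.1 hz]; rfl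
      have h' : ((z * 1 : Q) : Q ⧸ zpowers y) = ((1 : Q) : Q ⧸ zpowers y) := h
      simpa using QuotientGroup.eq.1 h'.symm
    have hset : ∀ z ∈ zpowers y, z = 1 ∨ z = y := fun z hz => by
      obtain ⟨i, rfl⟩ := mem_zpowers_iff.1 hz
      rw [← zpow_mod_orderOf, hy]
      rcases Int.emod_two_eq i with h | h <;> rw [show ((2 : ℕ) : ℤ) = 2 from rfl, h] <;> simp
    have hky : k = y := (hset k (hle k hk)).resolve_left fun h => hk1 (mem_bot.2 h)
    subst hky
    have hconj := hset _ (hle _ ((MonoidHom.normal_ker f).conj_mem _ hk x))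
    rcases hconj with h | h
    · rw [conj_eq_one_iff] at h
      rw [h, orderOf_one] at hy
      omega
    · have hc : k * x = x * k := (mul_inv_eq_iff_eq_mul.1 h).symm
      rw [hc, mul_inv_cancel_right] at hxy
      have h2 : x ^ 2 = 1 := by rw [pow_two]; exact eq_inv_iff_mul_eq_one.1 hxy
      have := orderOf_dvd_of_pow_eq_one h2
      rw [hx] at this; omega
  obtain ⟨e⟩ : Nonempty (Q ⧸ zpowers y ≃ Fin 3) := ⟨Finite.equivFinOfCardEq h3⟩
  have hbij : Function.Bijective f :=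
    (Nat.bijective_iff_injective_and_card f).2 ⟨(f.ker_eq_bot_iff).1 hker, by rw [h6, Nat.card_perm, h3]; rfl⟩
  exact ⟨(MulEquiv.ofBijective f hbij).trans e.permCongrHom⟩

variable {G : Type u} [Group G] [Finite G]

/-- recognising the largest normal two-subgroup -/
theorem pCoreOf_eq {H Q : Subgroup G} (hQH : Q ≤ H) (hn : H ≤ normalizer (Q : Set G)) (h2 : IsPGroup 2 Q)
    (hmax : ∀ T : Subgroup G, T ≤ H → H ≤ normalizer (T : Set G) → IsPGroup 2 T → T ≤ Q) : pCoreOf 2 H = Q := by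
  haveI : Fact (Nat.Prime 2) := ⟨Nat.prime_two⟩
  exact le_antisymm (hmax _ (map_subtype_le _) (Fusion.le_normalizer_pCoreOf H) (Fusion.pCoreOf_isPGroup H))
    (Fusion.le_pCoreOf hQH hn h2)

variable [IsSimpleGroup G]

namespace SymCtx

variable {D : Ctx G} (F : SymCtx D)

/-- a side of the amalgam -/
structure Side (H Q : Subgroup G) : Prop where
  hQH : Q ≤ H
  hSH : F.S ≤ H
  hn : H ≤ normalizer (Q : Set G)
  h2 : IsPGroup 2 Q
  hmax : ∀ T : Subgroup G, T ≤ H → H ≤ normalizer (T : Set G) → IsPGroup 2 T → T ≤ Q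
  hcent : H ⊓ centralizer (Q : Set G) ≤ Q
  hcard : Nat.card H = 3 * Nat.card F.S
  hperm : Nonempty (H ⧸ pCore 2 H ≃* Equiv.Perm (Fin 3))
  hact : ∃ x ∈ H, ∃ z ∈ F.Y, x * z ≠ z * x

theorem norm_Y (hbig : ¬ F.P ≤ zpowers D.inv2) {g z : G} (hg : g ∈ normalizer (F.S : Set G)) (hz : z ∈ F.Y) :
    g * z * g⁻¹ ∈ F.Y := by
  refine F.central_Y hbig ((mem_normalizer_iff.1 hg z).1 (F.P_le_S hz.1.1)) (fun x hx => ?_) (by
    rw [show g * z * g⁻¹ * (g * z * g⁻¹) = g * (z * z) * g⁻¹ by group, hz.1.2.2]; group)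
  have hx' : g⁻¹ * x * g ∈ F.S := by simpa using (mem_normalizer_iff.1 (inv_mem hg) x).1 hx
  have := congrArg (fun t => g * t * g⁻¹) (F.Y_central hz hx')
  simpa [mul_assoc] using this

variable {F}

theorem Side.conj (hbig : ¬ F.P ≤ zpowers D.inv2) {H Q : Subgroup G} (h : F.Side H Q) {g : G}
    (hg : g ∈ normalizer (F.S : Set G)) :
    F.Side (H.map (MulAut.conj g).toMonoidHom) (Q.map (MulAut.conj g).toMonoidHom) := by
  set c := (MulAut.conj g).toMonoidHom with hc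
  set c' := (MulAut.conj g⁻¹).toMonoidHom with hc'
  have hinj : Function.Injective c := (MulAut.conj g).injective
  have hcc : ∀ x, c (c' x) = x := fun x => by simp [hc, hc', mul_assoc]
  have hcc' : ∀ x, c' (c x) = x := fun x => by simp [hc, hc', mul_assoc]
  have hn' : H.map c ≤ normalizer ((Q.map c : Subgroup G) : Set G) := by
    rintro _ ⟨x, hx, rfl⟩
    refine mem_normalizer_iff.2 fun y => ⟨?_, fun hy => ?_⟩
    · rintro ⟨q, hq, rfl⟩
      exact ⟨x * q * x⁻¹, (mem_normalizer_iff.1 (h.hn hx) q).1 hq, by rw [map_mul, map_mul, map_inv]⟩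
    · obtain ⟨q, hq, hqy⟩ := hy
      refine ⟨x⁻¹ * q * x, by simpa using (mem_normalizer_iff.1 (inv_mem (h.hn hx)) q).1 hq, ?_⟩
      rw [map_mul, map_mul, map_inv, hqy]; group
  have hmax' : ∀ T : Subgroup G, T ≤ H.map c → H.map c ≤ normalizer (T : Set G) → IsPGroup 2 T → T ≤ Q.map c := by
    intro T hT hTn hT2 x hx
    refine ⟨c' x, h.hmax (T.map c') ?_ ?_ (hT2.map _) ⟨x, hx, rfl⟩, hcc x⟩
    · rintro _ ⟨t, ht, rfl⟩
      obtain ⟨q, hq, hqt⟩ := hT ht
      rw [← hqt, hcc']; exact hq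
    · intro m hm
      refine mem_normalizer_iff.2 fun y => ⟨?_, fun hy => ?_⟩
      · rintro ⟨t, ht, rfl⟩
        refine ⟨c m * t * (c m)⁻¹, (mem_normalizer_iff.1 (hTn ⟨m, hm, rfl⟩) t).1 ht, ?_⟩
        rw [map_mul, map_mul, map_inv, hcc']
      · obtain ⟨t, ht, hty⟩ := hy
        refine ⟨(c m)⁻¹ * t * c m, ?_, ?_⟩
        · simpa using (mem_normalizer_iff.1 (inv_mem (hTn ⟨m, hm, rfl⟩)) t).1 ht
        · rw [map_mul, map_mul, map_inv, hcc', hty]; group
  refine ⟨map_mono h.hQH, fun x hx => ⟨c' x, h.hSH ?_, hcc x⟩, hn', h.h2.map _, hmax', ?_, ?_, ?_, ?_⟩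
  · simpa [hc'] using (mem_normalizer_iff.1 (inv_mem hg) x).1 hx
  · rintro x ⟨⟨y, hy, rfl⟩, hxc⟩
    refine ⟨y, h.hcent ⟨hy, mem_centralizer_iff.2 fun q hq => hinj ?_⟩, rfl⟩
    rw [map_mul, map_mul]
    exact mem_centralizer_iff.1 hxc _ ⟨q, hq, rfl⟩
  · rw [Nat.card_congr (H.equivMapOfInjective c hinj).toEquiv.symm, h.hcard]
  · obtain ⟨e⟩ := h.hperm
    set f := H.equivMapOfInjective c hinj
    have hmap : (pCore 2 H).map (f : H →* H.map c) = pCore 2 ↥(H.map c) := by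
      refine le_antisymm ?_ ?_
      · haveI : (pCore 2 H).Normal := inferInstance
        haveI := Normal.map (f := (f : H →* H.map c)) ‹(pCore 2 H).Normal› f.surjective
        exact Fusion.le_pCore ((Fusion.isPGroup_pCore 2 H).map _)
      · intro x hx
        refine ⟨f.symm x, ?_, f.apply_symm_apply x⟩
        haveI : (pCore 2 ↥(H.map c)).Normal := inferInstance
        haveI := Normal.map (f := (f.symm : H.map c →* H)) ‹(pCore 2 ↥(H.map c)).Normal› f.symm.surjective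
        exact Fusion.le_pCore ((Fusion.isPGroup_pCore 2 ↥(H.map c)).map (f.symm : H.map c →* H)) ⟨x, hx, rfl⟩
    exact ⟨(QuotientGroup.congr _ _ f hmap).symm.trans e⟩
  · obtain ⟨x, hx, z, hz, hxz⟩ := h.hact
    refine ⟨c x, ⟨x, hx, rfl⟩, c z, F.norm_Y hbig hg hz, fun he => hxz (hinj ?_)⟩
    rw [map_mul, map_mul, he]

variable (F)

/-- the group generated by the Sylow subgroup and the element of order three -/
def H1 : Subgroup G := (F.P ⊔ zpowers D.el3) ⊔ zpowers F.a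

theorem P_le_H1 : F.P ≤ F.H1 := le_sup_of_le_left le_sup_left

theorem w_H1 : D.el3 ∈ F.H1 := mem_sup_left (mem_sup_right (mem_zpowers _))

theorem a_H1 : F.a ∈ F.H1 := mem_sup_right (mem_zpowers _)

theorem H1_le_C : F.H1 ≤ D.C := sup_le (sup_le F.P_le_C (zpowers_le.2 D.w_C)) (zpowers_le.2 F.haC)

theorem S_le_H1 : F.S ≤ F.H1 := fun x hx => by
  by_cases hxP : x ∈ F.P
  · exact F.P_le_H1 hxP
  · obtain ⟨p, hp, rfl⟩ := F.S_coset hx hxP
    exact mul_mem (F.P_le_H1 hp) (inv_mem F.a_H1)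

theorem pow_a_split (j : ℕ) : ∃ q ∈ F.P, F.a ^ j = q * F.a ^ (j % 2) := by
  refine ⟨(F.a * F.a) ^ (j / 2), pow_mem (F.zu_le F.asq) _, ?_⟩
  rw [← pow_two, ← pow_mul, ← pow_add, Nat.div_add_mod]

theorem H1_cases {x : G} (hx : x ∈ F.H1) :
    ∃ p ∈ F.P, ∃ i j : ℕ, i < 3 ∧ j < 2 ∧ x = p * (D.el3 ^ i * F.a ^ j) := by
  have hwn : zpowers D.el3 ≤ normalizer (F.P : Set G) := zpowers_le.2 F.w_norm
  have han : zpowers F.a ≤ normalizer ((F.P ⊔ zpowers D.el3 : Subgroup G) : Set G) := by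
    refine zpowers_le.2 ?_
    have hle : ∀ (m : G), m ∈ normalizer (F.P : Set G) → (∀ i : ℤ, m * D.el3 ^ i * m⁻¹ ∈ zpowers D.el3) →
        ∀ y ∈ F.P ⊔ zpowers D.el3, m * y * m⁻¹ ∈ F.P ⊔ zpowers D.el3 := by
      intro m hm hmw y hy
      have hy' : y ∈ (F.P : Set G) * (zpowers D.el3 : Set G) := by
        rw [← coe_mul_of_right_le_normalizer_left F.P (zpowers D.el3) hwn]; exact hy
      obtain ⟨p, hp, q, hq, rfl⟩ := hy'
      obtain ⟨i, rfl⟩ := mem_zpowers_iff.1 hq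
      show m * (p * D.el3 ^ i) * m⁻¹ ∈ _
      rw [show m * (p * D.el3 ^ i) * m⁻¹ = (m * p * m⁻¹) * (m * D.el3 ^ i * m⁻¹) by group]
      exact mul_mem (mem_sup_left ((mem_normalizer_iff.1 hm p).1 hp)) (mem_sup_right (hmw i))
    have h1 : ∀ i : ℤ, F.a * D.el3 ^ i * F.a⁻¹ ∈ zpowers D.el3 := fun i => by
      rw [← conj_zpow, F.hinv]; exact zpow_mem (inv_mem (mem_zpowers _)) i
    have h2 : ∀ i : ℤ, F.a⁻¹ * D.el3 ^ i * F.a⁻¹⁻¹ ∈ zpowers D.el3 := fun i => by
      have e : F.a⁻¹ * D.el3 * F.a⁻¹⁻¹ = D.el3⁻¹ := by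
        calc F.a⁻¹ * D.el3 * F.a⁻¹⁻¹ = (F.a⁻¹ * (D.el3⁻¹) * F.a)⁻¹ := by group
          _ = (F.a⁻¹ * (F.a * D.el3 * F.a⁻¹) * F.a)⁻¹ := by rw [F.hinv]
          _ = D.el3⁻¹ := by group
      rw [← conj_zpow, e]; exact zpow_mem (inv_mem (mem_zpowers _)) i
    refine mem_normalizer_iff.2 fun y => ⟨hle _ F.a_norm h1 y, fun hy => ?_⟩
    have := hle _ (inv_mem F.a_norm) h2 _ hy
    simpa [mul_assoc] using this
  have hx' : x ∈ ((F.P ⊔ zpowers D.el3 : Subgroup G) : Set G) * (zpowers F.a : Set G) := by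
    rw [← coe_mul_of_right_le_normalizer_left (F.P ⊔ zpowers D.el3) (zpowers F.a) han]; exact hx
  obtain ⟨y, hy, g, hg, rfl⟩ := hx'
  have hy' : y ∈ (F.P : Set G) * (zpowers D.el3 : Set G) := by
    rw [← coe_mul_of_right_le_normalizer_left F.P (zpowers D.el3) hwn]; exact hy
  obtain ⟨p, hp, q, hq, rfl⟩ := hy'
  obtain ⟨i, rfl⟩ := (mem_powers_iff_mem_zpowers (x := D.el3)).2 hq
  obtain ⟨j, rfl⟩ := (mem_powers_iff_mem_zpowers (x := F.a)).2 hg
  obtain ⟨q0, hq0, he⟩ := F.pow_a_split j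
  refine ⟨p * (D.el3 ^ i * q0 * (D.el3 ^ i)⁻¹), mul_mem hp (F.conj_P (pow_mem D.w_C i) hq0), i % 3, j % 2,
    Nat.mod_lt _ (by norm_num), Nat.mod_lt _ two_pos, ?_⟩
  have hwi : D.el3 ^ (i % 3) = D.el3 ^ i := by
    conv_lhs => rw [← D.w_ord, pow_mod_orderOf]
  show p * D.el3 ^ i * F.a ^ j = _
  rw [hwi, he]; group

theorem not_mem_N {i j : ℕ} (hi : i < 3) (hj : j < 2) (h : D.el3 ^ i * F.a ^ j ∈ F.N) : i = 0 ∧ j = 0 := by
  have hw3 : ∀ k : ℕ, D.el3 ^ k ∈ F.N → 3 ∣ k := fun k hk => by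
    by_contra h3
    have h' := orderOf_dvd_natCard (⟨_, hk⟩ : F.N)
    rw [Subgroup.orderOf_mk, orderOf_pow, D.w_ord,
      Nat.Coprime.gcd_eq_one ((Nat.Prime.coprime_iff_not_dvd Nat.prime_three).2 h3), Nat.div_one] at h'
    exact F.h3 h'
  interval_cases j
  · rw [pow_zero, mul_one] at h
    have := hw3 i h
    omega
  · rw [pow_one] at h
    exfalso
    have h1 : D.el3 * (D.el3 ^ i * F.a) * D.el3⁻¹ ∈ F.N := (mem_normalizer_iff.1 (F.hnorm D.w_C) _).1 h
    have e : F.a * D.el3⁻¹ = D.el3 * F.a := by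
      have := congrArg (fun z => z⁻¹ * F.a) F.hinv
      simpa [mul_assoc] using this
    rw [show D.el3 * (D.el3 ^ i * F.a) * D.el3⁻¹ = D.el3 * D.el3 ^ i * (F.a * D.el3⁻¹) by group, e,
      ← mul_assoc, ← pow_succ', ← pow_succ] at h1
    have h2 := mul_mem h1 (inv_mem h)
    rw [show D.el3 ^ (i + 1 + 1) * F.a * (D.el3 ^ i * F.a)⁻¹ = D.el3 ^ 2 by group] at h2
    have := hw3 2 h2
    omega

theorem H1_meet {x : G} (hx : x ∈ F.H1) (hN : x ∈ F.N) : x ∈ F.P := by
  obtain ⟨p, hp, i, j, hi, hj, rfl⟩ := F.H1_cases hx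
  have h := mul_mem (inv_mem (F.P_le hp)) hN
  rw [inv_mul_cancel_left] at h
  obtain ⟨rfl, rfl⟩ := F.not_mem_N hi hj h
  simpa using hp

theorem card_H1 : Nat.card F.H1 = 3 * Nat.card F.S := by
  classical
  refine le_antisymm ?_ (Nat.le_of_dvd Nat.card_pos ?_)
  · have hsurj : Function.Surjective (fun t : F.P × Fin 3 × Fin 2 =>
        (⟨(t.1 : G) * (D.el3 ^ (t.2.1 : ℕ) * F.a ^ (t.2.2 : ℕ)),
          mul_mem (F.P_le_H1 t.1.2) (mul_mem (pow_mem F.w_H1 _) (pow_mem F.a_H1 _))⟩ : F.H1)) := by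
      rintro ⟨x, hx⟩
      obtain ⟨p, hp, i, j, hi, hj, rfl⟩ := F.H1_cases hx
      exact ⟨⟨⟨p, hp⟩, ⟨i, hi⟩, ⟨j, hj⟩⟩, rfl⟩
    refine (Nat.card_le_card_of_surjective _ hsurj).trans (le_of_eq ?_)
    rw [Nat.card_prod, Nat.card_prod, Nat.card_fin, Nat.card_fin, F.card_S]; ring
  · refine Nat.Coprime.mul_dvd_of_dvd_of_dvd ?_ ?_ (card_dvd_of_le F.S_le_H1)
    · obtain ⟨k, hk⟩ := IsPGroup.iff_card.1 F.isPGroup_S
      rw [hk]; exact Nat.Coprime.pow_right k (by norm_num)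
    · exact (show 3 = Nat.card (zpowers D.el3) by rw [Nat.card_zpowers, D.w_ord]) ▸
        card_dvd_of_le (zpowers_le.2 F.w_H1)

theorem H1_max {T : Subgroup G} (hT : T ≤ F.H1) (hn : F.H1 ≤ normalizer (T : Set G)) (h2 : IsPGroup 2 T) :
    T ≤ F.P := by
  haveI : Fact (Nat.Prime 2) := ⟨Nat.prime_two⟩
  have h : IsPGroup 2 (F.S ⊔ T : Subgroup G) :=
    F.isPGroup_S.to_sup_of_normal_right' h2 (F.S_le_H1.trans hn)
  exact F.le_P_of_inv (le_sup_right.trans (F.sylow.3 h le_sup_left).le) (hn F.w_H1)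

theorem side_H1 (hbig : ¬ F.P ≤ zpowers D.inv2) {z : G} (hz : z ∈ F.Y) (hzU : z ∉ zpowers D.inv2) :
    F.Side F.H1 F.P := by
  haveI : Fact (Nat.Prime 2) := ⟨Nat.prime_two⟩
  haveI : Fact (Nat.Prime 3) := ⟨Nat.prime_three⟩
  have hn : F.H1 ≤ normalizer (F.P : Set G) := F.H1_le_C.trans F.C_le_normalizer_P
  refine ⟨F.P_le_H1, F.S_le_H1, hn, F.isPGroup, fun T h1 h2 h3 => F.H1_max h1 h2 h3, ?_, F.card_H1, ?_, ?_⟩
  · rintro x ⟨hx, hxc⟩
    by_contra hxP
    obtain ⟨p, hp, i, j, hi, hj, hxe⟩ := F.H1_cases hx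
    by_cases hi0 : i = 0
    · subst hi0
      refine hbig fun q hq => F.outside (z := x) ?_ hxP hq (mem_centralizer_iff.1 hxc q hq) ?_
      · rw [hxe, pow_zero, one_mul]
        exact mul_mem (F.P_le_S hp) (pow_mem F.a_S _)
      · have hq' : D.el3⁻¹ * q * D.el3 ∈ F.P := by simpa using F.conj_P (inv_mem D.w_C) hq
        have := congrArg (fun t => D.el3 * t * D.el3⁻¹) (mem_centralizer_iff.1 hxc _ hq')
        simpa [mul_assoc] using this
    · have h3 : ∀ q ∈ F.P, x * q = q * x := fun q hq => (mem_centralizer_iff.1 hxc q hq).symm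
      rcases Nat.lt_or_ge j 1 with hj0 | hj1
      · -- an element of order three in the power
        obtain rfl : j = 0 := by omega
        rw [pow_zero, mul_one] at hxe
        refine hzU (F.three_fix D.w_C D.w_ord hz.1.1 ?_)
        have hc : Commute (D.el3 ^ i) z := by
          have h1 := h3 z hz.1.1
          rw [hxe, mul_assoc] at h1
          have hpz : p * z = z * p := hz.1.2.1 p hp
          rw [← mul_assoc z, ← hpz, mul_assoc] at h1
          exact mul_left_cancel h1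
        have : D.el3 ∈ zpowers (D.el3 ^ i) := by
          obtain ⟨k, hk⟩ := exists_pow_eq_self_of_coprime (n := i) (x := D.el3) (by
            rw [D.w_ord]; exact ((Nat.Prime.coprime_iff_not_dvd Nat.prime_three).2 (by omega)).symm)
          exact ⟨k, by simpa using hk⟩
        obtain ⟨k, hk⟩ := mem_zpowers_iff.1 this
        exact (hk ▸ hc.zpow_left k).eq
      · obtain rfl : j = 1 := by omega
        rw [pow_one] at hxe
        refine hzU ?_
        -- such an element moves the fixed involution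
        have h1 := h3 z hz.1.1
        obtain ⟨hzV, hza⟩ := F.mem_Y.1 hz
        have hc : Commute (D.el3 ^ i) z := by
          have hpz : Commute p z := hzV.2.1 p hp
          have h2 : Commute (p⁻¹ * x * F.a⁻¹) z :=
            ((hpz.inv_left).mul_left h1).mul_left (show Commute F.a z from hza).inv_left
          rwa [hxe, show p⁻¹ * (p * (D.el3 ^ i * F.a)) * F.a⁻¹ = D.el3 ^ i by group] at h2
        have : D.el3 ∈ zpowers (D.el3 ^ i) := by
          obtain ⟨k, hk⟩ := exists_pow_eq_self_of_coprime (n := i) (x := D.el3) (by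
            rw [D.w_ord]; exact ((Nat.Prime.coprime_iff_not_dvd Nat.prime_three).2 (by omega)).symm)
          exact ⟨k, by simpa using hk⟩
        obtain ⟨k, hk⟩ := mem_zpowers_iff.1 this
        exact F.three_fix D.w_C D.w_ord hz.1.1 (hk ▸ hc.zpow_left k).eq
  · have hcore : pCore 2 F.H1 = F.P.subgroupOf F.H1 := by
      have h := pCoreOf_eq F.P_le_H1 hn F.isPGroup fun T h1 h2 h3 => F.H1_max h1 h2 h3
      rw [subgroupOf, ← h]
      exact (comap_map_eq_self_of_injective F.H1.subtype_injective _).symm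
    haveI : (F.P.subgroupOf F.H1).Normal := (normal_subgroupOf_iff_le_normalizer F.P_le_H1).2 hn
    set π := QuotientGroup.mk' (F.P.subgroupOf F.H1)
    set w' : F.H1 := ⟨D.el3, F.w_H1⟩
    set a' : F.H1 := ⟨F.a, F.a_H1⟩
    have hmem : ∀ x : F.H1, π x = 1 ↔ (x : G) ∈ F.P := fun x => QuotientGroup.eq_one_iff x
    have hw : orderOf (π w') = 3 := orderOf_eq_prime
      (by rw [← map_pow, show w' ^ 3 = 1 from Subtype.ext (D.w_ord ▸ pow_orderOf_eq_one D.el3), map_one])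
      (fun h => by
        have h' := orderOf_dvd_natCard (⟨_, (hmem w').1 h⟩ : F.P)
        rw [Subgroup.orderOf_mk, D.w_ord] at h'
        exact F.three_P h')
    have ha : orderOf (π a') = 2 := orderOf_eq_prime
      (by rw [pow_two, ← map_mul]; exact (hmem _).2 (F.zu_le F.asq)) (fun h => F.a_notP ((hmem a').1 h))
    have hinv : π a' * π w' * (π a')⁻¹ = (π w')⁻¹ := by
      rw [← map_mul, ← map_inv, ← map_mul, ← map_inv]; exact congrArg π (Subtype.ext F.hinv)
    have h6 : Nat.card (F.H1 ⧸ F.P.subgroupOf F.H1) = 6 := by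
      have h := card_eq_card_quotient_mul_card_subgroup (F.P.subgroupOf F.H1)
      rw [Nat.card_congr (subgroupOfEquivOfLe F.P_le_H1).toEquiv, F.card_H1, F.card_S, ← mul_assoc] at h
      exact (Nat.eq_of_mul_eq_mul_right Nat.card_pos h).symm
    obtain ⟨e⟩ := iso_perm_three h6 hw ha hinv
    exact ⟨(QuotientGroup.quotientMulEquivOfEq hcore).trans e⟩
  · exact ⟨D.el3, F.w_H1, z, hz, fun h => hzU (F.three_fix D.w_C D.w_ord hz.1.1 h)⟩

end SymCtx

end Cfsg.Agent.Char.OrderSix
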