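import Cfsg.Agent.Lib.Char.OrderSix.ThreeBase

/-!
# Index three: the centre of the Sylow subgroup is not small
-/

set_option autoImplicit false
set_option linter.unusedSectionVars false
set_option linter.style.haveILetI false

open Cfsg Subgroup
open scoped Pointwise

namespace Cfsg.Agent.Char.OrderSix

universe u
variable {G : Type u} [Group G] [Finite G]

namespace ThreeCtx

variable {D : Ctx G} (F : ThreeCtx D)

/-- exponent two involution test -/
theorem eq_u_or {z : G} (hz : z ∈ zpowers D.inv2) : z = 1 ∨ z = D.inv2 := D.mem_zu.1 hz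

theorem center_small_false
    (hV : ∀ v ∈ F.P, (∀ x ∈ F.P, x * v = v * x) → v * v = 1 → v ∈ zpowers D.inv2)
    {e : G} (heP : e ∈ F.P) (he2 : e * e = 1) (heU : e ∉ zpowers D.inv2)
    (hec : ∀ x ∈ F.P, x * e * x⁻¹ * e⁻¹ ∈ zpowers D.inv2) : False := by
  classical
  haveI : Fact (Nat.Prime 2) := ⟨Nat.prime_two⟩
  haveI : Fact (Nat.Prime 3) := ⟨Nat.prime_three⟩
  set U := zpowers D.inv2 with hU
  have heu : e ≠ D.inv2 := fun h => heU (h ▸ mem_zpowers _)
  have he1 : e ≠ 1 := fun h => heU (h ▸ one_mem _)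
  have hecu : Commute e D.inv2 := F.u_central_P heP
  have hconj : ∀ x ∈ F.P, x * e * x⁻¹ = e ∨ x * e * x⁻¹ = e * D.inv2 := fun x hx => by
    rcases D.mem_zu.1 (hec x hx) with h | h
    · exact Or.inl (mul_inv_eq_one.1 h)
    · exact Or.inr ((mul_inv_eq_iff_eq_mul.1 h).trans hecu.symm.eq)
  have heue : e * D.inv2 * e = D.inv2 := by rw [hecu.eq, mul_assoc, he2, mul_one]
  -- an element moving the involution
  obtain ⟨s, hsP, hse⟩ : ∃ s ∈ F.P, s * e * s⁻¹ = e * D.inv2 := by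
    by_contra! hno
    refine heU (hV e heP (fun x hx => ?_) he2)
    exact mul_inv_eq_iff_eq_mul.1 ((hconj x hx).resolve_right (hno x hx))
  set T := F.P ⊓ centralizer ({e} : Set G) with hT
  have hTP : T ≤ F.P := inf_le_left
  have hTe : ∀ {x : G}, x ∈ T → x * e = e * x := fun hx => mem_centralizer_singleton_iff.1 hx.2
  have hmemT : ∀ {x : G}, x ∈ F.P → x * e * x⁻¹ = e → x ∈ T := fun hx h =>
    ⟨hx, mem_centralizer_singleton_iff.2 (mul_inv_eq_iff_eq_mul.1 h)⟩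
  have huT : D.inv2 ∈ T := ⟨F.u_P, mem_centralizer_singleton_iff.2 hecu.symm.eq⟩
  have heT : e ∈ T := ⟨heP, mem_centralizer_singleton_iff.2 rfl⟩
  have hcos : ∀ x ∈ F.P, x ∈ T ∨ s⁻¹ * x ∈ T := fun x hx => by
    rcases hconj x hx with h | h
    · exact Or.inl (hmemT hx h)
    · refine Or.inr (hmemT (mul_mem (inv_mem hsP) hx) ?_)
      calc s⁻¹ * x * e * (s⁻¹ * x)⁻¹ = s⁻¹ * (x * e * x⁻¹) * s := by group
        _ = e := by rw [h, ← hse]; group
  have hTn : ∀ {x t : G}, x ∈ F.P → t ∈ T → x * t * x⁻¹ ∈ T := by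
    intro x t hx ht
    refine hmemT (mul_mem (mul_mem hx ht.1) (inv_mem hx)) ?_
    have hcu : Commute t D.inv2 := F.u_central_P ht.1
    have hxe : x⁻¹ * e * x = e ∨ x⁻¹ * e * x = e * D.inv2 := by
      have := hconj x⁻¹ (inv_mem hx); rwa [inv_inv] at this
    have ht' : t * (x⁻¹ * e * x) * t⁻¹ = x⁻¹ * e * x := by
      rcases hxe with h | h <;> rw [h]
      · rw [hTe ht, mul_inv_cancel_right]
      · rw [((show Commute t e from hTe ht).mul_right hcu).eq, mul_inv_cancel_right]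
    calc x * t * x⁻¹ * e * (x * t * x⁻¹)⁻¹ = x * (t * (x⁻¹ * e * x) * t⁻¹) * x⁻¹ := by group
      _ = e := by rw [ht']; group
  have hs2 : s * s ∈ T := hmemT (mul_mem hsP hsP) (by
    calc s * s * e * (s * s)⁻¹ = s * (s * e * s⁻¹) * s⁻¹ := by group
      _ = s * (e * D.inv2) * s⁻¹ := by rw [hse]
      _ = s * e * s⁻¹ * (s * D.inv2 * s⁻¹) := by group
      _ = e := by rw [hse, F.u_central_P hsP, mul_inv_cancel_right, mul_assoc, D.uu, mul_one])
  -- involutions central in T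
  let Om : Subgroup G :=
    { carrier := {z | z ∈ T ∧ (∀ x ∈ T, x * z = z * x) ∧ z * z = 1}
      one_mem' := ⟨one_mem _, fun x _ => by simp, one_mul 1⟩
      mul_mem' := fun {a b} ha hb => ⟨mul_mem ha.1 hb.1,
        fun x hx => ((show Commute x a from ha.2.1 x hx).mul_right (hb.2.1 x hx)).eq, by
        rw [(show Commute b a from ha.2.1 b hb.1).mul_mul_mul_comm, ha.2.2, hb.2.2, one_mul]⟩
      inv_mem' := fun {a} ha => ⟨inv_mem ha.1, fun x hx => ((show Commute x a from ha.2.1 x hx).inv_right).eq,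
        by rw [← mul_inv_rev, ha.2.2, inv_one]⟩ }
  have hOm : ∀ z ∈ Om, ∀ x ∈ F.P, x * z * x⁻¹ ∈ Om := by
    intro z hz x hx
    refine ⟨hTn hx hz.1, fun y hy => ?_, by
      rw [show x * z * x⁻¹ * (x * z * x⁻¹) = x * (z * z) * x⁻¹ by group, hz.2.2]; group⟩
    have h1 : x⁻¹ * y * x ∈ T := by simpa using hTn (inv_mem hx) hy
    have := congrArg (fun v => x * v * x⁻¹) (hz.2.1 _ h1)
    simpa [mul_assoc] using this
  have hOmU : ∀ z ∈ Om, s * z * s⁻¹ = z → z ∈ U := fun z hz hsz => by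
    refine hV z (hTP hz.1) (fun x hx => ?_) hz.2.2
    rcases hcos x hx with h | h
    · exact hz.2.1 x h
    · rw [show x = s * (s⁻¹ * x) by group]
      exact ((show Commute s z from mul_inv_eq_iff_eq_mul.1 hsz).mul_left (hz.2.1 _ h)).eq
  have hOmL : ∀ z ∈ Om, z = 1 ∨ z = D.inv2 ∨ z = e ∨ z = e * D.inv2 := by
    have heOm : e ∈ Om := ⟨heT, fun x hx => hTe hx, he2⟩
    intro z hz
    have hz' := hOm z hz s hsP
    set y := z * (s * z * s⁻¹) with hy
    have hcz : Commute (s * z * s⁻¹) z := hz.2.1 _ hz'.1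
    have hyfix : s * y * s⁻¹ = y := by
      have h2 : s * (s * z * s⁻¹) * s⁻¹ = z := by
        calc s * (s * z * s⁻¹) * s⁻¹ = (s * s) * z * (s * s)⁻¹ := by group
          _ = z := by rw [hz.2.1 _ hs2, mul_inv_cancel_right]
      calc s * y * s⁻¹ = (s * z * s⁻¹) * (s * (s * z * s⁻¹) * s⁻¹) := by rw [hy]; group
        _ = y := by rw [h2, hy]; exact hcz.eq
    have key : ∀ v ∈ Om, s * v * s⁻¹ = v → v = 1 ∨ v = D.inv2 := fun v hv h => D.mem_zu.1 (hOmU v hv h)
    rcases key y (mul_mem hz hz') hyfix with h | h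
    · have hzz : s * z * s⁻¹ = z := by
        rw [eq_inv_of_mul_eq_one_right h]
        exact (eq_inv_of_mul_eq_one_left hz.2.2).symm
      rcases key z hz hzz with h' | h'
      · exact Or.inl h'
      · exact Or.inr (Or.inl h')
    · have hzs : s * z * s⁻¹ = z * D.inv2 := by
        calc s * z * s⁻¹ = (z * z) * (s * z * s⁻¹) := by rw [hz.2.2, one_mul]
          _ = z * D.inv2 := by rw [mul_assoc, ← hy, h]
      have hfix : s * (z * e) * s⁻¹ = z * e := by
        calc s * (z * e) * s⁻¹ = (s * z * s⁻¹) * (s * e * s⁻¹) := by group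
          _ = z * (D.inv2 * e) * D.inv2 := by rw [hzs, hse]; group
          _ = z * e := by rw [← hecu.eq, mul_assoc, mul_assoc, D.uu, mul_one]
      rcases key (z * e) (mul_mem hz heOm) hfix with h' | h'
      · exact Or.inr (Or.inr (Or.inl ((eq_inv_of_mul_eq_one_left h').trans (eq_inv_of_mul_eq_one_left he2).symm)))
      · refine Or.inr (Or.inr (Or.inr ?_))
        calc z = z * (e * e) := by rw [he2, mul_one]
          _ = D.inv2 * e := by rw [← mul_assoc, h']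
          _ = e * D.inv2 := hecu.symm.eq
  -- the conjugate Sylow subgroup
  obtain ⟨g1, hg1⟩ := D.conj_u (orderOf_eq_prime (by rw [pow_two]; exact he2) he1)
  have hto : ∀ x : G, x * e = e * x ↔ g1⁻¹ * x * g1 ∈ D.C := fun x => by
    rw [D.mem_C, ← hg1]
    constructor <;> intro h
    · have := congrArg (fun v => g1⁻¹ * v * g1) h
      simpa [mul_assoc] using this
    · have := congrArg (fun v => g1 * v * g1⁻¹) h
      simpa [mul_assoc] using this
  have hTPe : ∀ t ∈ T, g1⁻¹ * t * g1 ∈ F.P := fun t ht => by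
    obtain ⟨-, k, hk⟩ := (F.hP t).1 (hTP ht)
    refine F.mem_P_of_two ((hto t).1 (hTe ht)) (k := k) ?_
    rw [show g1⁻¹ * t * g1 = g1⁻¹ * t * g1⁻¹⁻¹ by group, conj_pow, hk]; group
  set Pe := F.P.map (MulAut.conj g1).toMonoidHom with hPe
  have hmemPe : ∀ {x : G}, x ∈ Pe ↔ g1⁻¹ * x * g1 ∈ F.P := fun {x} => by
    rw [hPe, mem_map_equiv]; exact Iff.rfl
  have hTlePe : T ≤ Pe := fun t ht => hmemPe.2 (hTPe t ht)
  have hPecard : Nat.card Pe = Nat.card F.P :=
    (Nat.card_congr (F.P.equivMapOfInjective _ (MulAut.conj g1).injective).toEquiv).symm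
  -- u moves under that subgroup
  obtain ⟨s', hs'P, hs'u⟩ : ∃ s' ∈ Pe, s' * D.inv2 ≠ D.inv2 * s' := by
    by_contra! hno
    have hv : g1⁻¹ * D.inv2 * g1 ∈ U := by
      refine hV _ (hTPe _ huT) (fun x hx => ?_) (by
        rw [show g1⁻¹ * D.inv2 * g1 * (g1⁻¹ * D.inv2 * g1) = g1⁻¹ * (D.inv2 * D.inv2) * g1 by group, D.uu]; group)
      have := congrArg (fun v => g1⁻¹ * v * g1) (hno (g1 * x * g1⁻¹) (hmemPe.2 (by simpa [mul_assoc] using hx)))
      simpa [mul_assoc] using this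
    rcases D.mem_zu.1 hv with h | h
    · refine D.u_ne ?_
      calc D.inv2 = g1 * (g1⁻¹ * D.inv2 * g1) * g1⁻¹ := by group
        _ = 1 := by rw [h]; group
    · refine heu ?_
      calc e = g1 * D.inv2 * g1⁻¹ := hg1.symm
        _ = g1 * (g1⁻¹ * D.inv2 * g1) * g1⁻¹ := by rw [h]
        _ = D.inv2 := by group
  have hTindex : Nat.card F.P ≤ 2 * Nat.card T := by
    have hsub : (F.P : Set G) ⊆ (T : Set G) ∪ (fun t => s * t) '' (T : Set G) := fun x hx => by
      rcases hcos x hx with h | h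
      · exact Or.inl h
      · exact Or.inr ⟨_, h, by group⟩
    have h := (Set.ncard_le_ncard hsub (Set.toFinite _)).trans (Set.ncard_union_le _ _)
    rw [Set.ncard_image_of_injective _ (mul_right_injective s), ← Nat.card_coe_set_eq, ← Nat.card_coe_set_eq,
      ← two_mul] at h
    exact h
  have hs'T : ∀ t ∈ T, s' * t * s'⁻¹ ∈ T := by
    intro t ht
    have hidx : (T.subgroupOf Pe).index ≤ 2 := by
      have h := (T.subgroupOf Pe).card_mul_index
      rw [Nat.card_congr (subgroupOfEquivOfLe hTlePe).toEquiv, hPecard] at h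
      exact Nat.le_of_mul_le_mul_left ((h.le).trans (hTindex.trans (le_of_eq (mul_comm _ _)))) Nat.card_pos
    haveI : (T.subgroupOf Pe).Normal := by
      rcases Nat.lt_or_ge (T.subgroupOf Pe).index 2 with h | h
      · have h1 : (T.subgroupOf Pe).index = 1 := by
          have := (T.subgroupOf Pe).index_ne_zero_of_finite; omega
        rw [index_eq_one.1 h1]; infer_instance
      · exact normal_of_index_eq_two (le_antisymm hidx h)
    exact this.conj_mem ⟨t, hTlePe ht⟩ ht ⟨s', hs'P⟩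
  have hs'e : s' * e * s'⁻¹ = e := mul_inv_eq_iff_eq_mul.2 ((hto s').2 (F.P_le_C (hmemPe.1 hs'P)))
  have huOm : D.inv2 ∈ Om := ⟨huT, fun x hx => F.u_central_P (hTP hx), D.uu⟩
  have hs'Om : s' * D.inv2 * s'⁻¹ ∈ Om := by
    refine ⟨hs'T _ huT, fun x hx => ?_, by
      rw [show s' * D.inv2 * s'⁻¹ * (s' * D.inv2 * s'⁻¹) = s' * (D.inv2 * D.inv2) * s'⁻¹ by group, D.uu]; group⟩
    -- normality from the other side
    have hidx : ∀ y ∈ T, ∃ y' ∈ T, s' * y' * s'⁻¹ = y := by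
      intro y hy
      have hsurj : Function.Surjective (fun v : T => (⟨s' * (v : G) * s'⁻¹, hs'T v v.2⟩ : T)) :=
        Finite.injective_iff_surjective.1 fun a b h => Subtype.ext (by
          have := congrArg Subtype.val h
          simpa using this)
      obtain ⟨v, hv⟩ := hsurj ⟨y, hy⟩
      exact ⟨v, v.2, congrArg Subtype.val hv⟩
    obtain ⟨y', hy', rfl⟩ := hidx x hx
    have := congrArg (fun v => s' * v * s'⁻¹) (F.u_central_P (hTP hy'))
    simpa [mul_assoc] using this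
  have hs'eu : s' * D.inv2 * s'⁻¹ = e * D.inv2 := by
    rcases hOmL _ hs'Om with h | h | h | h
    · exact absurd (conj_eq_one_iff.1 h) D.u_ne
    · exact absurd (mul_inv_eq_iff_eq_mul.1 h) hs'u
    · exact absurd (h.trans hs'e.symm) fun h' => heu (mul_left_cancel (mul_right_cancel h')).symm
    · exact h
  -- the element cycling the three involutions
  set y := s * s' with hy
  have hsu : s * D.inv2 * s⁻¹ = D.inv2 := mul_inv_eq_iff_eq_mul.2 (F.u_central_P hsP)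
  have hyu : y * D.inv2 * y⁻¹ = e := by
    calc y * D.inv2 * y⁻¹ = s * (s' * D.inv2 * s'⁻¹) * s⁻¹ := by rw [hy]; group
      _ = (s * e * s⁻¹) * (s * D.inv2 * s⁻¹) := by rw [hs'eu]; group
      _ = e := by rw [hse, hsu, mul_assoc, D.uu, mul_one]
  have hye : y * e * y⁻¹ = e * D.inv2 := by
    calc y * e * y⁻¹ = s * (s' * e * s'⁻¹) * s⁻¹ := by rw [hy]; group
      _ = e * D.inv2 := by rw [hs'e, hse]
  have hyeu : y * (e * D.inv2) * y⁻¹ = D.inv2 := by
    calc y * (e * D.inv2) * y⁻¹ = (y * e * y⁻¹) * (y * D.inv2 * y⁻¹) := by group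
      _ = e * (D.inv2 * e) := by rw [hye, hyu, mul_assoc]
      _ = D.inv2 := by rw [← hecu.eq, ← mul_assoc, he2, one_mul]
  have hy3 : y ^ 3 * D.inv2 * (y ^ 3)⁻¹ = D.inv2 ∧ y ^ 3 * e * (y ^ 3)⁻¹ = e := by
    constructor
    · calc y ^ 3 * D.inv2 * (y ^ 3)⁻¹ = y * (y * (y * D.inv2 * y⁻¹) * y⁻¹) * y⁻¹ := by simp [pow_succ, mul_assoc]
        _ = D.inv2 := by rw [hyu, hye, hyeu]
    · calc y ^ 3 * e * (y ^ 3)⁻¹ = y * (y * (y * e * y⁻¹) * y⁻¹) * y⁻¹ := by simp [pow_succ, mul_assoc]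
        _ = e := by rw [hye, hyeu, hyu]
  set M := normalizer (T : Set G) with hM
  have hsM : s ∈ M := (mem_normalizer_iff).2 fun t => ⟨fun ht => hTn hsP ht, fun ht => by
    simpa [mul_assoc] using hTn (inv_mem hsP) ht⟩
  have hs'M : s' ∈ M := by
    refine mem_normalizer_iff.2 fun t => ⟨fun ht => hs'T t ht, fun ht => ?_⟩
    have hsurj : Function.Surjective (fun v : T => (⟨s' * (v : G) * s'⁻¹, hs'T v v.2⟩ : T)) :=
      Finite.injective_iff_surjective.1 fun a b h => Subtype.ext (by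
        have := congrArg Subtype.val h
        simpa using this)
    obtain ⟨v, hv⟩ := hsurj ⟨_, ht⟩
    have h : s' * (v : G) * s'⁻¹ = s' * t * s'⁻¹ := congrArg Subtype.val hv
    rw [← mul_left_cancel (mul_right_cancel h)]; exact v.2
  have hyM : y ∈ M := mul_mem hsM hs'M
  -- the kernel
  set K := M ⊓ (D.C ⊓ centralizer ({e} : Set G)) with hK
  have hK3 : ∀ x ∈ K, orderOf x ≠ 3 := fun x hx h3 =>
    heU (F.three_fix hx.2.1 h3 heP (mem_centralizer_singleton_iff.1 hx.2.2))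
  have hKcard : ¬ 3 ∣ Nat.card K := fun h => by
    obtain ⟨x, hx⟩ := exists_prime_orderOf_dvd_card' 3 h
    exact hK3 x x.2 (by rw [orderOf_coe, hx])
  have hKN : K ≤ F.N := by
    intro x hx
    set N' := F.N.subgroupOf D.C
    haveI : N'.Normal := (normal_subgroupOf_iff_le_normalizer F.hNC).2 F.hnorm
    have hq : Nat.card (D.C ⧸ N') = 3 := by
      have h := N'.card_mul_index
      rw [Nat.card_congr (subgroupOfEquivOfLe F.hNC).toEquiv, F.hidx, mul_comm 3] at h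
      exact Nat.eq_of_mul_eq_mul_left Nat.card_pos h
    have h1 : orderOf (QuotientGroup.mk' N' ⟨x, hx.2.1⟩) ∣ 3 := hq ▸ orderOf_dvd_natCard _
    have h2 : orderOf (QuotientGroup.mk' N' ⟨x, hx.2.1⟩) ∣ Nat.card K := by
      refine (orderOf_map_dvd _ _).trans ?_
      rw [← orderOf_coe]
      exact (Subgroup.orderOf_mk x hx).symm ▸ orderOf_dvd_natCard (⟨x, hx⟩ : K)
    have h3 := Nat.eq_one_of_dvd_coprimes ((Nat.Prime.coprime_iff_not_dvd Nat.prime_three).2 hKcard) h1 h2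
    exact (QuotientGroup.eq_one_iff (N := N') _).1 (orderOf_eq_one_iff.1 h3)
  have hKn : ∀ m ∈ M, (∀ v, v = D.inv2 ∨ v = e ∨ v = e * D.inv2 → m * v * m⁻¹ = D.inv2 ∨ m * v * m⁻¹ = e ∨
      m * v * m⁻¹ = e * D.inv2) → ∀ x ∈ K, m⁻¹ * x * m ∈ K := by
    intro m hm hmL x hx
    have hc : ∀ v, v = D.inv2 ∨ v = e ∨ v = e * D.inv2 → Commute x v := by
      have h1 : Commute x D.inv2 := D.mem_C.1 hx.2.1
      have h2 : Commute x e := mem_centralizer_singleton_iff.1 hx.2.2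
      rintro v (rfl | rfl | rfl)
      · exact h1
      · exact h2
      · exact h2.mul_right h1
    have hfix : ∀ v, v = D.inv2 ∨ v = e ∨ v = e * D.inv2 → Commute (m⁻¹ * x * m) v := fun v hv => by
      have := congrArg (fun z => m⁻¹ * z * m) (hc _ (hmL v hv)).eq
      show m⁻¹ * x * m * v = v * (m⁻¹ * x * m)
      simpa [mul_assoc] using this
    exact ⟨M.mul_mem (M.mul_mem (M.inv_mem hm) hx.1) hm, D.mem_C.2 (hfix _ (Or.inl rfl)).eq,
      mem_centralizer_singleton_iff.2 (hfix _ (Or.inr (Or.inl rfl))).eq⟩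
  -- an element of order three
  obtain ⟨a, m, hm3, hord⟩ : ∃ a m, ¬ 3 ∣ m ∧ orderOf y = 3 ^ a * m :=
    let ⟨a, m, h1, h2⟩ := Nat.exists_eq_pow_mul_and_not_dvd (orderOf_pos y).ne' 3 (by norm_num)
    ⟨a, m, h1, h2⟩
  set g := y ^ m with hg
  have hgpow : g ^ 3 ^ a = 1 := by rw [hg, ← pow_mul, mul_comm, ← hord, pow_orderOf_eq_one]
  have hgM : g ∈ M := pow_mem hyM m
  have hgact : (g * D.inv2 * g⁻¹ = e ∧ g * e * g⁻¹ = e * D.inv2) ∨
      (g * D.inv2 * g⁻¹ = e * D.inv2 ∧ g * e * g⁻¹ = D.inv2) := by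
    obtain ⟨q, r, hr, rfl⟩ : ∃ q r, (r = 1 ∨ r = 2) ∧ m = 3 * q + r :=
      ⟨m / 3, m % 3, by omega, (Nat.div_add_mod m 3).symm⟩
    have hq : ∀ q : ℕ, (y ^ 3) ^ q * D.inv2 * ((y ^ 3) ^ q)⁻¹ = D.inv2 ∧ (y ^ 3) ^ q * e * ((y ^ 3) ^ q)⁻¹ = e := by
      intro q
      have c1 : Commute (y ^ 3) D.inv2 := mul_inv_eq_iff_eq_mul.1 hy3.1
      have c2 : Commute (y ^ 3) e := mul_inv_eq_iff_eq_mul.1 hy3.2
      exact ⟨mul_inv_eq_iff_eq_mul.2 (c1.pow_left q).eq, mul_inv_eq_iff_eq_mul.2 (c2.pow_left q).eq⟩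
    have hd : ∀ v, y ^ (3 * q + r) * v * (y ^ (3 * q + r))⁻¹ = y ^ r * ((y ^ 3) ^ q * v * ((y ^ 3) ^ q)⁻¹) * (y ^ r)⁻¹ :=
      fun v => by rw [pow_add, pow_mul, ((Commute.refl y).pow_pow 3 r |>.pow_left q).eq]; group
    rw [hg, hd, hd, (hq q).1, (hq q).2]
    rcases hr with rfl | rfl
    · exact Or.inl ⟨by rw [pow_one]; exact hyu, by rw [pow_one]; exact hye⟩
    · refine Or.inr ⟨?_, ?_⟩
      · calc y ^ 2 * D.inv2 * (y ^ 2)⁻¹ = y * (y * D.inv2 * y⁻¹) * y⁻¹ := by simp [pow_succ, mul_assoc]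
          _ = e * D.inv2 := by rw [hyu, hye]
      · calc y ^ 2 * e * (y ^ 2)⁻¹ = y * (y * e * y⁻¹) * y⁻¹ := by simp [pow_succ, mul_assoc]
          _ = D.inv2 := by rw [hye, hyeu]
  have hgmove : g * D.inv2 * g⁻¹ ≠ D.inv2 := by
    rcases hgact with ⟨h, -⟩ | ⟨h, -⟩ <;> rw [h]
    · exact heu
    · exact fun h' => he1 (mul_eq_right.1 h')
  have hgL : ∀ v, v = D.inv2 ∨ v = e ∨ v = e * D.inv2 → g * v * g⁻¹ = D.inv2 ∨ g * v * g⁻¹ = e ∨
      g * v * g⁻¹ = e * D.inv2 := by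
    have hgm : ∀ x z : G, g * (x * z) * g⁻¹ = g * x * g⁻¹ * (g * z * g⁻¹) := fun x z => by group
    rcases hgact with ⟨h1, h2⟩ | ⟨h1, h2⟩ <;> rintro v (rfl | rfl | rfl)
    · exact Or.inr (Or.inl h1)
    · exact Or.inr (Or.inr h2)
    · refine Or.inl ?_
      rw [hgm, h1, h2, mul_assoc, ← hecu.eq, ← mul_assoc, he2, one_mul]
    · exact Or.inr (Or.inr h1)
    · exact Or.inl h2
    · refine Or.inr (Or.inl ?_)
      rw [hgm, h1, h2, ← mul_assoc, ← hecu.eq, mul_assoc, D.uu, mul_one]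
  have hg3K : g ^ 3 ∈ K := by
    refine ⟨pow_mem hgM 3, D.mem_C.2 ?_, mem_centralizer_singleton_iff.2 ?_⟩
    · rw [hg, ← pow_mul, mul_comm, pow_mul]
      exact ((show Commute (y ^ 3) D.inv2 from mul_inv_eq_iff_eq_mul.1 hy3.1).pow_left m).eq
    · rw [hg, ← pow_mul, mul_comm, pow_mul]
      exact ((show Commute (y ^ 3) e from mul_inv_eq_iff_eq_mul.1 hy3.2).pow_left m).eq
  have hg3 : g ^ 3 = 1 := by
    rw [← orderOf_eq_one_iff]
    refine Nat.eq_one_of_dvd_coprimes ((Nat.Prime.coprime_iff_not_dvd Nat.prime_three).2 hKcard |>.pow_left a) ?_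
      (by rw [← Subgroup.orderOf_mk _ hg3K]; exact orderOf_dvd_natCard _)
    refine orderOf_dvd_of_pow_eq_one ?_
    rw [← pow_mul, mul_comm, pow_mul, hgpow, one_pow]
  have hg1' : g ≠ 1 := fun h => hgmove (by rw [h]; group)
  have hgord : orderOf g = 3 := orderOf_eq_prime hg3 hg1'
  -- an element inverting it
  have hsL : ∀ v, v = D.inv2 ∨ v = e ∨ v = e * D.inv2 → s * v * s⁻¹ = D.inv2 ∨ s * v * s⁻¹ = e ∨
      s * v * s⁻¹ = e * D.inv2 := by
    rintro v (rfl | rfl | rfl)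
    · exact Or.inl hsu
    · exact Or.inr (Or.inr hse)
    · refine Or.inr (Or.inl ?_)
      calc s * (e * D.inv2) * s⁻¹ = (s * e * s⁻¹) * (s * D.inv2 * s⁻¹) := by group
        _ = e := by rw [hse, hsu, mul_assoc, D.uu, mul_one]
  have hsgs : s * g * s⁻¹ * g ∈ K := by
    refine ⟨M.mul_mem (M.mul_mem (M.mul_mem hsM hgM) (M.inv_mem hsM)) hgM, D.mem_C.2 ?_, mem_centralizer_singleton_iff.2 ?_⟩
    all_goals refine mul_inv_eq_iff_eq_mul.1 ?_
    · rw [show s * g * s⁻¹ * g * D.inv2 * (s * g * s⁻¹ * g)⁻¹ =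
        s * (g * (s⁻¹ * (g * D.inv2 * g⁻¹) * s) * g⁻¹) * s⁻¹ by group]
      have hs' : ∀ v w, s * w * s⁻¹ = v → s⁻¹ * v * s = w := fun v w h => by rw [← h]; group
      rcases hgact with ⟨h1, h2⟩ | ⟨h1, h2⟩
      · rw [h1, hs' e (e * D.inv2) (by rw [show s * (e * D.inv2) * s⁻¹ = (s * e * s⁻¹) * (s * D.inv2 * s⁻¹) by group,
          hse, hsu, mul_assoc, D.uu, mul_one]),
          show g * (e * D.inv2) * g⁻¹ = (g * e * g⁻¹) * (g * D.inv2 * g⁻¹) by group, h1, h2, heue, hsu]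
      · rw [h1, hs' (e * D.inv2) e hse, h2, hsu]
    · rw [show s * g * s⁻¹ * g * e * (s * g * s⁻¹ * g)⁻¹ =
        s * (g * (s⁻¹ * (g * e * g⁻¹) * s) * g⁻¹) * s⁻¹ by group]
      have hs' : ∀ v w, s * w * s⁻¹ = v → s⁻¹ * v * s = w := fun v w h => by rw [← h]; group
      rcases hgact with ⟨h1, h2⟩ | ⟨h1, h2⟩
      · rw [h2, hs' (e * D.inv2) e hse, h2, show s * (e * D.inv2) * s⁻¹ = (s * e * s⁻¹) * (s * D.inv2 * s⁻¹) by group,
          hse, hsu, mul_assoc, D.uu, mul_one]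
      · rw [h2, hs' D.inv2 D.inv2 hsu, h1, show s * (e * D.inv2) * s⁻¹ = (s * e * s⁻¹) * (s * D.inv2 * s⁻¹) by group,
          hse, hsu, mul_assoc, D.uu, mul_one]
  set X := K ⊔ zpowers g with hX
  have hgK : zpowers g ≤ normalizer (K : Set G) := by
    refine zpowers_le.2 (mem_normalizer_iff.2 fun x => ⟨fun hx => ?_, fun hx => ?_⟩)
    · have h1 := hKn g hgM hgL _ (hKn g hgM hgL x hx)
      rw [show g⁻¹ * (g⁻¹ * x * g) * g = g * x * g⁻¹ by
        have : g⁻¹ * g⁻¹ = g := by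
          rw [← mul_inv_rev, inv_eq_iff_mul_eq_one, mul_assoc, ← pow_two, ← pow_succ', hg3]
        calc g⁻¹ * (g⁻¹ * x * g) * g = (g⁻¹ * g⁻¹) * x * (g * g) := by group
          _ = g * x * g⁻¹ := by
            rw [this, eq_inv_of_mul_eq_one_left (show g * g * g = 1 by rw [← pow_two, ← pow_succ, hg3])]] at h1
      exact h1
    · simpa [mul_assoc] using hKn g hgM hgL _ hx
  have hXcard : Nat.card X = 3 * Nat.card K := by
    have h := Cfsg.Agent.Solv.card_sup_mul_card_inf' K (zpowers g) hgK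
    have hb : K ⊓ zpowers g = ⊥ := inf_eq_bot_of_coprime (by
      rw [Nat.card_zpowers, hgord]; exact ((Nat.Prime.coprime_iff_not_dvd Nat.prime_three).2 hKcard).symm)
    rw [hb, card_bot, mul_one, Nat.card_zpowers, hgord] at h
    rw [hX, h, mul_comm]
  have hsX : ∀ x ∈ X, s * x * s⁻¹ ∈ X := by
    intro x hx
    have hle : X ≤ X.comap (MulAut.conj s).toMonoidHom := by
      refine sup_le (fun k hk => ?_) (zpowers_le.2 ?_)
      · show s * k * s⁻¹ ∈ X
        refine mem_sup_left ?_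
        have hssK : s * s ∈ K := ⟨mul_mem hsM hsM, F.P_le_C (hTP hs2), hs2.2⟩
        have h := mul_mem (mul_mem hssK (hKn s hsM hsL k hk)) (inv_mem hssK)
        rwa [show s * s * (s⁻¹ * k * s) * (s * s)⁻¹ = s * k * s⁻¹ by group] at h
      · show s * g * s⁻¹ ∈ X
        rw [show s * g * s⁻¹ = s * g * s⁻¹ * g * g⁻¹ by group]
        exact mul_mem (mem_sup_left hsgs) (inv_mem (mem_sup_right (mem_zpowers g)))
    exact hle hx
  have hgX : g ∈ X := mem_sup_right (mem_zpowers g)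
  have hsyl : ∀ v : X, orderOf v = 3 → Nat.card (zpowers v) = 3 ^ (Nat.card X).factorization 3 := fun v hv => by
    rw [Nat.card_zpowers, hv, hXcard, Nat.factorization_mul (by norm_num) Nat.card_pos.ne', Finsupp.add_apply,
      Nat.Prime.factorization_self Nat.prime_three, Nat.factorization_eq_zero_of_not_dvd hKcard]
    rfl
  have ho1 : orderOf (⟨g, hgX⟩ : X) = 3 := by rw [← orderOf_coe]; exact hgord
  have ho2 : orderOf (⟨s * g * s⁻¹, hsX g hgX⟩ : X) = 3 := by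
    rw [← orderOf_coe]
    exact (orderOf_injective (MulAut.conj s).toMonoidHom (MulAut.conj s).injective g).trans hgord
  obtain ⟨k, hk⟩ := MulAction.exists_smul_eq X (Sylow.ofCard _ (hsyl _ ho2)) (Sylow.ofCard _ (hsyl _ ho1))
  obtain ⟨i, hi⟩ : ∃ i : ℤ, g ^ i = (k : G) * s * g * ((k : G) * s)⁻¹ := by
    have hmem : (k * ⟨s * g * s⁻¹, hsX g hgX⟩ * k⁻¹ : X) ∈ zpowers (⟨g, hgX⟩ : X) := by
      have : (k * ⟨s * g * s⁻¹, hsX g hgX⟩ * k⁻¹ : X) ∈
          ((k • Sylow.ofCard _ (hsyl _ ho2) : Sylow 3 X) : Subgroup X) := ⟨_, mem_zpowers _, rfl⟩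
      rw [hk] at this
      exact this
    obtain ⟨i, hi⟩ := mem_zpowers_iff.1 hmem
    refine ⟨i, ?_⟩
    have := congrArg Subtype.val hi
    simp only [coe_zpow, coe_mul, coe_inv] at this
    rw [this]; group
  set n0 := (k : G) * s with hn0
  have hkact : ∃ j : ℕ, (k : G) * D.inv2 * (k : G)⁻¹ = g ^ j * D.inv2 * (g ^ j)⁻¹ ∧
      (k : G) * e * (k : G)⁻¹ = g ^ j * e * (g ^ j)⁻¹ := by
    have hmem : (k : G) ∈ (K : Set G) * (zpowers g : Set G) := by
      rw [← coe_mul_of_right_le_normalizer_left K (zpowers g) hgK]; exact k.2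
    obtain ⟨k0, hk0, g', hg', hkk⟩ := hmem
    obtain ⟨j, hj⟩ := (mem_powers_iff_mem_zpowers (x := g)).2 hg'
    have hj' : g' = g ^ j := hj.symm
    refine ⟨j, ?_⟩
    have hk0L : ∀ v, v = D.inv2 ∨ v = e ∨ v = e * D.inv2 → k0 * v * k0⁻¹ = v := by
      have h1 : Commute k0 D.inv2 := D.mem_C.1 hk0.2.1
      have h2 : Commute k0 e := mem_centralizer_singleton_iff.1 hk0.2.2
      rintro v (rfl | rfl | rfl)
      · exact mul_inv_eq_iff_eq_mul.2 h1.eq
      · exact mul_inv_eq_iff_eq_mul.2 h2.eq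
      · exact mul_inv_eq_iff_eq_mul.2 (h2.mul_right h1).eq
    have hpow : ∀ j : ℕ, ∀ v, v = D.inv2 ∨ v = e ∨ v = e * D.inv2 → g ^ j * v * (g ^ j)⁻¹ = D.inv2 ∨
        g ^ j * v * (g ^ j)⁻¹ = e ∨ g ^ j * v * (g ^ j)⁻¹ = e * D.inv2 := by
      intro j
      induction j with
      | zero => intro v hv; simpa using hv
      | succ j ih =>
        intro v hv
        rw [show g ^ (j + 1) * v * (g ^ (j + 1))⁻¹ = g * (g ^ j * v * (g ^ j)⁻¹) * g⁻¹ by
          rw [pow_succ']; group]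
        exact hgL _ (ih v hv)
    have hkk' : k0 * g' = (k : G) := hkk
    rw [← hkk', hj']
    constructor
    · rw [show k0 * g ^ j * D.inv2 * (k0 * g ^ j)⁻¹ = k0 * (g ^ j * D.inv2 * (g ^ j)⁻¹) * k0⁻¹ by group]
      exact hk0L _ (hpow j _ (Or.inl rfl))
    · rw [show k0 * g ^ j * e * (k0 * g ^ j)⁻¹ = k0 * (g ^ j * e * (g ^ j)⁻¹) * k0⁻¹ by group]
      exact hk0L _ (hpow j _ (Or.inr (Or.inl rfl)))
  obtain ⟨j, hju, hje⟩ := hkact
  set n1 := (g ^ j)⁻¹ * n0 with hn1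
  have hn1M : n1 ∈ M := mul_mem (inv_mem (pow_mem hgM j)) (mul_mem (by
    have : X ≤ M := sup_le inf_le_left (zpowers_le.2 hgM)
    exact this k.2) hsM)
  have hn1u : n1 * D.inv2 * n1⁻¹ = D.inv2 := by
    calc n1 * D.inv2 * n1⁻¹ = (g ^ j)⁻¹ * ((k : G) * (s * D.inv2 * s⁻¹) * (k : G)⁻¹) * g ^ j := by
          rw [hn1, hn0]; group
      _ = D.inv2 := by rw [hsu, hju]; group
  have hn1e : n1 * e * n1⁻¹ = e * D.inv2 := by
    calc n1 * e * n1⁻¹ = (g ^ j)⁻¹ * ((k : G) * (s * e * s⁻¹) * (k : G)⁻¹) * g ^ j := by rw [hn1, hn0]; group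
      _ = (g ^ j)⁻¹ * (((k : G) * e * (k : G)⁻¹) * ((k : G) * D.inv2 * (k : G)⁻¹)) * g ^ j := by rw [hse]; group
      _ = e * D.inv2 := by rw [hju, hje]; group
  have hn1g : n1 * g * n1⁻¹ = g⁻¹ := by
    have e0 : n1 * g * n1⁻¹ = g ^ i := by
      calc n1 * g * n1⁻¹ = (g ^ j)⁻¹ * (n0 * g * n0⁻¹) * g ^ j := by rw [hn1]; group
        _ = g ^ i := by
          rw [← hi, ← zpow_natCast g j, ((Commute.zpow_zpow_self g (j : ℤ) i).inv_left).eq]; group
    rw [← zpow_mod_orderOf, hgord] at e0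
    have h0 := Int.emod_nonneg i (show ((3 : ℕ) : ℤ) ≠ 0 by norm_num)
    have h1 := Int.emod_lt_of_pos i (show (0 : ℤ) < ((3 : ℕ) : ℤ) by norm_num)
    generalize i % ((3 : ℕ) : ℤ) = l at e0 h0 h1
    interval_cases l
    · rw [zpow_zero] at e0
      exact absurd (conj_eq_one_iff.1 e0) hg1'
    · exfalso
      rw [zpow_one] at e0
      -- commuting elements would move the involution alike
      have hgc : Commute n1 g := mul_inv_eq_iff_eq_mul.1 e0
      rcases hgact with ⟨h1', -⟩ | ⟨h1', -⟩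
      · refine D.u_ne (mul_eq_left.1 (show e * D.inv2 = e from ?_))
        calc e * D.inv2 = n1 * e * n1⁻¹ := hn1e.symm
          _ = n1 * (g * D.inv2 * g⁻¹) * n1⁻¹ := by rw [h1']
          _ = g * (n1 * D.inv2 * n1⁻¹) * g⁻¹ := by
            rw [show n1 * (g * D.inv2 * g⁻¹) * n1⁻¹ = (n1 * g) * D.inv2 * (n1 * g)⁻¹ by group, hgc.eq]; group
          _ = e := by rw [hn1u, h1']
      · refine D.u_ne (mul_eq_left.1 (show e * D.inv2 = e from ?_))
        calc e * D.inv2 = g * (n1 * D.inv2 * n1⁻¹) * g⁻¹ := by rw [hn1u, h1']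
          _ = n1 * (g * D.inv2 * g⁻¹) * n1⁻¹ := by
            rw [show n1 * (g * D.inv2 * g⁻¹) * n1⁻¹ = (n1 * g) * D.inv2 * (n1 * g)⁻¹ by group, hgc.eq]; group
          _ = (n1 * e * n1⁻¹) * (n1 * D.inv2 * n1⁻¹) := by rw [h1']; group
          _ = e := by rw [hn1e, hn1u, mul_assoc, D.uu, mul_one]
    · refine e0.trans (eq_inv_of_mul_eq_one_left ?_)
      rw [← zpow_add_one, show (2 : ℤ) + 1 = ((3 : ℕ) : ℤ) by norm_num, zpow_natCast, hg3]
  -- no involution commutes with it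
  have hodd : ∀ z : G, z * g = g * z → orderOf z = 2 → False := by
    intro z hzg hz
    obtain ⟨c, hc⟩ := D.conj_u hz
    have hgc : c⁻¹ * g * c ∈ D.C := D.mem_C.2 (by
      rw [← hc] at hzg
      have := congrArg (fun v => c⁻¹ * v * c) hzg.symm
      simpa [mul_assoc] using this)
    have hgc3 : orderOf (c⁻¹ * g * c) = 3 := by
      rw [show c⁻¹ * g * c = MulAut.conj c⁻¹ g by simp]
      exact (orderOf_injective (MulAut.conj c⁻¹).toMonoidHom (MulAut.conj c⁻¹).injective g).trans hgord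
    obtain ⟨d, -, hd⟩ := F.three_sylow hgc hgc3
    have hinv : (c⁻¹ * n1 * c) * (c⁻¹ * g * c) * (c⁻¹ * n1 * c)⁻¹ = (c⁻¹ * g * c)⁻¹ := by
      calc (c⁻¹ * n1 * c) * (c⁻¹ * g * c) * (c⁻¹ * n1 * c)⁻¹ = c⁻¹ * (n1 * g * n1⁻¹) * c := by group
        _ = (c⁻¹ * g * c)⁻¹ := by rw [hn1g]; group
    refine F.no_inv (d⁻¹ * (c⁻¹ * n1 * c) * d) ?_
    set b := c⁻¹ * g * c with hb
    set n2 := c⁻¹ * n1 * c with hn2
    rcases hd with h | h
    · calc d⁻¹ * n2 * d * D.el3 * (d⁻¹ * n2 * d)⁻¹ = d⁻¹ * (n2 * (d * D.el3 * d⁻¹) * n2⁻¹) * d := by group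
        _ = D.el3⁻¹ := by rw [h, hinv, ← h]; group
    · calc d⁻¹ * n2 * d * D.el3 * (d⁻¹ * n2 * d)⁻¹ = d⁻¹ * (n2 * (d * D.el3 * d⁻¹) * n2⁻¹) * d := by group
        _ = d⁻¹ * (n2 * b * n2⁻¹)⁻¹ * d := by rw [h]; group
        _ = D.el3⁻¹ := by
          rw [hinv, inv_inv, show b = (d * D.el3 * d⁻¹)⁻¹ by rw [h, inv_inv]]; group
  have hTfix : ∀ t ∈ T, g * t * g⁻¹ = t → t = 1 := by
    intro t ht h
    by_contra ht1
    obtain ⟨k, hk⟩ := IsPGroup.iff_orderOf.1 (F.isPGroup.to_le hTP) ⟨t, ht⟩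
    rw [Subgroup.orderOf_mk] at hk
    have hk0 : k ≠ 0 := by rintro rfl; exact ht1 (orderOf_eq_one_iff.1 (by rw [hk, pow_zero]))
    refine hodd (t ^ (2 ^ (k - 1))) (((show Commute g t from mul_inv_eq_iff_eq_mul.1 h).symm).pow_left _).eq ?_
    obtain ⟨k', rfl⟩ := Nat.exists_eq_succ_of_ne_zero hk0
    rw [Nat.succ_sub_one, show 2 ^ k' = orderOf t / 2 by rw [hk, pow_succ, Nat.mul_div_cancel _ two_pos]]
    exact orderOf_pow_orderOf_div (orderOf_pos t).ne' (hk ▸ dvd_pow_self 2 (Nat.succ_ne_zero k'))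
  -- the involution inverting it inside the Sylow subgroup
  obtain ⟨a1, m1, hm1, hm1'⟩ := Nat.exists_eq_pow_mul_and_not_dvd (orderOf_pos n1).ne' 2 (by norm_num)
  have hm1o : Odd m1 := Nat.odd_iff.2 (Nat.two_dvd_ne_zero.1 hm1)
  set s0 := n1 ^ m1 with hs0
  have hn1C : n1 ∈ D.C := D.mem_C.2 (mul_inv_eq_iff_eq_mul.1 hn1u)
  have hs0P : s0 ∈ F.P :=
    F.mem_P_of_two (pow_mem hn1C m1) (k := a1) (by rw [hs0, ← pow_mul, mul_comm, ← hm1', pow_orderOf_eq_one])
  have hs0g : s0 * g * s0⁻¹ = g⁻¹ := odd_part_inv hn1g hm1o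
  have hs0e : s0 * e * s0⁻¹ = e * D.inv2 := by
    have hsq : Commute (n1 * n1) e := by
      refine mul_inv_eq_iff_eq_mul.1 ?_
      calc n1 * n1 * e * (n1 * n1)⁻¹ = n1 * (n1 * e * n1⁻¹) * n1⁻¹ := by group
        _ = n1 * (e * D.inv2) * n1⁻¹ := by rw [hn1e]
        _ = (n1 * e * n1⁻¹) * (n1 * D.inv2 * n1⁻¹) := by group
        _ = e := by rw [hn1e, hn1u, mul_assoc, D.uu, mul_one]
    obtain ⟨q, hq⟩ := hm1o
    rw [hs0, hq, pow_succ', pow_mul, pow_two]
    calc n1 * (n1 * n1) ^ q * e * (n1 * (n1 * n1) ^ q)⁻¹ = n1 * ((n1 * n1) ^ q * e * ((n1 * n1) ^ q)⁻¹) * n1⁻¹ := by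
          group
      _ = e * D.inv2 := by rw [(hsq.pow_left q).eq, mul_inv_cancel_right, hn1e]
  have hcos0 : ∀ x ∈ F.P, x ∈ T ∨ s0⁻¹ * x ∈ T := fun x hx => by
    rcases hconj x hx with h | h
    · exact Or.inl (hmemT hx h)
    · refine Or.inr (hmemT (mul_mem (inv_mem hs0P) hx) ?_)
      calc s0⁻¹ * x * e * (s0⁻¹ * x)⁻¹ = s0⁻¹ * (x * e * x⁻¹) * s0 := by group
        _ = e := by rw [h, ← hs0e]; group
  have hs0s : s0 * s0 = 1 := by
    refine hTfix _ (hmemT (mul_mem hs0P hs0P) ?_) ?_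
    · calc s0 * s0 * e * (s0 * s0)⁻¹ = s0 * (s0 * e * s0⁻¹) * s0⁻¹ := by group
        _ = s0 * (e * D.inv2) * s0⁻¹ := by rw [hs0e]
        _ = (s0 * e * s0⁻¹) * (s0 * D.inv2 * s0⁻¹) := by group
        _ = e := by rw [hs0e, F.u_central_P hs0P, mul_inv_cancel_right, mul_assoc, D.uu, mul_one]
    · have h2 : Commute (s0 * s0) g := by
        refine mul_inv_eq_iff_eq_mul.1 ?_
        calc s0 * s0 * g * (s0 * s0)⁻¹ = s0 * (s0 * g * s0⁻¹) * s0⁻¹ := by group
          _ = s0 * g⁻¹ * s0⁻¹ := by rw [hs0g]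
          _ = (s0 * g * s0⁻¹)⁻¹ := by group
          _ = g := by rw [hs0g, inv_inv]
      exact mul_inv_eq_iff_eq_mul.2 h2.symm.eq
  have hs0i : s0⁻¹ = s0 := inv_eq_of_mul_eq_one_right hs0s
  have hgi : g⁻¹ = g * g := by
    refine inv_eq_of_mul_eq_one_right ?_
    rw [← mul_assoc, ← pow_two, ← pow_succ, hg3]
  have hgT : ∀ t ∈ T, g * t * g⁻¹ ∈ T := fun t ht => (mem_normalizer_iff.1 hgM t).1 ht
  have hgT' : ∀ t ∈ T, g⁻¹ * t * g ∈ T := fun t ht => by
    have := (mem_normalizer_iff.1 (M.inv_mem hgM) t).1 ht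
    rwa [inv_inv] at this
  have hs0T : ∀ t ∈ T, s0 * t * s0 ∈ T := fun t ht => by
    have := hTn hs0P ht; rwa [hs0i] at this
  set σ := conjAut T g hgM with hσ
  have hσ3 : ∀ t, σ (σ (σ t)) = t := fun t => Subtype.ext (by
    simp only [hσ, conjAut_coe]
    calc g * (g * (g * (t : G) * g⁻¹) * g⁻¹) * g⁻¹ = g ^ 3 * (t : G) * (g ^ 3)⁻¹ := by simp [pow_succ, mul_assoc]
      _ = (t : G) := by rw [hg3]; group)
  obtain ⟨hsum, -⟩ := Cfsg.Agent.Solv.EngelTwo.engel_of_fpf σ hσ3 fun t ht =>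
    Subtype.ext (hTfix t t.2 (congrArg Subtype.val ht))
  have htriple : ∀ t ∈ T, t * (g * t * g⁻¹) * (g⁻¹ * t * g) = 1 := fun t ht => by
    have h : t * (g * t * g⁻¹) * (g * (g * t * g⁻¹) * g⁻¹) = 1 := congrArg Subtype.val (hsum ⟨t, ht⟩)
    have e1 : g * (g * t * g⁻¹) * g⁻¹ = g⁻¹ * t * g := by
      calc g * (g * t * g⁻¹) * g⁻¹ = (g * g) * t * (g * g)⁻¹ := by group
        _ = g⁻¹ * t * g := by rw [← hgi, inv_inv]
    rwa [e1] at h
  -- commutators with the inverting involution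
  let c : G → G := fun a => a⁻¹ * (s0 * a * s0)
  have hcT : ∀ a ∈ T, c a ∈ T := fun a ha => mul_mem (inv_mem ha) (hs0T a ha)
  have hcU : ∀ a ∈ T, ∀ y ∈ F.P, c a * y * (c a)⁻¹ * y⁻¹ ∈ U := fun a ha y hy => by
    have h := F.comm_two (hTP ha) hs0P hy
    have e1 : c a = a⁻¹ * s0⁻¹ * a * s0 := by
      show a⁻¹ * (s0 * a * s0) = _
      rw [hs0i]; simp [mul_assoc]
    rw [e1]; exact h
  have hgu : g * D.inv2 * g⁻¹ ≠ D.inv2 := hgmove
  have hcross : ∀ a ∈ T, ∀ b ∈ T, Commute (c a) (g * c b * g⁻¹) := by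
    intro a ha b hb
    have h1 := hcU a ha _ (hTP (hgT _ (hcT b hb)))
    have h2 := hcU b hb _ (hTP (hgT' _ (hcT a ha)))
    refine mul_inv_eq_iff_eq_mul.1 (mul_inv_eq_one.1 ?_)
    set z := c a * (g * c b * g⁻¹) * (c a)⁻¹ * (g * c b * g⁻¹)⁻¹ with hz
    have e1 : z = (g * (c b * (g⁻¹ * c a * g) * (c b)⁻¹ * (g⁻¹ * c a * g)⁻¹) * g⁻¹)⁻¹ := by rw [hz]; group
    rcases D.mem_zu.1 h2 with h | h
    · rw [e1, h]; group
    · rcases D.mem_zu.1 h1 with h' | h'
      · exact h'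
      · exfalso
        refine hgu ?_
        have e2 : z = (g * D.inv2 * g⁻¹)⁻¹ := by rw [e1, h]
        rw [h'] at e2
        rw [← inv_inv (g * D.inv2 * g⁻¹), ← e2]
        exact inv_eq_of_mul_eq_one_right D.uu
  have hcross' : ∀ a ∈ T, ∀ b ∈ T, Commute (c a) (g⁻¹ * c b * g) := by
    intro a ha b hb
    have := congrArg (fun v => g⁻¹ * v * g) (hcross b hb a ha).eq
    show c a * (g⁻¹ * c b * g) = g⁻¹ * c b * g * c a
    simpa [mul_assoc] using this.symm
  have hcc : ∀ a ∈ T, ∀ b ∈ T, Commute (c a) (c b) := by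
    intro a ha b hb
    have h := htriple _ (hcT b hb)
    rw [mul_assoc] at h
    rw [eq_inv_of_mul_eq_one_left h]
    exact ((hcross a ha b hb).mul_right (hcross' a ha b hb)).inv_right
  set A0 := closure {v | ∃ a ∈ T, v = c a ∨ v = g * c a * g⁻¹ ∨ v = g⁻¹ * c a * g} with hA0
  have hA0c : ∀ x ∈ A0, ∀ y ∈ A0, Commute x y := by
    have hgen : ∀ x ∈ {v | ∃ a ∈ T, v = c a ∨ v = g * c a * g⁻¹ ∨ v = g⁻¹ * c a * g},
        ∀ y ∈ {v | ∃ a ∈ T, v = c a ∨ v = g * c a * g⁻¹ ∨ v = g⁻¹ * c a * g}, Commute x y := by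
      have hg2 : ∀ b, Commute (g * c b * g⁻¹) (g * c b * g⁻¹) := fun b => Commute.refl _
      have hmapg : ∀ {x y : G}, Commute x y → Commute (g * x * g⁻¹) (g * y * g⁻¹) := fun h =>
        h.map (MulAut.conj g).toMonoidHom
      have hmapg' : ∀ {x y : G}, Commute x y → Commute (g⁻¹ * x * g) (g⁻¹ * y * g) := fun {x y} h => by
        have := h.map (MulAut.conj g⁻¹).toMonoidHom
        simpa using this
      have hopp : ∀ a ∈ T, ∀ b ∈ T, Commute (g * c a * g⁻¹) (g⁻¹ * c b * g) := by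
        intro a ha b hb
        have h := hmapg (hcross a ha b hb)
        have e1 : g * (g * c b * g⁻¹) * g⁻¹ = g⁻¹ * c b * g := by
          calc g * (g * c b * g⁻¹) * g⁻¹ = (g * g) * c b * (g * g)⁻¹ := by group
            _ = g⁻¹ * c b * g := by rw [← hgi, inv_inv]
        rwa [e1] at h
      rintro x ⟨a, ha, rfl | rfl | rfl⟩ y ⟨b, hb, rfl | rfl | rfl⟩
      · exact hcc a ha b hb
      · exact hcross a ha b hb
      · exact hcross' a ha b hb
      · exact (hcross b hb a ha).symm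
      · exact hmapg (hcc a ha b hb)
      · exact hopp a ha b hb
      · exact (hcross' b hb a ha).symm
      · exact (hopp b hb a ha).symm
      · exact hmapg' (hcc a ha b hb)
    intro x hx y hy
    have h1 : A0 ≤ centralizer ({y} : Set G) := (closure_le _).2 fun v hv => by
      have h2 : A0 ≤ centralizer ({v} : Set G) := (closure_le _).2 fun v' hv' =>
        mem_centralizer_singleton_iff.2 (hgen v' hv' v hv).eq
      exact mem_centralizer_singleton_iff.2 (mem_centralizer_singleton_iff.1 (h2 hy)).symm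
    exact mem_centralizer_singleton_iff.1 (h1 hx)
  have hTA0 : ∀ t ∈ T, t ∈ A0 := by
    intro t ht
    have hsurj : Function.Surjective (fun v : T => v⁻¹ * σ (σ v)) := by
      refine Finite.injective_iff_surjective.1 fun a b h => ?_
      have h' : σ (σ (b * a⁻¹)) = b * a⁻¹ := by
        rw [map_mul, map_mul, map_inv, map_inv]
        calc σ (σ b) * (σ (σ a))⁻¹ = b * (b⁻¹ * σ (σ b)) * (σ (σ a))⁻¹ := by group
          _ = b * (a⁻¹ * σ (σ a)) * (σ (σ a))⁻¹ := by rw [← h]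
          _ = b * a⁻¹ := by group
      have h'' := congrArg σ h'
      rw [hσ3] at h''
      have := hTfix _ (b * a⁻¹ : T).2 (congrArg Subtype.val h''.symm)
      exact (mul_inv_eq_one.1 (Subtype.ext this : b * a⁻¹ = 1)).symm
    obtain ⟨⟨a, ha⟩, hv⟩ := hsurj ⟨t, ht⟩
    have hv' : a⁻¹ * (g * (g * a * g⁻¹) * g⁻¹) = t := congrArg Subtype.val hv
    rw [← hv']
    set a' := s0 * a * s0 with ha'
    have hsg : g * s0 * g⁻¹ = g * g * s0 := by
      have h1 : s0 * g⁻¹ * s0⁻¹ = g := by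
        rw [show s0 * g⁻¹ * s0⁻¹ = (s0 * g * s0⁻¹)⁻¹ by group, hs0g, inv_inv]
      rw [mul_assoc g s0, mul_inv_eq_iff_eq_mul.1 h1, ← mul_assoc]
    have e1 : a⁻¹ * (g * (g * a * g⁻¹) * g⁻¹) = c a * (g * c (g⁻¹ * a' * g) * g⁻¹) := by
      have e2 : g * c (g⁻¹ * a' * g) * g⁻¹ = a'⁻¹ * ((g * s0 * g⁻¹) * a' * (g * s0 * g⁻¹)) := by
        show g * ((g⁻¹ * a' * g)⁻¹ * (s0 * (g⁻¹ * a' * g) * s0)) * g⁻¹ = _
        group
      have e3 : g * s0 * g⁻¹ = (g * g * s0)⁻¹ := by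
        rw [← hsg]
        exact (inv_eq_of_mul_eq_one_right (by
          rw [show g * s0 * g⁻¹ * (g * s0 * g⁻¹) = g * (s0 * s0) * g⁻¹ by group, hs0s]; group)).symm
      show _ = a⁻¹ * (s0 * a * s0) * _
      rw [e2]
      have e5 : g * g * s0 * (s0 * a * s0) * (g * g * s0)⁻¹ = g * (g * a * g⁻¹) * g⁻¹ := by
        calc g * g * s0 * (s0 * a * s0) * (g * g * s0)⁻¹ = g * g * (s0 * s0) * a * (g * g)⁻¹ := by group
          _ = g * (g * a * g⁻¹) * g⁻¹ := by rw [hs0s]; group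
      nth_rewrite 2 [e3]
      rw [hsg, ha', e5]
      group
    rw [e1]
    exact A0.mul_mem (subset_closure ⟨a, ha, Or.inl rfl⟩)
      (subset_closure ⟨_, hgT' _ (hs0T a ha), Or.inr (Or.inl rfl)⟩)
  have hTab : ∀ x ∈ T, ∀ y ∈ T, Commute x y := fun x hx y hy => hA0c x (hTA0 x hx) y (hTA0 y hy)
  -- the order is bounded
  have hfixU : ∀ t ∈ T, s0 * t * s0 = t → t ∈ U := by
    intro t ht h
    refine F.centre_sq (hTP ht) (fun x hx => ?_) hV
    rcases hcos0 x hx with h' | h'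
    · exact (hTab x h' t ht).eq
    · rw [show x = s0 * (s0⁻¹ * x) by group]
      have hc : Commute s0 t := by
        show s0 * t = t * s0
        calc s0 * t = s0 * t * (s0 * s0) := by rw [hs0s, mul_one]
          _ = t * s0 := by rw [← mul_assoc, h]
      exact (hc.mul_left (hTab _ h' t ht)).eq
  let φ : T →* G :=
    { toFun := fun t => (t : G) * (s0 * (t : G) * s0)
      map_one' := by simp [hs0s]
      map_mul' := fun x y => by
        have hc := hTab _ (hs0T _ x.2) _ y.2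
        calc ((x * y : T) : G) * (s0 * ((x * y : T) : G) * s0)
            = (x : G) * y * (s0 * (x : G) * (s0 * s0) * y * s0) := by rw [hs0s, mul_one, coe_mul]; group
          _ = (x : G) * ((y : G) * (s0 * x * s0)) * (s0 * y * s0) := by group
          _ = (x : G) * ((s0 * x * s0) * y) * (s0 * y * s0) := by rw [hc.eq]
          _ = _ := by group }
  have hφr : Nat.card φ.range ≤ 2 := by
    refine (card_le_of_le (show φ.range ≤ U from ?_)).trans (le_of_eq (by rw [hU, Nat.card_zpowers, D.u_ord]))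
    rintro _ ⟨t, rfl⟩
    refine hfixU _ (mul_mem t.2 (hs0T _ t.2)) ?_
    calc s0 * ((t : G) * (s0 * (t : G) * s0)) * s0 = (s0 * t * s0) * t * (s0 * s0) := by group
      _ = (t : G) * (s0 * t * s0) := by rw [hs0s, mul_one, (hTab _ (hs0T _ t.2) _ t.2).eq]
  have hφk : Nat.card φ.ker * Nat.card φ.ker ≤ Nat.card T := by
    rw [← Nat.card_prod]
    refine Nat.card_le_card_of_injective
      (fun p => ⟨((p.1 : T) : G) * (g * ((p.2 : T) : G) * g⁻¹), mul_mem (p.1 : T).2 (hgT _ (p.2 : T).2)⟩)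
      fun p q h => ?_
    have h' : ((p.1 : T) : G) * (g * ((p.2 : T) : G) * g⁻¹) = ((q.1 : T) : G) * (g * ((q.2 : T) : G) * g⁻¹) :=
      congrArg Subtype.val h
    set x := ((q.1⁻¹ * p.1 : φ.ker) : T) with hx
    have hx1 : (x : G) * (s0 * x * s0) = 1 := (q.1⁻¹ * p.1 : φ.ker).2
    have hxy : (x : G) = g * (((q.2 * p.2⁻¹ : φ.ker) : T) : G) * g⁻¹ := by
      show ((q.1 : T) : G)⁻¹ * (p.1 : T) = g * (((q.2 : T) : G) * ((p.2 : T) : G)⁻¹) * g⁻¹
      calc ((q.1 : T) : G)⁻¹ * (p.1 : T)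
          = ((q.1 : T) : G)⁻¹ * (((p.1 : T) : G) * (g * ((p.2 : T) : G) * g⁻¹)) * (g * ((p.2 : T) : G) * g⁻¹)⁻¹ := by
            group
        _ = _ := by rw [h']; group
    have hy1 : (((q.2 * p.2⁻¹ : φ.ker) : T) : G) * (s0 * ((q.2 * p.2⁻¹ : φ.ker) : T) * s0) = 1 :=
      (q.2 * p.2⁻¹ : φ.ker).2
    set y := (((q.2 * p.2⁻¹ : φ.ker) : T) : G) with hy
    have e1 : s0 * (x : G) * s0 = (x : G)⁻¹ := eq_inv_of_mul_eq_one_right hx1
    have e2 : s0 * y * s0 = y⁻¹ := eq_inv_of_mul_eq_one_right hy1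
    -- inverted by two involutions means fixed by their product
    have hxT : (x : G) ∈ T := x.2
    have hfixg : g * (x : G) * g⁻¹ = x := by
      have e3 : g * g * (x : G) * (g * g)⁻¹ = x := by
        have hsg : g * s0 * g⁻¹ = g * g * s0 := by
          have h1 : s0 * g⁻¹ * s0⁻¹ = g := by
            rw [show s0 * g⁻¹ * s0⁻¹ = (s0 * g * s0⁻¹)⁻¹ by group, hs0g, inv_inv]
          rw [mul_assoc g s0, mul_inv_eq_iff_eq_mul.1 h1, ← mul_assoc]
        have e4 : (g * s0 * g⁻¹) * (x : G) * (g * s0 * g⁻¹) = (x : G)⁻¹ := by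
          rw [hxy]
          calc g * s0 * g⁻¹ * (g * y * g⁻¹) * (g * s0 * g⁻¹) = g * (s0 * y * s0) * g⁻¹ := by group
            _ = (g * y * g⁻¹)⁻¹ := by rw [e2]; group
        have e5 : g * s0 * g⁻¹ = (g * g * s0)⁻¹ := by
          rw [← hsg]
          exact (inv_eq_of_mul_eq_one_right (by
            rw [show g * s0 * g⁻¹ * (g * s0 * g⁻¹) = g * (s0 * s0) * g⁻¹ by group, hs0s]; group)).symm
        nth_rewrite 2 [e5] at e4
        rw [hsg] at e4
        have : g * g * (s0 * (x : G) * s0) * (g * g)⁻¹ = (x : G)⁻¹ := by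
          rw [← e4]
          have h0 : (g * g * s0)⁻¹ = s0 * (g * g)⁻¹ := by rw [mul_inv_rev, hs0i]
          rw [h0]; group
        rw [e1] at this
        have := congrArg (fun v => v⁻¹) this
        simpa [mul_assoc] using this
      rw [← hgi, inv_inv] at e3
      calc g * (x : G) * g⁻¹ = g * (g⁻¹ * x * g) * g⁻¹ := by rw [e3]
        _ = x := by group
    have hxone : (x : G) = 1 := hTfix _ hxT hfixg
    refine Prod.ext ?_ ?_
    · have : q.1⁻¹ * p.1 = 1 := Subtype.ext (Subtype.ext hxone)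
      exact (inv_mul_eq_one.1 this).symm
    · rw [hxone] at hxy
      have hy0 : y = 1 := conj_eq_one_iff.1 hxy.symm
      have : q.2 * p.2⁻¹ = 1 := Subtype.ext (Subtype.ext hy0)
      exact (mul_inv_eq_one.1 this).symm
  have hT4 : Nat.card T ≤ 4 := by
    have h := φ.ker.card_mul_index
    rw [index_ker] at h
    have h1 : Nat.card T ≤ Nat.card φ.ker * 2 := h ▸ Nat.mul_le_mul_left _ hφr
    nlinarith
  have hTset : ∀ t ∈ T, t = 1 ∨ t = D.inv2 ∨ t = e ∨ t = e * D.inv2 := by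
    have hsub : ({1, D.inv2, e, e * D.inv2} : Set G) ⊆ (T : Set G) := by
      rintro v (rfl | rfl | rfl | rfl)
      · exact one_mem _
      · exact huT
      · exact heT
      · exact mul_mem heT huT
    have h4 : ({1, D.inv2, e, e * D.inv2} : Set G).ncard = 4 := by
      have hne : e * D.inv2 ≠ 1 := fun h => heu ((eq_inv_of_mul_eq_one_left h).trans (inv_eq_of_mul_eq_one_right D.uu))
      rw [Set.ncard_insert_of_notMem, Set.ncard_insert_of_notMem, Set.ncard_pair]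
      · exact fun h => D.u_ne (mul_eq_left.1 h.symm)
      · rintro (h | h)
        · exact heu h.symm
        · exact he1 (mul_eq_right.1 (show e * D.inv2 = D.inv2 from h.symm))
      · rintro (h | h | h)
        · exact D.u_ne h.symm
        · exact he1 h.symm
        · exact hne h.symm
    have heq := Set.eq_of_subset_of_ncard_le hsub (by rw [h4, ← Nat.card_coe_set_eq]; exact hT4) (Set.toFinite _)
    intro t ht
    have : t ∈ ({1, D.inv2, e, e * D.inv2} : Set G) := heq ▸ ht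
    simpa using this
  set f := D.el3 * e * D.el3⁻¹ with hf
  have hwU : ∀ z ∈ U, D.el3 * z * D.el3⁻¹ = z := fun z hz => by
    rcases D.mem_zu.1 hz with rfl | rfl
    · group
    · rw [D.mem_C.1 D.w_C, mul_inv_cancel_right]
  have hfP : f ∈ F.P := F.conj_P D.w_C heP
  have hnf : ∀ v ∈ F.P, v ∉ U → v⁻¹ * (D.el3 * v * D.el3⁻¹) ∉ U := fun v hv hvU h =>
    hvU (F.fixed_quot_P F.zu_le (mem_zpowers _) (D.C_le_normalizer D.w_C) hv h)
  have hfe : f ∉ T := by
    intro h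
    rcases hTset f h with h' | h' | h' | h'
    · exact he1 (conj_eq_one_iff.1 h')
    · refine heu ?_
      calc e = D.el3⁻¹ * f * D.el3 := by rw [hf]; group
        _ = D.inv2 := by rw [h', mul_assoc, D.comm_uw, inv_mul_cancel_left]
    · exact hnf e heP heU (by rw [← hf, h', inv_mul_cancel]; exact one_mem _)
    · exact hnf e heP heU (by rw [← hf, h', inv_mul_cancel_left]; exact mem_zpowers _)
  have hffe : f * e * f⁻¹ = e * D.inv2 := (hconj f hfP).resolve_left fun h => hfe (hmemT hfP h)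
  have hfU : f ∉ U := fun h => hfe ((D.mem_zu.1 h).elim (fun h' => h' ▸ one_mem _) (fun h' => h' ▸ huT))
  have hf2 : f * f = 1 := by
    rw [hf, show D.el3 * e * D.el3⁻¹ * (D.el3 * e * D.el3⁻¹) = D.el3 * (e * e) * D.el3⁻¹ by group, he2]; group
  set f2 := D.el3 * f * D.el3⁻¹ with hf2def
  have hf2P : f2 ∈ F.P := F.conj_P D.w_C hfP
  have hf2e : f2 ∉ T := by
    intro h
    have e4 : D.el3 * f2 * D.el3⁻¹ = e := by
      have hw3 : D.el3 * D.el3 * D.el3 = 1 := by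
        rw [← pow_two, ← pow_succ, show 2 + 1 = orderOf D.el3 from D.w_ord.symm]; exact pow_orderOf_eq_one _
      calc D.el3 * f2 * D.el3⁻¹ = D.el3 * D.el3 * D.el3 * e * (D.el3 * D.el3 * D.el3)⁻¹ := by
            rw [hf2def, hf]; group
        _ = e := by rw [hw3]; group
    have key : ∀ z ∈ U, f2 = e * z → False := fun z hz h' => by
      refine hnf f2 hf2P (fun hh => heU ?_) ?_
      · rw [← e4, hwU _ hh]; exact hh
      · rw [e4, h', mul_inv_rev, mul_assoc, inv_mul_cancel, mul_one]; exact inv_mem hz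
    rcases hTset f2 h with h' | h' | h' | h'
    · exact he1 (by rw [← e4, h']; group)
    · exact heu (by rw [← e4, h', hwU _ (mem_zpowers _)])
    · exact key 1 (one_mem _) (by rw [h', mul_one])
    · exact key D.inv2 (mem_zpowers _) h'
  have hl : f⁻¹ * f2 ∈ T := by
    refine hmemT (mul_mem (inv_mem hfP) hf2P) ?_
    have h2 : f2 * e * f2⁻¹ = e * D.inv2 := (hconj f2 hf2P).resolve_left fun h => hf2e (hmemT hf2P h)
    calc f⁻¹ * f2 * e * (f⁻¹ * f2)⁻¹ = f⁻¹ * (f2 * e * f2⁻¹) * f := by group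
      _ = e := by rw [h2, ← hffe]; group
  have hff2 : f2 = f * (f⁻¹ * f2) := by group
  set l := f⁻¹ * f2 with hldef
  have hl2 : (f * l) * (f * l) = 1 := by
    rw [← hff2, hf2def, show D.el3 * f * D.el3⁻¹ * (D.el3 * f * D.el3⁻¹) = D.el3 * (f * f) * D.el3⁻¹ by group, hf2]
    group
  have hfi : f⁻¹ = f := inv_eq_of_mul_eq_one_right hf2
  rcases hTset l hl with h | h | h | h
  · exact hnf f hfP hfU (by rw [← hf2def, ← hldef, h]; exact one_mem _)
  · exact hnf f hfP hfU (by rw [← hf2def, ← hldef, h]; exact mem_zpowers _)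
  · rw [h] at hl2
    refine D.u_ne (mul_eq_left.1 (show e * D.inv2 = e from ?_))
    calc e * D.inv2 = f * e * f⁻¹ := hffe.symm
      _ = f * e * (f * e) * e⁻¹ := by rw [hfi]; group
      _ = e := by rw [hl2, one_mul]; exact inv_eq_of_mul_eq_one_right he2
  · rw [h] at hl2
    have hfu : Commute f D.inv2 := F.u_central_P hfP
    have hl3 : f * e * (f * e) = 1 := by
      calc f * e * (f * e) = f * e * (f * e) * (D.inv2 * D.inv2) := by rw [D.uu, mul_one]
        _ = f * (e * D.inv2) * (f * (e * D.inv2)) := by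
          rw [show f * (e * D.inv2) * (f * (e * D.inv2)) = f * e * (D.inv2 * (f * e)) * D.inv2 by group,
            (hfu.symm.mul_right hecu.symm).eq]
          group
        _ = 1 := hl2
    refine D.u_ne (mul_eq_left.1 (show e * D.inv2 = e from ?_))
    calc e * D.inv2 = f * e * f⁻¹ := hffe.symm
      _ = f * e * (f * e) * e⁻¹ := by rw [hfi]; group
      _ = e := by rw [hl3, one_mul]; exact inv_eq_of_mul_eq_one_right he2

end ThreeCtx

end Cfsg.Agent.Char.OrderSix
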