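import Cfsg.Agent.Lib.Char.OrderSix.ThreeA
import Cfsg.Agent.S3331
import Cfsg.Agent.S1545

/-!
# Index three: the Sylow subgroup is elementary abelian of order eight
-/

set_option autoImplicit false
set_option linter.unusedSectionVars false
set_option linter.style.haveILetI false

open Cfsg Subgroup
open scoped Pointwise

namespace Cfsg.Agent.Char.OrderSix

universe u
variable {G : Type u} [Group G] [Finite G]

namespace ThreeCtx

variable {D : Ctx G} (F : ThreeCtx D)

/-- a subgroup of the centraliser of order prime to three lies in the nilpotent part -/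
theorem le_N {K : Subgroup G} (hK : K ≤ D.C) (h3 : ¬ 3 ∣ Nat.card K) : K ≤ F.N := by
  intro x hx
  set N' := F.N.subgroupOf D.C
  haveI : N'.Normal := (normal_subgroupOf_iff_le_normalizer F.hNC).2 F.hnorm
  have hq : Nat.card (D.C ⧸ N') = 3 := by
    have h := N'.card_mul_index
    rw [Nat.card_congr (subgroupOfEquivOfLe F.hNC).toEquiv, F.hidx, mul_comm 3] at h
    exact Nat.eq_of_mul_eq_mul_left Nat.card_pos h
  have h1 : orderOf (QuotientGroup.mk' N' ⟨x, hK hx⟩) ∣ 3 := hq ▸ orderOf_dvd_natCard _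
  have h2 : orderOf (QuotientGroup.mk' N' ⟨x, hK hx⟩) ∣ Nat.card K := by
    refine (orderOf_map_dvd _ _).trans ?_
    rw [← orderOf_coe]
    exact (Subgroup.orderOf_mk x hx).symm ▸ orderOf_dvd_natCard (⟨x, hx⟩ : K)
  exact (QuotientGroup.eq_one_iff (N := N') _).1 (orderOf_eq_one_iff.1
    (Nat.eq_one_of_dvd_coprimes ((Nat.Prime.coprime_iff_not_dvd Nat.prime_three).2 h3) h1 h2))

theorem sup_parts : F.P ⊔ F.W = F.N := by
  refine eq_of_le_of_card_ge (sup_le F.P_le F.W_le) ?_
  have hb : F.P ⊓ F.W = ⊥ := (eq_bot_iff).2 fun x hx => by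
    obtain ⟨-, k, hk⟩ := (F.hP x).1 hx.1
    have ho := ((F.hW x).1 hx.2).2
    exact mem_bot.2 (orderOf_eq_one_iff.1 (Nat.eq_one_of_dvd_coprimes ((Nat.coprime_two_left.2 ho).pow_left k)
      (orderOf_dvd_of_pow_eq_one hk) dvd_rfl))
  have h := Cfsg.Agent.Solv.card_sup_mul_card_inf' F.P F.W (F.W_le_C.trans F.C_le_normalizer_P)
  rw [hb, card_bot, mul_one] at h
  rw [h, F.hcard]

/-- the coset count of the centraliser -/
theorem C_cases {x : G} (hx : x ∈ D.C) : ∃ n ∈ F.N, ∃ i : ℕ, x = n * D.el3 ^ i := by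
  have hwn : zpowers D.el3 ≤ normalizer (F.N : Set G) := zpowers_le.2 (F.hnorm D.w_C)
  have hb : F.N ⊓ zpowers D.el3 = ⊥ := (disjoint_of_coprime_natCard (by
    rw [Nat.card_zpowers, D.w_ord]; exact ((Nat.Prime.coprime_iff_not_dvd Nat.prime_three).2 F.h3).symm)).eq_bot
  have heq : F.N ⊔ zpowers D.el3 = D.C := by
    refine eq_of_le_of_card_ge (sup_le F.hNC (zpowers_le.2 D.w_C)) ?_
    have h := Cfsg.Agent.Solv.card_sup_mul_card_inf' F.N (zpowers D.el3) hwn
    rw [hb, card_bot, mul_one, Nat.card_zpowers, D.w_ord] at h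
    rw [h, F.hidx, mul_comm]
  have hmem : x ∈ (F.N : Set G) * (zpowers D.el3 : Set G) := by
    rw [← coe_mul_of_right_le_normalizer_left F.N (zpowers D.el3) hwn, heq]; exact hx
  obtain ⟨n, hn, g, hg, rfl⟩ := hmem
  obtain ⟨i, hi⟩ := (mem_powers_iff_mem_zpowers (x := D.el3)).2 hg
  exact ⟨n, hn, i, by rw [← hi]⟩

/-- The Sylow subgroup is elementary of order eight, and its normaliser moves the involution everywhere. -/
theorem elementary_eight {v : G} (hvP : v ∈ F.P) (hvc : ∀ x ∈ F.P, x * v = v * x) (hv2 : v * v = 1)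
    (hvU : v ∉ zpowers D.inv2) :
    Nat.card F.P = 8 ∧ (∀ x ∈ F.P, x * x = 1) ∧
      ∀ x ∈ F.P, x ≠ 1 → ∃ n ∈ normalizer (F.P : Set G), n * D.inv2 * n⁻¹ = x := by
  classical
  haveI : Fact (Nat.Prime 2) := ⟨Nat.prime_two⟩
  haveI : Fact (Nat.Prime 3) := ⟨Nat.prime_three⟩
  set U := zpowers D.inv2 with hU
  let V : Subgroup G :=
    { carrier := {z | z ∈ F.P ∧ (∀ x ∈ F.P, x * z = z * x) ∧ z * z = 1}
      one_mem' := ⟨one_mem _, fun x _ => by simp, one_mul 1⟩
      mul_mem' := fun {a b} ha hb => ⟨mul_mem ha.1 hb.1,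
        fun x hx => ((show Commute x a from ha.2.1 x hx).mul_right (hb.2.1 x hx)).eq, by
        rw [(show Commute b a from ha.2.1 b hb.1).mul_mul_mul_comm, ha.2.2, hb.2.2, one_mul]⟩
      inv_mem' := fun {a} ha => ⟨inv_mem ha.1, fun x hx => ((show Commute x a from ha.2.1 x hx).inv_right).eq,
        by rw [← mul_inv_rev, ha.2.2, inv_one]⟩ }
  have hVP : V ≤ F.P := fun z hz => hz.1
  have huV : D.inv2 ∈ V := ⟨F.u_P, fun x hx => F.u_central_P hx, D.uu⟩
  have hvV : v ∈ V := ⟨hvP, hvc, hv2⟩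
  set M := normalizer (F.P : Set G) with hM
  have hVn : ∀ m ∈ M, ∀ z ∈ V, m * z * m⁻¹ ∈ V := by
    intro m hm z hz
    refine ⟨(mem_normalizer_iff.1 hm z).1 hz.1, fun x hx => ?_, by
      rw [show m * z * m⁻¹ * (m * z * m⁻¹) = m * (z * z) * m⁻¹ by group, hz.2.2]; group⟩
    have hx' := (mem_normalizer_iff.1 (M.inv_mem hm) x).1 hx
    have := congrArg (fun t => m * t * m⁻¹) (hz.2.1 _ hx')
    simpa [mul_assoc] using this
  have hMV : M ≤ normalizer (V : Set G) := fun m hm => mem_normalizer_iff.2 fun z =>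
    ⟨fun hz => hVn m hm z hz, fun hz => by simpa [mul_assoc] using hVn _ (M.inv_mem hm) _ hz⟩
  have hCM : D.C ≤ M := F.C_le_normalizer_P
  -- transitivity
  have htrans : ∀ z ∈ V, z ≠ 1 → ∃ n ∈ M, n * D.inv2 * n⁻¹ = z := by
    intro z hz hz1
    obtain ⟨g, hg⟩ := D.conj_u (orderOf_eq_prime (by rw [pow_two]; exact hz.2.2) hz1)
    refine ⟨g, ?_, hg⟩
    have hle : F.P.map (MulAut.conj g⁻¹).toMonoidHom ≤ D.C := by
      rintro _ ⟨x, hx, rfl⟩
      have hc := hz.2.1 x hx
      rw [← hg] at hc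
      have h := congrArg (fun t => g⁻¹ * t * g) hc
      show g⁻¹ * x * g⁻¹⁻¹ ∈ D.C
      rw [D.mem_C]
      simpa [mul_assoc] using h
    have heq : F.P.map (MulAut.conj g⁻¹).toMonoidHom = F.P :=
      eq_of_le_of_card_ge (F.two_le_P (F.isPGroup.map _) hle)
        (le_of_eq (Nat.card_congr (F.P.equivMapOfInjective _ (MulAut.conj g⁻¹).injective).toEquiv))
    have hgi : g⁻¹ ∈ M := mem_normalizer_iff.2 fun x => by
      constructor
      · intro hx
        have : g⁻¹ * x * g⁻¹⁻¹ ∈ F.P.map (MulAut.conj g⁻¹).toMonoidHom := ⟨x, hx, rfl⟩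
        rwa [heq] at this
      · intro hx
        rw [← heq] at hx
        obtain ⟨y, hy, hxy⟩ := hx
        have hxy' : g⁻¹ * y * g⁻¹⁻¹ = g⁻¹ * x * g⁻¹⁻¹ := hxy
        rwa [← mul_left_cancel (mul_right_cancel hxy')]
    simpa using M.inv_mem hgi
  -- the kernel of the action
  set K := M ⊓ centralizer (V : Set G) with hK
  have hKC : K ≤ D.C := fun x hx => D.mem_C.2 (mem_centralizer_iff.1 hx.2 _ huV).symm
  have hK3 : ¬ 3 ∣ Nat.card K := fun h => by
    obtain ⟨x, hx⟩ := exists_prime_orderOf_dvd_card' 3 h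
    exact hvU (F.three_fix (hKC x.2) (by rw [orderOf_coe, hx]) hvP (mem_centralizer_iff.1 x.2.2 v hvV).symm)
  have hKN : K = F.N := by
    refine le_antisymm (F.le_N hKC hK3) ?_
    rw [← F.sup_parts]
    refine sup_le (fun x hx => ⟨le_normalizer hx, mem_centralizer_iff.2 fun z hz => (hz.2.1 x hx).symm⟩)
      (fun x hx => ⟨hCM (F.W_le_C hx), mem_centralizer_iff.2 fun z hz => F.hcomm z hz.1 x hx⟩)
  set K' := K.subgroupOf M with hK'
  haveI hK'n : K'.Normal := (normal_subgroupOf_iff_le_normalizer inf_le_left).2 fun m hm => by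
    refine mem_normalizer_iff.2 fun x => ?_
    have key : ∀ m ∈ M, ∀ x ∈ K, m * x * m⁻¹ ∈ K := fun m hm x hx => by
      refine ⟨M.mul_mem (M.mul_mem hm hx.1) (M.inv_mem hm), mem_centralizer_iff.2 fun z hz => ?_⟩
      have h := congrArg (fun t => m * t * m⁻¹) (mem_centralizer_iff.1 hx.2 _ (hVn _ (M.inv_mem hm) z hz))
      simpa [mul_assoc] using h
    refine ⟨key m hm x, fun h => ?_⟩
    have h' := key _ (M.inv_mem hm) _ h
    rwa [show m⁻¹ * (m * x * m⁻¹) * m⁻¹⁻¹ = x by group] at h'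
  set π := QuotientGroup.mk' K'
  have hmemK : ∀ z : M, π z = 1 ↔ (z : G) ∈ K := fun z => QuotientGroup.eq_one_iff z
  -- the orbit count
  obtain ⟨a, ha⟩ := IsPGroup.iff_card.1 (F.isPGroup.to_le hVP)
  have hV4 : 5 ≤ Nat.card V := by
    set x := D.el3 * v * D.el3⁻¹ with hx
    have hnU : ∀ z ∈ U, x ≠ v * z := fun z hz h => hvU (F.fixed_quot_P F.zu_le (mem_zpowers _)
      (D.C_le_normalizer D.w_C) hvP (by rw [← hx, h, inv_mul_cancel_left]; exact hz))
    have hv1 : v ≠ 1 := fun h => hvU (h ▸ one_mem _)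
    have hvu : v ≠ D.inv2 := fun h => hvU (h ▸ mem_zpowers _)
    have hvu1 : v * D.inv2 ≠ 1 := fun h => hvu ((eq_inv_of_mul_eq_one_left h).trans (inv_eq_of_mul_eq_one_right D.uu))
    have hsub : ({1, D.inv2, v, v * D.inv2, x} : Set G) ⊆ (V : Set G) := by
      rintro z (rfl | rfl | rfl | rfl | rfl)
      · exact one_mem _
      · exact huV
      · exact hvV
      · exact mul_mem hvV huV
      · exact hVn _ (hCM D.w_C) v hvV
    have h5 : ({1, D.inv2, v, v * D.inv2, x} : Set G).ncard = 5 := by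
      rw [Set.ncard_insert_of_notMem, Set.ncard_insert_of_notMem, Set.ncard_insert_of_notMem, Set.ncard_pair]
      · exact fun h => hnU D.inv2 (mem_zpowers _) h.symm
      · rintro (h | h)
        · exact D.u_ne (mul_eq_left.1 h.symm)
        · exact hnU 1 (one_mem _) (by rw [mul_one]; exact Eq.symm h)
      · rintro (h | h | h)
        · exact hvu h.symm
        · exact hv1 (mul_eq_right.1 (show v * D.inv2 = D.inv2 from h.symm))
        · refine hvu ?_
          calc v = D.el3⁻¹ * x * D.el3 := by rw [hx]; group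
            _ = D.inv2 := by
              rw [show x = D.inv2 from Eq.symm h, mul_assoc, D.comm_uw, inv_mul_cancel_left]
      · rintro (h | h | h | h)
        · exact D.u_ne h.symm
        · exact hv1 h.symm
        · exact hvu1 h.symm
        · exact hv1 (conj_eq_one_iff.1 (show x = 1 from Eq.symm h))
    have := Set.ncard_le_ncard hsub (Set.toFinite _)
    rwa [h5, ← Nat.card_coe_set_eq] at this
  have ha3 : 3 ≤ a := by
    by_contra hlt
    rw [ha] at hV4
    have : 2 ^ a ≤ 2 ^ 2 := Nat.pow_le_pow_right two_pos (by omega)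
    omega
  letI : MulAction M G := MulAction.compHom G (ConjAct.toConjAct.toMonoidHom.comp M.subtype)
  have hsmul : ∀ (m : M) (z : G), m • z = (m : G) * z * (m : G)⁻¹ := fun m z => rfl
  have horb : MulAction.orbit M D.inv2 = (V : Set G) \ {1} := by
    ext z
    constructor
    · rintro ⟨m, rfl⟩
      refine ⟨hVn m m.2 _ huV, fun h => D.u_ne ((conj_eq_one_iff (a := (m : G))).1 ((hsmul m D.inv2).symm.trans h))⟩
    · rintro ⟨hz, hz1⟩
      obtain ⟨n, hn, hnz⟩ := htrans z hz hz1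
      exact ⟨⟨n, hn⟩, hnz⟩
  have hMcard : Nat.card M = (2 ^ a - 1) * Nat.card D.C := by
    rw [← Nat.card_congr (MulAction.orbitProdStabilizerEquivGroup M D.inv2), Nat.card_prod, horb,
      Nat.card_coe_set_eq, Set.ncard_diff_singleton_of_mem (SetLike.mem_coe.2 (one_mem V)), ← Nat.card_coe_set_eq,
      show Nat.card ((V : Set G) : Set G) = 2 ^ a from ha]
    congr 1
    refine Nat.card_congr
      ⟨fun m => ⟨((m : M) : G), D.mem_C.2 (mul_inv_eq_iff_eq_mul.1 m.2)⟩,
        fun c => ⟨⟨c, hCM c.2⟩, show (c : G) * D.inv2 * (c : G)⁻¹ = D.inv2 by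
          rw [D.mem_C.1 c.2, mul_inv_cancel_right]⟩, fun m => rfl, fun c => rfl⟩
  set r := 2 ^ a - 1 with hr
  have hrodd : Odd r := by
    rw [hr, Nat.odd_iff]
    have : 2 ∣ 2 ^ a := dvd_pow_self 2 (by omega)
    have : 1 ≤ 2 ^ a := Nat.one_le_two_pow
    omega
  have hK'card : Nat.card K' = Nat.card F.N :=
    (Nat.card_congr (subgroupOfEquivOfLe inf_le_left).toEquiv).trans (congrArg (fun S : Subgroup G => Nat.card S) hKN)
  have hQ : Nat.card (M ⧸ K') = 3 * r := by
    have h := card_eq_card_quotient_mul_card_subgroup K'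
    rw [hK'card, hMcard, F.hidx, ← mul_assoc, mul_comm r 3] at h
    exact (Nat.eq_of_mul_eq_mul_right Nat.card_pos h).symm
  set w' : M := ⟨D.el3, hCM D.w_C⟩ with hw'
  have hwK : D.el3 ∉ K := fun h => hK3 (by
    have := orderOf_dvd_natCard (⟨D.el3, h⟩ : K)
    rwa [Subgroup.orderOf_mk, D.w_ord] at this)
  have hπw : orderOf (π w') = 3 := orderOf_eq_prime
    (by rw [← map_pow, show w' ^ 3 = 1 from Subtype.ext (D.w_ord ▸ pow_orderOf_eq_one D.el3), map_one])
    (fun h => hwK ((hmemK w').1 h))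
  have hX : Nat.card (zpowers (π w')) = 3 := by rw [Nat.card_zpowers, hπw]
  have himC : ∀ c : M, (c : G) ∈ D.C → π c ∈ zpowers (π w') := by
    intro c hc
    obtain ⟨n, hn, i, hi⟩ := F.C_cases hc
    have hnK : n ∈ K := hKN ▸ hn
    rw [show c = ⟨n, hnK.1⟩ * w' ^ i from Subtype.ext (by simp [hi, hw']), map_mul, (hmemK ⟨n, _⟩).2 hnK, one_mul,
      map_pow]
    exact pow_mem (mem_zpowers _) i
  have hcomm_C : ∀ c : M, Commute (π c) (π w') → (c : G) ∈ D.C := by
    intro c hc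
    have hk : (c⁻¹ * w' * c * w'⁻¹ : M) ∈ K' := by
      rw [← QuotientGroup.eq_one_iff]
      show π (c⁻¹ * w' * c * w'⁻¹) = 1
      rw [map_mul, map_mul, map_mul, map_inv, map_inv, mul_assoc (π c)⁻¹, ← hc.eq, inv_mul_cancel_left,
        mul_inv_cancel]
    have hkC : (c : G)⁻¹ * D.el3 * c * D.el3⁻¹ ∈ D.C := hKC (by simpa [hw'] using mem_subgroupOf.1 hk)
    have h1 : (c : G)⁻¹ * D.el3 * c ∈ D.C := by simpa using mul_mem hkC D.w_C
    have hy : (c : G) * D.inv2 * (c : G)⁻¹ ∈ V := hVn _ c.2 _ huV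
    have hfix : Commute ((c : G) * D.inv2 * (c : G)⁻¹) D.el3 := by
      have := congrArg (fun t => (c : G) * t * (c : G)⁻¹) (D.mem_C.1 h1).symm
      show (c : G) * D.inv2 * (c : G)⁻¹ * D.el3 = D.el3 * ((c : G) * D.inv2 * (c : G)⁻¹)
      simpa [mul_assoc] using this
    rcases F.fix_P hy.1 hfix.eq with e | e
    · exact absurd (conj_eq_one_iff.1 e) D.u_ne
    · exact D.mem_C.2 (mul_inv_eq_iff_eq_mul.1 e)
  have hCX : centralizer ((zpowers (π w') : Subgroup (M ⧸ K')) : Set (M ⧸ K')) = zpowers (π w') := by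
    refine le_antisymm (fun q hq => ?_) (fun q hq => mem_centralizer_iff.2 fun t ht => ?_)
    · obtain ⟨c, rfl⟩ := QuotientGroup.mk'_surjective K' q
      exact himC c (hcomm_C c (mem_centralizer_iff.1 hq _ (mem_zpowers _)).symm)
    · obtain ⟨i, rfl⟩ := mem_zpowers_iff.1 ht
      obtain ⟨j, rfl⟩ := mem_zpowers_iff.1 hq
      exact (Commute.zpow_zpow_self _ i j).eq
  have hnot2 : ¬ 2 ∣ Nat.card (M ⧸ K') := by
    rw [hQ, Nat.two_dvd_ne_zero, ← Nat.odd_iff]; exact Odd.mul (by decide) hrodd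
  obtain ⟨N', hN', hcop, hN'i⟩ : ∃ N' : Subgroup (M ⧸ K'), N'.Normal ∧ (Nat.card N').Coprime 3 ∧ N'.index = 3 := by
    rcases S3331.result (zpowers (π w')) hX hCX with ⟨N', hN', -, hcop, hq⟩ | ⟨E, hE, -, -, ⟨e⟩⟩ | ⟨⟨e⟩⟩
    · rcases hq with hq | ⟨⟨e⟩⟩
      · exact ⟨N', hN', hcop, hq⟩
      · refine absurd ?_ hnot2
        rw [← N'.card_mul_index, index, Nat.card_congr e.toEquiv, Nat.card_perm, Nat.card_fin]
        exact Dvd.dvd.mul_left (by decide) _
    · refine absurd ?_ hnot2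
      rw [card_eq_card_quotient_mul_card_subgroup E, Nat.card_congr e.toEquiv,
        Nat.card_eq_fintype_card (α := alternatingGroup (Fin 5)),
        show Fintype.card (alternatingGroup (Fin 5)) = 60 from rfl]
      exact Dvd.dvd.mul_right (by norm_num) _
    · refine absurd ?_ hnot2
      have hg : ∃ x : Matrix.ProjectiveSpecialLinearGroup (Fin 2) (ZMod 7), x * x = 1 ∧ x ≠ 1 := by
        have h1 : ∀ s t : Matrix.SpecialLinearGroup (Fin 2) (ZMod 7),
            s * s ∈ center (Matrix.SpecialLinearGroup (Fin 2) (ZMod 7)) → t * s ≠ s * t →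
              ∃ x : Matrix.ProjectiveSpecialLinearGroup (Fin 2) (ZMod 7), x * x = 1 ∧ x ≠ 1 := fun s t hs hst =>
          ⟨QuotientGroup.mk' _ s, by rw [← map_mul]; exact (QuotientGroup.eq_one_iff _).2 hs,
            fun h => hst (mem_center_iff.1 ((QuotientGroup.eq_one_iff _).1 h) t)⟩
        exact h1 ⟨!![0, 1; 6, 0], by decide +kernel⟩ ⟨!![1, 1; 0, 1], by decide +kernel⟩
          (mem_center_iff.2 (by decide +kernel)) (by decide +kernel)
      obtain ⟨x, hx, hx1⟩ := hg
      rw [Nat.card_congr e.toEquiv]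
      refine (dvd_of_eq ?_).trans (orderOf_dvd_natCard x)
      exact (orderOf_eq_prime (p := 2) (by rw [pow_two]; exact hx) hx1).symm
  have hN'card : Nat.card N' = r := by
    have h := N'.card_mul_index
    rw [hN'i, hQ, mul_comm 3 r] at h
    exact Nat.eq_of_mul_eq_mul_right (by norm_num) h
  -- an invariant Sylow subgroup of the preimage
  haveI := hN'
  set Mn := (N'.comap π).map M.subtype with hMn
  have hMncard : Nat.card Mn = r * Nat.card F.N := by
    rw [hMn, Nat.card_congr ((N'.comap π).equivMapOfInjective _ M.subtype_injective).toEquiv.symm]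
    have h := (N'.comap π).card_mul_index
    rw [index_comap_of_surjective _ (QuotientGroup.mk'_surjective K'), hN'i] at h
    have h2 := card_eq_card_quotient_mul_card_subgroup K'
    rw [hQ, hK'card] at h2
    rw [h2] at h
    refine Nat.eq_of_mul_eq_mul_right (show 0 < 3 by norm_num) (h.trans (by ring))
  obtain ⟨q, hq, hqr⟩ := Nat.exists_prime_and_dvd (show r ≠ 1 by
    rw [hr]
    have : 2 ^ 3 ≤ 2 ^ a := Nat.pow_le_pow_right two_pos ha3
    omega)
  haveI : Fact q.Prime := ⟨hq⟩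
  have hq3 : q ≠ 3 := fun h => by
    rw [hN'card] at hcop
    exact Nat.not_coprime_of_dvd_of_dvd (by norm_num) (h ▸ hqr) dvd_rfl hcop
  have hq2 : q ≠ 2 := fun h => by
    rw [Nat.odd_iff] at hrodd; subst h; omega
  have hMn3 : ¬ 3 ∣ Nat.card Mn := by
    rw [hMncard, Nat.prime_three.dvd_mul]
    rintro (h | h)
    · rw [hN'card] at hcop; exact Nat.not_coprime_of_dvd_of_dvd (by norm_num) h dvd_rfl hcop
    · exact F.h3 h
  have hMnM : Mn ≤ M := map_subtype_le _
  have hwMn : zpowers D.el3 ≤ normalizer (Mn : Set G) := by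
    refine zpowers_le.2 (mem_normalizer_iff.2 fun x => ?_)
    have key : ∀ m : M, ∀ x ∈ Mn, (m : G) * x * (m : G)⁻¹ ∈ Mn := by
      rintro m _ ⟨y, hy, rfl⟩
      exact ⟨_, (inferInstance : (N'.comap π).Normal).conj_mem y hy m, rfl⟩
    exact ⟨key w' x, fun h => by simpa [mul_assoc, hw'] using key w'⁻¹ _ h⟩
  obtain ⟨R, hR, hwR⟩ := Cfsg.Agent.Solv.exists_invariant_sylow hwMn
    (by rw [Nat.card_zpowers, D.w_ord]; exact (Nat.Prime.coprime_iff_not_dvd Nat.prime_three).2 hMn3)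
    (Or.inl (Group.isSolvable_of_comm fun a b => Subtype.ext (by
      obtain ⟨i, hi⟩ := mem_zpowers_iff.1 a.2; obtain ⟨j, hj⟩ := mem_zpowers_iff.1 b.2
      show (a : G) * b = b * a
      rw [← hi, ← hj]; exact (Commute.zpow_zpow_self _ i j).eq))) q
  obtain ⟨hRMn, hRcard⟩ := hR
  have hRM : R ≤ M := hRMn.trans hMnM
  have hmeet : ∀ x ∈ Mn, x ∈ D.C → x ∈ F.N := by
    rintro _ ⟨x, hx, rfl⟩ hxC
    obtain ⟨i, hi⟩ := mem_zpowers_iff.1 (himC x hxC)
    have h1 : π x = 1 := by
      refine orderOf_eq_one_iff.1 (Nat.eq_one_of_dvd_coprimes hcop ?_ (hπw ▸ orderOf_dvd_of_mem_zpowers (himC x hxC)))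
      have := orderOf_dvd_natCard (⟨π x, hx⟩ : N')
      rwa [← orderOf_coe] at this
    exact hKN ▸ (hmemK x).1 h1
  -- no fixed points of the Sylow subgroup in the centre
  have hfixV : ∀ z ∈ V, (∀ x ∈ R, x * z = z * x) → z = 1 := by
    intro z hz hzR
    by_contra hz1
    obtain ⟨m, hm, hmz⟩ := htrans z hz hz1
    have hinj : Function.Injective (fun x : R => m⁻¹ * (x : G) * m) := fun a b h =>
      Subtype.ext (mul_left_cancel (mul_right_cancel h))
    have hmem : ∀ x : R, m⁻¹ * (x : G) * m ∈ F.N := by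
      intro x
      refine hmeet _ ?_ (D.mem_C.2 ?_)
      · obtain ⟨y, hy, hyx⟩ := hRMn x.2
        refine ⟨_, (inferInstance : (N'.comap π).Normal).conj_mem y hy ⟨m, hm⟩⁻¹, ?_⟩
        rw [← hyx]; simp
      · have h := hzR x x.2
        rw [← hmz] at h
        have := congrArg (fun t => m⁻¹ * t * m) h
        simpa [mul_assoc] using this
    let Rm : Subgroup G := R.map (MulAut.conj m⁻¹).toMonoidHom
    have hRm : Rm ≤ F.N := by
      rintro _ ⟨x, hx, rfl⟩
      simpa using hmem ⟨x, hx⟩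
    have hd := card_dvd_of_le hRm
    rw [Nat.card_congr (R.equivMapOfInjective _ (MulAut.conj m⁻¹).injective).toEquiv.symm, hRcard, hMncard,
      hq.pow_dvd_iff_le_factorization Nat.card_pos.ne',
      Nat.factorization_mul (by rw [← hN'card]; exact Nat.card_pos.ne') Nat.card_pos.ne', Finsupp.add_apply] at hd
    have : 1 ≤ r.factorization q := hq.factorization_pos_of_dvd (by rw [← hN'card]; exact Nat.card_pos.ne') hqr
    omega
  have hR1 : R ≠ ⊥ := fun h => by
    have hz := hfixV v hvV fun x hx => by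
      rw [h, mem_bot] at hx; subst hx; simp
    exact hvU (hz ▸ one_mem _)
  have hRodd : Odd (Nat.card R) := by
    rw [hRcard]; exact (hq.odd_of_ne_two hq2).pow
  have hfpf : ∀ e ∈ zpowers D.el3, e ≠ 1 → ∀ x ∈ R, e * x = x * e → x = 1 := by
    intro e he he1 x hx hex
    have hxw : x * D.el3 = D.el3 * x := by
      obtain ⟨i, hi⟩ := (mem_powers_iff_mem_zpowers (x := D.el3)).2 he
      have hmem : D.el3 ∈ zpowers e := by
        have hi3 : (orderOf D.el3).Coprime i := by
          rw [D.w_ord]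
          refine (Nat.Prime.coprime_iff_not_dvd Nat.prime_three).2 fun h => he1 ?_
          obtain ⟨k, rfl⟩ := h
          rw [← hi]; show D.el3 ^ (3 * k) = 1
          rw [pow_mul, show D.el3 ^ 3 = 1 from D.w_ord ▸ pow_orderOf_eq_one D.el3, one_pow]
        obtain ⟨j, hj⟩ := exists_pow_eq_self_of_coprime hi3.symm
        rw [← hi]
        exact ⟨j, by simpa using hj⟩
      obtain ⟨j, hj⟩ := mem_zpowers_iff.1 hmem
      rw [← hj]
      exact ((show Commute x e from hex.symm).zpow_right j).eq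
    have hc : Commute (π ⟨x, hRM hx⟩) (π w') := by
      rw [Commute, SemiconjBy, ← map_mul, ← map_mul]; exact congrArg π (Subtype.ext hxw)
    have hxN := hmeet x (hRMn hx) (hcomm_C _ hc)
    refine F.fix_W ((F.hW x).2 ⟨hxN, ?_⟩) hxw
    exact Odd.of_dvd_nat hRodd (by rw [← Subgroup.orderOf_mk x hx]; exact orderOf_dvd_natCard _)
  have hwR' : D.el3 ∈ normalizer (R : Set G) := hwR (mem_zpowers _)
  have hUn : ∀ e ∈ zpowers D.el3, ∀ x ∈ R, e * x * e⁻¹ ∈ R := fun e he x hx =>
    (mem_normalizer_iff.1 (zpowers_le.2 hwR' he) x).1 hx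
  have hsupM : R ⊔ zpowers D.el3 ≤ M := sup_le hRM (zpowers_le.2 (hCM D.w_C))
  have hsupodd : Odd (Nat.card ↥(R ⊔ zpowers D.el3)) := by
    have h := Cfsg.Agent.Solv.card_sup_mul_card_inf' R (zpowers D.el3) (zpowers_le.2 hwR')
    refine Odd.of_dvd_nat (Odd.mul hRodd (show Odd (Nat.card (zpowers D.el3)) by
      rw [Nat.card_zpowers, D.w_ord]; decide)) ⟨_, h.symm⟩
  obtain ⟨b, hb⟩ := IsPGroup.iff_card.1 F.isPGroup
  have hcop' : Nat.Coprime (Nat.card F.P) (Nat.card ↥(R ⊔ zpowers D.el3)) := by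
    rw [hb]; exact (Nat.coprime_two_left.2 hsupodd).pow_left b
  have hUE : R ⊓ zpowers D.el3 = ⊥ := (disjoint_of_coprime_natCard (by
    rw [Nat.card_zpowers, D.w_ord]
    exact ((Nat.Prime.coprime_iff_not_dvd Nat.prime_three).2 fun h => hMn3 (h.trans (card_dvd_of_le hRMn))).symm)).eq_bot
  have hformula := S1545.result R (zpowers D.el3) F.P hR1 (fun h => D.w_ne (zpowers_eq_bot.1 h)) hUE hUn hfpf
    (fun x hx p hp => (mem_normalizer_iff.1 (hsupM hx) p).1 hp)
    (disjoint_of_coprime_natCard hcop').eq_bot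
    (haveI := F.isPGroup.isNilpotent; inferInstance) hcop'
  have hfix1 : F.P ⊓ centralizer ((R ⊔ zpowers D.el3 : Subgroup G) : Set G) = ⊥ := by
    rw [eq_bot_iff]
    rintro x ⟨hxP, hxc⟩
    rcases F.fix_P hxP (mem_centralizer_iff.1 hxc _ (mem_sup_right (mem_zpowers _))).symm with e | e
    · exact e ▸ one_mem _
    · exfalso
      subst e
      exact D.u_ne (hfixV _ huV fun y hy => mem_centralizer_iff.1 hxc y (mem_sup_left hy))
  have hfixw : F.P ⊓ centralizer ((zpowers D.el3 : Subgroup G) : Set G) = U := by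
    ext x
    constructor
    · rintro ⟨hxP, hxc⟩
      exact D.mem_zu.2 (F.fix_P hxP (mem_centralizer_iff.1 hxc _ (mem_zpowers _)).symm)
    · intro hx
      refine ⟨F.zu_le hx, mem_centralizer_iff.2 fun e he => ?_⟩
      obtain ⟨i, rfl⟩ := mem_zpowers_iff.1 he
      rcases D.mem_zu.1 hx with rfl | rfl
      · simp
      · exact ((show Commute D.el3 D.inv2 from D.comm_uw.symm).zpow_left i).eq
  rw [hfix1, hfixw, card_bot, one_pow, one_mul, Nat.card_zpowers D.el3, D.w_ord, hU, Nat.card_zpowers, D.u_ord]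
    at hformula
  set E := F.P ⊓ centralizer (R : Set G) with hE
  have hEV : V ⊓ E = ⊥ := by
    rw [eq_bot_iff]
    rintro z ⟨hzV, -, hzc⟩
    exact mem_bot.2 (hfixV z hzV fun x hx => mem_centralizer_iff.1 hzc x hx)
  have hVn' : E ≤ normalizer (V : Set G) := inf_le_left.trans (le_normalizer.trans hMV)
  have hprod := Cfsg.Agent.Solv.card_sup_mul_card_inf' V E hVn'
  rw [hEV, card_bot, mul_one] at hprod
  have hle : Nat.card ↥(V ⊔ E) ≤ Nat.card F.P := card_le_of_le (sup_le hVP inf_le_left)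
  have hV8 : Nat.card V = 8 := by
    have h8 : 8 ≤ Nat.card V := by
      rw [ha]; exact Nat.pow_le_pow_right two_pos ha3
    rw [hprod, hformula] at hle
    have := Nat.le_of_mul_le_mul_right hle Nat.card_pos
    omega
  have hsup : V ⊔ E = F.P := eq_of_le_of_card_ge (sup_le hVP inf_le_left) (by rw [hprod, hV8, hformula]; exact le_of_eq rfl)
  have hEbot : E = ⊥ := by
    by_contra hne
    have hEn : F.P ≤ normalizer (E : Set G) := by
      rw [← hsup]
      refine sup_le (fun z hz => mem_normalizer_iff.2 fun x => ?_) le_normalizer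
      constructor
      · intro hx
        rw [show z * x * z⁻¹ = x by rw [← hz.2.1 x hx.1, mul_inv_cancel_right]]; exact hx
      · intro hx
        have hxP : x ∈ F.P := by
          have := mul_mem (mul_mem (inv_mem hz.1) hx.1) hz.1
          simpa [mul_assoc] using this
        rwa [← hz.2.1 x hxP, mul_inv_cancel_right] at hx
    obtain ⟨d, hdE, hd1, hdc⟩ := meet_step F.isPGroup (bot_le (a := F.P)) inf_le_left
      (fun x _ => mem_normalizer_iff.2 fun y => by simp) hEn (fun h => hne (le_bot_iff.1 h))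
    have hdcen : ∀ x ∈ F.P, x * d = d * x := fun x hx =>
      mul_inv_eq_iff_eq_mul.1 (mul_inv_eq_one.1 (mem_bot.1 (hdc x hx)))
    obtain ⟨k, hk⟩ := IsPGroup.iff_orderOf.1 F.isPGroup ⟨d, hdE.1⟩
    rw [Subgroup.orderOf_mk] at hk
    have hk0 : k ≠ 0 := by rintro rfl; exact hd1 (mem_bot.2 (orderOf_eq_one_iff.1 (by rw [hk, pow_zero])))
    obtain ⟨k', rfl⟩ := Nat.exists_eq_succ_of_ne_zero hk0
    set z := d ^ 2 ^ k' with hz
    have hz1 : z ≠ 1 := fun h => by
      have := orderOf_dvd_of_pow_eq_one h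
      rw [hk] at this
      have := Nat.le_of_dvd (by positivity) this
      have : 2 ^ k' < 2 ^ (k' + 1) := Nat.pow_lt_pow_right one_lt_two (Nat.lt_succ_self k')
      omega
    have hzV : z ∈ V := ⟨pow_mem hdE.1 _, fun x hx => ((show Commute x d from hdcen x hx).pow_right _).eq, by
      rw [hz, ← pow_add, ← two_mul, ← pow_succ', ← hk, pow_orderOf_eq_one]⟩
    exact hz1 (mem_bot.1 (hEV ▸ (⟨hzV, E.pow_mem hdE _⟩ : z ∈ V ⊓ E)))
  rw [hEbot, sup_bot_eq] at hsup
  exact ⟨hsup ▸ hV8, fun x hx => ((hsup.symm ▸ hx : x ∈ V)).2.2, fun x hx hx1 => htrans x (hsup.symm ▸ hx) hx1⟩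

end ThreeCtx

end Cfsg.Agent.Char.OrderSix
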