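import Cfsg.Agent.Lib.Char.OrderSix.NilBase
import Cfsg.Agent.Lib.Solv.EngelTwo

/-!
# Index three: basic facts
-/

set_option autoImplicit false
set_option linter.unusedSectionVars false
set_option linter.style.haveILetI false

open Cfsg Subgroup

namespace Cfsg.Agent.Char.OrderSix

universe u
variable {G : Type u} [Group G] [Finite G]

/-- A two-group with a fixed point free automorphism of order three has class at most two. -/
theorem class_two {H : Type*} [Group H] [Finite H] (hH : IsPGroup 2 H) (σ : H ≃* H)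
    (h3 : ∀ u, σ (σ (σ u)) = u) (hfix : ∀ u, σ u = u → u = 1) (x y z : H) :
    Commute (x⁻¹ * y⁻¹ * x * y) z := by
  obtain ⟨-, hE⟩ := Cfsg.Agent.Solv.EngelTwo.engel_of_fpf σ h3 hfix
  refine Cfsg.Agent.Solv.EngelTwo.commute_of_rc ?_
  rw [show x⁻¹ * y⁻¹ * x * y = Cfsg.Agent.Solv.EngelTwo.rc x y from rfl]
  set f := Cfsg.Agent.Solv.EngelTwo.rc (Cfsg.Agent.Solv.EngelTwo.rc x y) z
  have h := Cfsg.Agent.Solv.EngelTwo.triple_cube hE x y z
  obtain ⟨k, hk⟩ := IsPGroup.iff_orderOf.1 hH f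
  rw [← orderOf_eq_one_iff]
  have hd := orderOf_dvd_of_pow_eq_one h
  rw [hk] at hd ⊢
  exact Nat.eq_one_of_dvd_coprimes ((by norm_num : Nat.Coprime 2 3).pow_left k) dvd_rfl hd

/-- conjugation on a normalised subgroup -/
def conjAut (H : Subgroup G) (g : G) (hg : g ∈ normalizer (H : Set G)) : H ≃* H where
  toFun x := ⟨g * (x : G) * g⁻¹, (mem_normalizer_iff.1 hg x).1 x.2⟩
  invFun x := ⟨g⁻¹ * (x : G) * g, by
    have := (mem_normalizer_iff.1 (inv_mem hg) x).1 x.2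
    rwa [inv_inv] at this⟩
  left_inv x := Subtype.ext (by simp [mul_assoc])
  right_inv x := Subtype.ext (by simp [mul_assoc])
  map_mul' x y := Subtype.ext (by simp [mul_assoc])

@[simp] theorem conjAut_coe {H : Subgroup G} {g : G} (hg : g ∈ normalizer (H : Set G)) (x : H) :
    ((conjAut H g hg x : H) : G) = g * (x : G) * g⁻¹ := rfl

theorem odd_part_inv {n g : G} (h : n * g * n⁻¹ = g⁻¹) {m : ℕ} (hm : Odd m) :
    n ^ m * g * (n ^ m)⁻¹ = g⁻¹ := by
  have h2 : Commute (n * n) g := by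
    show n * n * g = g * (n * n)
    rw [← mul_inv_eq_iff_eq_mul]
    calc n * n * g * (n * n)⁻¹ = n * (n * g * n⁻¹) * n⁻¹ := by group
      _ = n * g⁻¹ * n⁻¹ := by rw [h]
      _ = (n * g * n⁻¹)⁻¹ := by group
      _ = g := by rw [h, inv_inv]
  obtain ⟨j, rfl⟩ := hm
  rw [pow_succ, pow_mul, pow_two]
  calc (n * n) ^ j * n * g * ((n * n) ^ j * n)⁻¹ = (n * n) ^ j * (n * g * n⁻¹) * ((n * n) ^ j)⁻¹ := by group
    _ = g⁻¹ := by rw [h, ((h2.pow_left j).inv_right).eq, mul_inv_cancel_right]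

/-- The shape of index three. -/
structure ThreeCtx (D : Ctx G) extends NilCtx D where
  hidx : Nat.card D.C = 3 * Nat.card N

namespace ThreeCtx

variable {D : Ctx G} (F : ThreeCtx D)

theorem u_central_P {x : G} (hx : x ∈ F.P) : x * D.inv2 = D.inv2 * x := D.mem_C.1 (F.P_le_C hx)

theorem two_le_P {T : Subgroup G} (hT : IsPGroup 2 T) (hTC : T ≤ D.C) : T ≤ F.P := by
  haveI : Fact (Nat.Prime 2) := ⟨Nat.prime_two⟩
  have hn : T ≤ normalizer (F.P : Set G) := hTC.trans F.C_le_normalizer_P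
  have hp : IsPGroup 2 (T ⊔ F.P : Subgroup G) := hT.to_sup_of_normal_right' F.isPGroup hn
  obtain ⟨k, hk⟩ := IsPGroup.iff_card.1 hp
  have hd : Nat.card (T ⊔ F.P : Subgroup G) ∣ Nat.card F.P * (3 * Nat.card F.W) := by
    rw [mul_left_comm, ← F.hcard, ← F.hidx]
    exact card_dvd_of_le (sup_le hTC F.P_le_C)
  have hd' : Nat.card (T ⊔ F.P : Subgroup G) ∣ Nat.card F.P := by
    refine Nat.Coprime.dvd_of_dvd_mul_right ?_ hd
    rw [hk]
    exact (Nat.coprime_two_left.2 (Odd.mul (by decide) F.hodd)).pow_left k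
  exact le_sup_left.trans
    (eq_of_le_of_card_ge (le_sup_right : F.P ≤ T ⊔ F.P) (Nat.le_of_dvd Nat.card_pos hd')).ge

theorem mem_P_of_two {x : G} (hx : x ∈ D.C) {k : ℕ} (hk : x ^ 2 ^ k = 1) : x ∈ F.P := by
  refine F.two_le_P (fun y => ?_) (zpowers_le.2 hx) (mem_zpowers x)
  obtain ⟨i, hi⟩ := mem_zpowers_iff.1 y.2
  exact ⟨k, Subtype.ext (by rw [coe_pow, coe_one, ← hi, ← zpow_natCast, ← zpow_mul, mul_comm, zpow_mul,
    zpow_natCast, hk, one_zpow])⟩

include F in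
theorem three_sylow {x : G} (hx : x ∈ D.C) (h3 : orderOf x = 3) :
    ∃ c ∈ D.C, c * D.el3 * c⁻¹ = x ∨ c * D.el3 * c⁻¹ = x⁻¹ := by
  haveI : Fact (Nat.Prime 3) := ⟨Nat.prime_three⟩
  have hS : ∀ y : D.C, orderOf y = 3 → Nat.card (zpowers y) = 3 ^ (Nat.card D.C).factorization 3 := fun y hy => by
    rw [Nat.card_zpowers, hy, F.hidx, Nat.factorization_mul (by norm_num) Nat.card_pos.ne', Finsupp.add_apply,
      Nat.Prime.factorization_self Nat.prime_three, Nat.factorization_eq_zero_of_not_dvd F.h3]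
    rfl
  have hwo : orderOf (⟨D.el3, D.w_C⟩ : D.C) = 3 := by rw [← orderOf_coe]; exact D.w_ord
  have hxo : orderOf (⟨x, hx⟩ : D.C) = 3 := by rw [← orderOf_coe]; exact h3
  obtain ⟨c, hc⟩ := MulAction.exists_smul_eq D.C (Sylow.ofCard _ (hS _ hwo)) (Sylow.ofCard _ (hS _ hxo))
  have hmem : (⟨(c : G) * D.el3 * (c : G)⁻¹, mul_mem (mul_mem c.2 D.w_C) (inv_mem c.2)⟩ : D.C) ∈
      zpowers (⟨x, hx⟩ : D.C) := by
    have : (c * ⟨D.el3, D.w_C⟩ * c⁻¹ : D.C) ∈ ((c • Sylow.ofCard _ (hS _ hwo) : Sylow 3 D.C) : Subgroup D.C) :=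
      ⟨⟨D.el3, D.w_C⟩, mem_zpowers _, rfl⟩
    rw [hc] at this
    exact this
  obtain ⟨i, hi⟩ := mem_zpowers_iff.1 hmem
  have hi' : x ^ i = (c : G) * D.el3 * (c : G)⁻¹ := congrArg Subtype.val hi
  rw [← zpow_mod_orderOf, h3] at hi'
  have h0 := Int.emod_nonneg i (show ((3 : ℕ) : ℤ) ≠ 0 by norm_num)
  have h1 := Int.emod_lt_of_pos i (show (0 : ℤ) < ((3 : ℕ) : ℤ) by norm_num)
  refine ⟨c, c.2, ?_⟩
  generalize i % ((3 : ℕ) : ℤ) = j at hi' h0 h1
  interval_cases j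
  · rw [zpow_zero] at hi'
    exact absurd (conj_eq_one_iff.1 hi'.symm) D.w_ne
  · exact Or.inl (by rw [← hi', zpow_one])
  · refine Or.inr (hi'.symm.trans (eq_inv_of_mul_eq_one_left ?_))
    rw [← zpow_add_one, show (2 : ℤ) + 1 = (orderOf x : ℤ) by rw [h3]; rfl, zpow_natCast, pow_orderOf_eq_one]

/-- no element of order three of the centraliser fixes more of the two-part -/
theorem three_fix {x z : G} (hx : x ∈ D.C) (h3 : orderOf x = 3) (hz : z ∈ F.P) (hxz : x * z = z * x) :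
    z ∈ zpowers D.inv2 := by
  obtain ⟨c, hc, hcw⟩ := F.three_sylow hx h3
  have hcz : Commute (c⁻¹ * z * c) D.el3 := by
    have h : Commute z (c * D.el3 * c⁻¹) := by
      rcases hcw with e | e <;> rw [e]
      · exact hxz.symm
      · exact (show Commute z x from hxz.symm).inv_right
    have := congrArg (fun v => c⁻¹ * v * c) h.eq
    show c⁻¹ * z * c * D.el3 = D.el3 * (c⁻¹ * z * c)
    simpa [mul_assoc] using this
  have hmem : c⁻¹ * z * c ∈ F.P := by simpa using F.conj_P (inv_mem hc) hz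
  rcases F.fix_P hmem hcz.eq with e | e
  · rw [show z = c * (c⁻¹ * z * c) * c⁻¹ by group, e]; simp
  · rw [show z = c * (c⁻¹ * z * c) * c⁻¹ by group, e, D.mem_C.1 hc, mul_inv_cancel_right]
    exact mem_zpowers _

include F in
/-- The element of order three is not inverted. -/
theorem no_inv (n : G) (hn : n * D.el3 * n⁻¹ = D.el3⁻¹) : False := by
  haveI : Fact (Nat.Prime 2) := ⟨Nat.prime_two⟩
  set Cw := centralizer ({D.el3} : Set G) with hCw
  have huCw : D.inv2 ∈ Cw := mem_centralizer_singleton_iff.2 D.comm_uw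
  have hR : ∀ R : Subgroup G, IsPGroup 2 R → R ≤ Cw → D.inv2 ∈ R → R ≤ zpowers D.inv2 := by
    intro R hR hRC huR
    by_contra hne
    obtain ⟨r, hrR, hr1, hrc⟩ := meet_step hR (bot_le (a := R)) le_rfl
      (fun x _ => mem_normalizer_iff.2 fun y => by simp) le_normalizer
      (show ¬ R ≤ ⊥ from fun h => D.u_ne (mem_bot.1 (h huR)))
    -- central involution
    obtain ⟨k, hk⟩ := IsPGroup.iff_orderOf.1 hR ⟨r, hrR⟩
    have hcent : ∀ x ∈ R, x * r = r * x := fun x hx =>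
      mul_inv_eq_iff_eq_mul.1 (mul_inv_eq_one.1 (mem_bot.1 (hrc x hx)))
    have hz1 : r ≠ 1 := fun h => hr1 (h ▸ one_mem _)
    refine hne fun x hx => ?_
    -- the centre forces the whole group into the cyclic one
    have hru : r ∈ zpowers D.t := D.cent_uw (hcent _ huR).symm (mem_centralizer_singleton_iff.1 (hRC hrR))
    rcases D.zp_two hru ⟨k, congrArg Subtype.val (show (⟨r, hrR⟩ : R) ^ 2 ^ k = 1 by rw [← hk]; exact pow_orderOf_eq_one _)⟩ with e | e
    · exact absurd e hz1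
    · have hxu : x ∈ zpowers D.t :=
        D.cent_uw (by rw [← e]; exact hcent x hx) (mem_centralizer_singleton_iff.1 (hRC hx))
      obtain ⟨j, hj⟩ := IsPGroup.iff_orderOf.1 hR ⟨x, hx⟩
      rcases D.zp_two hxu ⟨j, congrArg Subtype.val (show (⟨x, hx⟩ : R) ^ 2 ^ j = 1 by rw [← hj]; exact pow_orderOf_eq_one _)⟩ with e' | e' <;>
        rw [e']
      · exact one_mem _
      · exact mem_zpowers _
  have hu2 : IsPGroup 2 (zpowers (⟨D.inv2, huCw⟩ : Cw)) :=
    IsPGroup.of_card (n := 1) (by rw [Nat.card_zpowers, ← orderOf_coe, pow_one]; exact D.u_ord)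
  obtain ⟨R, hRu⟩ := hu2.exists_le_sylow
  set v := n * D.inv2 * n⁻¹ with hv
  have hvCw : v ∈ Cw := mem_centralizer_singleton_iff.2 (by
    have h1 : Commute v (n * D.el3 * n⁻¹) := by
      rw [hv]; exact (show Commute D.inv2 D.el3 from D.comm_uw).map (MulAut.conj n).toMonoidHom
    rw [hn] at h1
    exact (Commute.inv_right_iff.1 h1).eq)
  have hvo : orderOf v = 2 :=
    (orderOf_injective (MulAut.conj n).toMonoidHom (MulAut.conj n).injective _).trans D.u_ord
  have hv2 : IsPGroup 2 (zpowers (⟨v, hvCw⟩ : Cw)) :=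
    IsPGroup.of_card (n := 1) (by rw [Nat.card_zpowers, ← orderOf_coe, pow_one]; exact hvo)
  obtain ⟨R', hRv⟩ := hv2.exists_le_sylow
  obtain ⟨c, hc⟩ := MulAction.exists_smul_eq Cw R' R
  have hsmall := hR ((R : Subgroup Cw).map Cw.subtype) (R.2.map _) (map_subtype_le _)
    ⟨_, hRu (mem_zpowers _), rfl⟩
  have hcv : (c : G) * v * (c : G)⁻¹ ∈ (R : Subgroup Cw).map Cw.subtype := by
    refine ⟨c * ⟨v, hvCw⟩ * c⁻¹, ?_, rfl⟩
    rw [← hc]
    exact ⟨_, hRv (mem_zpowers _), rfl⟩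
  have hcv' : (c : G) * n * D.inv2 * ((c : G) * n)⁻¹ = D.inv2 := by
    rcases D.mem_zu.1 (hsmall hcv) with e | e
    · exact absurd (conj_eq_one_iff.1 e) fun h => by rw [h, orderOf_one] at hvo; omega
    · calc (c : G) * n * D.inv2 * ((c : G) * n)⁻¹ = (c : G) * (n * D.inv2 * n⁻¹) * (c : G)⁻¹ := by group
        _ = D.inv2 := e
  have hm : (c : G) * n ∈ D.C := D.mem_C.2 (mul_inv_eq_iff_eq_mul.1 hcv')
  have hinv : (c : G) * n * D.el3 * ((c : G) * n)⁻¹ = D.el3⁻¹ := by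
    calc (c : G) * n * D.el3 * ((c : G) * n)⁻¹ = (c : G) * (n * D.el3 * n⁻¹) * (c : G)⁻¹ := by group
      _ = D.el3⁻¹ := by
        rw [hn, ((show Commute (c : G) D.el3 from mem_centralizer_singleton_iff.1 c.2).inv_right).eq,
          mul_inv_cancel_right]
  set N' := F.N.subgroupOf D.C
  haveI : N'.Normal := (normal_subgroupOf_iff_le_normalizer F.hNC).2 F.hnorm
  haveI : Fact (Nat.Prime 3) := ⟨Nat.prime_three⟩
  have hq : Nat.card (D.C ⧸ N') = 3 := by
    have h := N'.card_mul_index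
    rw [Nat.card_congr (subgroupOfEquivOfLe F.hNC).toEquiv, F.hidx, mul_comm 3] at h
    exact Nat.eq_of_mul_eq_mul_left Nat.card_pos h
  haveI : IsCyclic (D.C ⧸ N') := isCyclic_of_prime_card hq
  have hwN : (⟨D.el3, D.w_C⟩ : D.C) * ⟨D.el3, D.w_C⟩ ∈ N' := by
    set π := QuotientGroup.mk' N'
    set m : D.C := ⟨(c : G) * n, hm⟩
    set w : D.C := ⟨D.el3, D.w_C⟩
    have h : π (m * w * m⁻¹) = π w⁻¹ := congrArg π (Subtype.ext hinv)
    rw [map_mul, map_mul, map_inv, map_inv, (IsCyclic.commGroup (α := D.C ⧸ N')).mul_comm (π m) (π w),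
      mul_inv_cancel_right, eq_inv_iff_mul_eq_one, ← map_mul] at h
    exact (QuotientGroup.eq_one_iff _).1 h
  have h3 : 3 ∣ Nat.card F.N := by
    have h := orderOf_dvd_natCard (⟨D.el3 * D.el3, hwN⟩ : F.N)
    rwa [← orderOf_coe, show orderOf (D.el3 * D.el3) = 3 by
      rw [← pow_two, orderOf_pow' _ two_ne_zero, D.w_ord]; rfl] at h
  exact F.h3 h3

/-- central elements of the two-part are involutions -/
theorem centre_sq {z : G} (hz : z ∈ F.P) (hzc : ∀ x ∈ F.P, x * z = z * x)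
    (hV : ∀ v ∈ F.P, (∀ x ∈ F.P, x * v = v * x) → v * v = 1 → v ∈ zpowers D.inv2) : z ∈ zpowers D.inv2 := by
  obtain ⟨-, k, hk⟩ := (F.hP z).1 hz
  induction k generalizing z with
  | zero => rw [pow_zero, pow_one] at hk; rw [hk]; exact one_mem _
  | succ k ih =>
    have hsq : z * z ∈ zpowers D.inv2 := ih (mul_mem hz hz) (fun x hx => by
      exact ((show Commute x z from hzc x hx).mul_right (hzc x hx)).eq) (by
      rw [← pow_two, ← pow_mul, ← pow_succ']; exact hk)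
    set z' := z⁻¹ * (D.el3 * z * D.el3⁻¹) with hz'
    have hcz : ∀ x ∈ F.P, x * (D.el3 * z * D.el3⁻¹) = D.el3 * z * D.el3⁻¹ * x := fun x hx => by
      have hx' : D.el3⁻¹ * x * D.el3 ∈ F.P := by simpa using F.conj_P (inv_mem D.w_C) hx
      have := congrArg (fun v => D.el3 * v * D.el3⁻¹) (hzc _ hx')
      simpa [mul_assoc] using this
    have h1 : z' ∈ F.P := mul_mem (inv_mem hz) (F.conj_P D.w_C hz)
    have h2 : ∀ x ∈ F.P, x * z' = z' * x := fun x hx =>
      ((show Commute x z from hzc x hx).inv_right.mul_right (hcz x hx)).eq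
    have h3 : z' * z' = 1 := by
      have hc : Commute (D.el3 * z * D.el3⁻¹) z⁻¹ := (show Commute _ z from hzc _ (F.conj_P D.w_C hz)).inv_right
      rw [hz', hc.mul_mul_mul_comm,
        show D.el3 * z * D.el3⁻¹ * (D.el3 * z * D.el3⁻¹) = D.el3 * (z * z) * D.el3⁻¹ by group]
      rcases D.mem_zu.1 hsq with e | e
      · rw [e, ← mul_inv_rev, e]; group
      · rw [e, ← mul_inv_rev, e, D.mem_C.1 D.w_C, mul_inv_cancel_right, inv_mul_cancel]
    exact F.fixed_quot_P F.zu_le (mem_zpowers _) (D.C_le_normalizer D.w_C) hz (hV z' h1 h2 h3)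

/-- the second commutators lie in the involution -/
theorem comm_two {x y z : G} (hx : x ∈ F.P) (hy : y ∈ F.P) (hz : z ∈ F.P) :
    x⁻¹ * y⁻¹ * x * y * z * (x⁻¹ * y⁻¹ * x * y)⁻¹ * z⁻¹ ∈ zpowers D.inv2 := by
  classical
  set U' := (zpowers D.inv2).subgroupOf F.P with hU'
  haveI : U'.Normal :=
    (normal_subgroupOf_iff_le_normalizer F.zu_le).2 (F.P_le_C.trans D.C_le_normalizer)
  set ρ := conjAut F.P D.el3 (F.C_le_normalizer_P D.w_C)
  have hmap : U'.map (ρ : F.P →* F.P) = U' := by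
    refine eq_of_le_of_card_ge ?_ (le_of_eq (Nat.card_congr (U'.equivMapOfInjective _ ρ.injective).toEquiv))
    rintro _ ⟨a, ha, rfl⟩
    exact mem_subgroupOf.2 ((mem_normalizer_iff.1 (D.C_le_normalizer D.w_C) _).1 (mem_subgroupOf.1 ha))
  set σ := QuotientGroup.congr U' U' ρ hmap
  have h3 : ∀ q, σ (σ (σ q)) = q := fun q => by
    obtain ⟨a, rfl⟩ := QuotientGroup.mk'_surjective U' q
    show QuotientGroup.mk' U' (ρ (ρ (ρ a))) = _
    refine congrArg _ (Subtype.ext ?_)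
    simp only [ρ, conjAut_coe]
    have hw3 : D.el3 * D.el3 * D.el3 = 1 := by
      rw [← pow_two, ← pow_succ, show 2 + 1 = orderOf D.el3 from D.w_ord.symm]; exact pow_orderOf_eq_one _
    calc D.el3 * (D.el3 * (D.el3 * (a : G) * D.el3⁻¹) * D.el3⁻¹) * D.el3⁻¹
        = D.el3 * D.el3 * D.el3 * (a : G) * (D.el3 * D.el3 * D.el3)⁻¹ := by group
      _ = (a : G) := by rw [hw3, one_mul, inv_one, mul_one]
  have hfix : ∀ q, σ q = q → q = 1 := fun q hq => by
    obtain ⟨a, rfl⟩ := QuotientGroup.mk'_surjective U' q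
    have h : a⁻¹ * ρ a ∈ U' := QuotientGroup.eq.1 hq.symm
    exact (QuotientGroup.eq_one_iff a).2 (mem_subgroupOf.2 (F.fixed_quot_P F.zu_le (mem_zpowers _)
      (D.C_le_normalizer D.w_C) a.2 (by simpa [ρ] using mem_subgroupOf.1 h)))
  have hc := class_two (F.isPGroup.to_quotient U') σ h3 hfix (QuotientGroup.mk' U' ⟨x, hx⟩)
    (QuotientGroup.mk' U' ⟨y, hy⟩) (QuotientGroup.mk' U' ⟨z, hz⟩)
  have h1 := mul_inv_eq_one.2 (mul_inv_eq_iff_eq_mul.2 hc.eq)
  simp only [← map_mul, ← map_inv] at h1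
  simpa using mem_subgroupOf.1 ((QuotientGroup.eq_one_iff (N := U') _).1 h1)

end ThreeCtx

end Cfsg.Agent.Char.OrderSix
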